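import Mathlib
import Cfsg.Prelude.Def_KGroupFacts

/-!
Schur's construction of covering groups from a free presentation `π : F →* Q`:
`E = F ⧸ [R, F]`, its multiplier `M = (R ∩ F') ⧸ [R, F]`, lifting, covers.
-/

set_option autoImplicit false
set_option linter.style.haveILetI false
set_option linter.unusedSectionVars false

open scoped commutatorElement

namespace CfsgLib.Schur

universe u v w

variable {F Q : Type*} [Group F] [Group Q]

abbrev rel (π : F →* Q) : Subgroup F := ⁅π.ker, (⊤ : Subgroup F)⁆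

/-- The universal central extension with free abelian slack. -/
abbrev Ext (π : F →* Q) : Type _ := F ⧸ rel π

def proj (π : F →* Q) : Ext π →* Q :=
  QuotientGroup.lift (rel π) π (Subgroup.commutator_le_left π.ker ⊤)

theorem proj_mk (π : F →* Q) (f : F) : proj π (QuotientGroup.mk' (rel π) f) = π f := rfl

theorem proj_surjective {π : F →* Q} (hπ : Function.Surjective π) :
    Function.Surjective (proj π) := fun q => by
  obtain ⟨f, rfl⟩ := hπ q
  exact ⟨QuotientGroup.mk' (rel π) f, rfl⟩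

theorem ker_proj_le_center (π : F →* Q) : (proj π).ker ≤ Subgroup.center (Ext π) := by
  intro x hx
  obtain ⟨f, rfl⟩ := QuotientGroup.mk'_surjective _ x
  rw [Subgroup.mem_center_iff]
  intro y
  obtain ⟨g, rfl⟩ := QuotientGroup.mk'_surjective _ y
  refine (commutatorElement_eq_one_iff_mul_comm.mp ?_).symm
  rw [← map_commutatorElement, ← MonoidHom.mem_ker, QuotientGroup.ker_mk']
  exact Subgroup.commutator_mem_commutator (by rwa [MonoidHom.mem_ker, proj_mk] at hx)
    (Subgroup.mem_top g)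

/-- The multiplier. -/
def mult (π : F →* Q) : Subgroup (Ext π) := (proj π).ker ⊓ commutator (Ext π)

theorem mult_le_ker (π : F →* Q) : mult π ≤ (proj π).ker := inf_le_left

theorem mult_le_commutator (π : F →* Q) : mult π ≤ commutator (Ext π) := inf_le_right

theorem mult_le_center (π : F →* Q) : mult π ≤ Subgroup.center (Ext π) :=
  (mult_le_ker π).trans (ker_proj_le_center π)

instance (π : F →* Q) : CommGroup (proj π).ker :=
  { (inferInstance : Group (proj π).ker) with
    mul_comm := fun a b => Subtype.ext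
      (Subgroup.mem_center_iff.mp (ker_proj_le_center π b.2) a) }

instance (π : F →* Q) : CommGroup (mult π) :=
  { (inferInstance : Group (mult π)) with
    mul_comm := fun a b => Subtype.ext (Subgroup.mem_center_iff.mp (mult_le_center π b.2) a) }

theorem commutatorElement_congr {G : Type*} [Group G] {H : Type*} [Group H] (f : G →* H)
    (hc : f.ker ≤ Subgroup.center G) {a a' b b' : G} (ha : f a = f a') (hb : f b = f b') :
    ⁅a, b⁆ = ⁅a', b'⁆ := by
  obtain ⟨z, hz, rfl⟩ : ∃ z ∈ f.ker, a = a' * z :=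
    ⟨a'⁻¹ * a, by rw [MonoidHom.mem_ker, map_mul, map_inv, ha, inv_mul_cancel], by group⟩
  obtain ⟨z', hz', rfl⟩ : ∃ z ∈ f.ker, b = b' * z :=
    ⟨b'⁻¹ * b, by rw [MonoidHom.mem_ker, map_mul, map_inv, hb, inv_mul_cancel], by group⟩
  have h1 := Subgroup.mem_center_iff.mp (hc hz)
  have h2 := Subgroup.mem_center_iff.mp (hc hz')
  simp only [commutatorElement_def, mul_inv_rev]
  calc a' * z * (b' * z') * (z⁻¹ * a'⁻¹) * (z'⁻¹ * b'⁻¹)
      = a' * (z * (b' * z')) * z⁻¹ * a'⁻¹ * (z'⁻¹ * b'⁻¹) := by group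
    _ = a' * ((b' * z') * z) * z⁻¹ * a'⁻¹ * (z'⁻¹ * b'⁻¹) := by rw [h1 (b' * z')]
    _ = a' * b' * (z' * a'⁻¹) * z'⁻¹ * b'⁻¹ := by group
    _ = a' * b' * (a'⁻¹ * z') * z'⁻¹ * b'⁻¹ := by rw [h2 a'⁻¹]
    _ = _ := by group

/-- Schur: a central extension of a finite group has finite derived subgroup. -/
theorem finite_commutator_of_finite {G : Type*} [Group G] {H : Type*} [Group H] [Finite H]
    (f : G →* H) (hc : f.ker ≤ Subgroup.center G) : Finite (commutator G) := by
  haveI : Finite (commutatorSet G) := by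
    refine (Set.Finite.subset (Set.finite_range
      (fun u : f.range × f.range => ⁅u.1.2.choose, u.2.2.choose⁆)) ?_).to_subtype
    rintro _ ⟨a, b, rfl⟩
    refine ⟨(⟨f a, a, rfl⟩, ⟨f b, b, rfl⟩), ?_⟩
    exact commutatorElement_congr f hc
      (⟨f a, a, rfl⟩ : f.range).2.choose_spec (⟨f b, b, rfl⟩ : f.range).2.choose_spec
  infer_instance

instance finite_mult (π : F →* Q) [Finite Q] : Finite (mult π) := by
  haveI := finite_commutator_of_finite (proj π) (ker_proj_le_center π)
  exact Finite.of_injective _ (Subgroup.inclusion_injective (mult_le_commutator π))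

/-- `F` free: a homomorphism from `Q` into a quotient by a central subgroup lifts to `Ext π`. -/
theorem exists_lift [IsFreeGroup F] (π : F →* Q) {Δ X : Type*} [Group Δ] [Group X] (τ : Δ →* X)
    (hτ : Function.Surjective τ) (hc : τ.ker ≤ Subgroup.center Δ) (γ : Q →* X) :
    ∃ φ : Ext π →* Δ, τ.comp φ = γ.comp (proj π) := by
  set φ₀ : F →* Δ := IsFreeGroup.lift fun i => (hτ (γ (π (IsFreeGroup.of i)))).choose with hφ₀
  have hφ : τ.comp φ₀ = γ.comp π := IsFreeGroup.ext_hom fun i => by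
    rw [MonoidHom.comp_apply, hφ₀, IsFreeGroup.lift_of]
    exact (hτ (γ (π (IsFreeGroup.of i)))).choose_spec
  have hle : rel π ≤ φ₀.ker := by
    rw [rel, Subgroup.commutator_le]
    intro x hx y _
    rw [MonoidHom.mem_ker, map_commutatorElement, commutatorElement_eq_one_iff_mul_comm]
    have hx' : φ₀ x ∈ τ.ker := by
      rw [MonoidHom.mem_ker, ← MonoidHom.comp_apply, hφ, MonoidHom.comp_apply,
        MonoidHom.mem_ker.mp hx, map_one]
    exact (Subgroup.mem_center_iff.mp (hc hx') (φ₀ y)).symm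
  refine ⟨QuotientGroup.lift (rel π) φ₀ hle, MonoidHom.ext fun x => ?_⟩
  obtain ⟨f, rfl⟩ := QuotientGroup.mk'_surjective _ x
  exact DFunLike.congr_fun hφ f

theorem exists_lift_over [IsFreeGroup F] (π : F →* Q) {Δ : Type*} [Group Δ] (τ : Δ →* Q)
    (hτ : Function.Surjective τ) (hc : τ.ker ≤ Subgroup.center Δ) :
    ∃ φ : Ext π →* Δ, τ.comp φ = proj π := by
  obtain ⟨φ, hφ⟩ := exists_lift π τ hτ hc (MonoidHom.id Q)
  exact ⟨φ, by rw [hφ, MonoidHom.id_comp]⟩

/-- A homomorphism over `Q` into a stem extension is surjective and maps the multiplier onto the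
kernel. -/
theorem lift_onto {E Δ : Type*} [Group E] [Group Δ] {p : E →* Q} (hp : Function.Surjective p)
    {τ : Δ →* Q} (hτ : Cfsg.IsStemExtension τ) {φ : E →* Δ} (hφ : τ.comp φ = p) :
    Function.Surjective φ ∧ ∀ d ∈ τ.ker, ∃ e ∈ p.ker ⊓ commutator E, φ e = d := by
  have hp' : ∀ x, τ (φ x) = p x := fun x => DFunLike.congr_fun hφ x
  have hdec : ∀ d : Δ, ∃ x, (φ x)⁻¹ * d ∈ τ.ker := fun d => by
    obtain ⟨x, hx⟩ := hp (τ d)
    exact ⟨x, by rw [MonoidHom.mem_ker, map_mul, map_inv, hp', hx, inv_mul_cancel]⟩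
  have hcomm : commutator Δ ≤ (commutator E).map φ := by
    rw [commutator_eq_closure, Subgroup.closure_le]
    rintro _ ⟨a, b, rfl⟩
    obtain ⟨x, hx⟩ := hdec a
    obtain ⟨y, hy⟩ := hdec b
    refine ⟨⁅x, y⁆, Subgroup.commutator_mem_commutator (Subgroup.mem_top x) (Subgroup.mem_top y), ?_⟩
    rw [map_commutatorElement]
    refine commutatorElement_congr τ hτ.2.1 ?_ ?_
    · rwa [MonoidHom.mem_ker, map_mul, map_inv, inv_mul_eq_one] at hx
    · rwa [MonoidHom.mem_ker, map_mul, map_inv, inv_mul_eq_one] at hy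
  refine ⟨fun d => ?_, fun d hd => ?_⟩
  · obtain ⟨x, hx⟩ := hdec d
    obtain ⟨e, -, he⟩ := hcomm (hτ.2.2 hx)
    exact ⟨x * e, by rw [map_mul, he, mul_inv_cancel_left]⟩
  · obtain ⟨e, he, rfl⟩ := hcomm (hτ.2.2 hd)
    exact ⟨e, ⟨MonoidHom.mem_ker.mpr ((hp' e).symm.trans hd), he⟩, rfl⟩

/-- A lift into a stem extension, with the surjection of multipliers. -/
theorem exists_stem_lift [IsFreeGroup F] {π : F →* Q} (hπ : Function.Surjective π) {Δ : Type*}
    [Group Δ] {τ : Δ →* Q} (hτ : Cfsg.IsStemExtension τ) :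
    ∃ φ : Ext π →* Δ, τ.comp φ = proj π ∧ Function.Surjective φ ∧
      ∃ ψ : mult π →* τ.ker, Function.Surjective ψ ∧ ∀ m, (ψ m : Δ) = φ m := by
  obtain ⟨φ, hφ⟩ := exists_lift_over π τ hτ.1 hτ.2.1
  obtain ⟨hs, hm⟩ := lift_onto (proj_surjective hπ) hτ hφ
  have hmem : ∀ m : mult π, φ m ∈ τ.ker := fun m => by
    rw [MonoidHom.mem_ker, ← MonoidHom.comp_apply, hφ]; exact mult_le_ker π m.2
  refine ⟨φ, hφ, hs, (φ.comp (mult π).subtype).codRestrict τ.ker hmem, fun d => ?_, fun m => rfl⟩
  obtain ⟨e, he, he'⟩ := hm d d.2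
  exact ⟨⟨e, he⟩, Subtype.ext he'⟩

theorem free_torsion_free [IsFreeGroup F] (x : F) (n : ℕ) (hn : n ≠ 0)
    (h : x ^ n ∈ commutator F) : x ∈ commutator F := by
  let X := IsFreeGroup.Generators F
  let e : F ≃* FreeGroup X := IsFreeGroup.toFreeGroup F
  have hmem : ∀ y, y ∈ commutator F ↔ e y ∈ commutator (FreeGroup X) := fun y => by
    rw [← Subgroup.mem_map_iff_mem (f := e.toMonoidHom) e.injective, commutator_def,
      Subgroup.map_commutator, Subgroup.map_top_of_surjective _ e.surjective]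
    rfl
  rw [hmem, map_pow, ← Abelianization.ker_of, MonoidHom.mem_ker, map_pow] at h
  rw [hmem, ← Abelianization.ker_of, MonoidHom.mem_ker]
  let v : FreeAbelianGroup X := Additive.ofMul (Abelianization.of (e x))
  have hv : n • v = 0 := h
  have hv' : n • FreeAbelianGroup.equivFinsupp X v = 0 := by rw [← map_nsmul, hv, map_zero]
  have hv0 : v = 0 := by
    refine (FreeAbelianGroup.equivFinsupp X).injective ?_
    rw [map_zero]
    exact (smul_eq_zero.mp hv').resolve_left hn
  exact hv0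

theorem rel_le_commutator (π : F →* Q) : rel π ≤ commutator F :=
  Subgroup.commutator_mono le_top le_rfl

theorem mk_mem_commutator_iff (π : F →* Q) (f : F) :
    QuotientGroup.mk' (rel π) f ∈ commutator (Ext π) ↔ f ∈ commutator F := by
  have e : commutator (Ext π) = (commutator F).map (QuotientGroup.mk' (rel π)) := by
    rw [commutator_def, commutator_def, Subgroup.map_commutator,
      Subgroup.map_top_of_surjective _ (QuotientGroup.mk'_surjective _)]
  rw [e, ← Subgroup.mem_comap, Subgroup.comap_map_eq, QuotientGroup.ker_mk',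
    sup_eq_left.mpr (rel_le_commutator π)]

theorem ext_torsion_free [IsFreeGroup F] (π : F →* Q) (x : Ext π) (n : ℕ) (hn : n ≠ 0)
    (h : x ^ n ∈ commutator (Ext π)) : x ∈ commutator (Ext π) := by
  obtain ⟨f, rfl⟩ := QuotientGroup.mk'_surjective _ x
  rw [← map_pow, mk_mem_commutator_iff] at h
  exact (mk_mem_commutator_iff π f).mpr (free_torsion_free f n hn h)

/-- A hom on `ker proj` that maps the multiplier onto its target vanishes on some complement
of the multiplier. -/
theorem exists_complement [IsFreeGroup F] [Group.FG F] (π : F →* Q) (hπ : Function.Surjective π)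
    [Finite Q] {K : Type*} [Group K] (ρ : (proj π).ker →* K)
    (hρ : ∀ x, ∃ m : (proj π).ker, (m : Ext π) ∈ mult π ∧ ρ m = ρ x) :
    ∃ S : Subgroup (Ext π), S ≤ (proj π).ker ∧ S ⊓ mult π = ⊥ ∧
      (proj π).ker ≤ S ⊔ mult π ∧ ∀ x : (proj π).ker, (x : Ext π) ∈ S → ρ x = 1 := by
  let R : Subgroup (Ext π) := (proj π).ker
  let M : Subgroup R := (mult π).subgroupOf R
  haveI : Group.FG F := inferInstance
  haveI : Group.FG (Ext π) := Group.fg_of_surjective (QuotientGroup.mk'_surjective (rel π))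
  haveI : R.FiniteIndex := by
    refine ⟨?_⟩
    rw [Subgroup.index_ker]
    exact Nat.card_pos.ne'
  haveI : Group.FG R := inferInstance
  let q : R →* R ⧸ M := QuotientGroup.mk' M
  haveI hfg : Group.FG (R ⧸ M) := Group.fg_of_surjective (QuotientGroup.mk'_surjective M)
  let V := Additive (R ⧸ M)
  haveI : AddGroup.FG V := GroupFG.iff_add_fg.mp hfg
  haveI : Module.Finite ℤ V := Module.Finite.iff_addGroup_fg.mpr inferInstance
  haveI : Module.IsTorsionFree ℤ V := by
    rw [Module.isTorsionFree_iff_smul_eq_zero]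
    intro r v hv
    by_cases hr : r = 0
    · exact Or.inl hr
    refine Or.inr ?_
    obtain ⟨x, hx⟩ := QuotientGroup.mk'_surjective M (Additive.toMul v)
    have hn : v.toMul ^ r.natAbs = 1 := by
      have h1 : v.toMul ^ r = 1 := by rw [← toMul_zsmul, hv]; rfl
      rcases Int.natAbs_eq r with e | e
      · rw [e, zpow_natCast] at h1; exact h1
      · rw [e, zpow_neg, zpow_natCast, inv_eq_one] at h1; exact h1
    rw [← hx, ← map_pow, ← MonoidHom.mem_ker, QuotientGroup.ker_mk',
      Subgroup.mem_subgroupOf] at hn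
    have hxm : (x : Ext π) ∈ mult π := ⟨x.2, ext_torsion_free π _ _
      (Int.natAbs_ne_zero.mpr hr) (by simpa using (mult_le_commutator π hn))⟩
    show Additive.toMul v = 1
    rw [← hx, ← MonoidHom.mem_ker, QuotientGroup.ker_mk', Subgroup.mem_subgroupOf]
    exact hxm
  haveI : Module.Free ℤ V := Module.free_of_finite_type_torsion_free'
  let b := Module.Free.chooseBasis ℤ V
  have hlift : ∀ i, ∃ y : R, q y = (b i).toMul ∧ ρ y = 1 := fun i => by
    obtain ⟨x, hx⟩ := QuotientGroup.mk'_surjective M (b i).toMul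
    obtain ⟨m, hm, hmx⟩ := hρ x
    refine ⟨m⁻¹ * x, ?_, by rw [map_mul, map_inv, hmx, inv_mul_cancel]⟩
    show QuotientGroup.mk' M (m⁻¹ * x) = _
    rw [map_mul, map_inv, hx, show QuotientGroup.mk' M m = 1 from
      (QuotientGroup.eq_one_iff m).mpr (Subgroup.mem_subgroupOf.mpr hm), inv_one, one_mul]
  choose y hy hy1 using hlift
  let s : V →ₗ[ℤ] Additive R := b.constr ℤ fun i => Additive.ofMul (y i)
  let qa : Additive R →ₗ[ℤ] V := (MonoidHom.toAdditive q).toIntLinearMap
  have hqs : ∀ v, qa (s v) = v := fun v => by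
    have : qa.comp s = LinearMap.id := b.ext fun i => by
      simp only [LinearMap.comp_apply, LinearMap.id_apply, s, Module.Basis.constr_basis]
      show Additive.ofMul (q (y i)) = b i
      rw [hy]; rfl
    exact LinearMap.congr_fun this v
  let sm : R ⧸ M →* R :=
    { toFun := fun v => (s (Additive.ofMul v)).toMul
      map_one' := by rw [ofMul_one, map_zero]; rfl
      map_mul' := fun v w => by rw [ofMul_mul, map_add]; rfl }
  have hqsm : ∀ v, q (sm v) = v := fun v => congrArg Additive.toMul (hqs (Additive.ofMul v))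
  have hρsm : ∀ v, ρ (sm v) = 1 := by
    have hspan : Submodule.span ℤ (Set.range b) = ⊤ := b.span_eq
    intro v
    have : Additive.ofMul v ∈ Submodule.span ℤ (Set.range b) := hspan ▸ Submodule.mem_top
    show ρ (s (Additive.ofMul v)).toMul = 1
    refine Submodule.span_induction (p := fun v _ => ρ (s v).toMul = 1) ?_ ?_ ?_ ?_ this
    · rintro _ ⟨i, rfl⟩
      simp only [s, Module.Basis.constr_basis]
      exact hy1 i
    · rw [map_zero]; exact map_one ρ
    · intro a c _ _ ha hc
      rw [map_add, toMul_add, map_mul, ha, hc, one_mul]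
    · intro r a _ ha
      rw [map_smul, toMul_zsmul, map_zpow, ha, one_zpow]
  refine ⟨sm.range.map R.subtype, Subgroup.map_subtype_le _, ?_, ?_, ?_⟩
  · rw [eq_bot_iff]
    rintro _ ⟨⟨x, ⟨v, rfl⟩, rfl⟩, hm⟩
    have hv : v = 1 := by
      rw [← hqsm v]
      exact (QuotientGroup.eq_one_iff _).mpr (Subgroup.mem_subgroupOf.mpr hm)
    rw [hv, map_one, map_one]
    exact one_mem _
  · intro x hx
    rw [← mul_inv_cancel_left (sm (q ⟨x, hx⟩) : Ext π) x]
    refine Subgroup.mul_mem_sup ⟨_, ⟨_, rfl⟩, rfl⟩ ?_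
    have hmem : (sm (q ⟨x, hx⟩))⁻¹ * ⟨x, hx⟩ ∈ M := by
      refine (QuotientGroup.eq_one_iff _).mp ?_
      show q ((sm (q ⟨x, hx⟩))⁻¹ * ⟨x, hx⟩) = 1
      rw [map_mul, map_inv, hqsm, inv_mul_cancel]
    simpa [M, Subgroup.mem_subgroupOf] using hmem
  · rintro x ⟨_, ⟨v, rfl⟩, hx⟩
    rw [← R.subtype_injective hx]
    exact hρsm v

theorem normal_of_le_center {G : Type*} [Group G] {S : Subgroup G} (h : S ≤ Subgroup.center G) :
    S.Normal :=
  ⟨fun x hx g => by rwa [Subgroup.mem_center_iff.mp (h hx) g, mul_inv_cancel_right]⟩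

/-- A complement of the multiplier gives a finite stem extension with kernel the multiplier. -/
theorem exists_cover {Q : Type*} [Group Q] [Finite Q] (π : F →* Q) (hπ : Function.Surjective π)
    (S : Subgroup (Ext π)) [S.Normal] (hS : S ≤ (proj π).ker) (hinf : S ⊓ mult π = ⊥)
    (hsup : (proj π).ker ≤ S ⊔ mult π) :
    let σ := QuotientGroup.lift S (proj π) hS
    Cfsg.IsStemExtension σ ∧ Finite (Ext π ⧸ S) ∧ ∃ e : mult π ≃* σ.ker,
      ∀ m, (e m : Ext π ⧸ S) = QuotientGroup.mk' S m := by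
  intro σ
  have hσ : ∀ x, σ (QuotientGroup.mk' S x) = proj π x := fun x => rfl
  have hker : ∀ y ∈ σ.ker, ∃ m ∈ mult π, QuotientGroup.mk' S m = y := by
    intro y hy
    obtain ⟨x, rfl⟩ := QuotientGroup.mk'_surjective S y
    rw [MonoidHom.mem_ker, hσ] at hy
    obtain ⟨s, hs, m, hm, e⟩ := Subgroup.mem_sup_of_normal_left.mp (hsup hy)
    refine ⟨m, hm, ?_⟩
    rw [← e, map_mul, show QuotientGroup.mk' S s = 1 from (QuotientGroup.eq_one_iff s).mpr hs,
      one_mul]
  have hmem : ∀ m : mult π, QuotientGroup.mk' S m ∈ σ.ker := fun m => by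
    rw [MonoidHom.mem_ker, hσ]; exact mult_le_ker π m.2
  let e0 := ((QuotientGroup.mk' S).comp (mult π).subtype).codRestrict σ.ker hmem
  have he : Function.Bijective e0 := by
    refine ⟨(injective_iff_map_eq_one e0).mpr fun m hm => ?_, fun y => ?_⟩
    · have h1 : (m : Ext π) ∈ S := (QuotientGroup.eq_one_iff _).mp (congrArg Subtype.val hm)
      exact Subtype.ext (Subgroup.mem_bot.mp (hinf ▸ ⟨h1, m.2⟩))
    · obtain ⟨m, hm, hy⟩ := hker y y.2
      exact ⟨⟨m, hm⟩, Subtype.ext hy⟩
  refine ⟨⟨?_, ?_, ?_⟩, ?_, MulEquiv.ofBijective e0 he, fun m => rfl⟩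
  · intro q
    obtain ⟨x, rfl⟩ := proj_surjective hπ q
    exact ⟨QuotientGroup.mk' S x, rfl⟩
  · intro y hy
    obtain ⟨m, hm, rfl⟩ := hker y hy
    rw [Subgroup.mem_center_iff]
    intro z
    obtain ⟨z, rfl⟩ := QuotientGroup.mk'_surjective S z
    rw [← map_mul, ← map_mul, Subgroup.mem_center_iff.mp (mult_le_center π hm) z]
  · intro y hy
    obtain ⟨m, hm, rfl⟩ := hker y hy
    have := Subgroup.mem_map_of_mem (QuotientGroup.mk' S) (mult_le_commutator π hm)
    rw [commutator_def, Subgroup.map_commutator] at this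
    exact Subgroup.commutator_mono le_top le_top this
  · haveI : Finite σ.ker := Finite.of_equiv _ (Equiv.ofBijective e0 he)
    haveI : Finite ((Ext π ⧸ S) ⧸ σ.ker) :=
      Finite.of_injective _ (QuotientGroup.kerLift_injective σ)
    exact Finite.of_subgroup_quotient σ.ker

/-- Transport of a finite stem extension to another universe. -/
theorem exists_model (Γ : Type u) [Group Γ] [Finite Γ] :
    ∃ (Γ' : Type v) (_ : Group Γ') (_ : Finite Γ'), Nonempty (Γ' ≃* Γ) := by
  let e : ULift.{v} (Fin (Nat.card Γ)) ≃ Γ := Equiv.ulift.trans (Finite.equivFin Γ).symm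
  exact ⟨_, e.group, inferInstance, ⟨@Equiv.mulEquiv _ _ e _⟩⟩

theorem isStemExtension_comp_equiv {Γ Γ' G : Type*} [Group Γ] [Group Γ'] [Group G] {σ : Γ →* G}
    (hσ : Cfsg.IsStemExtension σ) (e : Γ' ≃* Γ) :
    Cfsg.IsStemExtension (σ.comp e.toMonoidHom) := by
  refine ⟨hσ.1.comp e.surjective, fun x hx => ?_, fun x hx => ?_⟩
  · rw [Subgroup.mem_center_iff]
    intro y
    exact e.injective (by
      rw [map_mul, map_mul]; exact Subgroup.mem_center_iff.mp (hσ.2.1 hx) (e y))
  · have h1 : e.toMonoidHom x ∈ commutator Γ := hσ.2.2 hx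
    rwa [show commutator Γ = (commutator Γ').map e.toMonoidHom by
      rw [commutator_def, commutator_def, Subgroup.map_commutator,
        Subgroup.map_top_of_surjective _ e.surjective],
      Subgroup.mem_map_iff_mem e.injective] at h1

theorem kerEquiv_comp_equiv {Γ Γ' G : Type*} [Group Γ] [Group Γ'] [Group G] (σ : Γ →* G)
    (e : Γ' ≃* Γ) : Nonempty ((σ.comp e.toMonoidHom).ker ≃* σ.ker) :=
  ⟨MulEquiv.ofBijective
    ((e.toMonoidHom.comp (σ.comp e.toMonoidHom).ker.subtype).codRestrict σ.ker fun x => x.2)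
    ⟨fun a b h => Subtype.ext (e.injective (congrArg Subtype.val h)),
      fun y => ⟨⟨e.symm y, by simp [MonoidHom.mem_ker, MonoidHom.mem_ker.mp y.2]⟩,
        Subtype.ext (e.apply_symm_apply y)⟩⟩⟩

/-- Schur: the multiplier of the presentation is the Schur multiplier. -/
theorem hasSchurMultiplier_mult {Q : Type v} [Group Q] [Finite Q] [IsFreeGroup F] [Group.FG F]
    (π : F →* Q) (hπ : Function.Surjective π) : Cfsg.HasSchurMultiplier Q (mult π) := by
  obtain ⟨S, hS, hinf, hsup, -⟩ := exists_complement π hπ (1 : (proj π).ker →* Q)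
    fun x => ⟨1, one_mem _, rfl⟩
  haveI := normal_of_le_center (hS.trans (ker_proj_le_center π))
  obtain ⟨hst, hfin, e, -⟩ := exists_cover π hπ S hS hinf hsup
  haveI := hfin
  obtain ⟨Γ', hg, hf, ⟨i⟩⟩ := exists_model.{_, v} (Ext π ⧸ S)
  obtain ⟨k⟩ := kerEquiv_comp_equiv (QuotientGroup.lift S (proj π) hS) i
  refine ⟨⟨Γ', hg, hf, _, isStemExtension_comp_equiv hst i, ⟨k.trans e.symm⟩⟩, ?_⟩
  intro Γ _ _ σ hσ
  obtain ⟨-, -, -, ψ, hψ, -⟩ := exists_stem_lift hπ hσ
  exact ⟨ψ, hψ⟩

/-- The Schur multiplier is unique up to isomorphism. -/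
theorem nonempty_mulEquiv {Q : Type v} [Group Q] {A : Type*} [CommGroup A] {B : Type*} [CommGroup B]
    (hA : Cfsg.HasSchurMultiplier Q A) (hB : Cfsg.HasSchurMultiplier Q B) [Finite B] :
    Nonempty (A ≃* B) := by
  obtain ⟨Γ, hg, hf, σ, hσ, ⟨e⟩⟩ := hA.1
  obtain ⟨Δ, hg', hf', τ, hτ, ⟨e'⟩⟩ := hB.1
  obtain ⟨f, hfs⟩ := hA.2 Δ τ hτ
  obtain ⟨g, hgs⟩ := hB.2 Γ σ hσ
  haveI : Finite A := Finite.of_equiv _ e.toEquiv
  have h1 : Nat.card A ≤ Nat.card B := by
    rw [← Nat.card_congr e.toEquiv]; exact Nat.card_le_card_of_surjective g hgs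
  exact ⟨MulEquiv.ofBijective (e'.toMonoidHom.comp f)
    (Function.Surjective.bijective_of_nat_card_le (e'.surjective.comp hfs) h1)⟩

theorem mult_equiv {Q : Type v} [Group Q] [Finite Q] [IsFreeGroup F] [Group.FG F]
    {π : F →* Q} (hπ : Function.Surjective π) {A : Type*} [CommGroup A]
    (hA : Cfsg.HasSchurMultiplier Q A) : Nonempty (A ≃* mult π) :=
  nonempty_mulEquiv hA (hasSchurMultiplier_mult π hπ)

theorem mult_eq_bot {Q : Type v} [Group Q] [Finite Q] [IsFreeGroup F] [Group.FG F]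
    {π : F →* Q} (hπ : Function.Surjective π) (h : Cfsg.HasCyclicSchurMultiplier Q 1) :
    mult π = ⊥ := by
  obtain ⟨e⟩ := mult_equiv hπ h
  haveI : Subsingleton (mult π) := e.symm.toEquiv.injective.subsingleton
  exact Subgroup.eq_bot_of_subsingleton _

/-- The standard presentation of a group on its elements. -/
def std (Q : Type u) [Group Q] : FreeGroup Q →* Q := FreeGroup.lift id

theorem std_surjective (Q : Type u) [Group Q] : Function.Surjective (std Q) :=
  fun q => ⟨FreeGroup.of q, FreeGroup.lift_apply_of⟩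

end CfsgLib.Schur
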