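import Mathlib
import Cfsg.Prelude.Def_KGroupFacts
import Cfsg.Agent.Lib.StemExt.Basic

/-!
A criterion for a trivial Schur multiplier, prime by prime: Sylow subgroups which are cyclic or
generalised quaternion contribute nothing.
-/

set_option autoImplicit false
set_option linter.style.haveILetI false
set_option linter.unusedSectionVars false

open scoped commutatorElement

namespace CfsgLib.Schur

universe u

variable {Γ G : Type*} [Group Γ] [Group G]

/-- A central `ℓ`-element of `Γ'` lies in the derived subgroup of every subgroup of index prime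
to `ℓ` containing the kernel. -/
theorem mem_commutator_preimage [Finite Γ] {σ : Γ →* G} (hσ : Function.Surjective σ) {ℓ a : ℕ}
    (hℓ : ℓ.Prime) {z : Γ} (hz : z ∈ σ.ker) (hzc : z ∈ Subgroup.center Γ)
    (hzd : z ∈ commutator Γ) (hzo : z ^ ℓ ^ a = 1) (U : Subgroup G) (hU : ¬ ℓ ∣ U.index) :
    z ∈ ⁅U.comap σ, U.comap σ⁆ := by
  set H := U.comap σ with hH
  have hzH : z ∈ H := by
    rw [hH, Subgroup.mem_comap, MonoidHom.mem_ker.mp hz]; exact one_mem U
  let ϕ : H →* Abelianization H := Abelianization.of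
  have h1 : MonoidHom.transfer ϕ z = 1 :=
    MonoidHom.mem_ker.mp (Abelianization.commutator_subset_ker (MonoidHom.transfer ϕ) hzd)
  rw [MonoidHom.transfer_eq_pow ϕ z (fun m g₀ _ => by
    rw [mul_assoc, ← Subgroup.mem_center_iff.mp (Subgroup.pow_mem _ hzc m) g₀,
      inv_mul_cancel_left])] at h1
  have h2 : (⟨z, hzH⟩ : H) ^ H.index ∈ commutator H := by
    rw [← Abelianization.ker_of]
    refine MonoidHom.mem_ker.mpr (Eq.trans ?_ h1)
    exact congrArg ϕ (Subtype.ext rfl)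
  have hco : (orderOf (⟨z, hzH⟩ : H)).Coprime H.index := by
    refine Nat.Coprime.of_dvd_left (orderOf_dvd_of_pow_eq_one (n := ℓ ^ a) (Subtype.ext hzo)) ?_
    refine Nat.Coprime.pow_left a (hℓ.coprime_iff_not_dvd.mpr ?_)
    rwa [hH, Subgroup.index_comap_of_surjective U hσ]
  obtain ⟨m, hm⟩ := exists_pow_eq_self_of_coprime hco.symm
  have h3 : (⟨z, hzH⟩ : H) ∈ commutator H := by
    rw [← hm]; exact Subgroup.pow_mem _ h2 m
  have h4 := Subgroup.mem_map_of_mem H.subtype h3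
  rwa [commutator_def, Subgroup.map_commutator, ← MonoidHom.range_eq_map,
    Subgroup.range_subtype] at h4

/-- Prime-by-prime criterion. -/
theorem trivial_multiplier_of_local {G : Type u} [Group G] [Finite G]
    (h : ∀ ℓ : ℕ, ℓ.Prime → ∃ U : Subgroup G, ¬ ℓ ∣ U.index ∧
      ∀ (Γ : Type u) [Group Γ] [Finite Γ] (σ : Γ →* G), Function.Surjective σ →
        σ.ker ≤ Subgroup.center Γ → ∀ z ∈ σ.ker, z ∈ ⁅U.comap σ, U.comap σ⁆ → z ^ ℓ = 1 → z = 1) :
    Cfsg.HasCyclicSchurMultiplier G 1 := by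
  refine CfsgLib.StemExt.hasCyclicSchurMultiplier_one fun Δ _ _ σ hσ => ?_
  by_contra hne
  have hcard : Nat.card σ.ker ≠ 1 := fun e => hne (Subgroup.eq_bot_of_card_eq _ e)
  obtain ⟨ℓ, hℓ, hdvd⟩ := Nat.exists_prime_and_dvd hcard
  haveI := Fact.mk hℓ
  obtain ⟨⟨z, hzk⟩, hz⟩ := exists_prime_orderOf_dvd_card' ℓ hdvd
  rw [Subgroup.orderOf_mk] at hz
  obtain ⟨U, hU, hUc⟩ := h ℓ hℓ
  have hmem := mem_commutator_preimage (a := 1) hσ.1 hℓ hzk (hσ.2.1 hzk) (hσ.2.2 hzk)
    (by rw [pow_one, ← hz, pow_orderOf_eq_one]) U hU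
  rw [hUc Δ σ hσ.1 hσ.2.1 z hzk hmem (by rw [← hz, pow_orderOf_eq_one]), orderOf_one] at hz
  exact hℓ.ne_one hz.symm

theorem preimage_commutator_eq_bot_of_isCyclic (σ : Γ →* G) (hc : σ.ker ≤ Subgroup.center Γ)
    (U : Subgroup G) [IsCyclic U] : ⁅U.comap σ, U.comap σ⁆ = ⊥ := by
  obtain ⟨g, hg⟩ := IsCyclic.exists_generator (α := U)
  rw [eq_bot_iff, Subgroup.commutator_le]
  intro x hx y hy
  rw [Subgroup.mem_bot, commutatorElement_eq_one_iff_mul_comm]
  obtain ⟨i, hi⟩ := Subgroup.mem_zpowers_iff.mp (hg ⟨σ x, hx⟩)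
  obtain ⟨j, hj⟩ := Subgroup.mem_zpowers_iff.mp (hg ⟨σ y, hy⟩)
  have hi' : (g : G) ^ i = σ x := by rw [← Subgroup.coe_zpow, hi]
  have hj' : (g : G) ^ j = σ y := by rw [← Subgroup.coe_zpow, hj]
  -- both images are powers of a common element of the image
  obtain ⟨w, hw⟩ : ∃ w, σ w = (g : G) ^ (Int.gcd i j : ℤ) :=
    ⟨x ^ (Int.gcdA i j) * y ^ (Int.gcdB i j), by
      rw [map_mul, map_zpow, map_zpow, ← hi', ← hj', ← zpow_mul, ← zpow_mul, ← zpow_add,
        Int.gcd_eq_gcd_ab]⟩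
  obtain ⟨a, ha⟩ := Int.gcd_dvd_left i j
  obtain ⟨b, hb⟩ := Int.gcd_dvd_right i j
  obtain ⟨k, hk, rfl⟩ : ∃ k ∈ σ.ker, x = w ^ a * k :=
    ⟨(w ^ a)⁻¹ * x, by
      rw [MonoidHom.mem_ker, map_mul, map_inv, map_zpow, hw, ← zpow_mul, ← ha, hi',
        inv_mul_cancel], by group⟩
  obtain ⟨k', hk', rfl⟩ : ∃ k ∈ σ.ker, y = w ^ b * k :=
    ⟨(w ^ b)⁻¹ * y, by
      rw [MonoidHom.mem_ker, map_mul, map_inv, map_zpow, hw, ← zpow_mul, ← hb, hj',
        inv_mul_cancel], by group⟩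
  have c1 : ∀ t, Commute k t := fun t => (Subgroup.mem_center_iff.mp (hc hk) t).symm
  have c2 : ∀ t, Commute k' t := fun t => (Subgroup.mem_center_iff.mp (hc hk') t).symm
  exact (((Commute.zpow_zpow_self w a b).mul_left (c1 _)).mul_right
    ((c2 (w ^ a * k)).symm)).eq

theorem preimage_commutator_inf_ker_quaternion (σ : Γ →* G) (hσ : Function.Surjective σ)
    (hc : σ.ker ≤ Subgroup.center Γ) (U : Subgroup G) {n : ℕ} [NeZero n]
    (e : U ≃* QuaternionGroup n) {z : Γ} (hz : z ∈ σ.ker) (hzd : z ∈ ⁅U.comap σ, U.comap σ⁆) :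
    z = 1 := by
  set H := U.comap σ
  let r : H →* U := σ.subgroupComap U
  let τ : H →* QuaternionGroup n := e.toMonoidHom.comp r
  have hrs : Function.Surjective r := MonoidHom.subgroupComap_surjective_of_surjective σ U hσ
  have hτs : Function.Surjective τ := e.surjective.comp hrs
  have hτk : τ.ker ≤ Subgroup.center H := fun x hx => by
    have hx' : (x : Γ) ∈ σ.ker := by
      have h1 : r x = 1 := e.injective (by rw [map_one]; exact hx)
      exact congrArg Subtype.val h1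
    exact Subgroup.mem_center_iff.mpr fun y =>
      Subtype.ext (Subgroup.mem_center_iff.mp (hc hx') y)
  obtain ⟨x, hx⟩ := hτs (QuaternionGroup.a 1)
  obtain ⟨y, hy⟩ := hτs (QuaternionGroup.xa 0)
  set k := x * (y * x * y⁻¹) with hk
  have hyxy : τ (y * x * y⁻¹) = (QuaternionGroup.a 1)⁻¹ := by
    rw [map_mul, map_mul, map_inv, hx, hy, mul_inv_eq_iff_eq_mul, eq_inv_mul_iff_mul_eq,
      QuaternionGroup.xa_mul_a, QuaternionGroup.a_mul_xa]
    simp
  have hkk : k ∈ τ.ker := by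
    rw [MonoidHom.mem_ker, hk, map_mul, hx, hyxy, mul_inv_cancel]
  have hxn : x ^ n * (y ^ 2)⁻¹ ∈ τ.ker := by
    rw [MonoidHom.mem_ker, map_mul, map_inv, map_pow, map_pow, hx, hy, QuaternionGroup.a_one_pow,
      QuaternionGroup.xa_sq, mul_inv_cancel]
  have hfix : y * x ^ n * y⁻¹ = x ^ n := by
    have h1 := Subgroup.mem_center_iff.mp (hτk hxn) y
    calc y * x ^ n * y⁻¹ = y * (x ^ n * (y ^ 2)⁻¹) * y := by group
      _ = (x ^ n * (y ^ 2)⁻¹) * y * y := by rw [h1]
      _ = x ^ n := by group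
  have hgen : Subgroup.closure {τ x, τ y} = ⊤ := by
    rw [hx, hy, eq_top_iff]
    rintro q -
    have ha : ∀ i : ZMod (2 * n), QuaternionGroup.a i ∈
        Subgroup.closure {QuaternionGroup.a (1 : ZMod (2 * n)), QuaternionGroup.xa 0} := fun i => by
      have h := Subgroup.pow_mem _ (Subgroup.subset_closure (Set.mem_insert
        (QuaternionGroup.a (1 : ZMod (2 * n))) {QuaternionGroup.xa 0})) i.val
      rwa [QuaternionGroup.a_one_pow, ZMod.natCast_zmod_val] at h
    match q with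
    | .a i => exact ha i
    | .xa i =>
      have h := Subgroup.mul_mem _ (Subgroup.subset_closure (Set.mem_insert_of_mem
        (QuaternionGroup.a (1 : ZMod (2 * n))) (Set.mem_singleton (QuaternionGroup.xa 0)))) (ha i)
      rwa [QuaternionGroup.xa_mul_a, zero_add] at h
  obtain ⟨hle, hw⟩ := CfsgLib.StemExt.inverting_pair_bound hτk hgen hkk
    (by rw [hk]; group) hfix
  set w := x * x * k⁻¹ with hwdef
  have hzH : z ∈ H := by
    show σ z ∈ U
    rw [MonoidHom.mem_ker.mp hz]; exact one_mem U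
  have hzc : (⟨z, hzH⟩ : H) ∈ commutator H := by
    rw [← Subgroup.range_subtype H, MonoidHom.range_eq_map, ← Subgroup.map_commutator] at hzd
    obtain ⟨z', hz', he⟩ := hzd
    rwa [show (⟨z, hzH⟩ : H) = z' from Subtype.ext he.symm]
  obtain ⟨j, hj⟩ := Subgroup.mem_zpowers_iff.mp (hle hzc)
  have hτw : τ w = QuaternionGroup.a 2 := by
    rw [hwdef, map_mul, map_mul, map_inv, MonoidHom.mem_ker.mp hkk, inv_one, mul_one, hx,
      QuaternionGroup.a_mul_a, one_add_one_eq_two]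
  have hord : orderOf (QuaternionGroup.a (2 : ZMod (2 * n))) = n := by
    rw [show (2 : ZMod (2 * n)) = ((2 : ℕ) : ZMod (2 * n)) by norm_num,
      ← QuaternionGroup.a_one_pow, orderOf_pow, QuaternionGroup.orderOf_a_one,
      Nat.gcd_mul_right_left, Nat.mul_div_cancel_left n two_pos]
  have hτz : τ ⟨z, hzH⟩ = 1 := by
    show e (r ⟨z, hzH⟩) = 1
    rw [show r ⟨z, hzH⟩ = 1 from Subtype.ext hz, map_one]
  rw [← hj, map_zpow, hτw] at hτz
  obtain ⟨c, rfl⟩ := hord ▸ orderOf_dvd_iff_zpow_eq_one.mpr hτz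
  rw [zpow_mul, zpow_natCast, hw, one_zpow] at hj
  exact (congrArg Subtype.val hj).symm

end CfsgLib.Schur
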