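import Mathlib
import Cfsg.Prelude.Def_KGroupFacts
import Cfsg.Agent.Lib.StemExt.Basic
import Cfsg.Agent.Lib.Schur.Hopf
import Cfsg.Agent.Lib.Schur.SylowCriterion

/-!
Semidihedral groups of order sixteen and inverted elementary abelian groups of order nine
contribute nothing to a Schur multiplier.
-/

set_option autoImplicit false
set_option linter.unusedSectionVars false

open scoped commutatorElement

namespace CfsgLib.Schur

variable {Γ G : Type*} [Group Γ] [Group G]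

theorem zpowers_invariant {V : Type*} [Group V] (c : V) (S : Set V) (hS : Subgroup.closure S = ⊤)
    (h : ∀ v ∈ S, v * c * v⁻¹ ∈ Subgroup.zpowers c ∧ v⁻¹ * c * v ∈ Subgroup.zpowers c) :
    (Subgroup.zpowers c).Normal := by
  have key : ∀ v : V, v * c * v⁻¹ ∈ Subgroup.zpowers c ∧ v⁻¹ * c * v ∈ Subgroup.zpowers c := by
    intro v
    have hv : v ∈ Subgroup.closure S := hS ▸ Subgroup.mem_top v
    induction hv using Subgroup.closure_induction with
    | mem v hv => exact h v hv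
    | one => simp
    | mul v w _ _ hv hw =>
      obtain ⟨i, hi⟩ := Subgroup.mem_zpowers_iff.mp hw.1
      obtain ⟨j, hj⟩ := Subgroup.mem_zpowers_iff.mp hv.2
      constructor
      · rw [show v * w * c * (v * w)⁻¹ = v * (w * c * w⁻¹) * v⁻¹ by group, ← hi, ← conj_zpow]
        exact Subgroup.zpow_mem _ hv.1 i
      · rw [show (v * w)⁻¹ * c * (v * w) = w⁻¹ * (v⁻¹ * c * v) * (w⁻¹)⁻¹ by group, ← hj, ← conj_zpow]
        refine Subgroup.zpow_mem _ ?_ j
        rw [inv_inv]; exact hw.2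
    | inv v _ hv => rw [inv_inv]; exact hv.symm
  exact ⟨fun x hx v => by
    obtain ⟨i, rfl⟩ := Subgroup.mem_zpowers_iff.mp hx
    rw [← conj_zpow]
    exact Subgroup.zpow_mem _ (key v).1 i⟩

/-- The derived subgroup of the preimage of a two-generator group. -/
theorem preimage_commutator_le {σ : Γ →* G} (hc : σ.ker ≤ Subgroup.center Γ) {a b : G}
    (U : Subgroup G) (hU : U = Subgroup.closure {a, b}) {A B : Γ} (hA : σ A = a) (hB : σ B = b)
    (c : Γ) (hcm : ⁅A, B⁆ ∈ Subgroup.zpowers c) (hcV : σ c ∈ U)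
    (hcA : A * c * A⁻¹ ∈ Subgroup.zpowers c ∧ A⁻¹ * c * A ∈ Subgroup.zpowers c)
    (hcB : B * c * B⁻¹ ∈ Subgroup.zpowers c ∧ B⁻¹ * c * B ∈ Subgroup.zpowers c) :
    ⁅U.comap σ, U.comap σ⁆ ≤ Subgroup.zpowers c := by
  set V := U.comap σ with hV
  have hAV : A ∈ V := by
    rw [hV, Subgroup.mem_comap, hA, hU]; exact Subgroup.subset_closure (Set.mem_insert _ _)
  have hBV : B ∈ V := by
    rw [hV, Subgroup.mem_comap, hB, hU]
    exact Subgroup.subset_closure (Set.mem_insert_of_mem _ rfl)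
  let Z : Subgroup V := σ.ker.subgroupOf V
  have hZ : Z ≤ Subgroup.center V := fun z hz =>
    Subgroup.mem_center_iff.mpr fun v => Subtype.ext (Subgroup.mem_center_iff.mp (hc hz) v)
  have hgen : Subgroup.closure {(⟨A, hAV⟩ : V), ⟨B, hBV⟩} ⊔ Z = ⊤ := by
    refine Subgroup.map_injective V.subtype_injective ?_
    have hk : σ.ker ≤ V := fun x hx => by
      rw [hV, Subgroup.mem_comap, MonoidHom.mem_ker.mp hx]; exact one_mem U
    rw [Subgroup.map_sup, MonoidHom.map_closure, Set.image_pair, ← MonoidHom.range_eq_map,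
      Subgroup.range_subtype, Subgroup.map_subgroupOf_eq_of_le hk]
    show Subgroup.closure {A, B} ⊔ σ.ker = V
    rw [← Subgroup.comap_map_eq, MonoidHom.map_closure, Set.image_pair, hA, hB, ← hU]
  let c' : V := ⟨c, hcV⟩
  have hmem : ∀ w : V, (w : Γ) ∈ Subgroup.zpowers c → w ∈ Subgroup.zpowers c' := fun w hw => by
    obtain ⟨i, hi⟩ := Subgroup.mem_zpowers_iff.mp hw
    exact Subgroup.mem_zpowers_iff.mpr ⟨i, Subtype.ext (by rw [Subgroup.coe_zpow]; exact hi)⟩
  haveI hN : (Subgroup.zpowers c').Normal := by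
    refine zpowers_invariant c' (({(⟨A, hAV⟩ : V), ⟨B, hBV⟩} : Set V) ∪ (Z : Set V)) ?_ ?_
    · rw [Subgroup.closure_union, Subgroup.closure_eq, hgen]
    · rintro v ((rfl | rfl) | hv)
      · exact ⟨hmem _ hcA.1, hmem _ hcA.2⟩
      · exact ⟨hmem _ hcB.1, hmem _ hcB.2⟩
      · have h := Subgroup.mem_center_iff.mp (hZ hv) c'
        refine ⟨?_, ?_⟩
        · rw [← h, mul_inv_cancel_right]; exact Subgroup.mem_zpowers c'
        · rw [mul_assoc, h, inv_mul_cancel_left]; exact Subgroup.mem_zpowers c'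
  have hle := CfsgLib.StemExt.commutator_le_of_generators (N := Subgroup.zpowers c') hZ
    (⟨A, hAV⟩ : V) ⟨B, hBV⟩ hgen (hmem _ hcm)
  have h2 := Subgroup.map_mono (f := V.subtype) hle
  rwa [commutator_def, Subgroup.map_commutator, ← MonoidHom.range_eq_map, Subgroup.range_subtype,
    MonoidHom.map_zpowers] at h2

/-- A semidihedral group of order sixteen contributes nothing. -/
theorem preimage_commutator_inf_ker_semidihedral {σ : Γ →* G} (hσ : Function.Surjective σ)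
    (hc : σ.ker ≤ Subgroup.center Γ) {a b : G} (ha : orderOf a = 8) (hb : b * b = 1)
    (hab : b * a * b⁻¹ = a ^ 3) {z : Γ} (hz : z ∈ σ.ker)
    (hzd : z ∈ ⁅(Subgroup.closure {a, b}).comap σ, (Subgroup.closure {a, b}).comap σ⁆) : z = 1 := by
  obtain ⟨A, hA⟩ := hσ a
  obtain ⟨B, hB⟩ := hσ b
  have kc : ∀ {k : Γ}, k ∈ σ.ker → ∀ x, x * k = k * x := fun hk x => Subgroup.mem_center_iff.mp (hc hk) x
  obtain ⟨k, hk, hBA⟩ : ∃ k ∈ σ.ker, B * A * B⁻¹ = A ^ 3 * k :=
    ⟨(A ^ 3)⁻¹ * (B * A * B⁻¹), by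
      rw [MonoidHom.mem_ker, map_mul, map_inv, map_pow, map_mul, map_mul, map_inv, hA, hB, hab,
        inv_mul_cancel], (mul_inv_cancel_left _ _).symm⟩
  have hBB : B * B ∈ σ.ker := by rw [MonoidHom.mem_ker, map_mul, hB, hb]
  have hkA : Commute k A := (kc hk A).symm
  have hconj : ∀ n : ℕ, B * A ^ n * B⁻¹ = (A ^ 3 * k) ^ n := fun n => by rw [← conj_pow, hBA]
  have hkey : A ^ 8 * k ^ 4 = 1 := by
    have h1 : B * (B * A * B⁻¹) * B⁻¹ = A := by
      rw [show B * (B * A * B⁻¹) * B⁻¹ = B * B * A * (B * B)⁻¹ by group, ← kc hBB A,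
        mul_inv_cancel_right]
    rw [hBA, show B * (A ^ 3 * k) * B⁻¹ = B * A ^ 3 * B⁻¹ * (B * k * B⁻¹) by group, hconj, kc hk B,
      mul_inv_cancel_right, (hkA.pow_right 3).symm.mul_pow, ← pow_mul, mul_assoc, ← pow_succ] at h1
    refine mul_left_cancel (a := A) ?_
    rw [mul_one, ← mul_assoc, ← pow_succ']
    exact h1
  set c := A ^ 2 * k with hcdef
  have hσc : σ c = a ^ 2 := by rw [map_mul, map_pow, hA, MonoidHom.mem_ker.mp hk, mul_one]
  have hAc : A * c = c * A := ((Commute.refl A).pow_right 2).mul_right hkA.symm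
  have hBc : B * c * B⁻¹ = c ^ 3 := by
    rw [hcdef, show B * (A ^ 2 * k) * B⁻¹ = B * A ^ 2 * B⁻¹ * (B * k * B⁻¹) by group, hconj, kc hk B,
      mul_inv_cancel_right, (hkA.pow_right 3).symm.mul_pow, (hkA.pow_right 2).symm.mul_pow,
      ← pow_mul, ← pow_mul, mul_assoc, ← pow_succ]
  have hBc' : B⁻¹ * c * B = c ^ 3 := by
    rw [← hBc]
    calc B⁻¹ * c * B = B⁻¹ * (c * (B * B)) * B⁻¹ := by group
      _ = B * c * B⁻¹ := by rw [kc hBB c]; group
  have hcm : ⁅A, B⁆ ∈ Subgroup.zpowers c := by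
    rw [show ⁅A, B⁆ = A * (B * A * B⁻¹)⁻¹ by simp only [commutatorElement_def]; group, hBA,
      show A * (A ^ 3 * k)⁻¹ = c⁻¹ by
        rw [hcdef, mul_inv_rev, mul_inv_rev, ← mul_assoc, (hkA.inv_left.symm).eq, mul_assoc]
        group]
    exact inv_mem (Subgroup.mem_zpowers c)
  have hle := preimage_commutator_le hc _ rfl hA hB c hcm
    (by rw [hσc]; exact Subgroup.pow_mem _ (Subgroup.subset_closure (Set.mem_insert _ _)) 2)
    ⟨by rw [hAc, mul_inv_cancel_right]; exact Subgroup.mem_zpowers c,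
      by rw [mul_assoc, ← hAc, inv_mul_cancel_left]; exact Subgroup.mem_zpowers c⟩
    ⟨by rw [hBc]; exact Subgroup.pow_mem _ (Subgroup.mem_zpowers c) 3,
      by rw [hBc']; exact Subgroup.pow_mem _ (Subgroup.mem_zpowers c) 3⟩ hzd
  obtain ⟨j, rfl⟩ := Subgroup.mem_zpowers_iff.mp hle
  rw [MonoidHom.mem_ker, map_zpow, hσc, ← zpow_natCast, ← zpow_mul] at hz
  have hd := orderOf_dvd_iff_zpow_eq_one.mpr hz
  rw [ha] at hd
  obtain ⟨i, rfl⟩ : (4 : ℤ) ∣ j := by omega
  have h4 : c ^ 4 = 1 := by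
    rw [hcdef, (hkA.pow_right 2).symm.mul_pow, ← pow_mul]
    exact hkey
  rw [zpow_mul, show (4 : ℤ) = ((4 : ℕ) : ℤ) from rfl, zpow_natCast, h4, one_zpow]

/-- An elementary abelian group of order nine with an element inverting one generator and fixing
the other contributes nothing. -/
theorem preimage_commutator_nine {σ : Γ →* G} (hσ : Function.Surjective σ)
    (hc : σ.ker ≤ Subgroup.center Γ) {x y h : G} (hx : x ^ 3 = 1) (hxy : x * y = y * x)
    (hhx : h * x * h⁻¹ = x⁻¹) (hhy : h * y * h⁻¹ = y) :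
    ⁅(Subgroup.closure {x, y}).comap σ, (Subgroup.closure {x, y}).comap σ⁆ = ⊥ := by
  obtain ⟨X, hX⟩ := hσ x
  obtain ⟨Y, hY⟩ := hσ y
  obtain ⟨H, hH⟩ := hσ h
  have hcm : ⁅X, Y⁆ ∈ σ.ker := by
    rw [MonoidHom.mem_ker, map_commutatorElement, hX, hY, commutatorElement_eq_one_iff_mul_comm, hxy]
  have kc := Subgroup.mem_center_iff.mp (hc hcm)
  have hinv : ⁅X⁻¹, Y⁆ = ⁅X, Y⁆⁻¹ := by
    rw [show ⁅X⁻¹, Y⁆ = X⁻¹ * ⁅X, Y⁆⁻¹ * X by simp only [commutatorElement_def]; group,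
      mul_assoc, (Commute.inv_left (kc X).symm).eq, inv_mul_cancel_left]
  have h2 : ⁅X, Y⁆ ^ 2 = 1 := by
    have h1 : H * ⁅X, Y⁆ * H⁻¹ = ⁅X⁻¹, Y⁆ := by
      rw [show H * ⁅X, Y⁆ * H⁻¹ = ⁅H * X * H⁻¹, H * Y * H⁻¹⁆ by
        simp only [commutatorElement_def]; group]
      exact commutatorElement_congr σ hc
        (by rw [map_mul, map_mul, map_inv, map_inv, hX, hH, hhx])
        (by rw [map_mul, map_mul, map_inv, hY, hH, hhy])
    rw [kc H, mul_inv_cancel_right, hinv] at h1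
    rw [sq]; exact mul_eq_one_iff_eq_inv.mpr h1
  have h3 : ⁅X, Y⁆ ^ 3 = 1 := by
    have e1 : ∀ n : ℕ, ⁅X ^ n, Y⁆ = ⁅X, Y⁆ ^ n := by
      intro n
      induction n with
      | zero => simp
      | succ n ih =>
        rw [pow_succ' X, show ⁅X * X ^ n, Y⁆ = (X * ⁅X ^ n, Y⁆ * X⁻¹) * ⁅X, Y⁆ by
          simp only [commutatorElement_def]; group, ih,
          ((show Commute X ⁅X, Y⁆ from kc X).pow_right n).eq, mul_inv_cancel_right, pow_succ]
    rw [← e1, commutatorElement_eq_one_iff_mul_comm]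
    have hX3 : X ^ 3 ∈ σ.ker := by rw [MonoidHom.mem_ker, map_pow, hX, hx]
    exact (Subgroup.mem_center_iff.mp (hc hX3) Y).symm
  have h1 : ⁅X, Y⁆ = 1 := by
    calc ⁅X, Y⁆ = ⁅X, Y⁆ * ⁅X, Y⁆ ^ 2 := by rw [h2, mul_one]
      _ = ⁅X, Y⁆ ^ 3 := (pow_succ' _ 2).symm
      _ = 1 := h3
  refine le_bot_iff.mp ?_
  rw [← Subgroup.zpowers_one_eq_bot]
  refine preimage_commutator_le hc _ rfl hX hY 1 (by rw [h1]; exact one_mem _) ?_ ?_ ?_
  · rw [map_one]; exact one_mem _
  · simp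
  · simp

/-- A two-generator `p`-subgroup exceeding the cyclic subgroup of one generator. -/
theorem pow_succ_dvd_card_closure_pair [Finite G] {p k : ℕ} [Fact p.Prime] {a b : G}
    (ha : orderOf a = p ^ k) (hb : b ^ p = 1) (hab : b * a * b⁻¹ ∈ Subgroup.zpowers a)
    (hnot : b ∉ Subgroup.zpowers a) : p ^ (k + 1) ∣ Nat.card (Subgroup.closure {a, b}) := by
  have hA : IsPGroup p (Subgroup.zpowers a) := IsPGroup.of_card (Nat.card_zpowers a ▸ ha)
  have hB : IsPGroup p (Subgroup.zpowers b) := by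
    rcases (Nat.dvd_prime (Fact.out : p.Prime)).mp (orderOf_dvd_of_pow_eq_one hb) with e | e
    · exact IsPGroup.of_card (n := 0) (by rw [Nat.card_zpowers, e, pow_zero])
    · exact IsPGroup.of_card (n := 1) (by rw [Nat.card_zpowers, e, pow_one])
  have hnorm : Subgroup.zpowers b ≤ Subgroup.normalizer (Subgroup.zpowers a : Set G) := by
    rw [Subgroup.zpowers_le]
    refine Subgroup.mem_normalizer_iff_map_conj_eq.mpr ?_
    refine Subgroup.eq_of_le_of_card_ge ?_ (le_of_eq ?_)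
    · rw [MonoidHom.map_zpowers, Subgroup.zpowers_le]; exact hab
    · exact (Subgroup.card_map_of_injective (MulAut.conj b).injective).symm
  have hP : IsPGroup p ↥(Subgroup.zpowers b ⊔ Subgroup.zpowers a) :=
    hB.to_sup_of_normal_right' hA hnorm
  have heq : Subgroup.zpowers b ⊔ Subgroup.zpowers a = Subgroup.closure {a, b} := by
    rw [Set.insert_eq, Subgroup.closure_union, Subgroup.zpowers_eq_closure,
      Subgroup.zpowers_eq_closure, sup_comm]
  rw [heq] at hP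
  obtain ⟨n, hn⟩ := IsPGroup.iff_card.mp hP
  have hlt : Subgroup.zpowers a < Subgroup.closure {a, b} := by
    refine lt_of_le_not_ge ?_ fun h => hnot (h (Subgroup.subset_closure (Set.mem_insert_of_mem _ rfl)))
    rw [Subgroup.zpowers_le]; exact Subgroup.subset_closure (Set.mem_insert _ _)
  have hcard : p ^ k < p ^ n := by
    rw [← hn, ← ha, ← Nat.card_zpowers]
    refine lt_of_le_of_ne (Subgroup.card_le_of_le hlt.le) fun h => hlt.ne ?_
    exact Subgroup.eq_of_le_of_card_ge hlt.le h.ge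
  rw [hn]
  exact pow_dvd_pow p ((Nat.pow_lt_pow_iff_right (Fact.out : p.Prime).one_lt).mp hcard)

end CfsgLib.Schur
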