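import Mathlib
import Cfsg.Agent.Lib.Schur.SmallSylow

/-!
An extraspecial group of order twenty-seven and exponent three, with two involutions inverting one
generator each, contributes nothing to a Schur multiplier.
-/

set_option autoImplicit false
set_option linter.unusedSectionVars false

open scoped commutatorElement

namespace CfsgLib.Schur

variable {Γ G : Type*} [Group Γ] [Group G]

/-- a central commutator `[A, C]` negated by conjugation has order one when `A` cubes into the centre -/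
theorem commutator_eq_one_of_inverted {σ : Γ →* G} (hc : σ.ker ≤ Subgroup.center Γ) {A C H : Γ}
    (hm : ⁅A, C⁆ ∈ σ.ker) (hA : σ (A ^ 3) = 1) (hHA : σ H * σ A * (σ H)⁻¹ = σ A)
    (hHC : σ H * σ C * (σ H)⁻¹ = (σ C)⁻¹) : ⁅A, C⁆ = 1 := by
  have kc : ∀ {k : Γ}, k ∈ σ.ker → ∀ x, x * k = k * x := fun hk x => Subgroup.mem_center_iff.mp (hc hk) x
  set m := ⁅A, C⁆ with hmdef
  have hinv : ⁅A, C⁻¹⁆ = m⁻¹ := by
    rw [show ⁅A, C⁻¹⁆ = C⁻¹ * m⁻¹ * C by rw [hmdef]; simp only [commutatorElement_def]; group,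
      mul_assoc, (Commute.inv_left (kc hm C).symm).eq, inv_mul_cancel_left]
  have h2 : m ^ 2 = 1 := by
    have h1 : H * m * H⁻¹ = ⁅A, C⁻¹⁆ := by
      rw [show H * m * H⁻¹ = ⁅H * A * H⁻¹, H * C * H⁻¹⁆ by
        rw [hmdef]; simp only [commutatorElement_def]; group]
      exact commutatorElement_congr σ hc (by rw [map_mul, map_mul, map_inv, hHA])
        (by rw [map_mul, map_mul, map_inv, map_inv, hHC])
    rw [kc hm H, mul_inv_cancel_right, hinv] at h1
    rw [sq]; exact mul_eq_one_iff_eq_inv.mpr h1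
  have h3 : m ^ 3 = 1 := by
    have e1 : ∀ n : ℕ, ⁅A ^ n, C⁆ = m ^ n := by
      intro n
      induction n with
      | zero => simp
      | succ n ih =>
        rw [pow_succ' A, show ⁅A * A ^ n, C⁆ = (A * ⁅A ^ n, C⁆ * A⁻¹) * ⁅A, C⁆ by
          simp only [commutatorElement_def]; group, ih,
          ((show Commute A m from kc hm A).pow_right n).eq, mul_inv_cancel_right, pow_succ]
    rw [← e1, commutatorElement_eq_one_iff_mul_comm]
    exact (kc (MonoidHom.mem_ker.mpr hA) C).symm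
  calc m = m * m ^ 2 := by rw [h2, mul_one]
    _ = m ^ 3 := (pow_succ' _ 2).symm
    _ = 1 := h3

/-- The extraspecial group of order twenty-seven. -/
theorem preimage_commutator_inf_ker_extraThree {σ : Γ →* G} (hσ : Function.Surjective σ)
    (hc : σ.ker ≤ Subgroup.center Γ) {x y g h : G} (hx : x ^ 3 = 1) (hy : y ^ 3 = 1)
    (hcx : x * ⁅x, y⁆ = ⁅x, y⁆ * x) (hcy : y * ⁅x, y⁆ = ⁅x, y⁆ * y) (hne : ⁅x, y⁆ ≠ 1)
    (hgx : g * x * g⁻¹ = x) (hgy : g * y * g⁻¹ = y⁻¹) (hhx : h * x * h⁻¹ = x⁻¹)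
    (hhy : h * y * h⁻¹ = y) {z : Γ} (hz : z ∈ σ.ker)
    (hzd : z ∈ ⁅(Subgroup.closure {x, y}).comap σ, (Subgroup.closure {x, y}).comap σ⁆) : z = 1 := by
  obtain ⟨X, hX⟩ := hσ x
  obtain ⟨Y, hY⟩ := hσ y
  obtain ⟨P, hP⟩ := hσ g
  obtain ⟨Q, hQ⟩ := hσ h
  set C := ⁅X, Y⁆ with hC
  have hσC : σ C = ⁅x, y⁆ := by rw [hC, map_commutatorElement, hX, hY]
  set c := ⁅x, y⁆ with hcdef
  have conjC : ∀ t : G, t * c * t⁻¹ = ⁅t * x * t⁻¹, t * y * t⁻¹⁆ := fun t => by
    rw [hcdef]; simp only [commutatorElement_def]; group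
  have hm : ⁅X, C⁆ = 1 := by
    refine commutator_eq_one_of_inverted (H := P) hc ?_ (by rw [map_pow, hX, hx]) (by rw [hP, hX, hgx]) ?_
    · rw [MonoidHom.mem_ker, map_commutatorElement, hX, hσC, commutatorElement_eq_one_iff_mul_comm, hcx]
    · rw [hP, hσC, conjC, hgx, hgy,
        show ⁅x, y⁻¹⁆ = y⁻¹ * c⁻¹ * y by rw [hcdef]; simp only [commutatorElement_def]; group,
        mul_assoc, (Commute.inv_left (show Commute c y from hcy.symm)).eq, inv_mul_cancel_left]
  have hn : ⁅Y, C⁆ = 1 := by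
    refine commutator_eq_one_of_inverted (H := Q) hc ?_ (by rw [map_pow, hY, hy]) (by rw [hQ, hY, hhy]) ?_
    · rw [MonoidHom.mem_ker, map_commutatorElement, hY, hσC, commutatorElement_eq_one_iff_mul_comm, hcy]
    · rw [hQ, hσC, conjC, hhx, hhy,
        show ⁅x⁻¹, y⁆ = x⁻¹ * c⁻¹ * x by rw [hcdef]; simp only [commutatorElement_def]; group,
        mul_assoc, (Commute.inv_left (show Commute c x from hcx.symm)).eq, inv_mul_cancel_left]
  rw [commutatorElement_eq_one_iff_mul_comm] at hm hn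
  have h3 : C ^ 3 = 1 := by
    have e1 : ∀ n : ℕ, ⁅X ^ n, Y⁆ = C ^ n := by
      intro n
      induction n with
      | zero => simp
      | succ n ih =>
        rw [pow_succ' X, show ⁅X * X ^ n, Y⁆ = (X * ⁅X ^ n, Y⁆ * X⁻¹) * ⁅X, Y⁆ by
          simp only [commutatorElement_def]; group, ih,
          ((show Commute X C from hm).pow_right n).eq, mul_inv_cancel_right, pow_succ]
    rw [← e1, commutatorElement_eq_one_iff_mul_comm]
    exact ((Subgroup.mem_center_iff.mp
      (hc (MonoidHom.mem_ker.mpr (show σ (X ^ 3) = 1 by rw [map_pow, hX, hx]))) Y)).symm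
  have hmem : σ C ∈ Subgroup.closure {x, y} := by
    rw [hσC, hcdef, commutatorElement_def]
    have hxm := Subgroup.subset_closure (Set.mem_insert x {y})
    have hym := Subgroup.subset_closure (Set.mem_insert_of_mem x (Set.mem_singleton y))
    exact mul_mem (mul_mem (mul_mem hxm hym) (inv_mem hxm)) (inv_mem hym)
  have hle := preimage_commutator_le hc _ rfl hX hY C (Subgroup.mem_zpowers C) hmem
    ⟨by rw [hm, mul_inv_cancel_right]; exact Subgroup.mem_zpowers C,
      by rw [mul_assoc, ← hm, inv_mul_cancel_left]; exact Subgroup.mem_zpowers C⟩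
    ⟨by rw [hn, mul_inv_cancel_right]; exact Subgroup.mem_zpowers C,
      by rw [mul_assoc, ← hn, inv_mul_cancel_left]; exact Subgroup.mem_zpowers C⟩ hzd
  obtain ⟨j, rfl⟩ := Subgroup.mem_zpowers_iff.mp hle
  rw [MonoidHom.mem_ker, map_zpow, hσC] at hz
  have hc3 : c ^ 3 = 1 := by rw [← hσC, ← map_pow, h3, map_one]
  have hd := orderOf_dvd_iff_zpow_eq_one.mpr hz
  rw [orderOf_eq_prime hc3 hne] at hd
  obtain ⟨i, rfl⟩ := hd
  rw [zpow_mul, show ((3 : ℕ) : ℤ) = (3 : ℤ) from rfl] at *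
  rw [show (C : Γ) ^ (3 : ℤ) = C ^ (3 : ℕ) from zpow_natCast C 3, h3, one_zpow]

end CfsgLib.Schur
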