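import Mathlib

/-!
Certified coset tables for groups generated by involutions: relators and a sequence of deductions
bound the generated group, edge by edge.
-/

set_option autoImplicit false

namespace CfsgLib.Schur.InvTable

/-- the data: packed tables of the left actions, a spanning tree, relators and deductions -/
structure Tab where
  /-- number of generators -/
  k : ℕ
  /-- number of points -/
  N : ℕ
  /-- packed action of each generator -/
  table : List ℕ
  /-- generator and parent of the points after the first -/
  tree : List (ℕ × ℕ)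
  /-- relators -/
  words : List (List ℕ)
  /-- relator, start, position of the unknown edge -/
  cert : List (ℕ × ℕ × ℕ)

namespace Tab

variable (T : Tab)

/-- action of a generator -/
def tab (j i : ℕ) : ℕ := (T.table.getD j 0 >>> (11 * i)) % 2048

/-- a known edge -/
def knows (K j i : ℕ) : Bool := decide (j < 8) && K.testBit (8 * i + j)

/-- add an edge in both directions -/
def learn (K j i : ℕ) : ℕ := K ||| 2 ^ (8 * i + j) ||| 2 ^ (8 * T.tab j i + j)

/-- walk a word from the right along known edges -/
def walk (K : ℕ) : List ℕ → ℕ → Option ℕ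
  | [], x => some x
  | j :: w, x =>
    match walk K w x with
    | none => none
    | some y => if knows K j y then some (T.tab j y) else none

/-- the edges of the tree -/
def treeKnown : List (ℕ × ℕ) → ℕ → ℕ → Option ℕ
  | [], _, K => some K
  | (j, i) :: l, t, K =>
    if decide (j < T.k) && decide (j < 8) && decide (i < t) && T.tab j i == t && T.tab j t == i then
      treeKnown l (t + 1) (T.learn K j i)
    else none

/-- one deduction -/
def step (K : ℕ) (c : ℕ × ℕ × ℕ) : Option ℕ :=
  let w := T.words.getD c.1 []
  match T.walk K (w.drop (c.2.2 + 1)) c.2.1 with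
  | none => none
  | some x =>
    let j := w.getD c.2.2 0
    if decide (c.2.2 < w.length) && decide (c.1 < T.words.length) && decide (j < T.k) &&
        decide (j < 8) && T.tab j (T.tab j x) == x &&
        T.walk K (w.take c.2.2) (T.tab j x) == some c.2.1 then
      some (T.learn K j x)
    else none

/-- all deductions -/
def run : List (ℕ × ℕ × ℕ) → ℕ → Option ℕ
  | [], K => some K
  | c :: cs, K =>
    match T.step K c with
    | none => none
    | some K' => run cs K'

/-- every edge becomes known -/
def ok : Bool :=
  decide (0 < T.N) && decide (T.k ≤ 8) && decide (T.tree.length + 1 = T.N) &&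
  match T.treeKnown T.tree 1 0 with
  | none => false
  | some K =>
    match T.run T.cert K with
    | none => false
    | some K' => (List.range T.k).all fun j => (List.range T.N).all fun i =>
        knows K' j i && decide (T.tab j i < T.N)

variable {E : Type*} [Group E] (g : ℕ → E)

/-- the element of a point -/
def phi (t : ℕ) : E :=
  if 0 < t ∧ (T.tree.getD (t - 1) (0, 0)).2 < t then
    g (T.tree.getD (t - 1) (0, 0)).1 * phi (T.tree.getD (t - 1) (0, 0)).2
  else 1
termination_by t
decreasing_by exact (‹0 < t ∧ _›).2

theorem phi_zero : T.phi g 0 = 1 := by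
  rw [phi]; simp

/-- the known edges are true -/
def Good (K : ℕ) : Prop :=
  ∀ j i, j < 8 → K.testBit (8 * i + j) = true → g j * T.phi g i = T.phi g (T.tab j i)

variable {T g}

theorem good_learn {K j i : ℕ} (hK : T.Good g K) (hj : j < 8) (hsq : g j * g j = 1)
    (hback : T.tab j (T.tab j i) = i) (he : g j * T.phi g i = T.phi g (T.tab j i)) :
    T.Good g (T.learn K j i) := by
  intro j' i' hj' hb
  rw [learn, Nat.testBit_or, Nat.testBit_or, Nat.testBit_two_pow, Nat.testBit_two_pow,
    Bool.or_eq_true, Bool.or_eq_true, decide_eq_true_eq, decide_eq_true_eq] at hb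
  rcases hb with (hb | hb) | hb
  · exact hK j' i' hj' hb
  · obtain ⟨rfl, rfl⟩ : j = j' ∧ i = i' := by omega
    exact he
  · obtain ⟨rfl, rfl⟩ : j = j' ∧ T.tab j i = i' := by omega
    rw [hback, ← he, ← mul_assoc, hsq, one_mul]

theorem walk_eq {K : ℕ} (hK : T.Good g K) : ∀ (w : List ℕ) (x y : ℕ), T.walk K w x = some y →
    (w.map g).prod * T.phi g x = T.phi g y := by
  intro w
  induction w with
  | nil =>
    intro x y h
    rw [walk, Option.some.injEq] at h
    rw [h, List.map_nil, List.prod_nil, one_mul]
  | cons j w ih =>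
    intro x y h
    rw [walk] at h
    rcases hw : T.walk K w x with _ | z
    · rw [hw] at h; simp at h
    · rw [hw] at h
      simp only [knows, Bool.and_eq_true, decide_eq_true_eq] at h
      split_ifs at h with hk
      · rw [Option.some.injEq] at h
        rw [List.map_cons, List.prod_cons, mul_assoc, ih x z hw, hK j z hk.1 hk.2, h]

theorem good_treeKnown (hsq : ∀ j, j < T.k → g j * g j = 1) :
    ∀ (l : List (ℕ × ℕ)) (t K K' : ℕ), 0 < t →
      (∀ s, s < l.length → T.tree.getD (t - 1 + s) (0, 0) = l.getD s (0, 0)) →
      T.Good g K → T.treeKnown l t K = some K' → T.Good g K' := by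
  intro l
  induction l with
  | nil => intro t K K' _ _ hK h; rw [treeKnown, Option.some.injEq] at h; exact h ▸ hK
  | cons p l ih =>
    obtain ⟨j, i⟩ := p
    intro t K K' ht hl hK h
    rw [treeKnown] at h
    split_ifs at h with hc
    · simp only [Bool.and_eq_true, decide_eq_true_eq, beq_iff_eq] at hc
      obtain ⟨⟨⟨⟨hjk, hj8⟩, hit⟩, he⟩, hb⟩ := hc
      refine ih (t + 1) _ K' (by omega) (fun s hs => ?_) ?_ h
      · have := hl (s + 1) (by simpa using hs)
        rw [List.getD_cons_succ] at this
        rwa [show t + 1 - 1 + s = t - 1 + (s + 1) by omega]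
      · refine good_learn hK hj8 (hsq j hjk) (by rw [he, hb]) ?_
        have h0 := hl 0 (by simp)
        rw [List.getD_cons_zero, add_zero] at h0
        rw [he]
        conv_rhs => rw [phi]
        rw [h0, if_pos ⟨ht, hit⟩]

theorem good_step (hsq : ∀ j, j < T.k → g j * g j = 1) (hw : ∀ w ∈ T.words, (w.map g).prod = 1)
    {K K' : ℕ} {c : ℕ × ℕ × ℕ} (hK : T.Good g K) (h : T.step K c = some K') : T.Good g K' := by
  unfold step at h
  simp only at h
  set w := T.words.getD c.1 [] with hwdef
  rcases hx : T.walk K (w.drop (c.2.2 + 1)) c.2.1 with _ | x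
  · rw [hx] at h; simp at h
  · rw [hx] at h
    simp only at h
    split_ifs at h with hc
    · simp only [Bool.and_eq_true, decide_eq_true_eq, beq_iff_eq] at hc
      obtain ⟨⟨⟨⟨⟨hp, hlen⟩, hjk⟩, hj8⟩, hback⟩, hA⟩ := hc
      rw [Option.some.injEq] at h
      rw [← h]
      refine good_learn hK hj8 (hsq _ hjk) hback ?_
      have e1 := walk_eq hK _ _ _ hx
      have e2 := walk_eq hK _ _ _ hA
      have hmem : w ∈ T.words := by
        rw [hwdef, List.getD_eq_getElem?_getD, List.getElem?_eq_getElem hlen]
        exact List.getElem_mem hlen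
      have h1 := hw w hmem
      have hsplit : w = w.take c.2.2 ++ w.getD c.2.2 0 :: w.drop (c.2.2 + 1) := by
        rw [List.getD_eq_getElem?_getD, List.getElem?_eq_getElem hp, Option.getD_some,
          ← List.drop_eq_getElem_cons hp, List.take_append_drop]
      rw [hsplit, List.map_append, List.prod_append, List.map_cons, List.prod_cons] at h1
      refine mul_left_cancel (a := ((w.take c.2.2).map g).prod) ?_
      rw [e2, ← e1, ← mul_assoc (g (w.getD c.2.2 0)), ← mul_assoc, h1, one_mul]

theorem good_run (hsq : ∀ j, j < T.k → g j * g j = 1) (hw : ∀ w ∈ T.words, (w.map g).prod = 1) :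
    ∀ (cs : List (ℕ × ℕ × ℕ)) (K K' : ℕ), T.Good g K → T.run cs K = some K' → T.Good g K' := by
  intro cs
  induction cs with
  | nil => intro K K' hK h; rw [run, Option.some.injEq] at h; exact h ▸ hK
  | cons c cs ih =>
    intro K K' hK h
    rw [run] at h
    rcases hs : T.step K c with _ | K1
    · rw [hs] at h; simp at h
    · rw [hs] at h; exact ih K1 K' (good_step hsq hw hK hs) h

/-- Left multiplication by a generator permutes the points as the table says. -/
theorem mul_phi (hok : T.ok = true) (hsq : ∀ j, j < T.k → g j * g j = 1)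
    (hw : ∀ w ∈ T.words, (w.map g).prod = 1) {j i : ℕ} (hj : j < T.k) (hi : i < T.N) :
    g j * T.phi g i = T.phi g (T.tab j i) ∧ T.tab j i < T.N := by
  simp only [ok, Bool.and_eq_true, decide_eq_true_eq] at hok
  obtain ⟨⟨⟨-, hk8⟩, -⟩, hok⟩ := hok
  rcases hT : T.treeKnown T.tree 1 0 with _ | K
  · rw [hT] at hok; simp at hok
  · rw [hT] at hok
    simp only at hok
    rcases hR : T.run T.cert K with _ | K'
    · rw [hR] at hok; simp at hok
    · rw [hR] at hok
      simp only [List.all_eq_true, List.mem_range, Bool.and_eq_true, decide_eq_true_eq, knows] at hok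
      obtain ⟨⟨hj8, hb⟩, hlt⟩ := hok j hj i hi
      have h0 : T.Good g 0 := fun _ _ _ hb => by simp at hb
      have hgK := good_treeKnown hsq T.tree 1 0 K one_pos
        (fun s _ => by rw [show 1 - 1 + s = s by omega]) h0 hT
      exact ⟨good_run hsq hw _ K K' hgK hR j i hj8 hb, hlt⟩

/-- The generated group consists of the points. -/
theorem exists_eq_phi (hok : T.ok = true) (hsq : ∀ j, j < T.k → g j * g j = 1)
    (hw : ∀ w ∈ T.words, (w.map g).prod = 1) {x : E}
    (hx : x ∈ Subgroup.closure {e | ∃ j, j < T.k ∧ e = g j}) :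
    ∃ i, i < T.N ∧ x = T.phi g i := by
  have hN : 0 < T.N := by
    simp only [ok, Bool.and_eq_true, decide_eq_true_eq] at hok
    exact hok.1.1.1
  induction hx using Subgroup.closure_induction_left with
  | one => exact ⟨0, hN, (phi_zero T g).symm⟩
  | mul_left a ha y _ ih =>
    obtain ⟨j, hj, rfl⟩ := ha
    obtain ⟨i, hi, rfl⟩ := ih
    obtain ⟨e, hlt⟩ := mul_phi hok hsq hw hj hi
    exact ⟨_, hlt, e⟩
  | inv_mul_cancel a ha y _ ih =>
    obtain ⟨j, hj, rfl⟩ := ha
    obtain ⟨i, hi, rfl⟩ := ih
    obtain ⟨e, hlt⟩ := mul_phi hok hsq hw hj hi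
    exact ⟨_, hlt, by rw [inv_eq_of_mul_eq_one_right (hsq j hj), e]⟩

end Tab

end CfsgLib.Schur.InvTable
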