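import Mathlib
import Cfsg.Prelude.Def_KGroupFacts
import Cfsg.Agent.Lib.Schur.SylowCriterion
import Cfsg.Agent.Lib.Schur.Hopf
import Cfsg.Agent.Lib.Schur.InvolutionTable

/-!
A criterion for a multiplier of odd order: in a double cover the lifts of involutions decide
whether the preimage of a subgroup of odd index splits.
-/

set_option autoImplicit false
set_option linter.style.haveILetI false

open scoped commutatorElement

namespace CfsgLib.Schur.InvolLift

universe u

open CfsgLib.Schur.InvTable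

/-- A prime divisor of the order of the kernel of a stem extension gives a stem extension with
kernel of that order. -/
theorem exists_stem_ker_prime {G : Type u} [Group G] {Γ : Type u} [Group Γ] [Finite Γ] {σ : Γ →* G}
    (hσ : Cfsg.IsStemExtension σ) {ℓ : ℕ} (hℓ : ℓ.Prime) (hdvd : ℓ ∣ Nat.card σ.ker) :
    ∃ (E : Type u) (_ : Group E) (_ : Finite E) (τ : E →* G),
      Cfsg.IsStemExtension τ ∧ Nat.card τ.ker = ℓ := by
  haveI := Fact.mk hℓ
  have hcen : ∀ {x}, x ∈ σ.ker → ∀ y, y * x = x * y := fun hx y =>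
    Subgroup.mem_center_iff.mp (hσ.2.1 hx) y
  let R : Subgroup σ.ker :=
    { carrier := Set.range fun a : σ.ker => a ^ ℓ
      one_mem' := ⟨1, one_pow _⟩
      mul_mem' := by
        rintro _ _ ⟨a, rfl⟩ ⟨b, rfl⟩
        exact ⟨a * b, (show Commute a b from Subtype.ext (hcen b.2 a)).mul_pow ℓ⟩
      inv_mem' := by rintro _ ⟨a, rfl⟩; exact ⟨a⁻¹, inv_pow a ℓ⟩ }
  have hR : R ≠ ⊤ := fun h => by
    obtain ⟨w, hw⟩ := exists_prime_orderOf_dvd_card' ℓ hdvd
    have hsurj : Function.Surjective fun a : σ.ker => a ^ ℓ := fun b => h.ge (Subgroup.mem_top b)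
    have hinj := Finite.injective_iff_surjective.mpr hsurj
    have : w = 1 := hinj (by simp only [one_pow, ← hw, pow_orderOf_eq_one])
    rw [this, orderOf_one] at hw
    exact hℓ.ne_one hw.symm
  obtain ⟨M, hM, hRM⟩ := (eq_top_or_exists_le_coatom R).resolve_left hR
  let K : Subgroup Γ := M.map σ.ker.subtype
  have hKle : K ≤ σ.ker := Subgroup.map_subtype_le _
  haveI : K.Normal := ⟨fun x hx y => by rw [hcen (hKle hx) y, mul_inv_cancel_right]; exact hx⟩
  let τ : Γ ⧸ K →* G := QuotientGroup.lift K σ hKle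
  have hker : τ.ker = σ.ker.map (QuotientGroup.mk' K) := by
    refine le_antisymm (fun q hq => ?_) ?_
    · obtain ⟨x, rfl⟩ := QuotientGroup.mk'_surjective K q
      exact ⟨x, MonoidHom.mem_ker.mp hq, rfl⟩
    · rintro _ ⟨x, hx, rfl⟩
      exact MonoidHom.mem_ker.mpr hx
  obtain ⟨x, hx⟩ : ∃ x : σ.ker, x ∉ M := by
    by_contra h
    push Not at h
    exact hM.1 (eq_top_iff.2 fun a _ => h a)
  have hsup : M ⊔ Subgroup.zpowers x = ⊤ :=
    hM.2 _ (lt_of_le_not_ge le_sup_left fun h => hx (h (Subgroup.mem_sup_right (Subgroup.mem_zpowers x))))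
  have hxK : (x : Γ) ∉ K := fun ⟨a, ha, he⟩ => hx (Subtype.ext he ▸ ha)
  have hz : τ.ker = Subgroup.zpowers ((x : Γ) : Γ ⧸ K) := by
    rw [hker]
    have h1 := congrArg (fun S : Subgroup σ.ker => (S.map σ.ker.subtype).map (QuotientGroup.mk' K)) hsup
    simp only [Subgroup.map_sup, MonoidHom.map_zpowers, ← MonoidHom.range_eq_map,
      Subgroup.range_subtype, QuotientGroup.map_mk'_self, Subgroup.subtype_apply,
      QuotientGroup.mk'_apply] at h1
    rw [show (M.map σ.ker.subtype).map (QuotientGroup.mk' K) = ⊥ from QuotientGroup.map_mk'_self K,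
      bot_sup_eq] at h1
    exact h1.symm
  have hord : orderOf ((x : Γ) : Γ ⧸ K) = ℓ := by
    refine orderOf_eq_prime ?_ fun h => hxK ((QuotientGroup.eq_one_iff _).1 h)
    rw [← QuotientGroup.mk_pow, QuotientGroup.eq_one_iff]
    exact ⟨x ^ ℓ, hRM ⟨x, rfl⟩, rfl⟩
  refine ⟨Γ ⧸ K, inferInstance, inferInstance, τ, ⟨?_, ?_, ?_⟩, by rw [hz, Nat.card_zpowers, hord]⟩
  · intro g
    obtain ⟨a, ha⟩ := hσ.1 g
    exact ⟨a, ha⟩
  · rw [hker]
    rintro _ ⟨a, ha, rfl⟩
    rw [Subgroup.mem_center_iff]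
    intro q
    obtain ⟨b, rfl⟩ := QuotientGroup.mk'_surjective K q
    rw [← map_mul, hcen ha b, map_mul]
  · rw [hker]
    refine (Subgroup.map_mono hσ.2.2).trans ?_
    rw [commutator_def, Subgroup.map_commutator]
    exact Subgroup.commutator_mono le_top le_top

/-- Prime-by-prime criterion, the prime two being handled by double covers. -/
theorem trivial_multiplier_of_local_two {G : Type u} [Group G] [Finite G]
    (hodd : ∀ ℓ : ℕ, ℓ.Prime → ℓ ≠ 2 → ∃ U : Subgroup G, ¬ ℓ ∣ U.index ∧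
      ∀ (Γ : Type u) [Group Γ] [Finite Γ] (σ : Γ →* G), Function.Surjective σ →
        σ.ker ≤ Subgroup.center Γ → ∀ z ∈ σ.ker, z ∈ ⁅U.comap σ, U.comap σ⁆ → z ^ ℓ = 1 → z = 1)
    (htwo : ∀ (E : Type u) [Group E] [Finite E] (τ : E →* G), Cfsg.IsStemExtension τ →
      Nat.card τ.ker = 2 → False) :
    Cfsg.HasCyclicSchurMultiplier G 1 := by
  refine CfsgLib.StemExt.hasCyclicSchurMultiplier_one fun Δ _ _ σ hσ => ?_
  by_contra hne
  have hcard : Nat.card σ.ker ≠ 1 := fun e => hne (Subgroup.eq_bot_of_card_eq _ e)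
  obtain ⟨ℓ, hℓ, hdvd⟩ := Nat.exists_prime_and_dvd hcard
  by_cases h2 : ℓ = 2
  · subst h2
    obtain ⟨E, _, _, τ, hτ, hk⟩ := exists_stem_ker_prime hσ hℓ hdvd
    exact htwo E τ hτ hk
  haveI := Fact.mk hℓ
  obtain ⟨⟨z, hzk⟩, hz⟩ := exists_prime_orderOf_dvd_card' ℓ hdvd
  rw [Subgroup.orderOf_mk] at hz
  obtain ⟨U, hU, hUc⟩ := hodd ℓ hℓ h2
  have hmem := mem_commutator_preimage (a := 1) hσ.1 hℓ hzk (hσ.2.1 hzk) (hσ.2.2 hzk)
    (by rw [pow_one, ← hz, pow_orderOf_eq_one]) U hU
  rw [hUc Δ σ hσ.1 hσ.2.1 z hzk hmem (by rw [← hz, pow_orderOf_eq_one]), orderOf_one] at hz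
  exact hℓ.ne_one hz.symm

variable {G E : Type*} [Group G] [Group E] {τ : E →* G}

/-- the lifts of `x` square to one -/
def SqOne (τ : E →* G) (x : G) : Prop := ∀ a, τ a = x → a * a = 1

/-- A kernel in the centre and killed by squaring. -/
structure Double (τ : E →* G) : Prop where
  surj : Function.Surjective τ
  comm : ∀ {k}, k ∈ τ.ker → ∀ y, y * k = k * y
  sq : ∀ {k}, k ∈ τ.ker → k * k = 1

theorem double_of_card_two [Finite E] {τ : E →* G} (hτ : Cfsg.IsStemExtension τ)
    (h : Nat.card τ.ker = 2) : Double τ :=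
  ⟨hτ.1, fun hk y => Subgroup.mem_center_iff.mp (hτ.2.1 hk) y, fun {k} hk => by
    have := pow_card_eq_one' (G := τ.ker) (x := ⟨k, hk⟩)
    rw [h, sq] at this
    exact congrArg Subtype.val this⟩

theorem Double.mul_self_eq (D : Double τ) {a b : E} (h : τ a = τ b) : a * a = b * b := by
  obtain ⟨k, hk, rfl⟩ : ∃ k ∈ τ.ker, a = b * k :=
    ⟨b⁻¹ * a, by rw [MonoidHom.mem_ker, map_mul, map_inv, h, inv_mul_cancel],
      (mul_inv_cancel_left _ _).symm⟩
  rw [mul_assoc, ← mul_assoc k, ← D.comm hk b, mul_assoc, D.sq hk, mul_one]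

theorem Double.sqOne_of (D : Double τ) {a : E} (h : a * a = 1) : SqOne τ (τ a) :=
  fun _ hb => (D.mul_self_eq hb).trans h

theorem Double.sqOne_conj (D : Double τ) {x y g : G} (h : g * x = y * g) (hy : SqOne τ y) :
    SqOne τ x := by
  intro a ha
  obtain ⟨c, hc⟩ := D.surj g
  have h1 := hy (c * a * c⁻¹) (by rw [map_mul, map_mul, map_inv, hc, ha, h, mul_inv_cancel_right])
  rw [show c * a * c⁻¹ * (c * a * c⁻¹) = c * (a * a) * c⁻¹ by group, mul_inv_eq_one,
    mul_eq_left] at h1
  exact h1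

/-- the square of a lift -/
noncomputable def Double.q (D : Double τ) (x : G) : E := (D.surj x).choose * (D.surj x).choose

theorem Double.q_eq (D : Double τ) {x : G} {a : E} (h : τ a = x) : D.q x = a * a :=
  D.mul_self_eq ((D.surj x).choose_spec.trans h.symm)

theorem Double.sqOne_iff (D : Double τ) {x : G} : SqOne τ x ↔ D.q x = 1 :=
  ⟨fun h => h _ (D.surj x).choose_spec, fun h _ ha => (D.q_eq ha).symm.trans h⟩

theorem Double.q_mem_ker (D : Double τ) {x : G} (hx : x * x = 1) : D.q x ∈ τ.ker := by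
  rw [MonoidHom.mem_ker, Double.q, map_mul, (D.surj x).choose_spec, hx]

theorem Double.q_conj (D : Double τ) {x y g : G} (h : g * x = y * g) (hx : x * x = 1) :
    D.q y = D.q x := by
  obtain ⟨a, ha⟩ := D.surj x
  obtain ⟨c, hc⟩ := D.surj g
  rw [D.q_eq (a := c * a * c⁻¹) (by rw [map_mul, map_mul, map_inv, hc, ha, h, mul_inv_cancel_right]),
    D.q_eq ha, show c * a * c⁻¹ * (c * a * c⁻¹) = c * (a * a) * c⁻¹ by group,
    D.comm (show a * a ∈ τ.ker by rw [MonoidHom.mem_ker, map_mul, ha, hx]) c, mul_inv_cancel_right]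

/-- Squares of lifts form a quadratic form on commuting involutions. -/
theorem Double.q_seven (D : Double τ) {u v w : G} (hu : u * u = 1) (hv : v * v = 1)
    (hw : w * w = 1) (huv : v * u = u * v) (huw : w * u = u * w) (hvw : w * v = v * w) :
    D.q (u * v * w) = D.q (u * v) * D.q (u * w) * D.q (v * w) * (D.q u * D.q v * D.q w) := by
  obtain ⟨U, rfl⟩ := D.surj u
  obtain ⟨V, rfl⟩ := D.surj v
  obtain ⟨W, rfl⟩ := D.surj w
  obtain ⟨c1, h1, e1⟩ : ∃ c ∈ τ.ker, V * U = U * V * c :=
    ⟨(U * V)⁻¹ * (V * U), by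
      rw [MonoidHom.mem_ker, map_mul, map_inv, map_mul, map_mul, huv, inv_mul_cancel],
      (mul_inv_cancel_left _ _).symm⟩
  obtain ⟨c2, h2, e2⟩ : ∃ c ∈ τ.ker, W * U = U * W * c :=
    ⟨(U * W)⁻¹ * (W * U), by
      rw [MonoidHom.mem_ker, map_mul, map_inv, map_mul, map_mul, huw, inv_mul_cancel],
      (mul_inv_cancel_left _ _).symm⟩
  obtain ⟨c3, h3, e3⟩ : ∃ c ∈ τ.ker, W * V = V * W * c :=
    ⟨(V * W)⁻¹ * (W * V), by
      rw [MonoidHom.mem_ker, map_mul, map_inv, map_mul, map_mul, hvw, inv_mul_cancel],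
      (mul_inv_cancel_left _ _).symm⟩
  have kU : U * U ∈ τ.ker := by rw [MonoidHom.mem_ker, map_mul, hu]
  have kV : V * V ∈ τ.ker := by rw [MonoidHom.mem_ker, map_mul, hv]
  have kW : W * W ∈ τ.ker := by rw [MonoidHom.mem_ker, map_mul, hw]
  set a := U * U with ha
  set b := V * V with hb
  set c := W * W with hc
  have mv : ∀ {k}, k ∈ τ.ker → ∀ X, k * X = X * k := fun hk X => (D.comm hk X).symm
  have sw : ∀ {k}, k ∈ τ.ker → ∀ X Y, k * (X * Y) = X * (k * Y) := fun hk X Y => by
    rw [← mul_assoc, mv hk X, mul_assoc]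
  have p1 : U * V * (U * V) = c1 * (a * b) := by
    rw [show U * V * (U * V) = U * (V * U) * V by group, e1,
      show U * (U * V * c1) * V = U * U * V * (c1 * V) by group, mv h1 V,
      show U * U * V * (V * c1) = a * b * c1 by rw [ha, hb]; group, ← mv h1]
  have p2 : U * W * (U * W) = c2 * (a * c) := by
    rw [show U * W * (U * W) = U * (W * U) * W by group, e2,
      show U * (U * W * c2) * W = U * U * W * (c2 * W) by group, mv h2 W,
      show U * U * W * (W * c2) = a * c * c2 by rw [ha, hc]; group, ← mv h2]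
  have p3 : V * W * (V * W) = c3 * (b * c) := by
    rw [show V * W * (V * W) = V * (W * V) * W by group, e3,
      show V * (V * W * c3) * W = V * V * W * (c3 * W) by group, mv h3 W,
      show V * V * W * (W * c3) = b * c * c3 by rw [hb, hc]; group, ← mv h3]
  have p0 : U * V * W * (U * V * W) = c2 * (c1 * (c3 * (a * (b * c)))) := by
    rw [show U * V * W * (U * V * W) = U * V * (W * U) * (V * W) by group, e2,
      show U * V * (U * W * c2) * (V * W) = U * (V * U) * W * (c2 * (V * W)) by group, e1,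
      show U * (U * V * c1) * W * (c2 * (V * W)) = U * U * V * (c1 * (W * (c2 * (V * W)))) by group,
      sw h2 V, mv h2 W, show c1 * (W * (V * (W * c2))) = c1 * (W * V * W * c2) by group, e3,
      show c1 * (V * W * c3 * W * c2) = c1 * (V * W * (c3 * W) * c2) by group, mv h3 W,
      show U * U * V * (c1 * (V * W * (W * c3) * c2)) = U * U * V * c1 * V * W * W * c3 * c2 by group,
      show U * U * V * c1 * V * W * W * c3 * c2 = U * U * V * (c1 * (V * W * W)) * c3 * c2 by group,
      mv h1 (V * W * W),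
      show U * U * V * (V * W * W * c1) * c3 * c2 = a * (b * c) * c1 * c3 * c2 by
        rw [ha, hb, hc]; group]
    rw [← mv h2, mul_assoc (a * (b * c)) c1 c3, ← mv (mul_mem h1 h3), mul_assoc c1 c3]
  rw [D.q_eq (a := U * V * W) (by rw [map_mul, map_mul]), D.q_eq (a := U * V) (map_mul _ _ _),
    D.q_eq (a := U * W) (map_mul _ _ _), D.q_eq (a := V * W) (map_mul _ _ _), D.q_eq (a := U) rfl,
    D.q_eq (a := V) rfl, D.q_eq (a := W) rfl, ← ha, ← hb, ← hc, p0, p1, p2, p3]
  -- all factors lie in a commutative group of exponent two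
  let K := τ.ker
  letI : CommGroup K := { (inferInstance : Group K) with mul_comm := fun x y => Subtype.ext (D.comm y.2 x) }
  have key : ∀ x y z p q r : K, q * (p * (r * (x * (y * z)))) =
      p * (x * y) * (q * (x * z)) * (r * (y * z)) * (x * y * z) := by
    intro x y z p q r
    have hs : ∀ t : K, t * t = 1 := fun t => Subtype.ext (D.sq t.2)
    calc q * (p * (r * (x * (y * z)))) = p * q * r * (x * y * z) := by ac_rfl
      _ = p * q * r * (x * y * z) * ((x * x) * (y * y) * (z * z)) := by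
        rw [hs x, hs y, hs z, one_mul, one_mul, mul_one]
      _ = _ := by ac_rfl
  exact congrArg Subtype.val (key ⟨a, kU⟩ ⟨b, kV⟩ ⟨c, kW⟩ ⟨c1, h1⟩ ⟨c2, h2⟩ ⟨c3, h3⟩)

theorem map_phi {H : Type*} [Group H] (T : Tab) (f : E →* H) (g : ℕ → E) :
    ∀ t, f (T.phi g t) = T.phi (fun j => f (g j)) t := by
  intro t
  induction t using Nat.strong_induction_on with
  | _ t ih =>
    by_cases h : 0 < t ∧ (T.tree.getD (t - 1) (0, 0)).2 < t
    · conv_lhs => rw [Tab.phi, if_pos h, map_mul, ih _ h.2]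
      conv_rhs => rw [Tab.phi, if_pos h]
    · conv_lhs => rw [Tab.phi, if_neg h, map_one]
      conv_rhs => rw [Tab.phi, if_neg h]

/-- Relators of the two admissible kinds. -/
def WordOK (P : G → Prop) (O : List ℕ) (g : ℕ → G) (w : List ℕ) : Prop :=
  (∃ v, w = v ++ v ∧ P ((v.map g).prod)) ∨ ∃ j ∈ O, w = [0, j, 0, j, 0, j]

theorem prod_word_eq_one {P : G → Prop} (hP : ∀ x, P x → x * x = 1) {O : List ℕ} {g : ℕ → G}
    (hO : ∀ j ∈ O, (g 0 * g j) ^ 3 = 1) {w : List ℕ} (hw : WordOK P O g w) : (w.map g).prod = 1 := by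
  rcases hw with ⟨v, rfl, hv⟩ | ⟨j, hj, rfl⟩
  · rw [List.map_append, List.prod_append]; exact hP _ hv
  · rw [← hO j hj]; simp [pow_succ, mul_assoc]

/-- A certified table splits the preimage of the generated subgroup, so there is no stem double cover. -/
theorem no_double {G E : Type u} [Group G] [Group E] [Finite E] [Finite G] {τ : E →* G}
    (hτ : Cfsg.IsStemExtension τ) (h2 : Nat.card τ.ker = 2) (T : Tab) (O : List ℕ) (g : ℕ → G)
    (hok : T.ok = true) (hgen : ∀ j, j < T.k → g j * g j = 1 ∧ SqOne τ (g j))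
    (hw : ∀ w ∈ T.words, WordOK (fun x => x * x = 1 ∧ SqOne τ x) O g w)
    (hO : ∀ j ∈ O, j ≠ 0 ∧ (g 0 * g j) ^ 3 = 1)
    (hinj : ∀ i i', i < T.N → i' < T.N → T.phi g i = T.phi g i' → i = i')
    (hodd : ∀ m, T.N * m = Nat.card G → ¬ 2 ∣ m) : False := by
  classical
  have D := double_of_card_two hτ h2
  choose L hL using fun j => D.surj (g j)
  have hO3 : ∀ j ∈ O, (L 0 * L j) ^ 3 ∈ τ.ker := fun j hj => by
    rw [MonoidHom.mem_ker, map_pow, map_mul, hL, hL, (hO j hj).2]
  let G' : ℕ → E := fun j => if j ∈ O then L j * (L 0 * L j) ^ 3 else L j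
  have hG' : ∀ j, τ (G' j) = g j := fun j => by
    simp only [G']
    split_ifs with h
    · rw [map_mul, MonoidHom.mem_ker.mp (hO3 j h), mul_one, hL]
    · exact hL j
  have hsq : ∀ j, j < T.k → G' j * G' j = 1 := fun j hj => (hgen j hj).2 _ (hG' j)
  have hG0 : G' 0 = L 0 := by
    simp only [G']; rw [if_neg fun h => (hO 0 h).1 rfl]
  have hwE : ∀ w ∈ T.words, (w.map G').prod = 1 := fun w hwm => by
    rcases hw w hwm with ⟨v, rfl, -, hv⟩ | ⟨j, hj, rfl⟩
    · rw [List.map_append, List.prod_append]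
      refine hv _ ?_
      rw [map_list_prod, List.map_map]
      congr 1
      exact List.map_congr_left fun a _ => hG' a
    · have e : G' j = L j * (L 0 * L j) ^ 3 := if_pos hj
      simp only [List.map_cons, List.map_nil, List.prod_cons, List.prod_nil, mul_one, e, hG0]
      set d := (L 0 * L j) ^ 3 with hd
      have hc : Commute (L 0 * L j) d := D.comm (hO3 j hj) _
      calc L 0 * (L j * d * (L 0 * (L j * d * (L 0 * (L j * d)))))
          = ((L 0 * L j) * d) ^ 3 := by rw [pow_succ, pow_succ, pow_one]; group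
        _ = d * d ^ 3 := by rw [hc.mul_pow]
        _ = (d * d) * (d * d) := by rw [pow_succ, pow_succ, pow_one]; group
        _ = 1 := by rw [D.sq (hO3 j hj), one_mul]
  have hgG : ∀ j, j < T.k → g j * g j = 1 := fun j hj => (hgen j hj).1
  have hwG : ∀ w ∈ T.words, (w.map g).prod = 1 := fun w hwm =>
    prod_word_eq_one (fun _ h => h.1) (fun j hj => (hO j hj).2) (hw w hwm)
  set U : Subgroup G := Subgroup.closure {e | ∃ j, j < T.k ∧ e = g j} with hU
  set W : Subgroup E := Subgroup.closure {e | ∃ j, j < T.k ∧ e = G' j} with hW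
  have hphi : ∀ t, τ (T.phi G' t) = T.phi g t := fun t => by
    rw [map_phi, show (fun j => τ (G' j)) = g from funext hG']
  have hN : 0 < T.N := by
    simp only [Tab.ok, Bool.and_eq_true, decide_eq_true_eq] at hok
    exact hok.1.1.1
  have hmap : W.map τ = U := by
    rw [hW, hU, MonoidHom.map_closure]
    congr 1
    ext e
    constructor
    · rintro ⟨_, ⟨j, hj, rfl⟩, rfl⟩; exact ⟨j, hj, hG' j⟩
    · rintro ⟨j, hj, rfl⟩; exact ⟨_, ⟨j, hj, rfl⟩, hG' j⟩
  have hinter : ∀ z ∈ W, τ z = 1 → z = 1 := fun z hz h1 => by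
    obtain ⟨i, hi, rfl⟩ := Tab.exists_eq_phi hok hsq hwE hz
    rw [hphi, ← Tab.phi_zero T g] at h1
    rw [hinj i 0 hi hN h1, Tab.phi_zero]
  have hcardU : Nat.card U = T.N := by
    have hmem : ∀ i, i < T.N → T.phi g i ∈ U := by
      intro i hi
      induction i using Nat.strong_induction_on with
      | _ i ih =>
        rw [Tab.phi]
        split_ifs with h
        · refine mul_mem (Subgroup.subset_closure ⟨_, ?_, rfl⟩) (ih _ h.2 (h.2.trans hi))
          have hlen : T.tree.length + 1 = T.N ∧ T.treeKnown T.tree 1 0 ≠ none := by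
            simp only [Tab.ok, Bool.and_eq_true, decide_eq_true_eq] at hok
            refine ⟨hok.1.2, fun e => ?_⟩
            rw [e] at hok; simp at hok
          have hall : ∀ (l : List (ℕ × ℕ)) (t K : ℕ), T.treeKnown l t K ≠ none →
              ∀ p ∈ l, p.1 < T.k := by
            intro l
            induction l with
            | nil => simp
            | cons p l ihl =>
              obtain ⟨a, b⟩ := p
              intro t K h q hq
              rw [Tab.treeKnown] at h
              split_ifs at h with hc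
              · simp only [Bool.and_eq_true, decide_eq_true_eq] at hc
                rcases List.mem_cons.1 hq with rfl | hq
                · exact hc.1.1.1.1
                · exact ihl _ _ h q hq
              · exact absurd rfl h
          refine hall _ _ _ hlen.2 _ ?_
          rw [List.getD_eq_getElem?_getD, List.getElem?_eq_getElem (by omega)]
          exact List.getElem_mem _
        · exact one_mem U
    have hbij : Function.Bijective fun i : Fin T.N => (⟨T.phi g i, hmem i i.2⟩ : U) := by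
      constructor
      · intro a b h
        exact Fin.ext (hinj _ _ a.2 b.2 (congrArg Subtype.val h))
      · rintro ⟨x, hx⟩
        obtain ⟨i, hi, rfl⟩ := Tab.exists_eq_phi hok hgG hwG hx
        exact ⟨⟨i, hi⟩, rfl⟩
    rw [← Nat.card_congr (Equiv.ofBijective _ hbij), Nat.card_fin]
  have hindex : ¬ 2 ∣ U.index :=
    hodd _ (by rw [← hcardU, Subgroup.card_mul_index])
  obtain ⟨⟨z, hzk⟩, hz⟩ := exists_prime_orderOf_dvd_card' (p := 2) (G := τ.ker) (by rw [h2])
  rw [Subgroup.orderOf_mk] at hz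
  have hmem := mem_commutator_preimage (a := 1) hτ.1 Nat.prime_two hzk (hτ.2.1 hzk) (hτ.2.2 hzk)
    (by rw [pow_one, ← hz, pow_orderOf_eq_one]) U hindex
  have hle : ⁅U.comap τ, U.comap τ⁆ ≤ W := by
    rw [Subgroup.commutator_le]
    intro x hx y hy
    rw [Subgroup.mem_comap, ← hmap] at hx hy
    obtain ⟨a, ha, hax⟩ := hx
    obtain ⟨b, hb, hby⟩ := hy
    rw [commutatorElement_congr τ hτ.2.1 hax.symm hby.symm, commutatorElement_def]
    exact mul_mem (mul_mem (mul_mem ha hb) (inv_mem ha)) (inv_mem hb)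
  rw [hinter z (hle hmem) (MonoidHom.mem_ker.mp hzk), orderOf_one] at hz
  exact absurd hz (by norm_num)

end CfsgLib.Schur.InvolLift
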