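import Mathlib
import Cfsg.Agent.Lib.Schur.InvolutionLift

/-!
A criterion for a multiplier of order at most two.
-/

set_option autoImplicit false
set_option linter.style.haveILetI false

open scoped commutatorElement

namespace CfsgLib.Schur.InvolLift

universe u

variable {G : Type u} [Group G]

/-- Dividing by a part of the kernel keeps a stem extension. -/
theorem stem_quotient {Γ : Type u} [Group Γ] {σ : Γ →* G} (hσ : Cfsg.IsStemExtension σ)
    (K : Subgroup Γ) [K.Normal] (hK : K ≤ σ.ker) :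
    Cfsg.IsStemExtension (QuotientGroup.lift K σ hK) ∧
      Nat.card (QuotientGroup.lift K σ hK).ker * Nat.card K = Nat.card σ.ker := by
  set τ := QuotientGroup.lift K σ hK
  have hker : τ.ker = σ.ker.map (QuotientGroup.mk' K) := by
    refine le_antisymm (fun q hq => ?_) ?_
    · obtain ⟨x, rfl⟩ := QuotientGroup.mk'_surjective K q
      exact ⟨x, MonoidHom.mem_ker.mp hq, rfl⟩
    · rintro _ ⟨x, hx, rfl⟩
      exact MonoidHom.mem_ker.mpr hx
  refine ⟨⟨fun g => ?_, ?_, ?_⟩, ?_⟩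
  · obtain ⟨a, ha⟩ := hσ.1 g
    exact ⟨a, ha⟩
  · rw [hker]
    rintro _ ⟨a, ha, rfl⟩
    rw [Subgroup.mem_center_iff]
    intro q
    obtain ⟨b, rfl⟩ := QuotientGroup.mk'_surjective K q
    rw [← map_mul, Subgroup.mem_center_iff.mp (hσ.2.1 ha) b, map_mul]
  · rw [hker]
    refine (Subgroup.map_mono hσ.2.2).trans ?_
    rw [commutator_def, Subgroup.map_commutator]
    exact Subgroup.commutator_mono le_top le_top
  · rw [hker]
    have := Subgroup.card_eq_card_quotient_mul_card_subgroup (K.subgroupOf σ.ker)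
    rw [Nat.card_congr (Subgroup.subgroupOfEquivOfLe hK).toEquiv] at this
    rw [this]
    congr 1
    refine Nat.card_congr ((Equiv.ofBijective (fun x : σ.ker ⧸ K.subgroupOf σ.ker =>
      (⟨QuotientGroup.lift (K.subgroupOf σ.ker) ((QuotientGroup.mk' K).comp σ.ker.subtype)
        (fun a ha => MonoidHom.mem_ker.mpr ((QuotientGroup.eq_one_iff (a : Γ)).2 ha)) x, by
        obtain ⟨a, rfl⟩ := QuotientGroup.mk_surjective x
        exact ⟨a, a.2, rfl⟩⟩ : σ.ker.map (QuotientGroup.mk' K))) ⟨?_, ?_⟩).symm)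
    · intro x y h
      obtain ⟨a, rfl⟩ := QuotientGroup.mk_surjective x
      obtain ⟨b, rfl⟩ := QuotientGroup.mk_surjective y
      have h' : ((a : Γ) : Γ ⧸ K) = (b : Γ) := congrArg Subtype.val h
      rw [QuotientGroup.eq] at h' ⊢
      exact h'
    · rintro ⟨_, a, ha, rfl⟩
      exact ⟨QuotientGroup.mk ⟨a, ha⟩, rfl⟩

/-- A kernel of order four has an element of order two whose quotient makes the lifts of `a`
involutions, as soon as `a` has a four-group of conjugates. -/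
theorem sq_lift_of_four {E : Type u} [Group E] [Finite E] {τ : E →* G}
    (hτ : Cfsg.IsStemExtension τ) (h4 : Nat.card τ.ker = 4) {a u v g₁ g₂ g₃ : G} (ha : a * a = 1)
    (huv : v * u = u * v) (h1 : g₁ * u = a * g₁) (h2 : g₂ * v = a * g₂)
    (h3 : g₃ * (u * v) = a * g₃) {A : E} (hA : τ A = a) : (A * A) * (A * A) = 1 := by
  have hcen : ∀ {k}, k ∈ τ.ker → ∀ y, y * k = k * y := fun hk y =>
    Subgroup.mem_center_iff.mp (hτ.2.1 hk) y
  have hk4 : ∀ {k}, k ∈ τ.ker → k ^ 4 = 1 := fun {k} hk => by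
    have := pow_card_eq_one' (G := τ.ker) (x := ⟨k, hk⟩)
    rw [h4] at this
    exact congrArg Subtype.val this
  have hq : A * A ∈ τ.ker := by rw [MonoidHom.mem_ker, map_mul, hA, ha]
  have lift : ∀ {g x : G}, g * x = a * g → ∀ X, τ X = x → ∃ k ∈ τ.ker, X * X = A * A * (k * k) := by
    intro g x h X hX
    obtain ⟨C, rfl⟩ := hτ.1 g
    obtain ⟨k, hk, he⟩ : ∃ k ∈ τ.ker, C * X * C⁻¹ = A * k :=
      ⟨A⁻¹ * (C * X * C⁻¹), by
        rw [MonoidHom.mem_ker, map_mul, map_inv, map_mul, map_mul, map_inv, hA, hX, h,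
          mul_inv_cancel_right, inv_mul_cancel], (mul_inv_cancel_left _ _).symm⟩
    refine ⟨k, hk, ?_⟩
    have h2 : C * (X * X) * C⁻¹ = A * A * (k * k) := by
      rw [show C * (X * X) * C⁻¹ = C * X * C⁻¹ * (C * X * C⁻¹) by group, he,
        show A * k * (A * k) = A * (k * A) * k by group, ← hcen hk A]
      group
    have hm : A * A * (k * k) ∈ τ.ker := mul_mem hq (mul_mem hk hk)
    calc X * X = C⁻¹ * (A * A * (k * k)) * C := by rw [← h2]; group
      _ = A * A * (k * k) := by rw [mul_assoc, ← hcen hm C, inv_mul_cancel_left]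
  obtain ⟨U, rfl⟩ := hτ.1 u
  obtain ⟨V, rfl⟩ := hτ.1 v
  obtain ⟨k₁, hk1, e1⟩ := lift h1 U rfl
  obtain ⟨k₂, hk2, e2⟩ := lift h2 V rfl
  obtain ⟨k₃, hk3, e3⟩ := lift h3 (U * V) (map_mul _ _ _)
  obtain ⟨c, hc, ec⟩ : ∃ c ∈ τ.ker, V * U = U * V * c :=
    ⟨(U * V)⁻¹ * (V * U), by
      rw [MonoidHom.mem_ker, map_mul, map_inv, map_mul, map_mul, huv, inv_mul_cancel],
      (mul_inv_cancel_left _ _).symm⟩
  have hc2 : c * c = 1 := by
    have hUU : U * U ∈ τ.ker := by rw [e1]; exact mul_mem hq (mul_mem hk1 hk1)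
    have h : V * (U * U) * V⁻¹ = U * U * (c * c) := by
      rw [show V * (U * U) * V⁻¹ = V * U * V⁻¹ * (V * U * V⁻¹) by group, ec,
        show U * V * c * V⁻¹ = U * (V * c) * V⁻¹ by group, hcen hc V,
        show U * (c * V) * V⁻¹ * (U * (c * V) * V⁻¹) = U * (c * U) * c by group, ← hcen hc U]
      group
    rw [hcen hUU V, mul_inv_cancel_right] at h
    exact left_eq_mul.mp h
  have e : U * V * (U * V) = c * ((U * U) * (V * V)) := by
    rw [show U * V * (U * V) = U * (V * U) * V by group, ec,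
      show U * (U * V * c) * V = U * U * V * (c * V) by group, ← hcen hc V,
      show U * U * V * (V * c) = (U * U) * (V * V) * c by group, hcen hc]
  rw [e1, e2, e3] at e
  let K := τ.ker
  letI : CommGroup K :=
    { (inferInstance : Group K) with mul_comm := fun x y => Subtype.ext (hcen y.2 x) }
  have key : ∀ q c k₁ k₂ k₃ : K, c * c = 1 → q * (k₃ * k₃) = c * (q * (k₁ * k₁) * (q * (k₂ * k₂))) →
      q * q = 1 := by
    intro q c k₁ k₂ k₃ hc h
    have hx : ∀ x : K, x * x * (x * x) = 1 := fun x => Subtype.ext (by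
      have := hk4 x.2
      rw [pow_succ, pow_succ, pow_two] at this
      simpa [mul_assoc] using this)
    have h' := congrArg (fun t => t * t) h
    -- both sides squared
    have l : q * (k₃ * k₃) * (q * (k₃ * k₃)) = q * q := by
      rw [show q * (k₃ * k₃) * (q * (k₃ * k₃)) = q * q * (k₃ * k₃ * (k₃ * k₃)) by ac_rfl, hx, mul_one]
    have r : c * (q * (k₁ * k₁) * (q * (k₂ * k₂))) * (c * (q * (k₁ * k₁) * (q * (k₂ * k₂)))) = 1 := by
      rw [show c * (q * (k₁ * k₁) * (q * (k₂ * k₂))) * (c * (q * (k₁ * k₁) * (q * (k₂ * k₂)))) =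
        c * c * (q * q * (q * q)) * (k₁ * k₁ * (k₁ * k₁)) * (k₂ * k₂ * (k₂ * k₂)) by ac_rfl,
        hc, hx, hx, hx]
      simp
    rw [l, r] at h'
    exact h'
  exact congrArg Subtype.val (key ⟨_, hq⟩ ⟨c, hc⟩ ⟨k₁, hk1⟩ ⟨k₂, hk2⟩ ⟨k₃, hk3⟩ (Subtype.ext hc2)
    (Subtype.ext e))

/-- At most two: odd primes by local arguments, the prime two by double covers trivial on one class. -/
theorem card_ker_le_two [Finite G]
    (hodd : ∀ ℓ : ℕ, ℓ.Prime → ℓ ≠ 2 → ∃ U : Subgroup G, ¬ ℓ ∣ U.index ∧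
      ∀ (Γ : Type u) [Group Γ] [Finite Γ] (σ : Γ →* G), Function.Surjective σ →
        σ.ker ≤ Subgroup.center Γ → ∀ z ∈ σ.ker, z ∈ ⁅U.comap σ, U.comap σ⁆ → z ^ ℓ = 1 → z = 1)
    {a u v g₁ g₂ g₃ : G} (ha : a * a = 1) (huv : v * u = u * v) (h1 : g₁ * u = a * g₁)
    (h2 : g₂ * v = a * g₂) (h3 : g₃ * (u * v) = a * g₃)
    (hbase : ∀ (E : Type u) [Group E] [Finite E] (τ : E →* G), Cfsg.IsStemExtension τ →
      Nat.card τ.ker = 2 → SqOne τ a → False)
    {Γ : Type u} [Group Γ] [Finite Γ] {σ : Γ →* G} (hσ : Cfsg.IsStemExtension σ) :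
    Nat.card σ.ker ∣ 2 := by
  have hnormal : ∀ {Δ : Type u} [Group Δ] {τ : Δ →* G}, Cfsg.IsStemExtension τ → ∀ K : Subgroup Δ,
      K ≤ τ.ker → K.Normal := fun hτ K hK => ⟨fun x hx y => by
    rw [Subgroup.mem_center_iff.mp (hτ.2.1 (hK hx)) y, mul_inv_cancel_right]; exact hx⟩
  have htwo : ∀ ℓ : ℕ, ℓ.Prime → ℓ ∣ Nat.card σ.ker → ℓ = 2 := by
    intro ℓ hℓ hdvd
    by_contra h2'
    haveI := Fact.mk hℓ
    obtain ⟨⟨z, hzk⟩, hz⟩ := exists_prime_orderOf_dvd_card' ℓ hdvd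
    rw [Subgroup.orderOf_mk] at hz
    obtain ⟨U, hU, hUc⟩ := hodd ℓ hℓ h2'
    have hmem := mem_commutator_preimage (a := 1) hσ.1 hℓ hzk (hσ.2.1 hzk) (hσ.2.2 hzk)
      (by rw [pow_one, ← hz, pow_orderOf_eq_one]) U hU
    rw [hUc Γ σ hσ.1 hσ.2.1 z hzk hmem (by rw [← hz, pow_orderOf_eq_one]), orderOf_one] at hz
    exact hℓ.ne_one hz.symm
  have hpos : Nat.card σ.ker ≠ 0 := Nat.card_pos.ne'
  set n := (Nat.card σ.ker).primeFactorsList.length
  have hn : Nat.card σ.ker = 2 ^ n :=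
    Nat.eq_prime_pow_of_unique_prime_dvd hpos fun hd hp => htwo _ hd hp
  rcases Nat.lt_or_ge n 2 with hlt | hge
  · rw [hn]
    exact (pow_dvd_pow 2 (by omega : n ≤ 1)).trans (by norm_num)
  exfalso
  haveI : Fact (Nat.Prime 2) := ⟨Nat.prime_two⟩
  obtain ⟨M, hM⟩ := Sylow.exists_subgroup_card_pow_prime 2 (G := σ.ker) (n := n - 2)
    (by rw [hn]; exact pow_dvd_pow 2 (by omega))
  let K : Subgroup Γ := M.map σ.ker.subtype
  have hK : K ≤ σ.ker := Subgroup.map_subtype_le _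
  haveI := hnormal hσ K hK
  obtain ⟨hτ, hcard⟩ := stem_quotient hσ K hK
  set τ := QuotientGroup.lift K σ hK
  rw [Subgroup.card_map_of_injective σ.ker.subtype_injective, hM, hn,
    show (2 : ℕ) ^ n = 4 * 2 ^ (n - 2) by
      rw [show (4 : ℕ) = 2 ^ 2 from rfl, ← pow_add]; congr 1; omega] at hcard
  have h4 : Nat.card τ.ker = 4 := Nat.eq_of_mul_eq_mul_right (by positivity) hcard
  obtain ⟨A, hA⟩ := hτ.1 a
  have hqq := sq_lift_of_four hτ h4 ha huv h1 h2 h3 hA
  obtain ⟨w, hw, hwo, hwA⟩ : ∃ w ∈ τ.ker, orderOf w = 2 ∧ A * A ∈ Subgroup.zpowers w := by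
    have hq : A * A ∈ τ.ker := by rw [MonoidHom.mem_ker, map_mul, hA, ha]
    by_cases h : A * A = 1
    · obtain ⟨⟨w, hw⟩, hwo⟩ := exists_prime_orderOf_dvd_card' (G := τ.ker) 2 (by rw [h4]; norm_num)
      rw [Subgroup.orderOf_mk] at hwo
      exact ⟨w, hw, hwo, by rw [h]; exact one_mem _⟩
    · exact ⟨A * A, hq, orderOf_eq_prime (by rw [sq]; exact hqq) h, Subgroup.mem_zpowers _⟩
  have hwle : Subgroup.zpowers w ≤ τ.ker := Subgroup.zpowers_le.2 hw
  haveI := hnormal hτ _ hwle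
  obtain ⟨hτ', hcard'⟩ := stem_quotient hτ _ hwle
  rw [h4, Nat.card_zpowers, hwo] at hcard'
  refine hbase _ _ hτ' (by omega) fun b hb => ?_
  have D := double_of_card_two hτ' (by omega)
  rw [D.mul_self_eq (b := QuotientGroup.mk A) (hb.trans hA.symm), ← QuotientGroup.mk_mul,
    QuotientGroup.eq_one_iff]
  exact hwA

end CfsgLib.Schur.InvolLift
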