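import Mathlib
import Cfsg.Agent.Lib.Schur.SmallSylow

/-!
Two elements of order three whose commutator is central generate at least twenty-seven elements.
-/

set_option autoImplicit false
set_option linter.style.haveILetI false

open scoped commutatorElement

namespace CfsgLib.Schur

variable {G : Type*} [Group G] [Finite G]

theorem three_pow_three_dvd_closure {x y : G} (hx : x ^ 3 = 1) (hy : y ^ 3 = 1)
    (hcx : x * ⁅x, y⁆ = ⁅x, y⁆ * x) (hcy : y * ⁅x, y⁆ = ⁅x, y⁆ * y) (hc3 : ⁅x, y⁆ ^ 3 = 1)
    (hne : ⁅x, y⁆ ≠ 1) : 3 ^ 3 ∣ Nat.card (Subgroup.closure ({x, y} : Set G)) := by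
  haveI : Fact (Nat.Prime 3) := ⟨Nat.prime_three⟩
  set c := ⁅x, y⁆ with hcdef
  have hynot : y ∉ Subgroup.zpowers c := fun hm => by
    obtain ⟨i, hi⟩ := Subgroup.mem_zpowers_iff.mp hm
    refine hne ?_
    have : x * y = y * x := by rw [← hi]; exact ((show Commute x c from hcx).zpow_right i).eq
    rw [hcdef, commutatorElement_eq_one_iff_mul_comm]; exact this
  have hd := CfsgLib.Schur.pow_succ_dvd_card_closure_pair (p := 3) (k := 1)
    (by rw [pow_one]; exact orderOf_eq_prime hc3 hne) hy
    (by rw [hcy, mul_inv_cancel_right]; exact Subgroup.mem_zpowers c) hynot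
  set A : Subgroup G := Subgroup.closure {c, y}
  have hxm : x ∈ Subgroup.closure ({x, y} : Set G) := Subgroup.subset_closure (Or.inl rfl)
  have hym : y ∈ Subgroup.closure ({x, y} : Set G) := Subgroup.subset_closure (Or.inr rfl)
  have hle : A ≤ Subgroup.closure {x, y} := by
    rw [Subgroup.closure_le]
    intro a ha
    rcases ha with ha | ha <;> rw [ha]
    · rw [hcdef, commutatorElement_def]
      exact mul_mem (mul_mem (mul_mem hxm hym) (inv_mem hxm)) (inv_mem hym)
    · exact hym
  have hxnot : x ∉ A := fun hm => by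
    refine hne ?_
    have : A ≤ Subgroup.centralizer {y} := by
      rw [Subgroup.closure_le]
      intro a ha
      rcases ha with ha | ha <;> rw [ha]
      · exact Subgroup.mem_centralizer_singleton_iff.2 hcy.symm
      · exact Subgroup.mem_centralizer_singleton_iff.2 rfl
    rw [hcdef, commutatorElement_eq_one_iff_mul_comm]
    exact Subgroup.mem_centralizer_singleton_iff.1 (this hm)
  have hA : IsPGroup 3 A := by
    have hA1 : IsPGroup 3 (Subgroup.zpowers c) :=
      IsPGroup.of_card (n := 1) (by rw [Nat.card_zpowers, pow_one, orderOf_eq_prime hc3 hne])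
    have hy1 : y ≠ 1 := fun e => hynot (e ▸ one_mem _)
    have hA2 : IsPGroup 3 (Subgroup.zpowers y) :=
      IsPGroup.of_card (n := 1) (by rw [Nat.card_zpowers, pow_one, orderOf_eq_prime hy hy1])
    have hn : Subgroup.zpowers y ≤ Subgroup.normalizer (Subgroup.zpowers c : Set G) := by
      rw [Subgroup.zpowers_le, Subgroup.mem_normalizer_iff_map_conj_eq, MonoidHom.map_zpowers]
      show Subgroup.zpowers (y * c * y⁻¹) = _
      rw [hcy, mul_inv_cancel_right]
    have := hA2.to_sup_of_normal_right' hA1 hn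
    rwa [sup_comm, Subgroup.zpowers_eq_closure, Subgroup.zpowers_eq_closure,
      ← Subgroup.closure_union, ← Set.insert_eq] at this
  have hxA : Subgroup.zpowers x ≤ Subgroup.normalizer (A : Set G) := by
    rw [Subgroup.zpowers_le, Subgroup.mem_normalizer_iff_map_conj_eq]
    refine Subgroup.eq_of_le_of_card_ge ?_ (le_of_eq
      (Subgroup.card_map_of_injective (MulAut.conj x).injective).symm)
    rw [MonoidHom.map_closure, Subgroup.closure_le]
    rintro _ ⟨a, ha, rfl⟩
    have hcA : c ∈ A := Subgroup.subset_closure (Or.inl rfl)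
    have hyA : y ∈ A := Subgroup.subset_closure (Or.inr rfl)
    rcases ha with ha | ha <;> rw [ha]
    · show x * c * x⁻¹ ∈ A
      rw [hcx, mul_inv_cancel_right]; exact hcA
    · show x * y * x⁻¹ ∈ A
      rw [show x * y * x⁻¹ = c * y by rw [hcdef, commutatorElement_def]; group]
      exact mul_mem hcA hyA
  have hx1 : x ≠ 1 := fun e => hxnot (e ▸ one_mem _)
  have hP : IsPGroup 3 (Subgroup.closure ({x, y} : Set G)) := by
    have h1 : IsPGroup 3 (Subgroup.zpowers x) :=
      IsPGroup.of_card (n := 1) (by rw [Nat.card_zpowers, pow_one, orderOf_eq_prime hx hx1])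
    refine (h1.to_sup_of_normal_right' hA hxA).to_le ?_
    rw [Subgroup.closure_le]
    intro a ha
    rcases ha with ha | ha
    · subst ha; exact Subgroup.mem_sup_left (Subgroup.mem_zpowers _)
    · subst ha; exact Subgroup.mem_sup_right (Subgroup.subset_closure (Or.inr rfl))
  obtain ⟨n, hn⟩ := IsPGroup.iff_card.mp hP
  have hlt : Nat.card A < 3 ^ n := by
    rw [← hn]
    refine lt_of_le_of_ne (Subgroup.card_le_of_le hle) fun h => hxnot ?_
    rw [Subgroup.eq_of_le_of_card_ge hle h.ge]
    exact hxm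
  rw [hn]
  refine pow_dvd_pow 3 ?_
  by_contra hcon
  have h9 : 3 ^ 2 ≤ Nat.card A := Nat.le_of_dvd Nat.card_pos hd
  have : (3 : ℕ) ^ n ≤ 3 ^ 2 := Nat.pow_le_pow_right (by norm_num) (by omega)
  omega

end CfsgLib.Schur
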