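import Mathlib
import Cfsg.Prelude.Def_KGroupFacts
import Cfsg.Agent.Lib.SL2.Torus
import Cfsg.Agent.Lib.SL2.Unipotent
import Cfsg.Agent.Lib.SL2.Facts
import Cfsg.Agent.Lib.Schur.Hopf
import Cfsg.Agent.Lib.Schur.SylowCriterion

/-!
The Schur multiplier of `SL(2, q)` is trivial for `q ≠ 4, 9`.
-/

set_option autoImplicit false
set_option linter.style.haveILetI false
set_option linter.unusedSectionVars false

open scoped commutatorElement MatrixGroups

namespace CfsgLib.Schur

universe u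

/-- An alternating biadditive map on `GF(q)`, `q ≠ 4, 9`, invariant under squares is zero. -/
theorem invariant_form_eq_zero {F : Type*} [Field F] [Fintype F] (h4 : Fintype.card F ≠ 4)
    (h9 : Fintype.card F ≠ 9) {K : Type*} [AddCommGroup K] (c : F →+ F →+ K)
    (halt : ∀ a, c a a = 0)
    (hinv : ∀ t : F, t ≠ 0 → ∀ a b, c (t * t * a) (t * t * b) = c a b) : c = 0 := by
  classical
  obtain ⟨p, _⟩ := CharP.exists F
  obtain ⟨n, hp, hn⟩ := FiniteField.card F p
  haveI := Fact.mk hp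
  letI : Algebra (ZMod p) F := ZMod.algebra F p
  have hfr : Module.finrank (ZMod p) F = n := by
    have h1 := Module.card_eq_pow_finrank (K := ZMod p) (V := F)
    rw [ZMod.card, hn] at h1
    exact (Nat.pow_right_injective hp.two_le h1).symm
  rcases Nat.lt_or_ge (n : ℕ) 2 with hn1 | hn2
  · -- the prime field
    have hn1' : (n : ℕ) = 1 := by
      have := n.pos
      omega
    have hall : ∀ a : F, ∃ m : ℕ, a = m • (1 : F) := fun a => by
      have hbij : Function.Bijective (algebraMap (ZMod p) F) := by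
        refine ⟨(algebraMap (ZMod p) F).injective, ?_⟩
        refine ((algebraMap (ZMod p) F).injective.bijective_of_nat_card_le ?_).2
        rw [Nat.card_eq_fintype_card, Nat.card_eq_fintype_card, ZMod.card, hn, hn1', pow_one]
      obtain ⟨x, rfl⟩ := hbij.2 a
      exact ⟨x.val, by rw [nsmul_one, ← map_natCast (algebraMap (ZMod p) F), ZMod.natCast_zmod_val]⟩
    refine AddMonoidHom.ext fun a => AddMonoidHom.ext fun b => ?_
    obtain ⟨i, rfl⟩ := hall a
    obtain ⟨j, rfl⟩ := hall b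
    rw [map_nsmul c i, AddMonoidHom.nsmul_apply, map_nsmul (c 1) j, halt, nsmul_zero, nsmul_zero]
    rfl
  obtain ⟨t, ht⟩ := IsCyclic.exists_generator (α := Fˣ)
  set lam : F := (t : F) * (t : F) with hlam
  have hlam0 : lam ≠ 0 := mul_ne_zero t.ne_zero t.ne_zero
  have hmove : ∀ (P : Polynomial ℤ) (a b : F),
      c (Polynomial.aeval lam P * a) b = c a (Polynomial.aeval lam⁻¹ P * b) := by
    intro P
    induction P using Polynomial.induction_on' with
    | add P R hP hR =>
      intro a b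
      rw [map_add, map_add, add_mul, add_mul, map_add, AddMonoidHom.add_apply, hP, hR, map_add]
    | monomial m z =>
      have hpow : ∀ (m : ℕ) (a b : F), c (lam ^ m * a) b = c a ((lam⁻¹) ^ m * b) := by
        intro m
        induction m with
        | zero => simp
        | succ m ih =>
          intro a b
          rw [pow_succ, mul_assoc (lam ^ m) lam a, ih, pow_succ' lam⁻¹ m,
            mul_assoc lam⁻¹ (lam⁻¹ ^ m) b]
          have := hinv t t.ne_zero a (lam⁻¹ * (lam⁻¹ ^ m * b))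
          rw [← hlam, mul_inv_cancel_left₀ hlam0] at this
          exact this
      intro a b
      rw [Polynomial.aeval_monomial, Polynomial.aeval_monomial, eq_intCast, mul_assoc, mul_assoc,
        ← zsmul_eq_mul, ← zsmul_eq_mul, map_zsmul, AddMonoidHom.zsmul_apply, hpow, map_zsmul]
  have hint : IsIntegral (ZMod p) lam := IsIntegral.of_finite _ _
  obtain ⟨P, hP⟩ := Polynomial.map_surjective (Int.castRingHom (ZMod p))
    (ZMod.ringHom_surjective (Int.castRingHom (ZMod p))) (minpoly (ZMod p) lam)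
  have haev : ∀ x : F, Polynomial.aeval x P = Polynomial.aeval x (minpoly (ZMod p) lam) := fun x => by
    rw [← hP, ← Polynomial.aeval_map_algebraMap (ZMod p) x P]
    congr 2
  by_cases hroot : Polynomial.aeval lam⁻¹ (minpoly (ZMod p) lam) = 0
  · exfalso
    obtain ⟨σ, hσ⟩ := minpoly.exists_algEquiv_of_root' (hint.isAlgebraic) hroot
    obtain ⟨i, rfl⟩ := (FiniteField.bijective_frobeniusAlgEquivOfAlgebraic_pow (ZMod p) F).2 σ
    have hi : (i : ℕ) < n := hfr ▸ i.2
    have hval : lam ^ p ^ (i : ℕ) = lam⁻¹ := by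
      rw [← hσ]
      simp only [AlgEquiv.coe_pow, FiniteField.coe_frobeniusAlgEquivOfAlgebraic_iterate, ZMod.card]
    have h1 : t ^ (2 * (p ^ (i : ℕ) + 1)) = 1 := by
      refine Units.ext ?_
      rw [Units.val_pow_eq_pow_val, Units.val_one, pow_mul, sq, ← hlam, pow_succ, hval,
        inv_mul_cancel₀ hlam0]
    have hord : orderOf t = p ^ (n : ℕ) - 1 := by
      rw [orderOf_eq_card_of_forall_mem_zpowers ht, Nat.card_units, Nat.card_eq_fintype_card, hn]
    have hdvd := orderOf_dvd_of_pow_eq_one h1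
    rw [hord] at hdvd
    have hle : p ^ (n : ℕ) - 1 ≤ 2 * (p ^ (i : ℕ) + 1) := Nat.le_of_dvd (by positivity) hdvd
    obtain ⟨k, hk⟩ : ∃ k, (n : ℕ) = k + 1 := ⟨n - 1, by omega⟩
    have hik : p ^ (i : ℕ) ≤ p ^ k := Nat.pow_le_pow_right hp.pos (by omega)
    rw [hk, pow_succ] at hle hdvd hn
    rcases Nat.lt_or_ge 3 p with hp3 | hp3
    · have h4' : p ^ k * 4 ≤ p ^ k * p := Nat.mul_le_mul_left _ hp3
      have h5 : 4 ≤ p ^ k := (Nat.succ_le_of_lt hp3).trans (Nat.le_self_pow (by omega) p)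
      omega
    have hp2 : 2 ≤ p := hp.two_le
    interval_cases p
    · -- characteristic two: the order of `t` is odd
      have hodd : Nat.Coprime (2 ^ k * 2 - 1) 2 := by
        rw [Nat.coprime_two_right, Nat.odd_iff]
        have := Nat.two_pow_pos k
        omega
      have hle2 : 2 ^ k * 2 - 1 ≤ 2 ^ (i : ℕ) + 1 :=
        Nat.le_of_dvd (by positivity) (hodd.dvd_of_dvd_mul_left hdvd)
      have h5 : 2 ≤ 2 ^ k := Nat.le_self_pow (by omega) 2
      omega
    · have h5 : 3 ≤ 3 ^ k := Nat.le_self_pow (by omega) 3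
      omega
  · refine AddMonoidHom.ext fun a => AddMonoidHom.ext fun b => ?_
    have h := hmove P a ((Polynomial.aeval lam⁻¹ P)⁻¹ * b)
    rw [haev lam, minpoly.aeval, zero_mul, map_zero, AddMonoidHom.zero_apply,
      mul_inv_cancel_left₀ (by rw [haev]; exact hroot)] at h
    exact h.symm

open CfsgLib.SL2 in
/-- Sylow subgroups of `SL(2, q)` in odd non-defining characteristic are cyclic. -/
theorem isCyclic_sylow_odd {F : Type*} [Field F] [Fintype F] (p ℓ : ℕ) [Fact p.Prime] [CharP F p]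
    [Fact ℓ.Prime] (hℓ : ℓ ≠ 2) (hℓp : ℓ ≠ p) (P : Sylow ℓ SL(2, F)) :
    IsCyclic (P : Subgroup SL(2, F)) := by
  by_cases hbot : (P : Subgroup SL(2, F)) = ⊥
  · rw [hbot]; infer_instance
  haveI : Nontrivial (P : Subgroup SL(2, F)) := (Subgroup.nontrivial_iff_ne_bot _).mpr hbot
  haveI := IsPGroup.center_nontrivial P.isPGroup'
  obtain ⟨g, hg⟩ := exists_ne (1 : Subgroup.center (P : Subgroup SL(2, F)))
  set x : SL(2, F) := ((g : (P : Subgroup SL(2, F))) : SL(2, F))
  have hx1 : x ≠ 1 := fun e => hg (Subtype.ext (Subtype.ext e))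
  have hreg : Regular x := by
    by_contra hn
    obtain ⟨j, hj⟩ := IsPGroup.iff_orderOf.mp P.isPGroup' (g : (P : Subgroup SL(2, F)))
    rw [← Subgroup.orderOf_coe] at hj
    have hd := orderOf_dvd_of_pow_eq_one (pow_two_mul_char_of_not_regular hn p)
    rw [hj] at hd
    have hcop : (ℓ ^ j).Coprime (2 * p) := Nat.Coprime.pow_left j (Nat.Coprime.mul_right
      ((Nat.coprime_primes (Fact.out : ℓ.Prime) Nat.prime_two).mpr hℓ)
      ((Nat.coprime_primes (Fact.out : ℓ.Prime) (Fact.out : p.Prime)).mpr hℓp))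
    rw [Nat.eq_one_of_dvd_coprimes hcop dvd_rfl hd, orderOf_eq_one_iff] at hj
    exact hx1 hj
  haveI := (cent_regular hreg).1
  have hle : (P : Subgroup SL(2, F)) ≤ cent x := fun y hy =>
    mem_cent_iff.mpr (congrArg Subtype.val (Subgroup.mem_center_iff.mp g.2 ⟨y, hy⟩)).symm
  exact isCyclic_of_injective (Subgroup.inclusion hle) (Subgroup.inclusion_injective hle)

theorem diag_mul_upper {F : Type*} [Field F] (t : F) (ht : t ≠ 0) :
    ∃ h : SL(2, F), ∀ a : F, h * CfsgLib.SL2.upperHom (Multiplicative.ofAdd a) * h⁻¹ =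
      CfsgLib.SL2.upperHom (Multiplicative.ofAdd (t * t * a)) := by
  obtain ⟨h, hh⟩ : ∃ h : SL(2, F), (h : Matrix (Fin 2) (Fin 2) F) = !![t, 0; 0, t⁻¹] :=
    ⟨⟨!![t, 0; 0, t⁻¹], by simp [Matrix.det_fin_two_of, ht]⟩, rfl⟩
  refine ⟨h, fun a => ?_⟩
  refine mul_inv_eq_iff_eq_mul.mpr ?_
  apply Subtype.ext
  rw [Matrix.SpecialLinearGroup.coe_mul, Matrix.SpecialLinearGroup.coe_mul,
    CfsgLib.SL2.upperHom_coe, CfsgLib.SL2.upperHom_coe, hh]
  ext i j
  fin_cases i <;> fin_cases j <;> simp [Matrix.mul_apply, Fin.sum_univ_two]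
  field_simp

/-- The kernel meets the derived subgroup of the preimage of the root group trivially. -/
theorem upper_preimage_commutator {F : Type u} [Field F] [Fintype F] (h4 : Fintype.card F ≠ 4)
    (h9 : Fintype.card F ≠ 9) {Γ : Type*} [Group Γ] (σ : Γ →* SL(2, F))
    (hσ : Function.Surjective σ) (hc : σ.ker ≤ Subgroup.center Γ) :
    ⁅(CfsgLib.SL2.upperHom (F := F)).range.comap σ,
      (CfsgLib.SL2.upperHom (F := F)).range.comap σ⁆ = ⊥ := by
  letI : CommGroup σ.ker :=
    { (inferInstance : Group σ.ker) with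
      mul_comm := fun a b => Subtype.ext (Subgroup.mem_center_iff.mp (hc b.2) a) }
  have hlift : ∀ a : F, ∃ x, σ x = CfsgLib.SL2.upperHom (Multiplicative.ofAdd a) := fun a => hσ _
  choose s hs using hlift
  have hmem : ∀ a b, ⁅s a, s b⁆ ∈ σ.ker := fun a b => by
    rw [MonoidHom.mem_ker, map_commutatorElement, hs, hs, commutatorElement_eq_one_iff_mul_comm]
    exact ((Commute.all (Multiplicative.ofAdd a) (Multiplicative.ofAdd b)).map
      CfsgLib.SL2.upperHom).eq
  have hl : ∀ a a' b, ⁅s (a + a'), s b⁆ = ⁅s a, s b⁆ * ⁅s a', s b⁆ := fun a a' b => by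
    rw [CfsgLib.Schur.commutatorElement_congr σ hc (a' := s a * s a') (b' := s b)
      (by rw [map_mul, hs, hs, hs, ← map_mul, ← ofAdd_add]) rfl,
      show ⁅s a * s a', s b⁆ = (s a * ⁅s a', s b⁆ * (s a)⁻¹) * ⁅s a, s b⁆ by
        simp only [commutatorElement_def]; group,
      Subgroup.mem_center_iff.mp (hc (hmem a' b)) (s a), mul_inv_cancel_right]
    exact Subgroup.mem_center_iff.mp (hc (hmem a b)) _
  have hr : ∀ a b b', ⁅s a, s (b + b')⁆ = ⁅s a, s b⁆ * ⁅s a, s b'⁆ := fun a b b' => by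
    rw [CfsgLib.Schur.commutatorElement_congr σ hc (a' := s a) (b' := s b * s b')
      rfl (by rw [map_mul, hs, hs, hs, ← map_mul, ← ofAdd_add]),
      show ⁅s a, s b * s b'⁆ = ⁅s a, s b⁆ * (s b * ⁅s a, s b'⁆ * (s b)⁻¹) by
        simp only [commutatorElement_def]; group,
      Subgroup.mem_center_iff.mp (hc (hmem a b')) (s b), mul_inv_cancel_right]
  let c : F →+ F →+ Additive σ.ker :=
    AddMonoidHom.mk' (fun a => AddMonoidHom.mk' (fun b => Additive.ofMul ⟨⁅s a, s b⁆, hmem a b⟩)
      (fun b b' => congrArg Additive.ofMul (Subtype.ext (hr a b b'))))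
      (fun a a' => AddMonoidHom.ext fun b => congrArg Additive.ofMul (Subtype.ext (hl a a' b)))
  have hzero : c = 0 := invariant_form_eq_zero h4 h9 c
    (fun a => congrArg Additive.ofMul (Subtype.ext (commutatorElement_self (s a))))
    (fun t ht a b => by
      obtain ⟨h, hh⟩ := diag_mul_upper t ht
      obtain ⟨w, hw⟩ := hσ h
      refine congrArg Additive.ofMul (Subtype.ext ?_)
      show ⁅s (t * t * a), s (t * t * b)⁆ = ⁅s a, s b⁆
      rw [CfsgLib.Schur.commutatorElement_congr σ hc (a' := w * s a * w⁻¹) (b' := w * s b * w⁻¹)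
        (by rw [map_mul, map_mul, map_inv, hw, hs, hs, hh])
        (by rw [map_mul, map_mul, map_inv, hw, hs, hs, hh]),
        show ⁅w * s a * w⁻¹, w * s b * w⁻¹⁆ = w * ⁅s a, s b⁆ * w⁻¹ by
          simp only [commutatorElement_def]; group,
        Subgroup.mem_center_iff.mp (hc (hmem a b)) w, mul_inv_cancel_right])
  rw [eq_bot_iff, Subgroup.commutator_le]
  rintro x ⟨a, ha⟩ y ⟨b, hb⟩
  rw [Subgroup.mem_bot, CfsgLib.Schur.commutatorElement_congr σ hc (a' := s a.toAdd) (b' := s b.toAdd)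
    (by rw [hs]; exact ha.symm) (by rw [hs]; exact hb.symm)]
  exact congrArg (fun z : Additive σ.ker => (z.toMul : Γ))
    (DFunLike.congr_fun (DFunLike.congr_fun hzero a.toAdd) b.toAdd)

theorem hasTrivialMultiplier_SL_two {F : Type u} [Field F] [Fintype F] (h4 : Fintype.card F ≠ 4)
    (h9 : Fintype.card F ≠ 9) :
    Cfsg.HasCyclicSchurMultiplier (Matrix.SpecialLinearGroup (Fin 2) F) 1 := by
  classical
  obtain ⟨p, _⟩ := CharP.exists F
  haveI : Fact p.Prime := ⟨CharP.char_is_prime F p⟩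
  refine trivial_multiplier_of_local fun ℓ hℓ => ?_
  haveI := Fact.mk hℓ
  by_cases hℓp : ℓ = p
  · subst hℓp
    obtain ⟨g, hg⟩ := CfsgLib.SL2.exists_conj_upperSL ℓ (default : Sylow ℓ SL(2, F))
    refine ⟨(CfsgLib.SL2.upperHom (F := F)).range, ?_, fun Γ _ _ σ hσ hc z hz hzd _ => ?_⟩
    · have h := (default : Sylow ℓ SL(2, F)).not_dvd_index
      rw [hg] at h
      rwa [show ((CfsgLib.SL2.upperHom (F := F)).range.map (MulAut.conj g).toMonoidHom).index =
        (CfsgLib.SL2.upperHom (F := F)).range.index from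
          Subgroup.index_map_equiv _ (MulAut.conj g)] at h
    · rw [upper_preimage_commutator h4 h9 σ hσ hc] at hzd
      exact Subgroup.mem_bot.mp hzd
  refine ⟨(default : Sylow ℓ SL(2, F)), (default : Sylow ℓ SL(2, F)).not_dvd_index,
    fun Γ _ _ σ hσ hc z hz hzd _ => ?_⟩
  by_cases hℓ2 : ℓ = 2
  · subst hℓ2
    have hodd : Odd (Nat.card F) := by
      obtain ⟨f, hp', hf⟩ := FiniteField.card F p
      rw [Nat.card_eq_fintype_card, hf]
      exact (hp'.odd_of_ne_two (Ne.symm hℓp)).pow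
    obtain ⟨k, -, ⟨e⟩⟩ := CfsgLib.SL2.sylow_two_quaternion hodd (default : Sylow 2 SL(2, F))
    exact preimage_commutator_inf_ker_quaternion σ hσ hc _ e hz hzd
  · haveI := isCyclic_sylow_odd p ℓ hℓ2 hℓp (default : Sylow ℓ SL(2, F))
    rw [preimage_commutator_eq_bot_of_isCyclic σ hc] at hzd
    exact Subgroup.mem_bot.mp hzd

end CfsgLib.Schur
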