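import Cfsg.Agent.Lib.Schur.CanonLift
import Cfsg.Agent.Lib.Schur.Hopf

/-!
Central extensions of a group with a split (B, N) decomposition, kernel of order prime to the
characteristic: the kernel part of the derived subgroup lies in the product of the rank one tori.

The lifts of `p`-power order of the root elements satisfy all the relations of the unipotent group,
so the Bruhat decomposition lifts, and with it every kernel element is a product of lifts of torus
elements from the rank one subgroups.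
-/

set_option autoImplicit false
set_option linter.unusedSectionVars false
set_option linter.style.haveILetI false

namespace CfsgLib.Schur.Canon

/-- A split (B, N) decomposition with unipotent part `U`, torus `H`, simple representatives `n`
and simple root subgroups `X`. -/
structure SplitBN (G : Type*) [Group G] (ι : Type*) (p : ℕ) where
  /-- the unipotent part -/
  U : Subgroup G
  /-- the torus -/
  H : Subgroup G
  /-- the simple representatives -/
  n : ι → G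
  /-- the simple root subgroups -/
  X : ι → Subgroup G
  pU : IsPGroup p U
  X_le : ∀ i, X i ≤ U
  H_U : ∀ h ∈ H, ∀ u ∈ U, h * u * h⁻¹ ∈ U
  H_X : ∀ i, ∀ h ∈ H, ∀ x ∈ X i, h * x * h⁻¹ ∈ X i
  n_H : ∀ i, ∀ h ∈ H, n i * h * (n i)⁻¹ ∈ H
  n_sq : ∀ i, n i * n i ∈ H
  n_mem : ∀ i, n i ∈ X i ⊔ (X i).map (MulAut.conj (n i)).toMonoidHom
  decomp : ∀ i, ∀ u ∈ U, ∃ a ∈ U, ∃ b ∈ X i, u = a * b ∧ n i * a * (n i)⁻¹ ∈ U
  bru : ∀ i, ∀ x ∈ X i, ∃ a ∈ X i, ∃ b ∈ X i, ∃ h ∈ H,
    n i * x * n i = a * h * b ∨ n i * x * n i = a * h * n i * b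
  dich : ∀ m ∈ H ⊔ Subgroup.closure (Set.range n), ∀ i,
    (∀ x ∈ X i, m * x * m⁻¹ ∈ U) ∨ ∀ x ∈ X i, m * n i * x * (m * n i)⁻¹ ∈ U
  neg : ∀ i, ∃ x ∈ X i, n i * x * (n i)⁻¹ ∉ U
  uniq : ∀ m ∈ H ⊔ Subgroup.closure (Set.range n), ∀ i j, (∀ x ∈ X i, m * x * m⁻¹ ∈ U) →
    (∃ x ∈ X i, n j * m * x * (n j * m)⁻¹ ∉ U) →
    ∀ g ∈ X i ⊔ (X i).map (MulAut.conj (n i)).toMonoidHom,
      m * g * m⁻¹ ∈ X j ⊔ (X j).map (MulAut.conj (n j)).toMonoidHom
  L_N : ∀ i, ∀ g ∈ X i ⊔ (X i).map (MulAut.conj (n i)).toMonoidHom,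
    g ∈ H ⊔ Subgroup.closure (Set.range n) → g ∈ H ∨ (n i)⁻¹ * g ∈ H
  U_N : U ⊓ (H ⊔ Subgroup.closure (Set.range n)) = ⊥
  gen : (⨆ i, X i ⊔ (X i).map (MulAut.conj (n i)).toMonoidHom) = ⊤
  H_le : H ≤ ⨆ i, (X i ⊔ (X i).map (MulAut.conj (n i)).toMonoidHom) ⊓ H

namespace SplitBN

variable {G : Type*} [Group G] {ι : Type*} {p : ℕ} (S : SplitBN G ι p)

/-- The generators of the rank one subgroup. -/
def T (i : ι) : Set G :=
  (S.X i : Set G) ∪ ((S.X i).map (MulAut.conj (S.n i)).toMonoidHom : Subgroup G)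

/-- The rank one subgroup. -/
def L (i : ι) : Subgroup G := S.X i ⊔ (S.X i).map (MulAut.conj (S.n i)).toMonoidHom

lemma closure_T (i : ι) : Subgroup.closure (S.T i) = S.L i := by
  rw [T, Subgroup.closure_union, Subgroup.closure_eq, Subgroup.closure_eq, L]

lemma isPElt_T (i : ι) {x : G} (hx : x ∈ S.T i) : IsPElt p x := by
  rcases hx with hx | hx
  · exact isPElt_of_mem S.pU (S.X_le i hx)
  · obtain ⟨y, hy, rfl⟩ := hx
    exact (isPElt_of_mem S.pU (S.X_le i hy)).map _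

variable {Γ : Type*} [Group Γ] (σ : Γ →* G)

/-- The lifted rank one subgroup. -/
noncomputable def Lh (i : ι) : Subgroup Γ := Subgroup.closure (lift σ p '' S.T i)

/-- The lifted rank one torus. -/
noncomputable def Hh (i : ι) : Subgroup Γ := S.Lh σ i ⊓ S.H.comap σ

variable {σ} (c : Ctx σ p) [Finite Γ]
include c

lemma map_Lh (i : ι) : (S.Lh σ i).map σ = S.L i := by
  rw [Lh, MonoidHom.map_closure, Set.image_image, ← closure_T]
  congr 1
  exact (Set.image_congr fun x hx => σ_lift c (S.isPElt_T i hx)).trans (Set.image_id' _)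

lemma σ_mem_L {i : ι} {e : Γ} (he : e ∈ S.Lh σ i) : σ e ∈ S.L i :=
  S.map_Lh c i ▸ Subgroup.mem_map_of_mem σ he

lemma lift_X_mem {i : ι} {x : G} (hx : x ∈ S.X i) : lift σ p x ∈ S.Lh σ i :=
  Subgroup.subset_closure ⟨x, Or.inl hx, rfl⟩

lemma H_L {i : ι} {h : G} (hh : h ∈ S.H) {x : G} (hx : x ∈ S.T i) : h * x * h⁻¹ ∈ S.T i := by
  rcases hx with hx | hx
  · exact Or.inl (S.H_X i h hh x hx)
  · obtain ⟨y, hy, rfl⟩ := hx
    refine Or.inr ⟨((S.n i)⁻¹ * h * S.n i) * y * ((S.n i)⁻¹ * h * S.n i)⁻¹, S.H_X i _ ?_ y hy, ?_⟩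
    · have h1 := S.n_H i _ hh
      have h2 := mul_mem (mul_mem (inv_mem (S.n_sq i)) h1) (S.n_sq i)
      rwa [show (S.n i * S.n i)⁻¹ * (S.n i * h * (S.n i)⁻¹) * (S.n i * S.n i) =
        (S.n i)⁻¹ * h * S.n i by group] at h2
    · simp only [MulEquiv.coe_toMonoidHom, MulAut.conj_apply]
      group

lemma conj_Lh {i : ι} {e : Γ} (he : σ e ∈ S.H) {y : Γ} (hy : y ∈ S.Lh σ i) :
    e * y * e⁻¹ ∈ S.Lh σ i := by
  have h1 : (S.Lh σ i).map (MulAut.conj e).toMonoidHom ≤ S.Lh σ i := by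
    rw [Lh, MonoidHom.map_closure]
    refine (Subgroup.closure_le _).2 ?_
    rintro _ ⟨_, ⟨x, hx, rfl⟩, rfl⟩
    simp only [MulEquiv.coe_toMonoidHom, MulAut.conj_apply]
    rw [lift_conj c e (S.isPElt_T i hx)]
    exact Subgroup.subset_closure ⟨_, S.H_L c he hx, rfl⟩
  exact h1 ⟨y, hy, rfl⟩

lemma conj_Hh {i : ι} {e : Γ} (he : σ e ∈ S.H) {y : Γ} (hy : y ∈ S.Hh σ i) :
    e * y * e⁻¹ ∈ S.Hh σ i :=
  ⟨S.conj_Lh c he hy.1, by
    show σ (e * y * e⁻¹) ∈ S.H
    rw [map_mul, map_mul, map_inv]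
    exact mul_mem (mul_mem he hy.2) (inv_mem he)⟩

lemma exists_nh (i : ι) : ∃ e ∈ S.Lh σ i, σ e = S.n i := by
  have h : S.n i ∈ (S.Lh σ i).map σ := by rw [S.map_Lh c i]; exact S.n_mem i
  exact h

/-- The lifted representative. -/
noncomputable def nh (i : ι) : Γ := (S.exists_nh c i).choose

lemma nh_mem (i : ι) : S.nh c i ∈ S.Lh σ i := (S.exists_nh c i).choose_spec.1

lemma σ_nh (i : ι) : σ (S.nh c i) = S.n i := (S.exists_nh c i).choose_spec.2

omit c [Finite Γ] in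
/-- The product of the rank one tori. -/
noncomputable def Hall (S : SplitBN G ι p) (σ : Γ →* G) : Subgroup Γ := ⨆ i, S.Hh σ i

omit c [Finite Γ] in
lemma Hh_le (i : ι) : S.Hh σ i ≤ S.Hall σ := le_iSup (fun i => S.Hh σ i) i

omit c [Finite Γ] in
lemma σ_Hall {e : Γ} (he : e ∈ S.Hall σ) : σ e ∈ S.H := by
  have : S.Hall σ ≤ S.H.comap σ := iSup_le fun i => inf_le_right
  exact this he

lemma nh_conj_Hall (i : ι) {e : Γ} (he : e ∈ S.Hall σ) :
    S.nh c i * e * (S.nh c i)⁻¹ ∈ S.Hall σ := by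
  have hH := S.σ_Hall he
  have h1 : S.nh c i * (e * (S.nh c i)⁻¹ * e⁻¹) ∈ S.Hh σ i := by
    refine ⟨mul_mem (S.nh_mem c i) (S.conj_Lh c hH (inv_mem (S.nh_mem c i))), ?_⟩
    show σ _ ∈ S.H
    simp only [map_mul, map_inv, σ_nh]
    rw [← mul_assoc, ← mul_assoc]
    exact mul_mem (S.n_H i _ hH) (inv_mem hH)
  have h2 := mul_mem (S.Hh_le i h1) he
  rwa [show S.nh c i * (e * (S.nh c i)⁻¹ * e⁻¹) * e = S.nh c i * e * (S.nh c i)⁻¹ by group] at h2

lemma nh_sq (i : ι) : S.nh c i * S.nh c i ∈ S.Hall σ :=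
  S.Hh_le i ⟨mul_mem (S.nh_mem c i) (S.nh_mem c i), by
    show σ _ ∈ S.H
    rw [map_mul, σ_nh]; exact S.n_sq i⟩

/-- The product of a word of representatives. -/
noncomputable def W (l : List ι) : Γ := (l.map (S.nh c)).prod

lemma W_cons (i : ι) (l : List ι) : S.W c (i :: l) = S.nh c i * S.W c l := by
  simp [W]

lemma W_append (l l' : List ι) : S.W c (l ++ l') = S.W c l * S.W c l' := by
  simp [W]

lemma σ_W_mem (l : List ι) : σ (S.W c l) ∈ S.H ⊔ Subgroup.closure (Set.range S.n) := by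
  rw [W, map_list_prod, List.map_map]
  refine Subgroup.mem_sup_right (list_prod_mem fun g hg => ?_)
  obtain ⟨i, -, rfl⟩ := List.mem_map.1 hg
  exact Subgroup.subset_closure ⟨i, (S.σ_nh c i).symm⟩

lemma W_conj_Hall : ∀ (l : List ι) {e : Γ}, e ∈ S.Hall σ →
    S.W c l * e * (S.W c l)⁻¹ ∈ S.Hall σ
  | [], e, he => by simpa [W] using he
  | i :: l, e, he => by
    rw [W_cons, show S.nh c i * S.W c l * e * (S.nh c i * S.W c l)⁻¹ =
      S.nh c i * (S.W c l * e * (S.W c l)⁻¹) * (S.nh c i)⁻¹ by group]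
    exact S.nh_conj_Hall c i (W_conj_Hall l he)

lemma lift_conj_U {e : Γ} {x : G} (hx : x ∈ S.U) :
    e * lift σ p x * e⁻¹ = lift σ p (σ e * x * (σ e)⁻¹) :=
  lift_conj c e (isPElt_of_mem S.pU hx)

lemma lift_mem_Lh {j : ι} {g : G} (hg : g ∈ S.L j) (hp : IsPElt p g) :
    lift σ p g ∈ S.Lh σ j := by
  obtain ⟨e, he, rfl⟩ := (S.map_Lh c j).symm ▸ hg
  obtain ⟨k, hk⟩ := isPElt_lift c hp
  have hz : (lift σ p (σ e))⁻¹ * e ∈ σ.ker := by
    rw [MonoidHom.mem_ker, map_mul, map_inv, σ_lift c hp, inv_mul_cancel]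
  set z := (lift σ p (σ e))⁻¹ * e with hzdef
  have hcomm : Commute (lift σ p (σ e)) z := Subgroup.mem_center_iff.1 (c.central hz) _
  have hpow : z ^ p ^ k = e ^ p ^ k := by
    rw [show e = lift σ p (σ e) * z by rw [hzdef, mul_inv_cancel_left], hcomm.mul_pow, hk, one_mul]
  have hco : (orderOf z).Coprime (p ^ k) := by
    refine (Nat.Coprime.pow_left k ?_).symm
    refine Nat.Coprime.of_dvd_right ?_ (c.prime.coprime_iff_not_dvd.2 c.coprime)
    rw [← Subgroup.orderOf_mk z hz]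
    exact orderOf_dvd_natCard _
  obtain ⟨m, hm⟩ := exists_pow_eq_self_of_coprime hco.symm
  have hzL : z ∈ S.Lh σ j := hm ▸ hpow ▸ pow_mem (pow_mem he _) m
  have := mul_mem he (inv_mem hzL)
  rwa [hzdef, mul_inv_rev, inv_inv, mul_inv_cancel_left] at this

/-- Conjugation of the rank one subgroups by an element over the monomial group. -/
lemma conj_Lh_of {i j : ι} {e : Γ} (hm : ∀ g ∈ S.L i, σ e * g * (σ e)⁻¹ ∈ S.L j) {y : Γ}
    (hy : y ∈ S.Lh σ i) : e * y * e⁻¹ ∈ S.Lh σ j := by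
  have h1 : (S.Lh σ i).map (MulAut.conj e).toMonoidHom ≤ S.Lh σ j := by
    rw [Lh, MonoidHom.map_closure]
    refine (Subgroup.closure_le _).2 ?_
    rintro _ ⟨_, ⟨x, hx, rfl⟩, rfl⟩
    simp only [MulEquiv.coe_toMonoidHom, MulAut.conj_apply]
    rw [lift_conj c e (S.isPElt_T i hx)]
    refine S.lift_mem_Lh c (hm x ?_) ((S.isPElt_T i hx).conj _)
    rw [← S.closure_T i]; exact Subgroup.subset_closure hx
  exact h1 ⟨y, hy, rfl⟩

omit c [Finite Γ] in
lemma n_not_mem_H (S : SplitBN G ι p) (i : ι) : S.n i ∉ S.H := fun h => by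
  obtain ⟨x, hx, hneg⟩ := S.neg i
  exact hneg (S.H_U _ h x (S.X_le i hx))

omit c [Finite Γ] in
lemma inv_n_H (S : SplitBN G ι p) {m h : G} (hm : m ∈ Subgroup.closure (Set.range S.n))
    (hh : h ∈ S.H) : m * h * m⁻¹ ∈ S.H ∧ m⁻¹ * h * m ∈ S.H := by
  induction hm using Subgroup.closure_induction generalizing h with
  | mem g hg =>
    obtain ⟨i, rfl⟩ := hg
    refine ⟨S.n_H i h hh, ?_⟩
    have h2 := mul_mem (mul_mem (inv_mem (S.n_sq i)) (S.n_H i h hh)) (S.n_sq i)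
    rwa [show (S.n i * S.n i)⁻¹ * (S.n i * h * (S.n i)⁻¹) * (S.n i * S.n i) =
      (S.n i)⁻¹ * h * S.n i by group] at h2
  | one => simpa using hh
  | mul a b _ _ iha ihb =>
    refine ⟨?_, ?_⟩
    · have := (iha (ihb hh).1).1
      rwa [show a * (b * h * b⁻¹) * a⁻¹ = a * b * h * (a * b)⁻¹ by group] at this
    · have := (ihb (iha hh).2).2
      rwa [show b⁻¹ * (a⁻¹ * h * a) * b = (a * b)⁻¹ * h * (a * b) by group] at this
  | inv a _ iha => exact ⟨by simpa using (iha hh).2, by simpa using (iha hh).1⟩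

/-- A word of representatives lying over the torus is a product of lifted tori. -/
theorem W_mem_Hall : ∀ (k : ℕ) (l : List ι), l.length = k → σ (S.W c l) ∈ S.H →
    S.W c l ∈ S.Hall σ := by
  intro k
  induction k using Nat.strong_induction_on with
  | _ k ih =>
    intro l hlen hl
    rcases List.eq_nil_or_concat l with rfl | ⟨l0, j, rfl⟩
    · simp [W]
    rw [List.concat_eq_append] at hlen hl ⊢
    let P : List ι → Prop := fun s =>
      ∀ x ∈ S.X j, σ (S.W c s) * x * (σ (S.W c s))⁻¹ ∈ S.U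
    have hP1 : ¬ P [j] := by
      obtain ⟨x, hx, hneg⟩ := S.neg j
      intro h
      refine hneg ?_
      have := h x hx
      simpa [W, σ_nh] using this
    have hPl : P (l0 ++ [j]) := fun x hx => S.H_U _ hl x (S.X_le j hx)
    have hex : ∀ a : List ι, P (a ++ [j]) →
        ∃ l1 i l2, a = l1 ++ i :: l2 ∧ ¬ P (l2 ++ [j]) ∧ P (i :: l2 ++ [j]) := by
      intro a
      induction a with
      | nil => exact fun h => absurd h hP1
      | cons i a iha =>
        intro h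
        by_cases hc : P (a ++ [j])
        · obtain ⟨l1, i', l2, e, h1, h2⟩ := iha hc
          exact ⟨i :: l1, i', l2, by rw [e]; rfl, h1, h2⟩
        · exact ⟨[], i, a, rfl, hc, h⟩
    obtain ⟨l1, i, l2, rfl, hQ, hiQ⟩ := hex l0 hPl
    set Q := S.W c (l2 ++ [j]) with hQdef
    have hiQ' : S.W c (i :: l2 ++ [j]) = S.nh c i * Q := by rw [List.cons_append, W_cons]
    have hconj : ∀ g ∈ S.L j, σ Q * g * (σ Q)⁻¹ ∈ S.L i := by
      intro g hg
      have h1 := S.uniq (σ (S.W c (i :: l2 ++ [j]))) (S.σ_W_mem c _) j i hiQ ?_ g hg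
      · rw [hiQ', map_mul, σ_nh] at h1
        have h2 := mul_mem (mul_mem (inv_mem (S.n_mem i)) h1) (S.n_mem i)
        rwa [show (S.n i)⁻¹ * (S.n i * σ Q * g * (S.n i * σ Q)⁻¹) * S.n i =
          σ Q * g * (σ Q)⁻¹ by group] at h2
      · obtain ⟨x, hx, hxU⟩ : ∃ x ∈ S.X j, σ Q * x * (σ Q)⁻¹ ∉ S.U := by
          by_contra hcon
          push Not at hcon
          exact hQ hcon
        refine ⟨x, hx, fun hU => hxU ?_⟩
        rw [hiQ', map_mul, σ_nh] at hU
        have h3 := S.H_U _ (inv_mem (S.n_sq i)) _ hU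
        rwa [show (S.n i * S.n i)⁻¹ * (S.n i * (S.n i * σ Q) * x * (S.n i * (S.n i * σ Q))⁻¹) *
          ((S.n i * S.n i)⁻¹)⁻¹ = σ Q * x * (σ Q)⁻¹ by group] at h3
    set e := Q * S.nh c j * Q⁻¹ with hedef
    have heL : e ∈ S.Lh σ i := S.conj_Lh_of c hconj (S.nh_mem c j)
    have hV : Q = S.W c l2 * S.nh c j := by rw [hQdef, W_append]; simp [W]
    have heV : e = S.W c l2 * S.nh c j * (S.W c l2)⁻¹ := by rw [hedef, hV]; group
    have hσe : σ e = σ (S.W c l2) * S.n j * (σ (S.W c l2))⁻¹ := by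
      rw [heV, map_mul, map_mul, map_inv, σ_nh]
    have hWn : σ (S.W c l2) ∈ Subgroup.closure (Set.range S.n) := by
      rw [W, map_list_prod, List.map_map]
      refine list_prod_mem fun g hg => ?_
      obtain ⟨i, -, rfl⟩ := List.mem_map.1 hg
      exact Subgroup.subset_closure ⟨i, (S.σ_nh c i).symm⟩
    have heN : σ e ∈ S.H ⊔ Subgroup.closure (Set.range S.n) := by
      rw [hσe]
      exact Subgroup.mem_sup_right (mul_mem (mul_mem hWn
        (Subgroup.subset_closure ⟨j, rfl⟩)) (inv_mem hWn))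
    rcases S.L_N i _ (S.σ_mem_L c heL) heN with heH | heH
    · exfalso
      refine S.n_not_mem_H j ?_
      rw [hσe] at heH
      have := (S.inv_n_H hWn heH).2
      rwa [show (σ (S.W c l2))⁻¹ * (σ (S.W c l2) * S.n j * (σ (S.W c l2))⁻¹) * σ (S.W c l2) =
        S.n j by group] at this
    have hh : (S.nh c i)⁻¹ * e ∈ S.Hh σ i := by
      refine ⟨(S.Lh σ i).mul_mem ((S.Lh σ i).inv_mem (S.nh_mem c i)) heL, ?_⟩
      show σ _ ∈ S.H
      rwa [map_mul, map_inv, σ_nh]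
    have hmid := S.W_conj_Hall c l1 (mul_mem (S.nh_sq c i) (S.Hh_le i hh))
    have heq : S.W c (l1 ++ i :: l2 ++ [j]) =
        S.W c l1 * (S.nh c i * S.nh c i * ((S.nh c i)⁻¹ * e)) * (S.W c l1)⁻¹ *
          S.W c (l1 ++ l2) := by
      rw [heV, List.append_assoc, W_append, S.W_append c l1, List.cons_append, W_cons, W_append]
      simp only [W, List.map_cons, List.map_nil, List.prod_cons, List.prod_nil]
      group
    rw [heq] at hl ⊢
    refine mul_mem hmid (ih (l1 ++ l2).length ?_ _ rfl ?_)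
    · rw [← hlen]; simp
    · rw [map_mul] at hl
      have := mul_mem (inv_mem (S.σ_Hall hmid)) hl
      rwa [inv_mul_cancel_left] at this

/-- The set with lifted Bruhat decomposition. -/
def InCell (z : Γ) : Prop :=
  ∃ u ∈ S.U, ∃ h ∈ S.Hall σ, ∃ l : List ι, ∃ v ∈ S.U,
    z = lift σ p u * (h * S.W c l) * lift σ p v

lemma lift_U_mul {x y : G} (hx : x ∈ S.U) (hy : y ∈ S.U) :
    lift σ p (x * y) = lift σ p x * lift σ p y := lift_mul c S.pU hx hy

lemma lift_U_inv {x : G} (hx : x ∈ S.U) : lift σ p x⁻¹ = (lift σ p x)⁻¹ := by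
  refine (inv_eq_of_mul_eq_one_right ?_).symm
  rw [← S.lift_U_mul c hx (inv_mem hx), mul_inv_cancel, lift_one c]

lemma inCell_left {u : G} (hu : u ∈ S.U) {z : Γ} (hz : S.InCell c z) :
    S.InCell c (lift σ p u * z) := by
  obtain ⟨u', hu', h, hh, l, v, hv, rfl⟩ := hz
  exact ⟨u * u', mul_mem hu hu', h, hh, l, v, hv, by rw [S.lift_U_mul c hu hu']; group⟩

lemma inCell_right {v : G} (hv : v ∈ S.U) {z : Γ} (hz : S.InCell c z) :
    S.InCell c (z * lift σ p v) := by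
  obtain ⟨u', hu', h, hh, l, v', hv', rfl⟩ := hz
  exact ⟨u', hu', h, hh, l, v' * v, mul_mem hv' hv, by rw [S.lift_U_mul c hv' hv]; group⟩

lemma inCell_Hall {e : Γ} (he : e ∈ S.Hall σ) {z : Γ} (hz : S.InCell c z) :
    S.InCell c (e * z) := by
  obtain ⟨u, hu, h, hh, l, v, hv, rfl⟩ := hz
  refine ⟨σ e * u * (σ e)⁻¹, S.H_U _ (S.σ_Hall he) u hu, e * h, mul_mem he hh, l, v, hv, ?_⟩
  rw [← S.lift_conj_U c hu]
  group

lemma inCell_nh_core (i : ι) {b : G} (hb : b ∈ S.X i) {h : Γ} (hh : h ∈ S.Hall σ) (l : List ι) :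
    S.InCell c (S.nh c i * lift σ p b * (h * S.W c l)) := by
  have hσν : σ (h * S.W c l) ∈ S.H ⊔ Subgroup.closure (Set.range S.n) := by
    rw [map_mul]; exact mul_mem (Subgroup.mem_sup_left (S.σ_Hall hh)) (S.σ_W_mem c l)
  rcases S.dich _ (inv_mem hσν) i with h1 | h1
  · refine ⟨1, one_mem _, S.nh c i * h * (S.nh c i)⁻¹, S.nh_conj_Hall c i hh, i :: l,
      (σ (h * S.W c l))⁻¹ * b * ((σ (h * S.W c l))⁻¹)⁻¹, h1 b hb, ?_⟩
    rw [← map_inv σ, ← S.lift_conj_U c (S.X_le i hb), lift_one c, W_cons]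
    group
  · obtain ⟨a, ha, b', hb', h0, hh0, hcase⟩ := S.bru i b hb
    set X0 := S.nh c i * lift σ p b * S.nh c i with hX0
    have hX0L : X0 ∈ S.Lh σ i :=
      mul_mem (mul_mem (S.nh_mem c i) (S.lift_X_mem c hb)) (S.nh_mem c i)
    have hσX0 : σ X0 = S.n i * b * S.n i := by
      rw [hX0, map_mul, map_mul, σ_nh, σ_lift c (isPElt_of_mem S.pU (S.X_le i hb))]
    have hσa : σ (lift σ p a) = a := σ_lift c (isPElt_of_mem S.pU (S.X_le i ha))
    have hσb : σ (lift σ p b') = b' := σ_lift c (isPElt_of_mem S.pU (S.X_le i hb'))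
    set ν' := (S.nh c i)⁻¹ * (h * S.W c l) with hν'
    set h' := (S.nh c i * S.nh c i)⁻¹ * (S.nh c i * h * (S.nh c i)⁻¹) with hh'
    have hh'H : h' ∈ S.Hall σ :=
      mul_mem (inv_mem (S.nh_sq c i)) (S.nh_conj_Hall c i hh)
    have eν' : ν' = h' * S.W c (i :: l) := by
      rw [hν', hh', W_cons]
      group
    have hv' : (σ (h * S.W c l))⁻¹ * S.n i * b' * ((σ (h * S.W c l))⁻¹ * S.n i)⁻¹ ∈ S.U :=
      h1 b' hb'
    have hmove : lift σ p b' * ν' =
        ν' * lift σ p ((σ (h * S.W c l))⁻¹ * S.n i * b' * ((σ (h * S.W c l))⁻¹ * S.n i)⁻¹) := by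
      rw [show (σ (h * S.W c l))⁻¹ * S.n i = σ ν'⁻¹ by
          simp [hν', σ_nh, mul_assoc],
        ← S.lift_conj_U c (S.X_le i hb')]
      group
    have hsplit : S.nh c i * lift σ p b * (h * S.W c l) = X0 * ν' := by rw [hX0, hν']; group
    rcases hcase with hc | hc
    · set e := (lift σ p a)⁻¹ * X0 * (lift σ p b')⁻¹ with hedef
      have he : e ∈ S.Hh σ i := by
        refine ⟨(S.Lh σ i).mul_mem ((S.Lh σ i).mul_mem ((S.Lh σ i).inv_mem (S.lift_X_mem c ha)) hX0L)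
          ((S.Lh σ i).inv_mem (S.lift_X_mem c hb')), ?_⟩
        show σ e ∈ S.H
        rw [hedef, map_mul, map_mul, map_inv, map_inv, hσX0, hσa, hσb, hc]
        convert hh0 using 1
        group
      refine ⟨a, S.X_le i ha, e * h', mul_mem (S.Hh_le i he) hh'H, i :: l, _, hv', ?_⟩
      rw [hsplit, show X0 = lift σ p a * e * lift σ p b' by rw [hedef]; group,
        mul_assoc (lift σ p a * e), hmove, eν']
      group
    · set e := (lift σ p a)⁻¹ * X0 * (lift σ p b')⁻¹ * (S.nh c i)⁻¹ with hedef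
      have he : e ∈ S.Hh σ i := by
        refine ⟨(S.Lh σ i).mul_mem ((S.Lh σ i).mul_mem ((S.Lh σ i).mul_mem
          ((S.Lh σ i).inv_mem (S.lift_X_mem c ha)) hX0L)
          ((S.Lh σ i).inv_mem (S.lift_X_mem c hb'))) ((S.Lh σ i).inv_mem (S.nh_mem c i)), ?_⟩
        show σ e ∈ S.H
        rw [hedef, map_mul, map_mul, map_mul, map_inv, map_inv, map_inv, hσX0, hσa, hσb, σ_nh, hc]
        convert hh0 using 1
        group
      refine ⟨a, S.X_le i ha, e * (S.nh c i * h' * (S.nh c i)⁻¹),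
        mul_mem (S.Hh_le i he) (S.nh_conj_Hall c i hh'H), i :: i :: l, _, hv', ?_⟩
      rw [hsplit, show X0 = lift σ p a * e * S.nh c i * lift σ p b' by rw [hedef]; group,
        mul_assoc (lift σ p a * e * S.nh c i), hmove, eν', S.W_cons c i (i :: l)]
      group

lemma inCell_nh (i : ι) {z : Γ} (hz : S.InCell c z) : S.InCell c (S.nh c i * z) := by
  obtain ⟨u, hu, h, hh, l, v, hv, rfl⟩ := hz
  obtain ⟨a, ha, b, hb, rfl, hconj⟩ := S.decomp i u hu
  have h1 := S.inCell_right c hv (S.inCell_left c hconj (S.inCell_nh_core c i hb hh l))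
  convert h1 using 1
  rw [S.lift_U_mul c ha (S.X_le i hb), ← σ_nh S c i, ← S.lift_conj_U c ha]
  group

/-- The elements preserving the cells from the left. -/
def stab : Subgroup Γ where
  carrier := {g | (∀ z, S.InCell c z → S.InCell c (g * z)) ∧ ∀ z, S.InCell c z → S.InCell c (g⁻¹ * z)}
  one_mem' := ⟨fun z hz => by rwa [one_mul], fun z hz => by rwa [inv_one, one_mul]⟩
  mul_mem' := by
    rintro a b ⟨ha, ha'⟩ ⟨hb, hb'⟩
    exact ⟨fun z hz => by rw [mul_assoc]; exact ha _ (hb _ hz),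
      fun z hz => by rw [mul_inv_rev, mul_assoc]; exact hb' _ (ha' _ hz)⟩
  inv_mem' := by
    rintro a ⟨ha, ha'⟩
    exact ⟨ha', by rwa [inv_inv]⟩

lemma lift_U_mem_stab {u : G} (hu : u ∈ S.U) : lift σ p u ∈ S.stab c :=
  ⟨fun _ => S.inCell_left c hu, fun z hz => by
    rw [← S.lift_U_inv c hu]; exact S.inCell_left c (inv_mem hu) hz⟩

lemma nh_mem_stab (i : ι) : S.nh c i ∈ S.stab c :=
  ⟨fun _ => S.inCell_nh c i, fun z hz => by
    rw [show (S.nh c i)⁻¹ * z = (S.nh c i * S.nh c i)⁻¹ * (S.nh c i * z) by group]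
    exact S.inCell_Hall c (inv_mem (S.nh_sq c i)) (S.inCell_nh c i hz)⟩

lemma Lh_le_stab (i : ι) : S.Lh σ i ≤ S.stab c := by
  refine (Subgroup.closure_le _).2 ?_
  rintro _ ⟨x, hx, rfl⟩
  rcases hx with hx | hx
  · exact S.lift_U_mem_stab c (S.X_le i hx)
  · obtain ⟨y, hy, rfl⟩ := hx
    simp only [MulEquiv.coe_toMonoidHom, MulAut.conj_apply]
    rw [← σ_nh S c i, ← S.lift_conj_U c (S.X_le i hy)]
    exact mul_mem (mul_mem (S.nh_mem_stab c i) (S.lift_U_mem_stab c (S.X_le i hy)))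
      (inv_mem (S.nh_mem_stab c i))

/-- The kernel part of the derived subgroup lies in the product of the lifted tori. -/
theorem ker_inf_commutator_le : σ.ker ⊓ commutator Γ ≤ S.Hall σ := by
  set E0 := ⨆ i, S.Lh σ i with hE0
  have hmap : E0.map σ = ⊤ := by
    rw [hE0, Subgroup.map_iSup]
    simp only [S.map_Lh c]
    exact S.gen
  have hcomm : commutator Γ ≤ E0 := by
    rw [commutator_def, Subgroup.commutator_le]
    intro x _ y _
    obtain ⟨x', hx', hxe⟩ := (hmap ▸ Subgroup.mem_top (σ x) : σ x ∈ E0.map σ)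
    obtain ⟨y', hy', hye⟩ := (hmap ▸ Subgroup.mem_top (σ y) : σ y ∈ E0.map σ)
    rw [commutatorElement_congr σ c.central hxe.symm hye.symm]
    exact E0.commutator_le_self (Subgroup.commutator_mem_commutator hx' hy')
  rintro z ⟨hzk, hzc⟩
  have hst : z ∈ S.stab c := (iSup_le (S.Lh_le_stab c)) (hcomm hzc)
  have hz : S.InCell c (z * 1) := hst.1 1
    ⟨1, one_mem _, 1, one_mem _, [], 1, one_mem _, by simp [W, lift_one c]⟩
  rw [mul_one] at hz
  obtain ⟨u, hu, h, hh, l, v, hv, e⟩ := hz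
  have hu' := σ_lift c (isPElt_of_mem S.pU hu)
  have hv' := σ_lift c (isPElt_of_mem S.pU hv)
  have h1 : σ (h * S.W c l) = u⁻¹ * v⁻¹ := by
    have := congrArg σ e
    rw [MonoidHom.mem_ker.1 hzk, map_mul, map_mul, hu', hv'] at this
    calc σ (h * S.W c l) = u⁻¹ * (u * σ (h * S.W c l) * v) * v⁻¹ := by group
      _ = u⁻¹ * v⁻¹ := by rw [← this, mul_one]
  have h2 : σ (h * S.W c l) = 1 := by
    have : σ (h * S.W c l) ∈ S.U ⊓ (S.H ⊔ Subgroup.closure (Set.range S.n)) := by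
      refine ⟨h1 ▸ S.U.mul_mem (S.U.inv_mem hu) (S.U.inv_mem hv), ?_⟩
      rw [map_mul]; exact mul_mem (Subgroup.mem_sup_left (S.σ_Hall hh)) (S.σ_W_mem c l)
    rwa [S.U_N, Subgroup.mem_bot] at this
  have hvu : v = u⁻¹ := by
    rw [h2, eq_comm, mul_inv_eq_one] at h1
    exact h1.symm
  have hzν : z = h * S.W c l := by
    rw [hvu, S.lift_U_inv c hu] at e
    have hz' := Subgroup.mem_center_iff.1 (c.central hzk) (lift σ p u)
    calc z = (lift σ p u)⁻¹ * (lift σ p u * z) := by group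
      _ = (lift σ p u)⁻¹ * (z * lift σ p u) := by rw [hz']
      _ = h * S.W c l := by rw [e]; group
  rw [hzν]
  refine mul_mem hh (S.W_mem_Hall c _ l rfl ?_)
  rw [map_mul] at h2
  rw [← inv_eq_of_mul_eq_one_right h2]
  exact inv_mem (S.σ_Hall hh)

omit c in
lemma card_sup_le {A B : Subgroup Γ} (hB : B ≤ Subgroup.normalizer (A : Set Γ)) :
    Nat.card ↥(A ⊔ B) ≤ Nat.card A * Nat.card B := by
  have h := Set.natCard_mul_le (s := (A : Set Γ)) (t := (B : Set Γ))
  rwa [← Subgroup.coe_mul_of_right_le_normalizer_left A B hB] at h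

/-- The order of the lifted torus. -/
theorem card_Hall_le [Fintype ι] : Nat.card (S.Hall σ) ≤ ∏ i, Nat.card (S.Hh σ i) := by
  classical
  have hfin : ∀ s : Finset ι, Nat.card ↥(⨆ i ∈ s, S.Hh σ i) ≤ ∏ i ∈ s, Nat.card (S.Hh σ i) := by
    intro s
    induction s using Finset.induction with
    | empty => simp
    | insert a s ha ih =>
      rw [Finset.iSup_insert, Finset.prod_insert ha]
      refine (card_sup_le ?_).trans (Nat.mul_le_mul_left _ ih)
      intro e he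
      have hH : σ e ∈ S.H := by
        have : (⨆ i ∈ s, S.Hh σ i) ≤ S.H.comap σ := iSup₂_le fun i _ => inf_le_right
        exact this he
      rw [Subgroup.mem_normalizer_iff]
      intro y
      refine ⟨fun hy => S.conj_Hh c hH hy, fun hy => ?_⟩
      have := S.conj_Hh c (e := e⁻¹) (by rw [map_inv]; exact inv_mem hH) hy
      rwa [show e⁻¹ * (e * y * e⁻¹) * e⁻¹⁻¹ = y by group] at this
  have h := hfin Finset.univ
  rwa [show (⨆ i ∈ (Finset.univ : Finset ι), S.Hh σ i) = S.Hall σ by simp [Hall]] at h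

/-- The kernel part of the derived subgroup is bounded by the rank one tori. -/
theorem card_ker_inf_mul_le [Fintype ι] :
    Nat.card ↥(σ.ker ⊓ commutator Γ) * Nat.card S.H ≤ ∏ i, Nat.card (S.Hh σ i) := by
  classical
  refine le_trans ?_ (S.card_Hall_le c)
  haveI : Finite G := Finite.of_surjective σ c.surj
  let f : S.Hall σ →* S.H := (σ.comp (S.Hall σ).subtype).codRestrict S.H fun x => S.σ_Hall (σ := σ) x.2
  have hsurj : Function.Surjective f := by
    have h0 : S.H ≤ (S.Hall σ).map σ := by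
      refine S.H_le.trans (iSup_le fun i g hg => ?_)
      obtain ⟨hgL, hgH⟩ := hg
      change g ∈ S.L i at hgL
      rw [← S.map_Lh c i] at hgL
      obtain ⟨e, he, rfl⟩ := hgL
      exact ⟨e, S.Hh_le i ⟨he, hgH⟩, rfl⟩
    rintro ⟨g, hg⟩
    obtain ⟨e, he, rfl⟩ := h0 hg
    exact ⟨⟨e, he⟩, rfl⟩
  rw [show Nat.card (S.Hall σ) = Nat.card f.ker * Nat.card S.H by
    rw [← Subgroup.card_mul_index f.ker, Subgroup.index_ker,
      MonoidHom.range_eq_top.2 hsurj, Subgroup.card_top]]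
  refine Nat.mul_le_mul_right _ ?_
  refine Nat.card_le_card_of_injective
    (fun z : ↥(σ.ker ⊓ commutator Γ) => (⟨⟨z, S.ker_inf_commutator_le c z.2⟩,
      Subtype.ext (MonoidHom.mem_ker.1 z.2.1)⟩ : f.ker)) fun a b h => ?_
  exact Subtype.ext (congrArg (fun w : f.ker => ((w : S.Hall σ) : Γ)) h)

end SplitBN

end CfsgLib.Schur.Canon
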