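import Cfsg.Agent.Lib.Schur.SylowCriterion

/-!
Central extensions restricted to a unipotent group with a torus: complements of the kernel, built
along a chain of normal subgroups from the bottom. At each layer the commutator with the whole
group gives a pairing into the kernel invariant under the torus, and the torus kills it.
-/

set_option autoImplicit false
set_option linter.unusedSectionVars false

open scoped commutatorElement

namespace CfsgLib.Schur.Chain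

variable {Γ G : Type*} [Group Γ] [Group G] (σ : Γ →* G)

/-- A group `U` with a torus `H` acting on it. -/
structure Act (U H : Subgroup G) : Prop where
  conjU : ∀ h ∈ H, ∀ u ∈ U, h * u * h⁻¹ ∈ U
  commH : ∀ a ∈ H, ∀ b ∈ H, a * b = b * a

/-- `M` is a complement of the kernel in the preimage of `N`, containing all commutators with the
preimage of `U` and stable under the preimage of `H`. -/
structure Good (U H N : Subgroup G) (M : Subgroup Γ) : Prop where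
  le : M ≤ N.comap σ
  cover : ∀ n ∈ N, ∃ e ∈ M, σ e = n
  triv : ∀ e ∈ M, σ e = 1 → e = 1
  comm : ∀ g n, σ g ∈ U → σ n ∈ N → ⁅g, n⁆ ∈ M
  tor : ∀ t, σ t ∈ H → ∀ e ∈ M, t * e * t⁻¹ ∈ M

variable {σ} (hc : σ.ker ≤ Subgroup.center Γ) {U H : Subgroup G}
include hc

lemma commutatorElement_congr' {a a' b b' : Γ} (ha : σ a = σ a') (hb : σ b = σ b') :
    ⁅a, b⁆ = ⁅a', b'⁆ := by
  obtain ⟨z, hz, rfl⟩ : ∃ z ∈ σ.ker, a = a' * z :=
    ⟨a'⁻¹ * a, by rw [MonoidHom.mem_ker, map_mul, map_inv, ha, inv_mul_cancel], by group⟩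
  obtain ⟨w, hw, rfl⟩ : ∃ w ∈ σ.ker, b = b' * w :=
    ⟨b'⁻¹ * b, by rw [MonoidHom.mem_ker, map_mul, map_inv, hb, inv_mul_cancel], by group⟩
  have cz : ∀ t, z * t = t * z := fun t => (Subgroup.mem_center_iff.1 (hc hz) t).symm
  have cw : ∀ t, w * t = t * w := fun t => (Subgroup.mem_center_iff.1 (hc hw) t).symm
  simp only [commutatorElement_def, mul_inv_rev]
  calc a' * z * (b' * w) * (z⁻¹ * a'⁻¹) * (w⁻¹ * b'⁻¹)
      = a' * (z * (b' * w)) * (z⁻¹ * a'⁻¹) * (w⁻¹ * b'⁻¹) := by group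
    _ = a' * ((b' * w) * z) * (z⁻¹ * a'⁻¹) * (w⁻¹ * b'⁻¹) := by rw [cz]
    _ = a' * b' * (w * a'⁻¹) * (w⁻¹ * b'⁻¹) := by group
    _ = a' * b' * (a'⁻¹ * w) * (w⁻¹ * b'⁻¹) := by rw [cw]
    _ = _ := by group

theorem good_bot : Good σ U H ⊥ ⊥ := by
  refine ⟨bot_le, fun n hn => ⟨1, one_mem _, ?_⟩, fun e he _ => Subgroup.mem_bot.1 he,
    fun g n _ hn => ?_, fun t _ e he => ?_⟩
  · rw [map_one, Subgroup.mem_bot.1 hn]
  · rw [Subgroup.mem_bot, commutatorElement_eq_one_iff_mul_comm]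
    exact Subgroup.mem_center_iff.1 (hc (MonoidHom.mem_ker.2 (Subgroup.mem_bot.1 hn))) g
  · rw [Subgroup.mem_bot.1 he]; simp

namespace Good

variable {N' : Subgroup G} {M : Subgroup Γ} (hG : Good σ U H N' M)
include hG

lemma exists_pr {x : Γ} (hx : σ x ∈ N') : ∃ z ∈ σ.ker, x * z⁻¹ ∈ M := by
  obtain ⟨e, he, hσ⟩ := hG.cover _ hx
  refine ⟨e⁻¹ * x, by rw [MonoidHom.mem_ker, map_mul, map_inv, hσ, inv_mul_cancel], ?_⟩
  rwa [show x * (e⁻¹ * x)⁻¹ = e by group]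

lemma pr_unique {x z w : Γ} (hz : z ∈ σ.ker) (hw : w ∈ σ.ker) (h1 : x * z⁻¹ ∈ M)
    (h2 : x * w⁻¹ ∈ M) : z = w := by
  have h3 := mul_mem (inv_mem h1) h2
  rw [show (x * z⁻¹)⁻¹ * (x * w⁻¹) = z * w⁻¹ by group] at h3
  exact mul_inv_eq_one.1 (hG.triv _ h3 (MonoidHom.mem_ker.1 (mul_mem hz (inv_mem hw))))

end Good

open Classical in
/-- The kernel part of an element over `N'`. -/
noncomputable def pr (σ : Γ →* G) (M : Subgroup Γ) (x : Γ) : Γ :=
  if h : ∃ z ∈ σ.ker, x * z⁻¹ ∈ M then h.choose else 1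

namespace Good

variable {N' : Subgroup G} {M : Subgroup Γ} (hG : Good σ U H N' M)
include hG

lemma pr_eq {x z : Γ} (hz : z ∈ σ.ker) (h1 : x * z⁻¹ ∈ M) : pr σ M x = z := by
  have h : ∃ z ∈ σ.ker, x * z⁻¹ ∈ M := ⟨z, hz, h1⟩
  rw [pr, dif_pos h]
  exact hG.pr_unique hc h.choose_spec.1 hz h.choose_spec.2 h1

lemma pr_mem {x : Γ} (hx : σ x ∈ N') : pr σ M x ∈ σ.ker ∧ x * (pr σ M x)⁻¹ ∈ M := by
  obtain ⟨z, hz, h1⟩ := hG.exists_pr hc hx
  rw [hG.pr_eq hc hz h1]; exact ⟨hz, h1⟩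

lemma pr_mul {x y : Γ} (hx : σ x ∈ N') (hy : σ y ∈ N') :
    pr σ M (x * y) = pr σ M x * pr σ M y := by
  obtain ⟨h1, h2⟩ := hG.pr_mem hc hx
  obtain ⟨h3, h4⟩ := hG.pr_mem hc hy
  refine hG.pr_eq hc (mul_mem h1 h3) ?_
  have h5 := mul_mem h2 h4
  have e := Subgroup.mem_center_iff.1 (hc (inv_mem h1)) (y * (pr σ M y)⁻¹)
  rwa [mul_assoc x, ← e, ← mul_assoc, ← mul_assoc, mul_assoc (x * y), ← mul_inv_rev] at h5

lemma pr_eq_one_iff {x : Γ} (hx : σ x ∈ N') : pr σ M x = 1 ↔ x ∈ M := by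
  obtain ⟨h1, h2⟩ := hG.pr_mem hc hx
  refine ⟨fun e => by simpa [e] using h2, fun h => hG.pr_eq hc (one_mem _) (by simpa using h)⟩

lemma pr_inv {x : Γ} (hx : σ x ∈ N') : pr σ M x⁻¹ = (pr σ M x)⁻¹ := by
  refine eq_inv_of_mul_eq_one_left ?_
  rw [← hG.pr_mul hc (by rw [map_inv]; exact inv_mem hx) hx, inv_mul_cancel]
  exact hG.pr_eq hc (one_mem _) (by simp)

/-- Conjugation by the torus does not move the kernel part. -/
lemma pr_conj {t x : Γ} (ht : σ t ∈ H) (hx : σ x ∈ N') :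
    pr σ M (t * x * t⁻¹) = pr σ M x := by
  obtain ⟨h1, h2⟩ := hG.pr_mem hc hx
  refine hG.pr_eq hc h1 ?_
  have h3 := hG.tor t ht _ h2
  have e := Subgroup.mem_center_iff.1 (hc (inv_mem h1)) t⁻¹
  rwa [show t * (x * (pr σ M x)⁻¹) * t⁻¹ = t * x * ((pr σ M x)⁻¹ * t⁻¹) by group, ← e,
    ← mul_assoc] at h3

/-- Conjugation by the preimage of `U` does not move the kernel part. -/
lemma pr_conjU {g x : Γ} (hg : σ g ∈ U) (hx : σ x ∈ N') :
    pr σ M (g * x * g⁻¹) = pr σ M x := by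
  obtain ⟨h1, h2⟩ := hG.pr_mem hc hx
  refine hG.pr_eq hc h1 ?_
  have h3 := mul_mem (hG.comm g x hg hx) h2
  rwa [commutatorElement_def, show g * x * g⁻¹ * x⁻¹ * (x * (pr σ M x)⁻¹) =
    g * x * g⁻¹ * (pr σ M x)⁻¹ by group] at h3

end Good

/-- The pairing of a layer. -/
noncomputable def pair (σ : Γ →* G) (M : Subgroup Γ) (g n : Γ) : Γ := pr σ M ⁅g, n⁆

/-- The elements of `U` and of `N` commute modulo the complement. -/
def Dead (σ : Γ →* G) (M : Subgroup Γ) (g n : G) : Prop :=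
  ∀ g' n', σ g' = g → σ n' = n → pair σ M g' n' = 1

/-- The layer conditions. -/
structure Layer (U H N N' : Subgroup G) : Prop where
  le : N' ≤ N
  sub : N ≤ U
  conjN : ∀ h ∈ H, ∀ n ∈ N, h * n * h⁻¹ ∈ N
  conjN' : ∀ h ∈ H, ∀ n ∈ N', h * n * h⁻¹ ∈ N'
  commUN : ∀ g ∈ U, ∀ n ∈ N, ⁅g, n⁆ ∈ N'

variable {N N' : Subgroup G} {M : Subgroup Γ} (hA : Act U H) (hL : Layer U H N N')
  (hG : Good σ U H N' M)
include hA hL hG

lemma σ_comm {g n : Γ} (hg : σ g ∈ U) (hn : σ n ∈ N) : σ ⁅g, n⁆ ∈ N' := by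
  rw [map_commutatorElement]; exact hL.commUN _ hg _ hn

lemma pair_mul_left {a b n : Γ} (ha : σ a ∈ U) (hb : σ b ∈ U) (hn : σ n ∈ N) :
    pair σ M (a * b) n = pair σ M b n * pair σ M a n := by
  have e : ⁅a * b, n⁆ = a * ⁅b, n⁆ * a⁻¹ * ⁅a, n⁆ := by
    simp only [commutatorElement_def]; group
  have h1 := σ_comm hc hA hL hG hb hn
  rw [pair, e, hG.pr_mul hc ?_ (σ_comm hc hA hL hG ha hn), hG.pr_conjU hc ha h1]
  · rfl
  · have h2 := mul_mem (hL.commUN _ ha _ (hL.le h1)) h1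
    rw [map_mul, map_mul, map_inv]
    rwa [commutatorElement_def, inv_mul_cancel_right] at h2

lemma pair_mul_right {g m n : Γ} (hg : σ g ∈ U) (hm : σ m ∈ N) (hn : σ n ∈ N) :
    pair σ M g (m * n) = pair σ M g m * pair σ M g n := by
  have e : ⁅g, m * n⁆ = ⁅g, m⁆ * (m * ⁅g, n⁆ * m⁻¹) := by
    simp only [commutatorElement_def]; group
  have h1 := σ_comm hc hA hL hG hg hn
  rw [pair, e, hG.pr_mul hc (σ_comm hc hA hL hG hg hm) ?_, hG.pr_conjU hc (hL.sub hm) h1]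
  · rfl
  · have h2 := mul_mem (hL.commUN _ (hL.sub hm) _ (hL.le h1)) h1
    rw [map_mul, map_mul, map_inv]
    rwa [commutatorElement_def, inv_mul_cancel_right] at h2

lemma pair_conj {t g n : Γ} (ht : σ t ∈ H) (hg : σ g ∈ U) (hn : σ n ∈ N) :
    pair σ M (t * g * t⁻¹) (t * n * t⁻¹) = pair σ M g n := by
  rw [pair, show ⁅t * g * t⁻¹, t * n * t⁻¹⁆ = t * ⁅g, n⁆ * t⁻¹ by
    simp only [commutatorElement_def]; group]
  exact hG.pr_conj hc ht (σ_comm hc hA hL hG hg hn)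

lemma pair_ker {g n : Γ} (hg : σ g ∈ U) (hn : σ n ∈ N) : pair σ M g n ∈ σ.ker :=
  (hG.pr_mem hc (σ_comm hc hA hL hG hg hn)).1

variable (hσ : Function.Surjective σ)
include hσ

lemma dead_iff {g n : G} {g' n' : Γ} (hg : σ g' = g) (hn : σ n' = n) :
    Dead σ M g n ↔ pair σ M g' n' = 1 := by
  refine ⟨fun h => h g' n' hg hn, fun h a b ha hb => ?_⟩
  rwa [pair, commutatorElement_congr' hc (ha.trans hg.symm) (hb.trans hn.symm)]

lemma dead_mul_left {a b n : G} (ha : a ∈ U) (hb : b ∈ U) (hn : n ∈ N) (h1 : Dead σ M a n)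
    (h2 : Dead σ M b n) : Dead σ M (a * b) n := by
  obtain ⟨a', rfl⟩ := hσ a
  obtain ⟨b', rfl⟩ := hσ b
  obtain ⟨n', rfl⟩ := hσ n
  rw [dead_iff hc hA hL hG hσ (map_mul σ a' b') rfl, pair_mul_left hc hA hL hG ha hb hn,
    h1 a' n' rfl rfl, h2 b' n' rfl rfl, one_mul]

lemma dead_mul_right {g m n : G} (hg : g ∈ U) (hm : m ∈ N) (hn : n ∈ N) (h1 : Dead σ M g m)
    (h2 : Dead σ M g n) : Dead σ M g (m * n) := by
  obtain ⟨g', rfl⟩ := hσ g
  obtain ⟨m', rfl⟩ := hσ m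
  obtain ⟨n', rfl⟩ := hσ n
  rw [dead_iff hc hA hL hG hσ rfl (map_mul σ m' n'), pair_mul_right hc hA hL hG hg hm hn,
    h1 g' m' rfl rfl, h2 g' n' rfl rfl, one_mul]

lemma dead_one_left (n : G) : Dead σ M 1 n := by
  obtain ⟨n', rfl⟩ := hσ n
  rw [dead_iff hc hA hL hG hσ (map_one σ) rfl, pair, commutatorElement_one_left]
  exact hG.pr_eq hc (one_mem _) (by simp)

lemma dead_one_right (g : G) : Dead σ M g 1 := by
  obtain ⟨g', rfl⟩ := hσ g
  rw [dead_iff hc hA hL hG hσ rfl (map_one σ), pair, commutatorElement_one_right]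
  exact hG.pr_eq hc (one_mem _) (by simp)

lemma dead_inv_left {g n : G} (hg : g ∈ U) (hn : n ∈ N) (h : Dead σ M g n) :
    Dead σ M g⁻¹ n := by
  obtain ⟨g', rfl⟩ := hσ g
  obtain ⟨n', rfl⟩ := hσ n
  rw [dead_iff hc hA hL hG hσ (map_inv σ g') rfl]
  have h1 := pair_mul_left hc hA hL hG (a := g') (b := g'⁻¹) (n := n') hg
    (by rw [map_inv]; exact inv_mem hg) hn
  rw [mul_inv_cancel, h g' n' rfl rfl, mul_one] at h1
  rw [← h1]
  exact (dead_one_left hc hA hL hG hσ _) 1 n' (map_one σ) rfl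

lemma dead_inv_right {g n : G} (hg : g ∈ U) (hn : n ∈ N) (h : Dead σ M g n) :
    Dead σ M g n⁻¹ := by
  obtain ⟨g', rfl⟩ := hσ g
  obtain ⟨n', rfl⟩ := hσ n
  rw [dead_iff hc hA hL hG hσ rfl (map_inv σ n')]
  have h1 := pair_mul_right hc hA hL hG (g := g') (m := n') (n := n'⁻¹) hg hn
    (by rw [map_inv]; exact inv_mem hn)
  rw [mul_inv_cancel, h g' n' rfl rfl, one_mul] at h1
  rw [← h1]
  exact (dead_one_right hc hA hL hG hσ _) g' 1 rfl (map_one σ)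

lemma dead_of_mem_bot {g n : G} (hg : g ∈ U) (hn : n ∈ N') : Dead σ M g n := fun g' n' e1 e2 =>
  (hG.pr_eq_one_iff hc (σ_comm hc hA hL hG (e1 ▸ hg) (e2 ▸ hL.le hn))).2
    (hG.comm g' n' (e1 ▸ hg) (e2 ▸ hn))

lemma dead_of_left_bot {g n : G} (hg : g ∈ N') (hn : n ∈ N) : Dead σ M g n := by
  intro g' n' e1 e2
  refine (hG.pr_eq_one_iff hc
    (σ_comm hc hA hL hG (e1 ▸ hL.sub (hL.le hg)) (e2 ▸ hn))).2 ?_
  rw [← commutatorElement_inv]
  exact inv_mem (hG.comm n' g' (e2 ▸ hL.sub hn) (e1 ▸ hg))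

lemma dead_of_commute {g n : G} {g' n' : Γ} (e1 : σ g' = g) (e2 : σ n' = n) (h : ⁅g', n'⁆ = 1) :
    Dead σ M g n := by
  rw [dead_iff hc hA hL hG hσ e1 e2, pair, h]
  exact hG.pr_eq hc (one_mem _) (by simp)

/-- A pairing with a commutator on the left is trivial. -/
lemma dead_commutator {a b n : G} (ha : a ∈ U) (hb : b ∈ U) (hn : n ∈ N) :
    Dead σ M ⁅a, b⁆ n := by
  obtain ⟨a', rfl⟩ := hσ a
  obtain ⟨b', rfl⟩ := hσ b
  obtain ⟨n', rfl⟩ := hσ n
  rw [dead_iff hc hA hL hG hσ (map_commutatorElement σ a' b') rfl]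
  have hi : ∀ x : Γ, σ x ∈ U → σ x⁻¹ ∈ U := fun x hx => by rw [map_inv]; exact inv_mem hx
  have hinv : ∀ x : Γ, σ x ∈ U → pair σ M x⁻¹ n' * pair σ M x n' = 1 := by
    intro x hx
    rw [← pair_mul_left hc hA hL hG hx (hi x hx) hn, mul_inv_cancel]
    exact (dead_one_left hc hA hL hG hσ _) 1 n' (map_one σ) rfl
  have hcen : ∀ x : Γ, σ x ∈ U → ∀ t, pair σ M x n' * t = t * pair σ M x n' := fun x hx t =>
    (Subgroup.mem_center_iff.1 (hc (pair_ker hc hA hL hG hx hn)) t).symm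
  have m2 : σ (a' * b') ∈ U := by rw [map_mul]; exact mul_mem ha hb
  have m3 : σ (a' * b' * a'⁻¹) ∈ U := by rw [map_mul]; exact mul_mem m2 (hi _ ha)
  rw [commutatorElement_def, pair_mul_left hc hA hL hG m3 (hi _ hb) hn,
    pair_mul_left hc hA hL hG m2 (hi _ ha) hn, pair_mul_left hc hA hL hG ha hb hn]
  calc pair σ M b'⁻¹ n' * (pair σ M a'⁻¹ n' * (pair σ M b' n' * pair σ M a' n'))
      = pair σ M b'⁻¹ n' * (pair σ M a'⁻¹ n' * (pair σ M a' n' * pair σ M b' n')) := by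
        rw [hcen b' hb (pair σ M a' n')]
    _ = pair σ M b'⁻¹ n' * ((pair σ M a'⁻¹ n' * pair σ M a' n') * pair σ M b' n') := by group
    _ = 1 := by rw [hinv a' ha, one_mul, hinv b' hb]

/-- The torus fixes the left argument and moves the right one. -/
lemma dead_of_fix_left {h g x : G} (hh : h ∈ H) (hg : g ∈ U) (hx : x ∈ N)
    (hfix : h * g * h⁻¹ = g) : Dead σ M g ⁅h, x⁆ := by
  obtain ⟨h', rfl⟩ := hσ h
  obtain ⟨g', rfl⟩ := hσ g
  obtain ⟨x', rfl⟩ := hσ x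
  rw [dead_iff hc hA hL hG hσ rfl (map_commutatorElement σ h' x')]
  have h1 := pair_conj hc hA hL hG hh hg hx
  have e2 : pair σ M (h' * g' * h'⁻¹) (h' * x' * h'⁻¹) = pair σ M g' (h' * x' * h'⁻¹) := by
    rw [pair, pair, commutatorElement_congr' hc (a' := g') (b' := h' * x' * h'⁻¹)
      (by simpa using hfix) rfl]
  rw [e2] at h1
  have m1 : σ (h' * x' * h'⁻¹) ∈ N := by
    rw [map_mul, map_mul, map_inv]; exact hL.conjN _ hh _ hx
  rw [commutatorElement_def, pair_mul_right hc hA hL hG hg m1 (by rw [map_inv]; exact inv_mem hx),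
    h1, ← pair_mul_right hc hA hL hG hg hx (by rw [map_inv]; exact inv_mem hx), mul_inv_cancel]
  exact (dead_one_right hc hA hL hG hσ _) g' 1 rfl (map_one σ)

/-- The torus fixes the layer and moves the left argument. -/
lemma dead_of_fix_right {h g n : G} (hh : h ∈ H) (hg : g ∈ U) (hn : n ∈ N)
    (hfix : ⁅h, n⁆ ∈ N') : Dead σ M ⁅h, g⁆ n := by
  obtain ⟨h', rfl⟩ := hσ h
  obtain ⟨g', rfl⟩ := hσ g
  obtain ⟨n', rfl⟩ := hσ n
  rw [dead_iff hc hA hL hG hσ (map_commutatorElement σ h' g') rfl]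
  have m1 : σ (h' * g' * h'⁻¹) ∈ U := by
    rw [map_mul, map_mul, map_inv]; exact hA.conjU _ hh _ hg
  have mg : σ g'⁻¹ ∈ U := by rw [map_inv]; exact inv_mem hg
  have h1 := pair_conj hc hA hL hG hh hg hn
  have e2 : pair σ M (h' * g' * h'⁻¹) (h' * n' * h'⁻¹) = pair σ M (h' * g' * h'⁻¹) n' := by
    have h2 : σ ⁅h', n'⁆ ∈ N' := by rw [map_commutatorElement]; exact hfix
    rw [show h' * n' * h'⁻¹ = ⁅h', n'⁆ * n' by rw [commutatorElement_def]; group,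
      pair_mul_right hc hA hL hG m1 (hL.le h2) hn,
      (dead_of_mem_bot hc hA hL hG hσ m1 h2) _ _ rfl rfl, one_mul]
  rw [e2] at h1
  rw [commutatorElement_def, pair_mul_left hc hA hL hG m1 mg hn, h1,
    ← pair_mul_left hc hA hL hG hg mg hn, mul_inv_cancel]
  exact (dead_one_left hc hA hL hG hσ _) 1 n' (map_one σ) rfl

/-- It suffices to kill the pairing on generators. -/
theorem dead_of_gens {S T : Set G}
    (hS : U ≤ Subgroup.closure (S ∪ {x | ∃ a ∈ U, ∃ b ∈ U, x = ⁅a, b⁆}))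
    (hSU : S ⊆ U) (hT : N ≤ Subgroup.closure (T ∪ (N' : Set G))) (hTN : T ⊆ N)
    (h : ∀ g ∈ S, ∀ n ∈ T, Dead σ M g n) : ∀ g ∈ U, ∀ n ∈ N, Dead σ M g n := by
  have hSU' : Subgroup.closure (S ∪ {x | ∃ a ∈ U, ∃ b ∈ U, x = ⁅a, b⁆}) ≤ U := by
    refine (Subgroup.closure_le _).2 (Set.union_subset hSU ?_)
    rintro _ ⟨a, ha, b, hb, rfl⟩
    rw [commutatorElement_def]
    exact mul_mem (mul_mem (mul_mem ha hb) (inv_mem ha)) (inv_mem hb)
  have hTN' : Subgroup.closure (T ∪ (N' : Set G)) ≤ N :=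
    (Subgroup.closure_le _).2 (Set.union_subset hTN hL.le)
  have h1 : ∀ g ∈ S, ∀ n ∈ N, Dead σ M g n := by
    intro g hg n hn
    refine Subgroup.closure_induction (p := fun n _ => Dead σ M g n) ?_ ?_ ?_ ?_ (hT hn)
    · rintro x (hx | hx)
      exacts [h g hg x hx, dead_of_mem_bot hc hA hL hG hσ (hSU hg) hx]
    · exact dead_one_right hc hA hL hG hσ g
    · exact fun a b ha hb iha ihb =>
        dead_mul_right hc hA hL hG hσ (hSU hg) (hTN' ha) (hTN' hb) iha ihb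
    · exact fun a ha iha => dead_inv_right hc hA hL hG hσ (hSU hg) (hTN' ha) iha
  intro g hg n hn
  refine Subgroup.closure_induction (p := fun g _ => Dead σ M g n) ?_ ?_ ?_ ?_ (hS hg)
  · rintro x (hx | ⟨a, ha, b, hb, rfl⟩)
    exacts [h1 x hx n hn, dead_commutator hc hA hL hG hσ ha hb hn]
  · exact dead_one_left hc hA hL hG hσ n
  · exact fun a b ha hb iha ihb =>
      dead_mul_left hc hA hL hG hσ (hSU' ha) (hSU' hb) hn iha ihb
  · exact fun a ha iha => dead_inv_left hc hA hL hG hσ (hSU' ha) hn iha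

/-- The commutators with a dead layer lie in the complement. -/
lemma comm_mem (hd : ∀ g ∈ U, ∀ n ∈ N, Dead σ M g n) {g n : Γ} (hg : σ g ∈ U) (hn : σ n ∈ N) :
    ⁅g, n⁆ ∈ M :=
  (hG.pr_eq_one_iff hc (σ_comm hc hA hL hG hg hn)).1 (hd _ hg _ hn g n rfl rfl)

/-- One step up the chain. -/
theorem Good.step (hd : ∀ g ∈ U, ∀ n ∈ N, Dead σ M g n) {h : G} (hh : h ∈ H)
    (hinj : ∀ x ∈ N, ⁅h, x⁆ ∈ N' → x ∈ N') (hsur : ∀ n ∈ N, ∃ x ∈ N, ⁅h, x⁆⁻¹ * n ∈ N') :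
    ∃ M' : Subgroup Γ, Good σ U H N M' := by
  obtain ⟨t, rfl⟩ := hσ h
  have hconj : ∀ g, σ g ∈ U → ∀ e ∈ M, g * e * g⁻¹ ∈ M := fun g hg e he => by
    have := mul_mem (hG.comm g e hg (hG.le he)) he
    rwa [commutatorElement_def, inv_mul_cancel_right] at this
  have hcN : ∀ x, σ x ∈ N → σ ⁅t, x⁆ ∈ N := fun x hx => by
    rw [map_commutatorElement, commutatorElement_def]
    exact mul_mem (hL.conjN _ hh _ hx) (inv_mem hx)
  -- commutators with the torus element multiply modulo the complement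
  have hmul : ∀ x y, σ x ∈ N → σ y ∈ N → (⁅t, x⁆ * ⁅t, y⁆)⁻¹ * ⁅t, x * y⁆ ∈ M := by
    intro x y hx hy
    rw [show (⁅t, x⁆ * ⁅t, y⁆)⁻¹ * ⁅t, x * y⁆ = ⁅⁅t, y⁆⁻¹, x⁆ by
      simp only [commutatorElement_def]; group]
    exact comm_mem hc hA hL hG hσ hd (by rw [map_inv]; exact inv_mem (hL.sub (hcN y hy))) hx
  let M' : Subgroup Γ :=
    { carrier := {e | ∃ x, σ x ∈ N ∧ ⁅t, x⁆⁻¹ * e ∈ M}
      one_mem' := ⟨1, by rw [map_one]; exact one_mem _, by simp⟩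
      mul_mem' := by
        rintro a b ⟨x, hx, h1⟩ ⟨y, hy, h2⟩
        refine ⟨x * y, by rw [map_mul]; exact mul_mem hx hy, ?_⟩
        have h3 := mul_mem (mul_mem (inv_mem (hmul x y hx hy))
          (hconj (⁅t, y⁆⁻¹) (by rw [map_inv]; exact inv_mem (hL.sub (hcN y hy))) _ h1)) h2
        rw [inv_inv] at h3
        convert h3 using 1
        group
      inv_mem' := by
        rintro a ⟨x, hx, h1⟩
        have hx' : σ x⁻¹ ∈ N := by rw [map_inv]; exact inv_mem hx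
        refine ⟨x⁻¹, hx', ?_⟩
        have h2 := hmul x x⁻¹ hx hx'
        rw [mul_inv_cancel, commutatorElement_one_right, mul_one] at h2
        have h3 := mul_mem h2 (hconj _ (hL.sub (hcN x hx)) _ (inv_mem h1))
        convert h3 using 1
        group }
  have hM : M ≤ M' := fun e he => ⟨1, by rw [map_one]; exact one_mem _, by simpa using he⟩
  refine ⟨M', fun e he => ?_, fun n hn => ?_, fun e he he1 => ?_,
    fun g n hg hn => hM (comm_mem hc hA hL hG hσ hd hg hn), fun s hs e he => ?_⟩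
  · obtain ⟨x, hx, h1⟩ := he
    have h2 := mul_mem (hcN x hx) (hL.le (hG.le h1))
    rwa [← map_mul, mul_inv_cancel_left] at h2
  · obtain ⟨x, hx, h1⟩ := hsur n hn
    obtain ⟨x', rfl⟩ := hσ x
    obtain ⟨e, he, hσe⟩ := hG.cover _ h1
    refine ⟨⁅t, x'⁆ * e, ⟨x', hx, by rwa [inv_mul_cancel_left]⟩, ?_⟩
    rw [map_mul, hσe, map_commutatorElement, mul_inv_cancel_left]
  · obtain ⟨x, hx, h1⟩ := he
    have h2 : ⁅σ t, σ x⁆ ∈ N' := by
      have h3 := hG.le h1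
      rw [Subgroup.mem_comap, map_mul, map_inv, he1, mul_one, inv_mem_iff,
        map_commutatorElement] at h3
      exact h3
    obtain ⟨z, hz, h4⟩ := hG.exists_pr hc (hinj _ hx h2)
    have h5 : ⁅t, x⁆ ∈ M := by
      rw [commutatorElement_congr' hc (a' := t) (b' := x * z⁻¹) rfl
        (by rw [map_mul, map_inv, MonoidHom.mem_ker.1 hz, inv_one, mul_one]),
        commutatorElement_def]
      exact mul_mem (hG.tor t hh _ h4) (inv_mem h4)
    refine hG.triv _ ?_ he1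
    have h6 := mul_mem h5 h1
    rwa [mul_inv_cancel_left] at h6
  · obtain ⟨x, hx, h1⟩ := he
    refine ⟨s * x * s⁻¹, by rw [map_mul, map_mul, map_inv]; exact hL.conjN _ hs _ hx, ?_⟩
    have h2 := hG.tor s hs _ h1
    rw [show s * (⁅t, x⁆⁻¹ * e) * s⁻¹ = (⁅s * t * s⁻¹, s * x * s⁻¹⁆)⁻¹ * (s * e * s⁻¹) by
      simp only [commutatorElement_def]; group,
      commutatorElement_congr' hc (a' := t) (b' := s * x * s⁻¹)
        (by rw [map_mul, map_mul, map_inv, hA.commH _ hs _ hh, mul_inv_cancel_right]) rfl] at h2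
    exact h2

/-- At the top of the chain: the preimage of `U` has derived subgroup meeting the kernel
trivially. -/
theorem top_inf_ker (htop : N = U) (hd : ∀ g ∈ U, ∀ n ∈ N, Dead σ M g n) {z : Γ}
    (hz : z ∈ σ.ker) (hzd : z ∈ ⁅U.comap σ, U.comap σ⁆) : z = 1 := by
  have hle : ⁅U.comap σ, U.comap σ⁆ ≤ M := Subgroup.commutator_le.2 fun a ha b hb =>
    comm_mem hc hA hL hG hσ hd ha (htop.symm ▸ hb)
  exact hG.triv _ (hle hzd) (MonoidHom.mem_ker.1 hz)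

omit hA hL hσ in
/-- Commuting elements moved into a layer with a complement have commuting lifts. -/
theorem commute_of_conj {m a b : Γ} (hN : N' ≤ U) (hab : σ a * σ b = σ b * σ a)
    (ha : σ (m * a * m⁻¹) ∈ N') (hb : σ (m * b * m⁻¹) ∈ N') : ⁅a, b⁆ = 1 := by
  have h1 := hG.triv _ (hG.comm _ _ (hN ha) hb) (by
    simp only [map_commutatorElement, map_mul, map_inv, commutatorElement_def]
    calc σ m * σ a * (σ m)⁻¹ * (σ m * σ b * (σ m)⁻¹) * (σ m * σ a * (σ m)⁻¹)⁻¹ *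
          (σ m * σ b * (σ m)⁻¹)⁻¹ = σ m * (σ a * σ b * (σ b * σ a)⁻¹) * (σ m)⁻¹ := by group
      _ = 1 := by rw [hab, mul_inv_cancel]; group)
  rw [show ⁅m * a * m⁻¹, m * b * m⁻¹⁆ = m * ⁅a, b⁆ * m⁻¹ by
    simp only [commutatorElement_def]; group] at h1
  exact conj_eq_one_iff.1 h1

end CfsgLib.Schur.Chain
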