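import Cfsg.Agent.Lib.Schur.ChainSplit

/-!
Central extensions over a group `U = XQ` with `Q` of symplectic type over the field of two elements
and generated by an orbit of `X`: the derived subgroup of the preimage meets the kernel trivially.
-/

set_option autoImplicit false
set_option linter.unusedSectionVars false

open scoped commutatorElement Pointwise

namespace CfsgLib.Schur.ParTwo

variable {Γ G : Type*} [Group Γ] [Group G]

/-- The configuration. -/
structure Conf (G : Type*) [Group G] where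
  /-- the group -/
  U : Subgroup G
  /-- the Levi part -/
  X : Subgroup G
  /-- the radical -/
  Q : Subgroup G
  /-- the central involution -/
  c : G
  /-- the generator of the orbit -/
  b : G
  /-- the torus element -/
  h : G
  /-- a representative moving `b` down -/
  n : G
  /-- a representative moving `X` into the radical -/
  m : G
  U_eq : U = X ⊔ Q
  X_comm : ∀ x ∈ X, ∀ y ∈ X, x * y = y * x
  c_mem : c ∈ Q
  c_ne : c ≠ 1
  c_sq : c * c = 1
  c_comm : ∀ u ∈ U, u * c = c * u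
  Q_comm : ∀ u ∈ Q, ∀ v ∈ Q, ⁅u, v⁆ = 1 ∨ ⁅u, v⁆ = c
  b_mem : b ∈ Q
  b_sq : b * b = 1
  X_conj : ∀ x ∈ X, x * b * x⁻¹ ∈ Q
  Q_gen : Q ≤ Subgroup.closure ({g | ∃ x ∈ X, g = x * b * x⁻¹} ∪ {c})
  card_Q : Nat.card Q = 2 ^ Nat.card X * 2
  h_b : h * b * h⁻¹ = b
  h_c : h * c * h⁻¹ = c
  h_Q : ∀ v ∈ Q, h * v * h⁻¹ ∈ Q
  h_odd : ∃ k : ℕ, Odd k ∧ h ^ k = 1
  h_X : ∀ x ∈ X, ∃ y ∈ X, ⁅h, y⁆ = x
  n_c : n * c * n⁻¹ = c
  n_b : n * b * n⁻¹ ∈ Q
  n_derived : n * b * n⁻¹ ∈ Subgroup.closure ({g | ∃ u ∈ U, ∃ v ∈ U, g = ⁅u, v⁆} ∪ {c})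
  n_pair : ⁅b, n * b * n⁻¹⁆ = c
  Q_torus : Q ≤ Subgroup.closure ({b, n * b * n⁻¹, c} ∪ {g | ∃ v ∈ Q, g = ⁅h, v⁆})
  m_X : ∀ x ∈ X, m * x * m⁻¹ ∈ Q

/-- An inductive step of the count. -/
lemma card_sup_zpowers_le [Finite Γ] {D : Subgroup Γ} {d : Γ}
    (hd : ∀ e ∈ D, d * e * d⁻¹ ∈ D) (hd2 : d * d ∈ D) :
    Nat.card ↥(D ⊔ Subgroup.zpowers d) ≤ Nat.card D * 2 := by
  classical
  have hn : Subgroup.zpowers d ≤ Subgroup.normalizer (D : Set Γ) := by
    rw [Subgroup.zpowers_le, Subgroup.mem_normalizer_iff]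
    refine fun e => ⟨hd e, fun he => ?_⟩
    have h1 := mul_mem (mul_mem (inv_mem hd2) (hd _ he)) hd2
    rwa [show (d * d)⁻¹ * (d * (d * e * d⁻¹) * d⁻¹) * (d * d) = e by group] at h1
  have hsub : ((D ⊔ Subgroup.zpowers d : Subgroup Γ) : Set Γ) ⊆
      (D : Set Γ) * ({1, d} : Set Γ) := by
    rw [Subgroup.coe_mul_of_right_le_normalizer_left _ _ hn]
    rintro _ ⟨e, he, g, hg, rfl⟩
    obtain ⟨k, rfl⟩ := Subgroup.mem_zpowers_iff.1 hg
    rcases Int.even_or_odd k with ⟨j, rfl⟩ | ⟨j, rfl⟩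
    · refine ⟨e * (d * d) ^ j, mul_mem he (zpow_mem hd2 j), 1, Or.inl rfl, ?_⟩
      show e * (d * d) ^ j * 1 = e * d ^ (j + j)
      rw [mul_one, (Commute.refl d).mul_zpow, zpow_add]
    · refine ⟨e * (d * d) ^ j, mul_mem he (zpow_mem hd2 j), d, Or.inr rfl, ?_⟩
      show e * (d * d) ^ j * d = e * d ^ (2 * j + 1)
      rw [two_mul, zpow_add_one, zpow_add, (Commute.refl d).mul_zpow, mul_assoc e]
  calc Nat.card ↥(D ⊔ Subgroup.zpowers d)
      ≤ Nat.card ↥((D : Set Γ) * ({1, d} : Set Γ)) := Nat.card_mono (Set.toFinite _) hsub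
    _ ≤ Nat.card D * Nat.card ↥({1, d} : Set Γ) := Set.natCard_mul_le
    _ ≤ Nat.card D * 2 := by
        refine Nat.mul_le_mul_left _ ?_
        rw [Nat.card_coe_set_eq]
        exact (Set.ncard_insert_le _ _).trans (by rw [Set.ncard_singleton])

variable (S : Conf G) (σ : Γ →* G)

/-- The derived subgroup of the preimage meets the kernel trivially. -/
theorem inf_ker [Finite Γ] (hσ : Function.Surjective σ) (hc : σ.ker ≤ Subgroup.center Γ) {z : Γ}
    (hz : z ∈ σ.ker) (hzd : z ∈ ⁅S.U.comap σ, S.U.comap σ⁆) : z = 1 := by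
  classical
  have : Finite G := Finite.of_surjective σ hσ
  obtain ⟨ch, hch⟩ := hσ S.c
  obtain ⟨bh, hbh⟩ := hσ S.b
  obtain ⟨nh, hnh⟩ := hσ S.n
  obtain ⟨th, hth⟩ := hσ S.h
  have congrC : ∀ {a a' b b' : Γ}, σ a = σ a' → σ b = σ b' → ⁅a, b⁆ = ⁅a', b'⁆ :=
    fun ha hb => Chain.commutatorElement_congr' hc ha hb
  have cen : ∀ {w : Γ}, σ w = 1 → ∀ t, t * w = w * t := fun hw t =>
    Subgroup.mem_center_iff.1 (hc (MonoidHom.mem_ker.2 hw)) t
  have hQU : S.Q ≤ S.U := S.U_eq ▸ le_sup_right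
  have hXU : S.X ≤ S.U := S.U_eq ▸ le_sup_left
  -- the preimage of the central involution is central in that of `U`
  have kerC : ∀ g, σ g ∈ S.U → σ ⁅g, ch⁆ = 1 := fun g hg => by
    rw [map_commutatorElement, hch, commutatorElement_eq_one_iff_mul_comm, S.c_comm _ hg]
  let Φ : ↥(S.U.comap σ) →* Γ :=
    { toFun := fun g => ⁅(g : Γ), ch⁆
      map_one' := by simp
      map_mul' := fun a b => by
        rw [Subgroup.coe_mul, show ⁅(a : Γ) * b, ch⁆ = (a : Γ) * ⁅(b : Γ), ch⁆ * (a : Γ)⁻¹ *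
          ⁅(a : Γ), ch⁆ by simp only [commutatorElement_def]; group]
        rw [cen (kerC _ b.2) (a : Γ), mul_inv_cancel_right, cen (kerC _ a.2)] }
  have hΦh : ∀ y ∈ S.U, S.h * y * S.h⁻¹ ∈ S.U → ∀ e f, σ e = y → σ f = S.h * y * S.h⁻¹ →
      ⁅e, ch⁆ = ⁅f, ch⁆ := by
    intro y hy _ e f he hf
    rw [congrC (a := f) (a' := th * e * th⁻¹) (b := ch) (b' := th * ch * th⁻¹)
      (by rw [hf, map_mul, map_mul, map_inv, hth, he])
      (by rw [map_mul, map_mul, map_inv, hth, hch, S.h_c]),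
      show ⁅th * e * th⁻¹, th * ch * th⁻¹⁆ = th * ⁅e, ch⁆ * th⁻¹ by
        simp only [commutatorElement_def]; group,
      cen (kerC _ (he ▸ hy)) th, mul_inv_cancel_right]
  have hX1 : ∀ g, σ g ∈ S.X → ⁅g, ch⁆ = 1 := by
    intro g hg
    obtain ⟨y, hy, e⟩ := S.h_X _ hg
    obtain ⟨yh, hyh⟩ := hσ y
    have hy' : S.h * y * S.h⁻¹ ∈ S.U := by
      have := mul_mem hg hy
      rw [← e, commutatorElement_def, inv_mul_cancel_right] at this
      exact hXU this
    obtain ⟨fh, hfh⟩ := hσ (S.h * y * S.h⁻¹)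
    have hg2 : σ g = σ (fh * yh⁻¹) := by
      rw [map_mul, map_inv, hfh, hyh, ← e, commutatorElement_def]
    rw [congrC (a' := fh * yh⁻¹) (b' := ch) hg2 rfl]
    have h1 := Φ.map_mul ⟨fh, show σ fh ∈ S.U from hfh ▸ hy'⟩
      ⟨yh⁻¹, show σ yh⁻¹ ∈ S.U by rw [map_inv, hyh]; exact inv_mem (hXU hy)⟩
    change ⁅fh * yh⁻¹, ch⁆ = ⁅fh, ch⁆ * ⁅yh⁻¹, ch⁆ at h1
    rw [h1, ← hΦh y (hXU hy) hy' yh fh hyh hfh]
    have h2 := Φ.map_inv ⟨yh, show σ yh ∈ S.U from hyh ▸ hXU hy⟩
    change ⁅yh⁻¹, ch⁆ = ⁅yh, ch⁆⁻¹ at h2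
    rw [h2, mul_inv_cancel]
  have hder : ∀ g, σ g ∈ Subgroup.closure ({x | ∃ u ∈ S.U, ∃ v ∈ S.U, x = ⁅u, v⁆} ∪ {S.c}) →
      ⁅g, ch⁆ = 1 := by
    intro g hg
    suffices ∀ y ∈ Subgroup.closure ({x | ∃ u ∈ S.U, ∃ v ∈ S.U, x = ⁅u, v⁆} ∪ {S.c}),
        y ∈ S.U ∧ ∀ e, σ e = y → ⁅e, ch⁆ = 1 from (this _ hg).2 g rfl
    intro y hy
    induction hy using Subgroup.closure_induction with
    | mem y hy =>
      rcases hy with ⟨u, hu, v, hv, rfl⟩ | rfl
      · refine ⟨?_, fun e he => ?_⟩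
        · rw [commutatorElement_def]
          exact mul_mem (mul_mem (mul_mem hu hv) (inv_mem hu)) (inv_mem hv)
        · obtain ⟨uh, huh⟩ := hσ u
          obtain ⟨vh, hvh⟩ := hσ v
          rw [congrC (a' := ⁅uh, vh⁆) (b' := ch) (by rw [he, map_commutatorElement, huh, hvh]) rfl]
          have h1 := map_commutatorElement Φ ⟨uh, show σ uh ∈ S.U from huh ▸ hu⟩
            ⟨vh, show σ vh ∈ S.U from hvh ▸ hv⟩
          change ⁅⁅uh, vh⁆, ch⁆ = ⁅⁅uh, ch⁆, ⁅vh, ch⁆⁆ at h1
          rw [h1, commutatorElement_eq_one_iff_mul_comm]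
          exact cen (kerC _ (hvh ▸ hv)) _
      · exact ⟨hQU S.c_mem, fun e he => by
          rw [congrC (a' := ch) (b' := ch) (he.trans hch.symm) rfl, commutatorElement_self]⟩
    | one => exact ⟨one_mem _, fun e he => by
        rw [congrC (a' := 1) (b' := ch) (he.trans (map_one σ).symm) rfl,
          commutatorElement_one_left]⟩
    | mul a b _ _ iha ihb =>
      refine ⟨mul_mem iha.1 ihb.1, fun e he => ?_⟩
      obtain ⟨ah, hah⟩ := hσ a
      obtain ⟨bh', hbh'⟩ := hσ b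
      rw [congrC (a' := ah * bh') (b' := ch) (by rw [he, map_mul, hah, hbh']) rfl]
      have h1 := Φ.map_mul ⟨ah, show σ ah ∈ S.U from hah ▸ iha.1⟩
        ⟨bh', show σ bh' ∈ S.U from hbh' ▸ ihb.1⟩
      change ⁅ah * bh', ch⁆ = ⁅ah, ch⁆ * ⁅bh', ch⁆ at h1
      rw [h1, iha.2 ah hah, ihb.2 bh' hbh', mul_one]
    | inv a _ iha =>
      refine ⟨inv_mem iha.1, fun e he => ?_⟩
      obtain ⟨ah, hah⟩ := hσ a
      rw [congrC (a' := ah⁻¹) (b' := ch) (by rw [he, map_inv, hah]) rfl]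
      have h1 := Φ.map_inv ⟨ah, show σ ah ∈ S.U from hah ▸ iha.1⟩
      change ⁅ah⁻¹, ch⁆ = ⁅ah, ch⁆⁻¹ at h1
      rw [h1, iha.2 ah hah, inv_one]
  have hb1 : ⁅bh, ch⁆ = 1 := by
    have h1 : ⁅nh * bh * nh⁻¹, nh * ch * nh⁻¹⁆ = 1 := by
      rw [congrC (a' := nh * bh * nh⁻¹) (b' := ch) rfl
        (by rw [map_mul, map_mul, map_inv, hnh, hch, S.n_c])]
      exact hder _ (by rw [map_mul, map_mul, map_inv, hnh, hbh]; exact S.n_derived)
    rw [show ⁅nh * bh * nh⁻¹, nh * ch * nh⁻¹⁆ = nh * ⁅bh, ch⁆ * nh⁻¹ by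
      simp only [commutatorElement_def]; group] at h1
    exact conj_eq_one_iff.1 h1
  let orb : Γ → Γ := fun x => x * bh * x⁻¹
  have hgenQ : ∀ g, σ g ∈ S.Q →
      g ∈ Subgroup.closure ({e | ∃ x, σ x ∈ S.X ∧ e = orb x} ∪ {ch} ∪ (σ.ker : Set Γ)) := by
    intro g hg
    have h1 : Subgroup.closure ({g | ∃ x ∈ S.X, g = x * S.b * x⁻¹} ∪ {S.c}) ≤
        (Subgroup.closure ({e | ∃ x, σ x ∈ S.X ∧ e = orb x} ∪ {ch} ∪ (σ.ker : Set Γ))).map σ := by
      refine (Subgroup.closure_le _).2 ?_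
      rintro _ (⟨x, hx, rfl⟩ | rfl)
      · obtain ⟨xh, rfl⟩ := hσ x
        exact ⟨orb xh, Subgroup.subset_closure (Or.inl (Or.inl ⟨xh, hx, rfl⟩)),
          by simp [orb, hbh]⟩
      · exact ⟨ch, Subgroup.subset_closure (Or.inl (Or.inr rfl)), hch⟩
    obtain ⟨e, he, hσe⟩ := h1 (S.Q_gen hg)
    have : e⁻¹ * g ∈ Subgroup.closure ({e | ∃ x, σ x ∈ S.X ∧ e = orb x} ∪ {ch} ∪ (σ.ker : Set Γ)) :=
      Subgroup.subset_closure (Or.inr (by
        rw [SetLike.mem_coe, MonoidHom.mem_ker, map_mul, map_inv, hσe, inv_mul_cancel]))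
    simpa using mul_mem he this
  have hchc : ∀ g, σ g ∈ S.U → g * ch = ch * g := by
    have hX' : ∀ g, σ g ∈ S.X → g * ch = ch * g := fun g hg =>
      commutatorElement_eq_one_iff_mul_comm.1 (hX1 g hg)
    have hQ' : ∀ g, σ g ∈ S.Q → g ∈ Subgroup.centralizer {ch} := fun g hg => by
      refine (Subgroup.closure_le _).2 ?_ (hgenQ g hg)
      rintro e ((⟨x, hx, rfl⟩ | rfl) | he)
      · refine Subgroup.mem_centralizer_singleton_iff.2 ?_
        have hxc : Commute x ch := hX' x hx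
        have hbc : Commute bh ch := commutatorElement_eq_one_iff_mul_comm.1 hb1
        exact ((hxc.mul_left hbc).mul_left hxc.inv_left).eq
      · exact Subgroup.mem_centralizer_singleton_iff.2 rfl
      · exact Subgroup.mem_centralizer_singleton_iff.2 (cen (MonoidHom.mem_ker.1 he) ch).symm
    intro g hg
    have h1 : S.U ≤ (Subgroup.centralizer {ch}).map σ := by
      rw [S.U_eq]
      refine sup_le (fun y hy => ?_) fun y hy => ?_
      · obtain ⟨e, rfl⟩ := hσ y
        exact ⟨e, Subgroup.mem_centralizer_singleton_iff.2 (hX' e hy), rfl⟩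
      · obtain ⟨e, rfl⟩ := hσ y
        exact ⟨e, hQ' e hy, rfl⟩
    obtain ⟨e, he, hσe⟩ := h1 hg
    have h2 : (e⁻¹ * g) * ch = ch * (e⁻¹ * g) :=
      (cen (by rw [map_mul, map_inv, hσe, inv_mul_cancel]) ch).symm
    have h3 : Commute e ch := Subgroup.mem_centralizer_singleton_iff.1 he
    simpa [mul_assoc] using (h3.mul_left h2).eq
  -- everything over `⟨c⟩` is central in the preimage of `U`
  have hcent : ∀ w, (σ w = 1 ∨ σ w = S.c) → ∀ g, σ g ∈ S.U → g * w = w * g := by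
    rintro w (hw | hw) g hg
    · exact cen hw g
    · have h2 : Commute g (ch⁻¹ * w) :=
        cen (by rw [map_mul, map_inv, hch, hw, inv_mul_cancel]) g
      have h3 : Commute g ch := hchc g hg
      simpa using (h3.mul_right h2).eq
  have htc : ∀ w, σ w = S.c → th * w * th⁻¹ = w := by
    intro w hw
    set v := w⁻¹ * (th * w * th⁻¹) with hv
    have hv1 : σ v = 1 := by
      rw [hv, map_mul, map_mul, map_mul, map_inv, map_inv, hth, hw, S.h_c, inv_mul_cancel]
    have hconj : th * w * th⁻¹ = w * v := by rw [hv, mul_inv_cancel_left]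
    have hv2 : v ^ 2 = 1 := by
      have h1 : th * (w * w) * th⁻¹ = w * w := by
        rw [cen (by rw [map_mul, hw, S.c_sq]) th, mul_inv_cancel_right]
      have h2 : th * (w * w) * th⁻¹ = (w * v) * (w * v) := by rw [← hconj]; group
      rw [h1, show w * v * (w * v) = w * (v * w) * v by group, ← cen hv1 w,
        show w * (w * v) * v = (w * w) * v ^ 2 by rw [pow_two]; group] at h2
      exact left_eq_mul.1 h2
    obtain ⟨k, hk, hk1⟩ := S.h_odd
    have hpow : ∀ j : ℕ, th ^ j * w * (th ^ j)⁻¹ = w * v ^ j := by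
      intro j
      induction j with
      | zero => simp
      | succ j ih =>
        rw [pow_succ' th, mul_inv_rev,
          show th * th ^ j * w * ((th ^ j)⁻¹ * th⁻¹) = th * (th ^ j * w * (th ^ j)⁻¹) * th⁻¹ by
            group, ih,
          show th * (w * v ^ j) * th⁻¹ = th * w * th⁻¹ * (th * v ^ j * th⁻¹) by group, hconj,
          cen (by rw [map_pow, hv1, one_pow]) th, mul_inv_cancel_right, mul_assoc w, pow_succ']
    have h3 := hpow k
    rw [← cen (by rw [map_pow, hth, hk1]) w, mul_inv_cancel_right, left_eq_mul] at h3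
    obtain ⟨j, rfl⟩ := hk
    rw [pow_succ, pow_mul, hv2, one_pow, one_mul] at h3
    rw [hconj, h3, mul_one]
  -- commutators in the radical
  have hQc : ∀ u v, σ u ∈ S.Q → σ v ∈ S.Q → σ ⁅u, v⁆ = 1 ∨ σ ⁅u, v⁆ = S.c := fun u v hu hv => by
    rw [map_commutatorElement]; exact S.Q_comm _ hu _ hv
  set b' := nh * bh * nh⁻¹ with hb'
  have hσb' : σ b' = S.n * S.b * S.n⁻¹ := by rw [hb', map_mul, map_mul, map_inv, hnh, hbh]
  have hbQ : σ bh ∈ S.Q := hbh ▸ S.b_mem
  have hb'Q : σ b' ∈ S.Q := hσb' ▸ S.n_b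
  set c0 := ⁅bh, b'⁆ with hc0
  have hσc0 : σ c0 = S.c := by rw [hc0, map_commutatorElement, hbh, hσb', S.n_pair]
  have hc0c : ∀ g, σ g ∈ S.U → g * c0 = c0 * g := hcent c0 (Or.inr hσc0)
  have hbmul : ∀ u v, σ u ∈ S.Q → σ v ∈ S.Q → ⁅bh, u * v⁆ = ⁅bh, u⁆ * ⁅bh, v⁆ := by
    intro u v hu hv
    have h1 := hcent _ (hQc bh v hbQ hv) u (hQU hu)
    calc ⁅bh, u * v⁆ = ⁅bh, u⁆ * (u * ⁅bh, v⁆ * u⁻¹) := by
          simp only [commutatorElement_def]; group
      _ = _ := by rw [h1, mul_inv_cancel_right]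
  have hc02 : c0 * c0 = 1 := by
    rw [hc0, ← hbmul b' b' hb'Q hb'Q, commutatorElement_eq_one_iff_mul_comm]
    exact cen (by rw [map_mul, hσb', show S.n * S.b * S.n⁻¹ * (S.n * S.b * S.n⁻¹) =
      S.n * (S.b * S.b) * S.n⁻¹ by group, S.b_sq]; group) bh
  have hC : ∀ e ∈ Subgroup.zpowers c0, e = 1 ∨ e = c0 := by
    intro e he
    obtain ⟨k, rfl⟩ := Subgroup.mem_zpowers_iff.1 he
    rcases Int.even_or_odd k with ⟨j, rfl⟩ | ⟨j, rfl⟩
    · exact Or.inl (by rw [zpow_add, ← (Commute.refl c0).mul_zpow, hc02, one_zpow])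
    · exact Or.inr (by rw [zpow_add_one, two_mul, zpow_add, ← (Commute.refl c0).mul_zpow, hc02,
        one_zpow, one_mul])
  have hCc : ∀ e ∈ Subgroup.zpowers c0, ∀ g, σ g ∈ S.U → g * e = e * g := fun e he g hg => by
    rcases hC e he with rfl | rfl
    exacts [by simp, hc0c g hg]
  -- the commutators with `b` take two values
  have hbC : ∀ v, σ v ∈ S.Q → ⁅bh, v⁆ ∈ Subgroup.zpowers c0 := by
    intro v hv
    suffices ∀ y ∈ Subgroup.closure
        ({S.b, S.n * S.b * S.n⁻¹, S.c} ∪ {g | ∃ v ∈ S.Q, g = ⁅S.h, v⁆}),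
        y ∈ S.Q → ∀ e, σ e = y → ⁅bh, e⁆ ∈ Subgroup.zpowers c0 from this _ (S.Q_torus hv) hv v rfl
    have hQh : ∀ v ∈ S.Q, S.h * v * S.h⁻¹ ∈ S.Q → ∀ e, σ e = ⁅S.h, v⁆ → ⁅bh, e⁆ = 1 := by
      intro y hy hy' e he
      obtain ⟨yh, hyh⟩ := hσ y
      have m1 : σ (th * yh * th⁻¹) ∈ S.Q := by
        rw [map_mul, map_mul, map_inv, hth, hyh]; exact hy'
      have m2 : σ yh⁻¹ ∈ S.Q := by rw [map_inv, hyh]; exact inv_mem hy
      have myh : σ yh ∈ S.Q := hyh ▸ hy
      rw [congrC (a' := bh) (b' := th * yh * th⁻¹ * yh⁻¹) rfl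
        (by rw [he, map_mul, map_mul, map_mul, map_inv, map_inv, hth, hyh, commutatorElement_def]),
        hbmul _ _ m1 m2,
        congrC (a := bh) (a' := th * bh * th⁻¹) (b := th * yh * th⁻¹) (b' := th * yh * th⁻¹)
          (by rw [map_mul, map_mul, map_inv, hth, hbh, S.h_b]) rfl,
        show ⁅th * bh * th⁻¹, th * yh * th⁻¹⁆ = th * ⁅bh, yh⁆ * th⁻¹ by
          simp only [commutatorElement_def]; group]
      have hfix : th * ⁅bh, yh⁆ * th⁻¹ = ⁅bh, yh⁆ := by
        rcases hQc bh yh hbQ myh with e1 | e1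
        · rw [cen e1, mul_inv_cancel_right]
        · exact htc _ e1
      rw [hfix, ← hbmul _ _ myh m2, mul_inv_cancel, commutatorElement_one_right]
    intro y hy hyQ
    have key : y ∈ S.Q → ∀ e, σ e = y → ⁅bh, e⁆ ∈ Subgroup.zpowers c0 := by
      clear hyQ
      suffices (y ∈ S.Q ∧ ∀ e, σ e = y → ⁅bh, e⁆ ∈ Subgroup.zpowers c0) from fun _ => this.2
      induction hy using Subgroup.closure_induction with
      | mem g hg =>
        rcases hg with hg | ⟨v, hv, rfl⟩
        · rcases hg with rfl | rfl | rfl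
          · refine ⟨S.b_mem, fun e he => ?_⟩
            rw [congrC (a' := bh) (b' := bh) rfl (he.trans hbh.symm), commutatorElement_self]
            exact one_mem _
          · refine ⟨S.n_b, fun e he => ?_⟩
            rw [congrC (a' := bh) (b' := b') rfl (he.trans hσb'.symm)]
            exact Subgroup.mem_zpowers _
          · refine ⟨S.c_mem, fun e he => ?_⟩
            rw [congrC (a' := bh) (b' := ch) rfl (he.trans hch.symm), hb1]
            exact one_mem _
        · have hv' : S.h * v * S.h⁻¹ ∈ S.Q := S.h_Q v hv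
          refine ⟨by rw [commutatorElement_def]; exact mul_mem hv' (inv_mem hv), fun e he => ?_⟩
          rw [hQh v hv hv' e he]; exact one_mem _
      | one => exact ⟨one_mem _, fun e he => by
          rw [congrC (a' := bh) (b' := 1) rfl (he.trans (map_one σ).symm),
            commutatorElement_one_right]
          exact one_mem _⟩
      | mul a b _ _ iha ihb =>
        refine ⟨mul_mem iha.1 ihb.1, fun e he => ?_⟩
        obtain ⟨ah, rfl⟩ := hσ a
        obtain ⟨bv, rfl⟩ := hσ b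
        rw [congrC (a' := bh) (b' := ah * bv) rfl (he.trans (map_mul σ _ _).symm),
          hbmul _ _ iha.1 ihb.1]
        exact mul_mem (iha.2 ah rfl) (ihb.2 bv rfl)
      | inv a _ iha =>
        refine ⟨inv_mem iha.1, fun e he => ?_⟩
        obtain ⟨ah, rfl⟩ := hσ a
        have h1 := hbmul ah ah⁻¹ iha.1 (by rw [map_inv]; exact inv_mem iha.1)
        rw [mul_inv_cancel, commutatorElement_one_right] at h1
        rw [congrC (a' := bh) (b' := ah⁻¹) rfl (he.trans (map_inv σ _).symm),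
          ← inv_eq_of_mul_eq_one_right h1.symm]
        exact inv_mem (iha.2 ah rfl)
    exact key hyQ
  -- the orbit and its differences
  have horbQ : ∀ x, σ x ∈ S.X → σ (orb x) ∈ S.Q := fun x hx => by
    simp only [orb, map_mul, map_inv, hbh]; exact S.X_conj _ hx
  have horbC : ∀ x y, σ x ∈ S.X → σ y ∈ S.X → ⁅orb x, orb y⁆ ∈ Subgroup.zpowers c0 := by
    intro x y hx hy
    have hxy : σ (x⁻¹ * y) ∈ S.X := by rw [map_mul, map_inv]; exact mul_mem (inv_mem hx) hy
    have h1 := hbC _ (horbQ _ hxy)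
    have h2 : ⁅orb x, orb y⁆ = x * ⁅bh, orb (x⁻¹ * y)⁆ * x⁻¹ := by
      simp only [orb, commutatorElement_def]; group
    rw [h2, hCc _ h1 x (hXU hx), mul_inv_cancel_right]
    exact h1
  have horb_congr : ∀ x y, σ x = σ y → orb x = orb y := by
    intro x y e
    have h1 := cen (show σ (y⁻¹ * x) = 1 by rw [map_mul, map_inv, e, inv_mul_cancel]) bh
    calc orb x = y * ((y⁻¹ * x) * bh) * x⁻¹ := by simp only [orb]; group
      _ = y * (bh * (y⁻¹ * x)) * x⁻¹ := by rw [h1]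
      _ = orb y := by simp only [orb]; group
  let o : ↥S.X → Γ := fun x => orb (hσ x.1).choose
  have ho : ∀ x : ↥S.X, σ (hσ x.1).choose = x.1 := fun x => (hσ x.1).choose_spec
  let d : ↥S.X → Γ := fun x => o x * (o 1)⁻¹
  set D : Subgroup Γ := Subgroup.closure (Set.range d ∪ {c0}) with hD
  have ho1 : o 1 = bh := by
    show orb _ = bh
    rw [horb_congr _ 1 (by rw [ho, map_one]; rfl)]
    simp [orb]
  have hoC : ∀ x y : ↥S.X, ⁅o x, o y⁆ ∈ Subgroup.zpowers c0 := fun x y =>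
    horbC _ _ (by rw [ho]; exact x.2) (by rw [ho]; exact y.2)
  have hoQ : ∀ x : ↥S.X, σ (o x) ∈ S.Q := fun x => horbQ _ (by rw [ho]; exact x.2)
  have hCD : Subgroup.zpowers c0 ≤ D :=
    Subgroup.zpowers_le.2 (Subgroup.subset_closure (Or.inr rfl))
  -- conjugation by orbit elements moves the differences by the central involution
  have hconjd : ∀ x y : ↥S.X, ∃ e ∈ Subgroup.zpowers c0, o x * d y * (o x)⁻¹ = e * d y := by
    intro x y
    refine ⟨⁅o x, o y⁆ * ⁅o x, o 1⁆⁻¹, mul_mem (hoC x y) (inv_mem (hoC x 1)), ?_⟩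
    have h1 := hCc _ (inv_mem (hoC x 1)) (o 1) (hQU (hoQ 1))
    have h2 := hCc _ (inv_mem (hoC x 1)) (o y) (hQU (hoQ y))
    show o x * (o y * (o 1)⁻¹) * (o x)⁻¹ = ⁅o x, o y⁆ * ⁅o x, o 1⁆⁻¹ * (o y * (o 1)⁻¹)
    generalize o x = u, o y = v, o 1 = w at h1 h2 ⊢
    calc u * (v * w⁻¹) * u⁻¹ = ⁅u, v⁆ * (v * (w⁻¹ * (⁅u, w⁆⁻¹ * w))) * w⁻¹ := by
          simp only [commutatorElement_def]; group
      _ = ⁅u, v⁆ * (v * ⁅u, w⁆⁻¹) * w⁻¹ := by rw [← h1, inv_mul_cancel_left]
      _ = _ := by rw [h2]; group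
  have hd2 : ∀ x : ↥S.X, d x * d x ∈ Subgroup.zpowers c0 := by
    intro x
    have hsq' : ∀ w, orb w * orb w = bh * bh := fun w => by
      calc w * bh * w⁻¹ * (w * bh * w⁻¹) = w * (bh * bh) * w⁻¹ := by group
        _ = bh * bh := by rw [cen (by rw [map_mul, hbh, S.b_sq]) w, mul_inv_cancel_right]
    have hsq : ∀ y : ↥S.X, o y * o y = bh * bh := fun y => hsq' _
    have h1 := inv_mem (hoC x 1)
    have h2 := hCc _ h1 (o x) (hQU (hoQ x))
    have e : d x * d x = ⁅o x, o 1⁆⁻¹ := by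
      have h3 : (o 1)⁻¹ * ⁅o x, o 1⁆ * o 1 = ⁅o x, o 1⁆ := by
        rw [mul_assoc, ← hCc _ (hoC x 1) (o 1) (hQU (hoQ 1)), inv_mul_cancel_left]
      have h4 : ⁅o x, o 1⁆⁻¹ = ⁅o x, o 1⁆ := by
        rcases hC _ (hoC x 1) with e | e <;> rw [e]
        · exact inv_one
        · exact inv_eq_of_mul_eq_one_right hc02
      have h5 := hCc _ (hoC x 1) (o x) (hQU (hoQ x))
      have h6 : o x * o x = o 1 * o 1 := (hsq x).trans (hsq 1).symm
      show o x * (o 1)⁻¹ * (o x * (o 1)⁻¹) = _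
      rw [h4]
      generalize o x = u, o 1 = v at h3 h4 h5 h6 ⊢
      calc u * v⁻¹ * (u * v⁻¹) = u * (v⁻¹ * ⁅u, v⁆ * v) * (u * (v * v)⁻¹) := by
            simp only [commutatorElement_def]; group
        _ = ⁅u, v⁆ * ((u * u) * (v * v)⁻¹) := by rw [h3, h5]; group
        _ = _ := by rw [h6, mul_inv_cancel, mul_one]
    rw [e]; exact h1
  -- the count
  have hcard : Nat.card D ≤ 2 ^ Nat.card ↥S.X := by
    have hs : ∀ s : Finset ↥S.X, Nat.card ↥(Subgroup.closure (d '' ↑s ∪ {c0})) ≤ 2 * 2 ^ s.card := by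
      intro s
      induction s using Finset.induction with
      | empty =>
        simp only [Finset.coe_empty, Set.image_empty, Set.empty_union, Finset.card_empty, pow_zero,
          mul_one, ← Subgroup.zpowers_eq_closure]
        rw [Nat.card_zpowers]
        exact Nat.le_of_dvd two_pos (orderOf_dvd_of_pow_eq_one (by rw [pow_two, hc02]))
      | insert a s ha ih =>
        set D' := Subgroup.closure (d '' ↑s ∪ {c0}) with hD'
        have hC' : Subgroup.zpowers c0 ≤ D' :=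
          Subgroup.zpowers_le.2 (Subgroup.subset_closure (Or.inr rfl))
        have hconj : ∀ e ∈ D', d a * e * (d a)⁻¹ ∈ D' := by
          intro e he
          refine (Subgroup.closure_le (D'.comap (MulAut.conj (d a)).toMonoidHom)).2 ?_ he
          rintro f (⟨y, hy, rfl⟩ | rfl)
          · simp only [Subgroup.coe_comap, Set.mem_preimage, MulEquiv.coe_toMonoidHom,
              MulAut.conj_apply, SetLike.mem_coe]
            obtain ⟨e1, he1, h1⟩ := hconjd 1 y
            obtain ⟨e2, he2, h2⟩ := hconjd a y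
            have h3 : d a * d y * (d a)⁻¹ = e1⁻¹ * e2 * d y := by
              have h4 : (o 1)⁻¹ * d y * o 1 = e1⁻¹ * d y := by
                have h6 := hCc _ he1 (o 1)⁻¹ (by rw [map_inv]; exact inv_mem (hQU (hoQ 1)))
                generalize o 1 = v, d y = w at h1 h6 ⊢
                calc v⁻¹ * w * v = e1⁻¹ * (e1 * v⁻¹) * w * v := by group
                  _ = e1⁻¹ * (v⁻¹ * e1) * w * v := by rw [h6]
                  _ = e1⁻¹ * v⁻¹ * (e1 * w) * v := by group
                  _ = e1⁻¹ * v⁻¹ * (v * w * v⁻¹) * v := by rw [h1]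
                  _ = _ := by group
              have hmid := hCc _ (inv_mem he1) (o a) (hQU (hoQ a))
              have hdd : d a = o a * (o 1)⁻¹ := rfl
              rw [hdd]
              generalize o 1 = v, d y = w, o a = u at h2 h4 hmid ⊢
              calc u * v⁻¹ * w * (u * v⁻¹)⁻¹ = u * (v⁻¹ * w * v) * u⁻¹ := by group
                _ = (u * e1⁻¹) * w * u⁻¹ := by rw [h4]; group
                _ = e1⁻¹ * (u * w * u⁻¹) := by rw [hmid]; group
                _ = _ := by rw [h2]; group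
            rw [h3]
            exact mul_mem (mul_mem (inv_mem (hC' he1)) (hC' he2))
              (Subgroup.subset_closure (Or.inl ⟨y, hy, rfl⟩))
          · simp only [Subgroup.coe_comap, Set.mem_preimage, MulEquiv.coe_toMonoidHom,
              MulAut.conj_apply, SetLike.mem_coe]
            rw [hc0c _ (show σ (d a) ∈ S.U by
              rw [map_mul, map_inv]; exact mul_mem (hQU (hoQ a)) (inv_mem (hQU (hoQ 1)))),
              mul_inv_cancel_right]
            exact hC' (Subgroup.mem_zpowers _)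
        refine le_trans ?_ ((card_sup_zpowers_le hconj (hC' (hd2 a))).trans ?_)
        · refine Nat.card_mono (Set.toFinite _) ((Subgroup.closure_le _).2 ?_)
          rintro f (⟨y, hy, rfl⟩ | rfl)
          · rcases Finset.mem_insert.1 hy with rfl | hy
            · exact Subgroup.mem_sup_right (Subgroup.mem_zpowers _)
            · exact Subgroup.mem_sup_left (Subgroup.subset_closure (Or.inl ⟨y, hy, rfl⟩))
          · exact Subgroup.mem_sup_left (hC' (Subgroup.mem_zpowers _))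
        · rw [Finset.card_insert_of_notMem ha, pow_succ, ← mul_assoc]
          exact Nat.mul_le_mul_right 2 ih
    have := Fintype.ofFinite ↥S.X
    refine le_trans (Nat.card_mono (Set.toFinite _) ?_) ((hs (Finset.univ.erase 1)).trans ?_)
    · refine (Subgroup.closure_le _).2 ?_
      rintro f (⟨y, rfl⟩ | rfl)
      · by_cases hy : y = 1
        · subst hy; simp [d]
        · exact Subgroup.subset_closure (Or.inl ⟨y, by simp [hy], rfl⟩)
      · exact Subgroup.subset_closure (Or.inr rfl)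
    · rw [Finset.card_erase_of_mem (Finset.mem_univ _), Finset.card_univ, Nat.card_eq_fintype_card,
        ← pow_succ', Nat.sub_add_cancel Fintype.card_pos]
  -- the index of the image
  have hmapQ : D.map σ ≤ S.Q := by
    refine Subgroup.map_le_iff_le_comap.2 ((Subgroup.closure_le _).2 ?_)
    rintro f (⟨y, rfl⟩ | rfl)
    · show σ _ ∈ S.Q
      rw [map_mul, map_inv]; exact mul_mem (hoQ y) (inv_mem (hoQ 1))
    · show σ _ ∈ S.Q
      rw [hσc0]; exact S.c_mem
  have hXd : ∀ x, σ x ∈ S.X → ⁅x, bh⁆ ∈ D := by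
    intro x hx
    refine Subgroup.subset_closure (Or.inl ⟨⟨σ x, hx⟩, ?_⟩)
    show d _ = _
    simp only [d, ho1]
    rw [show o ⟨σ x, hx⟩ = orb x from horb_congr _ _ (ho _)]
    simp [orb, commutatorElement_def]
  have hXD : ∀ x, σ x ∈ S.X → ∀ e ∈ D, x * e * x⁻¹ ∈ D := by
    intro x hx e he
    refine (Subgroup.closure_le (D.comap (MulAut.conj x).toMonoidHom)).2 ?_ he
    rintro f (⟨y, rfl⟩ | rfl)
    · simp only [Subgroup.coe_comap, Set.mem_preimage, MulEquiv.coe_toMonoidHom,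
        MulAut.conj_apply, SetLike.mem_coe]
      have h1 : x * o y * x⁻¹ = o (⟨σ x, hx⟩ * y) := by
        rw [show o (⟨σ x, hx⟩ * y) = orb (x * (hσ y.1).choose) from horb_congr _ _ (by
          rw [ho, map_mul, ho]; rfl)]
        simp only [o, orb]; group
      have h2 : x * o 1 * x⁻¹ = o ⟨σ x, hx⟩ := by
        rw [ho1, show o ⟨σ x, hx⟩ = orb x from horb_congr _ _ (ho _)]
      rw [show x * d y * x⁻¹ = d (⟨σ x, hx⟩ * y) * (d ⟨σ x, hx⟩)⁻¹ by
        simp only [d]; rw [← h1, ← h2]; group]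
      exact mul_mem (Subgroup.subset_closure (Or.inl ⟨_, rfl⟩))
        (inv_mem (Subgroup.subset_closure (Or.inl ⟨_, rfl⟩)))
    · simp only [Subgroup.coe_comap, Set.mem_preimage, MulEquiv.coe_toMonoidHom,
        MulAut.conj_apply, SetLike.mem_coe]
      rw [hc0c _ (hXU hx), mul_inv_cancel_right]
      exact hCD (Subgroup.mem_zpowers _)
  let Nm : Γ → Prop := fun g => ∀ e ∈ D, g * e * g⁻¹ ∈ D
  have hNm_mul : ∀ g g', Nm g → Nm g' → Nm (g * g') := fun g g' h h' e he => by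
    have := h _ (h' e he)
    rwa [show g * (g' * e * g'⁻¹) * g⁻¹ = g * g' * e * (g * g')⁻¹ by group] at this
  have hNm_inv : ∀ g, Nm g → Nm g⁻¹ := fun g hg => by
    obtain ⟨k, hk⟩ := mem_powers_iff_mem_zpowers.2 (inv_mem (Subgroup.mem_zpowers g))
    rw [← show g ^ k = g⁻¹ from hk]
    clear hk
    induction k with
    | zero => intro e he; simpa using he
    | succ k ih => rw [pow_succ]; exact hNm_mul _ _ ih hg
  have hNm_cen : ∀ g, (∀ e ∈ D, g * e = e * g) → Nm g := fun g hg e he => by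
    rw [hg e he, mul_inv_cancel_right]; exact he
  have hDQ : ∀ e ∈ D, σ e ∈ S.Q := fun e he => hmapQ ⟨e, he, rfl⟩
  have hQD : ∀ g, σ g ∈ S.Q → Nm g := by
    intro g hg
    refine Subgroup.closure_induction (p := fun g _ => Nm g) ?_ ?_ (fun _ _ _ _ => hNm_mul _ _)
      (fun _ _ => hNm_inv _) (hgenQ g hg)
    · rintro f ((⟨x, hx, rfl⟩ | rfl) | hf)
      · rw [show orb x = o ⟨σ x, hx⟩ from (horb_congr _ _ (ho _)).symm]
        intro e he
        refine (Subgroup.closure_le (D.comap (MulAut.conj (o ⟨σ x, hx⟩)).toMonoidHom)).2 ?_ he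
        rintro f (⟨y, rfl⟩ | rfl)
        · obtain ⟨e1, he1, h1⟩ := hconjd ⟨σ x, hx⟩ y
          simp only [Subgroup.coe_comap, Set.mem_preimage, MulEquiv.coe_toMonoidHom,
            MulAut.conj_apply, SetLike.mem_coe, h1]
          exact mul_mem (hCD he1) (Subgroup.subset_closure (Or.inl ⟨y, rfl⟩))
        · simp only [Subgroup.coe_comap, Set.mem_preimage, MulEquiv.coe_toMonoidHom,
            MulAut.conj_apply, SetLike.mem_coe]
          rw [hc0c _ (hQU (hoQ _)), mul_inv_cancel_right]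
          exact hCD (Subgroup.mem_zpowers _)
      · exact hNm_cen _ fun e he => (hchc e (hQU (hDQ e he))).symm
      · exact hNm_cen _ fun e _ => (cen (MonoidHom.mem_ker.1 hf) e).symm
    · exact hNm_cen _ fun e _ => by simp
  -- no kernel in `D`
  have htriv : ∀ e ∈ D, σ e = 1 → e = 1 := by
    let f : D →* G := σ.comp D.subtype
    have hrange : f.range = D.map σ := by
      rw [MonoidHom.range_comp, Subgroup.range_subtype]
    have hge : 2 ^ Nat.card ↥S.X ≤ Nat.card ↥(D.map σ) := by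
      have hb2 : S.b * S.b ∈ D.map σ := S.b_sq.symm ▸ one_mem _
      have hbn : ∀ e ∈ D.map σ, S.b * e * S.b⁻¹ ∈ D.map σ := by
        rintro _ ⟨e, he, rfl⟩
        exact ⟨bh * e * bh⁻¹, hQD bh hbQ e he, by simp [hbh]⟩
      have hle : S.Q ≤ D.map σ ⊔ Subgroup.zpowers S.b := by
        refine S.Q_gen.trans ((Subgroup.closure_le _).2 ?_)
        rintro f (⟨x, hx, rfl⟩ | rfl)
        · obtain ⟨xh, rfl⟩ := hσ x
          rw [show σ xh * S.b * (σ xh)⁻¹ = σ ⁅xh, bh⁆ * S.b by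
            rw [map_commutatorElement, hbh, commutatorElement_def]; group]
          exact Subgroup.mul_mem_sup ⟨_, hXd xh hx, rfl⟩ (Subgroup.mem_zpowers _)
        · exact Subgroup.mem_sup_left ⟨c0, hCD (Subgroup.mem_zpowers _), hσc0⟩
      have h1 := (Nat.card_mono (Set.toFinite _) hle).trans (card_sup_zpowers_le hbn hb2)
      change Nat.card ↥S.Q ≤ _ at h1
      rw [S.card_Q] at h1
      omega
    have hker : Nat.card f.ker = 1 := by
      have h1 := Subgroup.card_mul_index f.ker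
      rw [Subgroup.index_ker, hrange] at h1
      have h2 : 0 < Nat.card f.ker := Nat.card_pos
      have h3 : 0 < 2 ^ Nat.card ↥S.X := pow_pos two_pos _
      nlinarith [hcard.trans hge]
    intro e he he1
    have h4 : (⟨e, he⟩ : D) ∈ f.ker := he1
    rw [Subgroup.eq_bot_of_card_eq _ hker, Subgroup.mem_bot] at h4
    exact congrArg Subtype.val h4
  have hUD : ∀ g, σ g ∈ S.U → Nm g := by
    intro g hg
    have h1 : S.U ≤ Subgroup.closure ((S.X : Set G) ∪ S.Q) := by
      rw [S.U_eq, Subgroup.closure_union, Subgroup.closure_eq, Subgroup.closure_eq]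
    suffices ∀ y ∈ Subgroup.closure ((S.X : Set G) ∪ S.Q), ∀ e, σ e = y → Nm e from
      this _ (h1 hg) g rfl
    intro y hy
    induction hy using Subgroup.closure_induction with
    | mem y hy =>
      intro e he
      rcases hy with hy | hy
      exacts [hXD e (he ▸ hy), hQD e (he ▸ hy)]
    | one => exact fun e he => hNm_cen e fun f _ => (cen he f).symm
    | mul a b _ _ iha ihb =>
      intro e he
      obtain ⟨ah, rfl⟩ := hσ a
      rw [show e = ah * (ah⁻¹ * e) by group]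
      exact hNm_mul _ _ (iha ah rfl) (ihb _ (by rw [map_mul, map_inv, he, inv_mul_cancel_left]))
    | inv a _ iha =>
      intro e he
      rw [← inv_inv e]
      exact hNm_inv _ (iha _ (by rw [map_inv, he, inv_inv]))
  -- the derived subgroup
  have hclosed : ∀ g, σ g ∈ S.U → ∀ T : Set Γ, (∀ t ∈ T, σ t ∈ S.U ∧ ⁅g, t⁆ ∈ D) →
      ∀ u ∈ Subgroup.closure T, σ u ∈ S.U ∧ ⁅g, u⁆ ∈ D := by
    intro g hg T hT u hu
    induction hu using Subgroup.closure_induction with
    | mem t ht => exact hT t ht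
    | one => exact ⟨by rw [map_one]; exact one_mem _,
        by rw [commutatorElement_one_right]; exact one_mem _⟩
    | mul a b _ _ iha ihb =>
      refine ⟨by rw [map_mul]; exact mul_mem iha.1 ihb.1, ?_⟩
      rw [show ⁅g, a * b⁆ = ⁅g, a⁆ * (a * ⁅g, b⁆ * a⁻¹) by
        simp only [commutatorElement_def]; group]
      exact mul_mem iha.2 (hUD a iha.1 _ ihb.2)
    | inv a _ iha =>
      refine ⟨by rw [map_inv]; exact inv_mem iha.1, ?_⟩
      rw [show ⁅g, a⁻¹⁆ = a⁻¹ * ⁅g, a⁆⁻¹ * a⁻¹⁻¹ by simp only [commutatorElement_def]; group]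
      exact hUD _ (by rw [map_inv]; exact inv_mem iha.1) _ (inv_mem iha.2)
  let TQ : Set Γ := {e | ∃ x, σ x ∈ S.X ∧ e = orb x} ∪ {ch} ∪ (σ.ker : Set Γ)
  have hTQ : ∀ t ∈ TQ, σ t ∈ S.Q := by
    rintro t ((⟨x, hx, rfl⟩ | rfl) | ht)
    · exact horbQ x hx
    · exact hch.symm ▸ S.c_mem
    · rw [MonoidHom.mem_ker.1 ht]; exact one_mem _
  have hone : ∀ g, σ g ∈ S.U → ∀ w, (σ w = 1 ∨ σ w = S.c) → ⁅g, w⁆ ∈ D := fun g hg w hw => by
    rw [commutatorElement_eq_one_iff_mul_comm.2 (hcent w hw g hg)]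
    exact one_mem _
  have hQQ : ∀ u v, σ u ∈ S.Q → σ v ∈ S.Q → ⁅u, v⁆ ∈ D := by
    have h1 : ∀ x, σ x ∈ S.X → ∀ v, σ v ∈ S.Q → ⁅orb x, v⁆ ∈ D := fun x hx v hv =>
      (hclosed _ (hQU (horbQ x hx)) TQ (fun t ht => ⟨hQU (hTQ t ht), by
        rcases ht with (⟨y, hy, rfl⟩ | rfl) | ht
        · exact hCD (horbC x y hx hy)
        · exact hone _ (hQU (horbQ x hx)) _ (Or.inr hch)
        · exact hone _ (hQU (horbQ x hx)) _ (Or.inl ht)⟩) v (hgenQ v hv)).2
    intro u v hu hv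
    have h2 := (hclosed v (hQU hv) TQ (fun t ht => ⟨hQU (hTQ t ht), by
      rcases ht with (⟨y, hy, rfl⟩ | rfl) | ht
      · rw [← commutatorElement_inv]; exact inv_mem (h1 y hy v hv)
      · exact hone _ (hQU hv) _ (Or.inr hch)
      · exact hone _ (hQU hv) _ (Or.inl ht)⟩) u (hgenQ u hu)).2
    rw [← commutatorElement_inv]; exact inv_mem h2
  have hXX : ∀ x y, σ x ∈ S.X → σ y ∈ S.X → ⁅x, y⁆ = 1 := by
    obtain ⟨mh, hmh⟩ := hσ S.m
    intro x y hx hy
    have mx : σ (mh * x * mh⁻¹) ∈ S.Q := by simpa [hmh] using S.m_X _ hx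
    have my : σ (mh * y * mh⁻¹) ∈ S.Q := by simpa [hmh] using S.m_X _ hy
    have h2 := htriv _ (hQQ _ _ mx my) ?_
    · rw [show ⁅mh * x * mh⁻¹, mh * y * mh⁻¹⁆ = mh * ⁅x, y⁆ * mh⁻¹ by
        simp only [commutatorElement_def]; group] at h2
      exact conj_eq_one_iff.1 h2
    · rw [map_commutatorElement, commutatorElement_eq_one_iff_mul_comm]
      simp only [map_mul, map_inv]
      calc σ mh * σ x * (σ mh)⁻¹ * (σ mh * σ y * (σ mh)⁻¹) = σ mh * (σ x * σ y) * (σ mh)⁻¹ := by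
            group
        _ = σ mh * (σ y * σ x) * (σ mh)⁻¹ := by rw [S.X_comm _ hx _ hy]
        _ = _ := by group
  have hXQ : ∀ x v, σ x ∈ S.X → σ v ∈ S.Q → ⁅x, v⁆ ∈ D := fun x v hx hv =>
    (hclosed x (hXU hx) TQ (fun t ht => ⟨hQU (hTQ t ht), by
      rcases ht with (⟨y, hy, rfl⟩ | rfl) | ht
      · have hxy : σ (x * y) ∈ S.X := by rw [map_mul]; exact mul_mem hx hy
        have h1 := mul_mem (hXd _ hxy) (inv_mem (hXd y hy))
        rwa [show ⁅x * y, bh⁆ * ⁅y, bh⁆⁻¹ = orb (x * y) * (orb y)⁻¹ by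
          simp only [orb, commutatorElement_def]; group,
          show orb (x * y) * (orb y)⁻¹ = ⁅x, orb y⁆ by
          simp only [orb, commutatorElement_def]; group] at h1
      · exact hone _ (hXU hx) _ (Or.inr hch)
      · exact hone _ (hXU hx) _ (Or.inl ht)⟩) v (hgenQ v hv)).2
  have hall : ∀ g, σ g ∈ S.U → ∀ u, σ u ∈ S.U → ⁅g, u⁆ ∈ D := by
    let TU : Set Γ := {e | σ e ∈ S.X ∨ σ e ∈ S.Q}
    have hgen : ∀ g, σ g ∈ S.U → g ∈ Subgroup.closure TU := by
      intro g hg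
      have h1 : S.U ≤ (Subgroup.closure TU).map σ := by
        rw [S.U_eq]
        refine sup_le (fun y hy => ?_) fun y hy => ?_
        · obtain ⟨e, rfl⟩ := hσ y
          exact ⟨e, Subgroup.subset_closure (Or.inl hy), rfl⟩
        · obtain ⟨e, rfl⟩ := hσ y
          exact ⟨e, Subgroup.subset_closure (Or.inr hy), rfl⟩
      obtain ⟨e, he, hσe⟩ := h1 hg
      have : e⁻¹ * g ∈ Subgroup.closure TU := Subgroup.subset_closure (Or.inr (by
        rw [map_mul, map_inv, hσe, inv_mul_cancel]; exact one_mem _))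
      simpa using mul_mem he this
    have hTU : ∀ t ∈ TU, σ t ∈ S.U := fun t ht => ht.elim (fun h => hXU h) fun h => hQU h
    have hbase : ∀ s ∈ TU, ∀ u, σ u ∈ S.U → ⁅s, u⁆ ∈ D := fun s hs u hu =>
      (hclosed s (hTU s hs) TU (fun t ht => ⟨hTU t ht, by
        rcases hs with hs | hs <;> rcases ht with ht | ht
        · rw [hXX s t hs ht]; exact one_mem _
        · exact hXQ s t hs ht
        · rw [← commutatorElement_inv]; exact inv_mem (hXQ t s ht hs)
        · exact hQQ s t hs ht⟩) u (hgen u hu)).2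
    intro g hg u hu
    have h2 := (hclosed u hu TU (fun t ht => ⟨hTU t ht, by
      rw [← commutatorElement_inv]; exact inv_mem (hbase t ht u hu)⟩) g (hgen g hg)).2
    rw [← commutatorElement_inv]; exact inv_mem h2
  exact htriv z ((Subgroup.commutator_le.2 hall) hzd) (MonoidHom.mem_ker.1 hz)

end CfsgLib.Schur.ParTwo
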