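import Cfsg.Agent.Lib.Schur.ChainSplit

/-!
More ways of killing the pairing of a layer: a torus element fixing the left argument up to dead
elements, and the torus acting on a layer by all scalars in characteristic two.
-/

set_option autoImplicit false
set_option linter.unusedSectionVars false

open scoped commutatorElement

namespace CfsgLib.Schur.Chain

/-- An invariant biadditive map on a field of characteristic two with more than four elements. -/
theorem biadd_eq_one {K : Type*} [Field K] [Fintype K] [CharP K 2] (h5 : 5 ≤ Fintype.card K)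
    {A : Type*} [CommGroup A] (B : K → K → A) (hl : ∀ s s' t, B (s + s') t = B s t * B s' t)
    (hr : ∀ s t t', B s (t + t') = B s t * B s t')
    (hinv : ∀ c : K, c ≠ 0 → ∀ s t, B (c * s) (c * t) = B s t) (s t : K) : B s t = 1 := by
  classical
  have h0 : B 0 t = 1 := by
    have := hl 0 0 t
    rwa [add_zero, left_eq_mul] at this
  have h2 : B s t * B s t = 1 := by rw [← hl, CharTwo.add_self_eq_zero, h0]
  have key : ∀ x : K, x ≠ 0 → x ≠ 1 → B s (x * t) * B (x * s) t = B s t := by
    intro x hx0 hx1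
    have hne : 1 + x ≠ 0 := fun e => hx1 (CharTwo.add_eq_zero.1 e).symm
    have h1 := hinv (1 + x) hne s t
    rw [add_mul, one_mul, add_mul, one_mul, hl, hr, hr, hinv x hx0, mul_assoc, mul_eq_left,
      ← mul_assoc] at h1
    calc B s (x * t) * B (x * s) t = B s (x * t) * B (x * s) t * (B s t * B s t) := by
          rw [h2, mul_one]
      _ = (B s (x * t) * B (x * s) t * B s t) * B s t := by rw [mul_assoc _ (B s t)]
      _ = B s t := by rw [h1, one_mul]
  obtain ⟨x, -, hx⟩ := Finset.exists_mem_notMem_of_card_lt_card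
    (s := ({0, 1} : Finset K)) (t := Finset.univ) (by
      have : ({0, 1} : Finset K).card ≤ 2 := Finset.card_le_two
      rw [Finset.card_univ]; omega)
  obtain ⟨y, -, hy⟩ := Finset.exists_mem_notMem_of_card_lt_card
    (s := ({0, 1, x, x + 1} : Finset K)) (t := Finset.univ) (by
      have : ({0, 1, x, x + 1} : Finset K).card ≤ 4 := Finset.card_le_four
      rw [Finset.card_univ]; omega)
  simp only [Finset.mem_insert, Finset.mem_singleton, not_or] at hx hy
  have hs0 : x + y ≠ 0 := fun e => hy.2.2.1 (CharTwo.add_eq_zero.1 e).symm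
  have hs1 : x + y ≠ 1 := fun e => hy.2.2.2 (by
    rw [← e, ← add_assoc, CharTwo.add_self_eq_zero, zero_add])
  have h3 := key (x + y) hs0 hs1
  rw [add_mul, add_mul, hr, hl] at h3
  rw [← h3, mul_mul_mul_comm, key x hx.1 hx.2, key y hy.1 hy.2.1, h2]

variable {Γ G : Type*} [Group Γ] [Group G] {σ : Γ →* G} (hc : σ.ker ≤ Subgroup.center Γ)
  {U H N N' : Subgroup G} {M : Subgroup Γ}
include hc

variable (hA : Act U H) (hL : Layer U H N N') (hG : Good σ U H N' M) (hσ : Function.Surjective σ)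
include hA hL hG hσ

/-- The torus fixes the left argument up to dead elements and moves the right one. -/
lemma dead_of_fix_left_mod {h g x : G} (hh : h ∈ H) (hg : g ∈ U) (hx : x ∈ N)
    (hfix : ∀ n ∈ N, Dead σ M ⁅h, g⁆ n) : Dead σ M g ⁅h, x⁆ := by
  have hhx : h * x * h⁻¹ ∈ N := hL.conjN _ hh _ hx
  have hhgU : ⁅h, g⁆ ∈ U := by
    rw [commutatorElement_def]; exact mul_mem (hA.conjU _ hh _ hg) (inv_mem hg)
  obtain ⟨h', rfl⟩ := hσ h
  obtain ⟨g', rfl⟩ := hσ g
  obtain ⟨x', rfl⟩ := hσ x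
  rw [dead_iff hc hA hL hG hσ rfl (map_commutatorElement σ h' x')]
  have h1 := pair_conj hc hA hL hG hh hg hx
  have m1 : σ (h' * x' * h'⁻¹) ∈ N := by
    rwa [map_mul, map_mul, map_inv]
  have m2 : σ ⁅h', g'⁆ ∈ U := by rwa [map_commutatorElement]
  have e2 : pair σ M (h' * g' * h'⁻¹) (h' * x' * h'⁻¹) = pair σ M g' (h' * x' * h'⁻¹) := by
    rw [show h' * g' * h'⁻¹ = ⁅h', g'⁆ * g' by rw [commutatorElement_def]; group,
      pair_mul_left hc hA hL hG m2 hg m1,
      hfix _ m1 ⁅h', g'⁆ _ (map_commutatorElement σ h' g') rfl, mul_one]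
  rw [e2] at h1
  rw [commutatorElement_def, pair_mul_right hc hA hL hG hg m1 (by rw [map_inv]; exact inv_mem hx),
    h1, ← pair_mul_right hc hA hL hG hg hx (by rw [map_inv]; exact inv_mem hx), mul_inv_cancel]
  exact (dead_one_right hc hA hL hG hσ _) g' 1 rfl (map_one σ)

/-- The torus acts on the layer by all scalars. -/
theorem dead_scalar {K : Type*} [Field K] [Fintype K] [CharP K 2] (h5 : 5 ≤ Fintype.card K)
    (χ : G → K) (hmul : ∀ a ∈ N, ∀ b ∈ N, χ (a * b) = χ a + χ b)
    (hker : ∀ a ∈ N, χ a = 0 → a ∈ N') (hsurj : ∀ s, ∃ a ∈ N, χ a = s)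
    (htor : ∀ c : K, c ≠ 0 → ∃ h ∈ H, ∀ a ∈ N, χ (h * a * h⁻¹) = c * χ a)
    {g n : G} (hg : g ∈ N) (hn : n ∈ N) : Dead σ M g n := by
  choose r hrN hrχ using hsurj
  choose r' hr' using fun s => hσ (r s)
  -- a pairing only depends on the coordinates
  have hdep : ∀ a b : Γ, σ a ∈ N → σ b ∈ N →
      pair σ M a b = pair σ M (r' (χ (σ a))) (r' (χ (σ b))) := by
    intro a b ha hb
    have hquot : ∀ a : Γ, σ a ∈ N → σ ((r' (χ (σ a)))⁻¹ * a) ∈ N' := by
      intro a ha
      rw [map_mul, map_inv, hr']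
      refine hker _ (mul_mem (inv_mem (hrN _)) ha) ?_
      have h0 : χ 1 = 0 := by
        have := hmul 1 (one_mem _) 1 (one_mem _)
        rwa [one_mul, left_eq_add] at this
      have h1 := hmul _ (hrN (χ (σ a))) _ (inv_mem (hrN (χ (σ a))))
      rw [mul_inv_cancel, h0, hrχ] at h1
      rw [hmul _ (inv_mem (hrN _)) _ ha, add_comm, ← h1]
    have e1 : ∀ a b : Γ, σ a ∈ N → σ b ∈ N →
        pair σ M a b = pair σ M (r' (χ (σ a))) b := by
      intro a b ha hb
      have h1 := pair_mul_left hc hA hL hG (a := r' (χ (σ a))) (b := (r' (χ (σ a)))⁻¹ * a) (n := b)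
        (hL.sub (by rw [hr']; exact hrN _)) (hL.sub (hL.le (hquot a ha))) hb
      rw [mul_inv_cancel_left, dead_of_left_bot hc hA hL hG hσ (hquot a ha) hb _ _ rfl rfl,
        one_mul] at h1
      exact h1
    rw [e1 a b ha hb]
    have hra : σ (r' (χ (σ a))) ∈ U := hL.sub (by rw [hr']; exact hrN _)
    have h2 := pair_mul_right hc hA hL hG (g := r' (χ (σ a))) (m := r' (χ (σ b)))
      (n := (r' (χ (σ b)))⁻¹ * b) hra (by rw [hr']; exact hrN _) (hL.le (hquot b hb))
    rw [mul_inv_cancel_left, dead_of_mem_bot hc hA hL hG hσ hra (hquot b hb) _ _ rfl rfl,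
      mul_one] at h2
    exact h2
  have hrU : ∀ s, σ (r' s) ∈ U := fun s => hL.sub (by rw [hr']; exact hrN _)
  have hrN' : ∀ s, σ (r' s) ∈ N := fun s => by rw [hr']; exact hrN _
  let B : K → K → Subgroup.center Γ := fun s t =>
    ⟨pair σ M (r' s) (r' t), hc (pair_ker hc hA hL hG (hrU s) (hrN' t))⟩
  letI : CommGroup (Subgroup.center Γ) := { (inferInstance : Group ↥(Subgroup.center Γ)) with
    mul_comm := fun a b => Subtype.ext (Subgroup.mem_center_iff.1 b.2 a) }
  have hB : ∀ s t, B s t = 1 := biadd_eq_one h5 B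
    (fun s s' t => Subtype.ext (by
      show pair σ M (r' (s + s')) (r' t) = pair σ M (r' s) (r' t) * pair σ M (r' s') (r' t)
      have h1 := hdep (r' s' * r' s) (r' t) (by rw [map_mul]; exact mul_mem (hrN' _) (hrN' _))
        (hrN' _)
      rw [pair_mul_left hc hA hL hG (hrU _) (hrU _) (hrN' _), map_mul, hr', hr',
        hmul _ (hrN _) _ (hrN _), hrχ, hrχ, hr', hrχ] at h1
      rw [h1, add_comm]))
    (fun s t t' => Subtype.ext (by
      show pair σ M (r' s) (r' (t + t')) = pair σ M (r' s) (r' t) * pair σ M (r' s) (r' t')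
      have h1 := hdep (r' s) (r' t * r' t') (hrN' _)
        (by rw [map_mul]; exact mul_mem (hrN' _) (hrN' _))
      rw [pair_mul_right hc hA hL hG (hrU _) (hrN' _) (hrN' _), map_mul, hr', hr', hr',
        hmul _ (hrN _) _ (hrN _), hrχ, hrχ, hrχ] at h1
      exact h1.symm))
    (fun c hc0 s t => Subtype.ext (by
      show pair σ M (r' (c * s)) (r' (c * t)) = pair σ M (r' s) (r' t)
      obtain ⟨h, hh, hχ⟩ := htor c hc0
      obtain ⟨h', rfl⟩ := hσ h
      have h1 := pair_conj hc hA hL hG hh (hrU s) (hrN' t)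
      have m : ∀ s, σ (h' * r' s * h'⁻¹) = σ h' * r s * (σ h')⁻¹ := fun s => by
        rw [map_mul, map_mul, map_inv, hr']
      rw [hdep _ _ (by rw [m]; exact hL.conjN _ hh _ (hrN _))
        (by rw [m]; exact hL.conjN _ hh _ (hrN _)), m, m, hχ _ (hrN _), hχ _ (hrN _), hrχ,
        hrχ] at h1
      exact h1))
  obtain ⟨g', rfl⟩ := hσ g
  obtain ⟨n', rfl⟩ := hσ n
  rw [dead_iff hc hA hL hG hσ rfl rfl, hdep _ _ hg hn]
  exact congrArg Subtype.val (hB _ _)

end CfsgLib.Schur.Chain
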