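import Cfsg.Agent.Lib.Schur.OmegaPlusTwo
import Cfsg.Agent.Lib.FormRep.Symplectic

/-!
# The multiplier of `Sp₆(2)`

The lifts of two commuting transvections have a commutator of order at most two, and modulo it the
extension is trivial. The cover comes from a stabiliser in the cover of `Ω₈⁺(2)`.
-/

set_option autoImplicit false
set_option linter.unusedSectionVars false

namespace CfsgLib.Schur.SpSixTwo

open Matrix CfsgLib.Classical.SympTrans CfsgLib.Orth CfsgLib.Schur.CoverLocal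
open CfsgLib.Schur.OmegaMinusTwo (C C_eq C_central C_conj C_swap C_self C_one_left C_one_right)
open scoped commutatorElement

universe u v

/-- A stem extension realising a bound on perfect central extensions gives the multiplier. -/
theorem hasSchurMultiplier_of_bound {G : Type u} [Group G] (hG : commutator G = ⊤)
    (hZ : Subgroup.center G = ⊥) {S : Type u} [Group S] [Finite S] (p : S →* G)
    (hp : Cfsg.IsStemExtension p) {A : Type*} [CommGroup A] (e : A ≃* p.ker)
    (hle : ∀ {Δ : Type u} [Group Δ] [Finite Δ] (q : Δ →* G), Function.Surjective q →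
      q.ker ≤ Subgroup.center Δ → commutator Δ = ⊤ → Nat.card q.ker ≤ Nat.card p.ker) :
    Cfsg.HasSchurMultiplier (G ⧸ Subgroup.center G) A := by
  classical
  have hperf : commutator S = ⊤ := OmegaMult.perfect_of_stem hp hG
  set f := (QuotientGroup.mk' (Subgroup.center G)).comp p with hf
  have hker : f.ker = p.ker := by
    ext x
    rw [hf, MonoidHom.mem_ker, MonoidHom.comp_apply, QuotientGroup.mk'_apply,
      QuotientGroup.eq_one_iff, hZ, Subgroup.mem_bot, MonoidHom.mem_ker]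
  have hfs : Function.Surjective f := (QuotientGroup.mk'_surjective _).comp hp.1
  let e' : A ≃* f.ker := e.trans (MulEquiv.subgroupCongr hker.symm)
  refine ⟨⟨S, inferInstance, inferInstance, f,
    ⟨hfs, hker ▸ hp.2.1, hker ▸ hp.2.2⟩, ⟨e'.symm⟩⟩, fun Γ _ _ τ hτ => ?_⟩
  refine OmegaMult.hasSchurMultiplier_of_cover hperf f hfs (hker ▸ hp.2.1) ⟨e'⟩ (fun Δ hΔ => ?_) hτ
  set r := (MonoidHom.fst S Γ).comp Δ.subtype
  have hΔp : commutator Δ = ⊤ := OmegaMult.perfect_of_stem hΔ hperf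
  let q := p.comp r
  have hqc : q.ker ≤ Subgroup.center Δ := by
    intro x hx
    refine CfsgLib.Chev.central_of_perfect hΔp fun y => hΔ.2.1 (MonoidHom.mem_ker.2 ?_)
    rw [map_commutatorElement, commutatorElement_eq_one_iff_mul_comm]
    exact (Subgroup.mem_center_iff.1 (hp.2.1 hx) _).symm
  have h := hle q (hp.1.comp hΔ.1) hqc hΔp
  let ψ : q.ker → p.ker := fun x => ⟨r x.1, x.2⟩
  have hψ : Function.Surjective ψ := fun k => by
    obtain ⟨x, hx⟩ := hΔ.1 k.1
    exact ⟨⟨x, by show p (r x) = 1; rw [hx]; exact k.2⟩, Subtype.ext hx⟩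
  have hψi : Function.Injective ψ := (hψ.bijective_of_nat_card_le h).1
  rw [← MonoidHom.ker_eq_bot_iff, Subgroup.eq_bot_iff_forall]
  intro x hx
  have h1 : x ∈ q.ker := by
    show p (r x) = 1
    rw [MonoidHom.mem_ker.1 hx, map_one]
  exact congrArg Subtype.val (hψi (a₁ := ⟨x, h1⟩) (a₂ := 1) (Subtype.ext (by
    show r x = r 1
    rw [map_one]; exact hx)))

section Upper

variable {F : Type u} [Field F] (hF : ∀ c : F, c = 0 ∨ c = 1)
include hF

theorem ne_smul {m : ℕ} {x y : Fin m ⊕ Fin m → F} (hy : y ≠ 0) (h : y ≠ x) (a : F) :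
    y ≠ a • x := by
  rcases hF a with rfl | rfl
  · rwa [zero_smul]
  · rwa [one_smul]

/-- Perfect central extensions of `Sp₆(2)` have a kernel of order at most two. -/
theorem card_ker_le {Γ : Type v} [Group Γ] [Finite Γ] (σ : Γ →* symplecticGroup (Fin (1 + 2)) F)
    (hs : Function.Surjective σ) (hc : σ.ker ≤ Subgroup.center Γ) (hΓ : commutator Γ = ⊤) :
    Nat.card σ.ker ≤ 2 * 1 := by
  classical
  set x₀ : Fin (1 + 2) ⊕ Fin (1 + 2) → F := Pi.single (.inr 0) 1 with hx₀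
  set y₀ : Fin (1 + 2) ⊕ Fin (1 + 2) → F := Pi.single (.inr 1) 1 with hy₀
  have o₀ : Cfsg.sympForm (1 + 2) F x₀ y₀ = 0 := by rw [hx₀, hy₀, f_inr]; simp
  have n₁ : x₀ ≠ 0 := by simp [hx₀]
  have n₂ : y₀ ≠ 0 := by simp [hy₀]
  have n₃ : y₀ ≠ x₀ := fun e => by
    have := congrFun e (.inr 1)
    simp [hx₀, hy₀] at this
  have hcomm : ∀ {x y : Fin (1 + 2) ⊕ Fin (1 + 2) → F}, Cfsg.sympForm (1 + 2) F x y = 0 →
      Commute (T x (1 : F)) (T y (1 : F)) := fun {x y} h => by
    show T x (1 : F) * T y 1 = T y 1 * T x 1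
    rw [← mul_inv_eq_iff_eq_mul, conj_T, app_T, f_swap x y, h, neg_zero, mul_zero, zero_smul,
      add_zero]
  set κ := C σ hs (T x₀ (1 : F)) (T y₀ 1) with hκ
  have hall : ∀ {x y : Fin (1 + 2) ⊕ Fin (1 + 2) → F}, Cfsg.sympForm (1 + 2) F x y = 0 → x ≠ 0 →
      y ≠ 0 → y ≠ x → C σ hs (T x (1 : F)) (T y 1) = κ := by
    intro x y h hx hy hne
    obtain ⟨g, hg⟩ := exists_app_eq n₁ hx
    obtain ⟨g', hg', hgy⟩ := exists_move_perp (u := x) (w := app g y₀) (w' := y)
      (by rw [← hg, f_app, o₀]) h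
      (fun a e => by
        rw [← hg, ← app_smul] at e
        have := congrArg (app g⁻¹) e
        rw [app_inv, app_inv] at this
        exact ne_smul hF n₂ n₃ a this) (ne_smul hF hy hne)
    rw [hκ, ← C_conj hc (g' * g) _ _ (hcomm o₀) (hs := hs), conj_T, conj_T, app_mul, app_mul, hg,
      hg', hgy]
  have hsq : κ * κ = 1 := by
    have h : C σ hs (T y₀ (1 : F)) (T x₀ 1) = κ :=
      hall (by rw [f_swap, o₀, neg_zero]) n₂ n₁ n₃.symm
    rw [C_swap hc, ← hκ] at h
    exact inv_eq_iff_mul_eq_one.1 h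
  haveI := OmegaPlusTwo.zpowers_normal (C_central hc (hcomm o₀) (hs := hs))
  have hσκ : σ κ = 1 := by
    rw [hκ, C, map_commutatorElement, Function.surjInv_eq hs, Function.surjInv_eq hs,
      commutatorElement_eq_one_iff_commute]
    exact hcomm o₀
  have h : Subgroup.zpowers κ ≤ σ.ker := Subgroup.zpowers_le.2 hσκ
  obtain ⟨hs', hc', hΓ'⟩ := OmegaPlusTwo.lift_props σ hs hc hΓ h
  refine OmegaPlusTwo.card_ker_le σ h hsq ?_
  set σ' := QuotientGroup.lift (Subgroup.zpowers κ) σ h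
  have hinj : Function.Injective σ' := by
    refine CfsgLib.Schur.SpFam.injective_two_of_comm hF le_rfl σ' hs' hc' hΓ' ?_
    intro x y hxy γ δ hγ hδ
    rw [← commutatorElement_eq_one_iff_commute, ← C_eq hc' hγ hδ (hs := hs')]
    by_cases hx : x = 0
    · rw [hx, T_zero', C_one_left hc']
    by_cases hy : y = 0
    · rw [hy, T_zero', C_one_right hc']
    by_cases hne : y = x
    · rw [hne, C_self hc']
    rw [C_eq hc' (γ := QuotientGroup.mk' _ (Function.surjInv hs (T x (1 : F))))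
      (δ := QuotientGroup.mk' _ (Function.surjInv hs (T y (1 : F)))) (Function.surjInv_eq hs _)
      (Function.surjInv_eq hs _), ← map_commutatorElement]
    show QuotientGroup.mk' _ (C σ hs (T x (1 : F)) (T y 1)) = 1
    rw [hall hxy hx hy hne]
    exact (QuotientGroup.eq_one_iff _).2 (Subgroup.mem_zpowers κ)
  haveI : Subsingleton σ'.ker := ⟨fun a b => Subtype.ext (hinj (a.2.trans b.2.symm))⟩
  exact Finite.card_le_one_iff_subsingleton.2 inferInstance

theorem center_eq_bot : Subgroup.center (symplecticGroup (Fin (1 + 2)) F) = ⊥ := by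
  classical
  rw [Subgroup.eq_bot_iff_forall]
  intro g hg
  obtain ⟨c, hc⟩ := (CfsgLib.FormRep.Symplectic.center_iff g).1 hg
  rcases hF c with rfl | rfl
  · refine absurd ?_ (app_ne_zero g (x := Pi.single (.inr 0) (1 : F)) (by simp))
    simp only [app, hc, zero_smul, zero_mulVec]
  · exact Subtype.ext (hc.trans (one_smul _ _))

end Upper

open CfsgLib.Schur.OmegaGraph CfsgLib.Schur.OmegaMinusTwo

/-- The double cover of `Sp₆(2)`. -/
theorem exists_cover {F : Type u} [Field F] [Finite F] (hF : ∀ c : F, c = 0 ∨ c = 1) :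
    ∃ (S : Type u) (_ : Group S) (_ : Finite S) (p : S →* symplecticGroup (Fin (1 + 2)) F),
      Cfsg.IsStemExtension p ∧ Nat.card p.ker = 2 := by
  classical
  obtain ⟨Q, hQ, hB⟩ := exists_quadForm_plus (F := F) 4
  have h2 : (2 : F) = 0 := CfsgLib.E8.two_eq hF
  have h8 : Module.finrank F (CfsgLib.E8.Ix → F) = 8 := by simp
  have hn : 8 ≤ Module.finrank F (CfsgLib.E8.Ix → F) := h8.ge
  obtain ⟨u₀, u₁, u₂, h₀⟩ := OmegaPlusTwo.exists_tri hF hQ
  obtain ⟨S, _, _, p, ⟨hs, hc, hk⟩, ⟨e⟩⟩ := OmegaPlusTwo.exists_cover hF hQ hB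
  have h4 : Nat.card p.ker = 4 := by rw [← Nat.card_congr e.toEquiv]; simp
  have hΓ : commutator S = ⊤ := OmegaMult.perfect_of_stem ⟨hs, hc, hk⟩
    (Subgroup.map_injective (Subgroup.subtype_injective _) (by
      rw [Subgroup.map_subtype_commutator, omega_perfect hB (by simp), ← MonoidHom.range_eq_map,
        Subgroup.range_subtype]))
  -- the commutator is not trivial in the fourfold cover
  have hκ : C p hs (t u₀ u₁) (t u₀ u₂) ≠ 1 := fun h1 => by
    have := OmegaPlusTwo.card_ker_le_two h2 hB hn hF h8 h₀ p hs hc hΓ fun {x y z} hT => by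
      rw [kappa_eq h2 hB hn hF hs hc hT h₀, h1]
    omega
  obtain ⟨u, hu⟩ := OmegaEven.exists_edge_vtx h2 hB hn u₀
  obtain ⟨m, Φ, hm, -⟩ := OmegaEven.exists_stab_equiv h2 hB hn u₀ u hu
  obtain rfl : m = 1 + 2 := by simp at hm; omega
  set T₀ := MulAction.stabilizer (Cfsg.Omega F ⇑Q) u₀
  have hSp : ⁅T₀, T₀⁆ = T₀ := stab_perfect h2 hB hn hF h8 u₀
  let σ' : L p T₀ →* symplecticGroup (Fin (1 + 2)) F := Φ.toMonoidHom.comp
    ((p.comp (L p T₀).subtype).codRestrict T₀ fun k => L_sigma (σ := p) k.2)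
  have hker : ∀ b, σ' b = 1 ↔ p b.1 = 1 := fun b => by
    show Φ _ = 1 ↔ _
    rw [map_eq_one_iff _ Φ.injective, Subtype.ext_iff]
    rfl
  have hlift : ∀ g ∈ T₀, ∃ b : L p T₀, p b.1 = g := fun g hg => by
    obtain ⟨b, hb, eb⟩ := Subgroup.mem_map.1 (show g ∈ (L p T₀).map p by rwa [map_L hs, hSp])
    exact ⟨⟨b, hb⟩, eb⟩
  have hs' : Function.Surjective σ' := fun g => by
    obtain ⟨b, eb⟩ := hlift _ (Φ.symm g).2
    refine ⟨b, ?_⟩
    show Φ _ = g
    rw [← Φ.eq_symm_apply]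
    exact Subtype.ext eb
  have hc' : σ'.ker ≤ Subgroup.center (L p T₀) := fun b hb => by
    rw [MonoidHom.mem_ker, hker] at hb
    rw [Subgroup.mem_center_iff]
    exact fun x => Subtype.ext (Subgroup.mem_center_iff.1 (hc hb) x.1)
  have hperf := OmegaOdd.L_perfect hs hc hSp
  obtain ⟨a, ha⟩ := hlift _ (mem_stab h2 hB hn hF h8 h₀.1)
  obtain ⟨b, hb⟩ := hlift _ (mem_stab h2 hB hn hF h8 h₀.2.1)
  refine ⟨L p T₀, inferInstance, inferInstance, σ', ⟨hs', hc', by rw [hperf]; exact le_top⟩,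
    le_antisymm (card_ker_le hF σ' hs' hc' hperf) ?_⟩
  haveI : Nontrivial σ'.ker := by
    have hcomm : Commute (t u₀ u₁) (t u₀ u₂) := t_commute h2 hB hn h₀.1 h₀.2.1
      (OmegaEven.self_zero h2 _) h₀.2.1 (by rw [b_comm]; exact h₀.1) h₀.2.2.1
    refine ⟨⟨⟨⁅a, b⁆, (hker _).2 ?_⟩, 1, fun e => hκ ?_⟩⟩
    · show p ⁅a.1, b.1⁆ = 1
      rw [map_commutatorElement, ha, hb, commutatorElement_eq_one_iff_commute]
      exact hcomm
    · rw [C_eq hc ha hb (hs := hs)]
      exact congrArg (fun w : σ'.ker => (w.1.1 : S)) e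
  exact Finite.one_lt_card

/-- The multiplier of `PSp₆(2)`. -/
theorem hasSchurMultiplier {F : Type u} [Field F] [Finite F] (hF : ∀ c : F, c = 0 ∨ c = 1) :
    Cfsg.HasCyclicSchurMultiplier (Cfsg.PSp (1 + 2) F) 2 := by
  obtain ⟨S, _, _, p, hp, h2⟩ := exists_cover hF
  haveI : Fact (Nat.Prime 2) := ⟨Nat.prime_two⟩
  refine hasSchurMultiplier_of_bound (commutator_of_card (Or.inl (by norm_num)))
    (center_eq_bot hF) p hp (mulEquivOfPrimeCardEq (p := 2) (by simp) h2) fun q h1 h3 h4 => ?_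
  rw [h2]
  exact card_ker_le hF q h1 h3 h4

end CfsgLib.Schur.SpSixTwo
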