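import Mathlib
import Cfsg.Prelude.Def_KGroupFacts
import Cfsg.Agent.Lib.Schur.SylowCriterion
import Cfsg.Agent.Lib.Schur.SmallSylow

/-!
# A cyclic bound for a Schur multiplier, prime by prime
-/

set_option autoImplicit false

open scoped commutatorElement

namespace CfsgLib.Schur.CyclicBound

universe u v

variable {Γ : Type u} {G : Type v} [Group Γ] [Group G]

/-- The commutator of lifts of commuting elements with `a ^ k = 1` has exponent `k`. -/
theorem commutator_pow_eq_one {σ : Γ →* G} (hc : σ.ker ≤ Subgroup.center Γ) {A B : Γ}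
    (h : Commute (σ A) (σ B)) {k : ℕ} (hk : σ A ^ k = 1) : ⁅A, B⁆ ^ k = 1 := by
  have hker : ⁅A, B⁆ ∈ σ.ker := by
    rw [MonoidHom.mem_ker, map_commutatorElement, commutatorElement_eq_one_iff_commute]
    exact h
  have hcc : ∀ x, x * ⁅A, B⁆ = ⁅A, B⁆ * x := fun x => Subgroup.mem_center_iff.mp (hc hker) x
  have hconj : B * A * B⁻¹ = ⁅A, B⁆⁻¹ * A := by
    rw [eq_inv_mul_iff_mul_eq, commutatorElement_def]; group
  have hAk : B * A ^ k * B⁻¹ = A ^ k := by
    have : A ^ k ∈ σ.ker := by rw [MonoidHom.mem_ker, map_pow, hk]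
    rw [Subgroup.mem_center_iff.mp (hc this) B, mul_inv_cancel_right]
  rw [← conj_pow, hconj, (Commute.inv_left (hcc A).symm).mul_pow, inv_pow, mul_eq_right,
    inv_eq_one] at hAk
  exact hAk

/-- If every prime has a witnessing subgroup, the kernel lies in a cyclic group. -/
theorem ker_le_zpowers [Finite Γ] {σ : Γ →* G} (hσ : Cfsg.IsStemExtension σ) (g : Γ)
    (h : ∀ ℓ : ℕ, ℓ.Prime → ∃ U : Subgroup G, ¬ ℓ ∣ U.index ∧
      ∀ z ∈ σ.ker, z ∈ ⁅U.comap σ, U.comap σ⁆ → z ∈ Subgroup.zpowers g) :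
    σ.ker ≤ Subgroup.zpowers g := by
  suffices H : ∀ n : ℕ, n ≠ 0 → ∀ z ∈ σ.ker, z ^ n = 1 → z ∈ Subgroup.zpowers g by
    intro z hz
    exact H (orderOf z) (orderOf_pos z).ne' z hz (pow_orderOf_eq_one z)
  intro n
  induction n using Nat.recOnPrimeCoprime with
  | zero => exact fun h0 => absurd rfl h0
  | prime_pow p a hp =>
    intro _ z hz hza
    obtain ⟨U, hU, hUz⟩ := h p hp
    exact hUz z hz (mem_commutator_preimage hσ.1 hp hz (hσ.2.1 hz) (hσ.2.2 hz) hza U hU)
  | coprime a b ha hb hab iha ihb =>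
    intro _ z hz hzab
    have h1 : z = (z ^ b) ^ (Nat.gcdB a b) * (z ^ a) ^ (Nat.gcdA a b) := by
      have e := Nat.gcd_eq_gcd_ab a b
      rw [hab.gcd_eq_one] at e
      rw [← zpow_natCast z b, ← zpow_natCast z a, ← zpow_mul, ← zpow_mul, ← zpow_add, add_comm, ← e,
        Nat.cast_one, zpow_one]
    rw [h1]
    refine mul_mem (zpow_mem ?_ _) (zpow_mem ?_ _)
    · refine iha (by omega) _ (pow_mem hz b) ?_
      rw [← pow_mul, mul_comm, hzab]
    · refine ihb (by omega) _ (pow_mem hz a) ?_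
      rw [← pow_mul, hzab]

/-- A cyclic bound gives a surjection from the cyclic group of that order. -/
theorem exists_surjection {σ : Γ →* G} {g : Γ} {n : ℕ} [NeZero n] (hg : g ∈ σ.ker)
    (hgn : g ^ n = 1) (hle : σ.ker ≤ Subgroup.zpowers g) :
    ∃ π : Multiplicative (ZMod n) →* σ.ker, Function.Surjective π := by
  let c : σ.ker := ⟨g, hg⟩
  have hc : c ^ n = 1 := Subtype.ext hgn
  refine ⟨MonoidHom.mk' (fun x => c ^ (Multiplicative.toAdd x).val) fun x y => ?_, fun z => ?_⟩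
  · show c ^ (Multiplicative.toAdd x + Multiplicative.toAdd y).val = _
    rw [ZMod.val_add, ← pow_add, ← pow_eq_pow_mod _ hc]
  · obtain ⟨j, hj⟩ := Subgroup.mem_zpowers_iff.mp (hle z.2)
    refine ⟨Multiplicative.ofAdd (j : ZMod n), Subtype.ext ?_⟩
    show g ^ (j : ZMod n).val = (z : Γ)
    rw [← zpow_natCast, ZMod.val_intCast, ← zpow_eq_zpow_emod' j hgn, hj]

/-- The subgroup generated by two commuting lifts. -/
theorem preimage_pair_commutator {σ : Γ →* G} (hc : σ.ker ≤ Subgroup.center Γ) {A B : Γ}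
    (h : Commute (σ A) (σ B)) :
    ⁅(Subgroup.closure {σ A, σ B}).comap σ, (Subgroup.closure {σ A, σ B}).comap σ⁆ ≤
      Subgroup.zpowers ⁅A, B⁆ := by
  have hker : σ ⁅A, B⁆ = 1 := by
    rw [map_commutatorElement, commutatorElement_eq_one_iff_commute]; exact h
  have hcc : ∀ x, x * ⁅A, B⁆ = ⁅A, B⁆ * x := fun x =>
    Subgroup.mem_center_iff.mp (hc (MonoidHom.mem_ker.mpr hker)) x
  refine preimage_commutator_le hc _ rfl rfl rfl _ (Subgroup.mem_zpowers _)
    (by rw [hker]; exact one_mem _) ⟨?_, ?_⟩ ⟨?_, ?_⟩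
  · rw [hcc A, mul_inv_cancel_right]; exact Subgroup.mem_zpowers _
  · rw [mul_assoc, ← hcc A, inv_mul_cancel_left]; exact Subgroup.mem_zpowers _
  · rw [hcc B, mul_inv_cancel_right]; exact Subgroup.mem_zpowers _
  · rw [mul_assoc, ← hcc B, inv_mul_cancel_left]; exact Subgroup.mem_zpowers _

end CfsgLib.Schur.CyclicBound
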