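import Mathlib
import Cfsg.Agent.Lib.Classical.Transvection

/-!
# Central extensions of `SL_n` with a family of root elements
-/

set_option autoImplicit false
set_option linter.unusedSectionVars false
set_option linter.style.haveILetI false

namespace CfsgLib.Schur.SLFam

open Matrix
open scoped MatrixGroups commutatorElement

variable {F : Type*} [Field F] {ι : Type*} [Fintype ι] [DecidableEq ι] {Γ : Type*} [Group Γ]

/-- Elementary transvections, extended by `1` on the diagonal. -/
def tv (i j : ι) (t : F) : SpecialLinearGroup ι F :=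
  if h : i = j then 1 else SpecialLinearGroup.transvection h t

theorem tv_def {i j : ι} (h : i ≠ j) (t : F) : tv i j t = SpecialLinearGroup.transvection h t :=
  dif_neg h

theorem coe_tv {i j : ι} (h : i ≠ j) (t : F) :
    (tv i j t : Matrix ι ι F) = 1 + Matrix.single i j t := by
  rw [tv_def h, SpecialLinearGroup.transvection_coe]

theorem tv_add {i j : ι} (h : i ≠ j) (s t : F) : tv i j (s + t) = tv i j s * tv i j t := by
  simp only [tv_def h, SpecialLinearGroup.transvection_add]

theorem tv_zero (i j : ι) : tv i j (0 : F) = 1 := by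
  by_cases h : i = j
  · exact dif_pos h
  · rw [tv_def h, SpecialLinearGroup.transvection_coeff_zero]

theorem tv_comm {i j k l : ι} (hij : i ≠ j) (hkl : k ≠ l) (hjk : j ≠ k) (hil : i ≠ l) (s t : F) :
    tv i j s * tv k l t = tv k l t * tv i j s := by
  apply Subtype.ext
  have hli : l ≠ i := Ne.symm hil
  simp [coe_tv hij, coe_tv hkl, mul_add, add_mul, hjk, hli]
  abel

theorem tv_rel {i j k : ι} (hij : i ≠ j) (hjk : j ≠ k) (hik : i ≠ k) (s t : F) :
    ⁅tv i j s, tv j k t⁆ = tv i k (s * t) := by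
  rw [commutatorElement_def, mul_inv_eq_iff_eq_mul, mul_inv_eq_iff_eq_mul]
  apply Subtype.ext
  have hki : k ≠ i := Ne.symm hik
  have hkj : k ≠ j := Ne.symm hjk
  have hji : j ≠ i := Ne.symm hij
  simp [coe_tv hij, coe_tv hjk, coe_tv hik, mul_add, add_mul, hki, hkj, hji]
  abel

/-- A monomial matrix. -/
def IsMono (M : Matrix ι ι F) (π : Equiv.Perm ι) (u : ι → F) : Prop :=
  ∀ k a, M k a = if k = π a then u a else 0

theorem IsMono.ne_zero {g : SpecialLinearGroup ι F} {π : Equiv.Perm ι} {u : ι → F}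
    (h : IsMono (g : Matrix ι ι F) π u) (a : ι) : u a ≠ 0 := fun h0 => by
  have := Matrix.det_eq_zero_of_column_eq_zero (A := (g : Matrix ι ι F)) a fun k => by rw [h k a, h0, ite_self]
  rw [g.2] at this
  exact one_ne_zero this

theorem IsMono.mul {M N : Matrix ι ι F} {π π' : Equiv.Perm ι} {u u' : ι → F} (h : IsMono M π u)
    (h' : IsMono N π' u') : IsMono (M * N) (π * π') fun a => u (π' a) * u' a := fun k a => by
  rw [Matrix.mul_apply, Finset.sum_eq_single (π' a)]
  · rw [h k, h' (π' a) a, if_pos rfl]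
    by_cases hk : k = π (π' a) <;> simp [hk]
  · intro b _ hb
    rw [h' b a, if_neg hb, mul_zero]
  · simp

theorem IsMono.tv_conj {g : SpecialLinearGroup ι F} {π : Equiv.Perm ι} {u : ι → F}
    (h : IsMono (g : Matrix ι ι F) π u) {i j : ι} (hij : i ≠ j) (t : F) :
    g * tv i j t * g⁻¹ = tv (π i) (π j) (u i * t / u j) := by
  rw [mul_inv_eq_iff_eq_mul]
  apply Subtype.ext
  show (g : Matrix ι ι F) * (tv i j t : Matrix ι ι F) = (tv (π i) (π j) (u i * t / u j) : Matrix ι ι F) * g
  rw [coe_tv hij, coe_tv (π.injective.ne hij), mul_add, add_mul, one_mul, mul_one]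
  congr 1
  ext k a
  rw [Matrix.mul_apply, Matrix.mul_apply, Finset.sum_eq_single i, Finset.sum_eq_single (π j)]
  · rw [h k i, h (π j) a]
    by_cases ha : j = a
    · subst ha
      by_cases hk : k = π i
      · subst hk
        simp [div_mul_cancel₀ _ (h.ne_zero j)]
      · simp [hk, Ne.symm hk]
    · have : π j ≠ π a := π.injective.ne ha
      simp [ha, this]
  · intro b _ hb; simp [Ne.symm hb]
  · simp
  · intro b _ hb; simp [Ne.symm hb]
  · simp

/-- A diagonal element. -/
def dia (d : ι → F) (h : ∏ i, d i = 1) : SpecialLinearGroup ι F :=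
  ⟨Matrix.diagonal d, by rw [Matrix.det_diagonal, h]⟩

theorem isMono_dia (d : ι → F) (h : ∏ i, d i = 1) : IsMono (dia d h : Matrix ι ι F) 1 d := fun k a => by
  show Matrix.diagonal d k a = _
  rcases eq_or_ne k a with rfl | hka
  · simp
  · simp [hka]

/-- A central extension of `SL_n` with root elements satisfying the relations of Steinberg, and
equivariant under all monomial elements. -/
structure Fam (σ : Γ →* SpecialLinearGroup ι F) (Y : ι → ι → F → Γ) : Prop where
  central : σ.ker ≤ Subgroup.center Γ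
  lift : ∀ i j, i ≠ j → ∀ t, σ (Y i j t) = tv i j t
  gen : Subgroup.closure {g | ∃ i j, i ≠ j ∧ ∃ t, g = Y i j t} = ⊤
  add : ∀ i j, i ≠ j → ∀ s t, Y i j (s + t) = Y i j s * Y i j t
  comm : ∀ i j k l, i ≠ j → k ≠ l → j ≠ k → i ≠ l → ∀ s t, Commute (Y i j s) (Y k l t)
  rel : ∀ i j k, i ≠ j → j ≠ k → i ≠ k → ∀ s t, ⁅Y i j s, Y j k t⁆ = Y i k (s * t)
  conj : ∀ g π u, IsMono (σ g : Matrix ι ι F) π u → ∀ i j, i ≠ j → ∀ t,
    g * Y i j t * g⁻¹ = Y (π i) (π j) (u i * t / u j)

theorem Fam.surjective [Nontrivial ι] {σ : Γ →* SpecialLinearGroup ι F} {Y : ι → ι → F → Γ}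
    (R : Fam σ Y) : Function.Surjective σ := by
  rw [← MonoidHom.range_eq_top]
  refine CfsgLib.Classical.eq_top_of_transvection_mem _ fun i j hij c => ?_
  exact ⟨Y i j c, by rw [R.lift i j hij, tv_def hij]⟩

theorem Fam.zero {σ : Γ →* SpecialLinearGroup ι F} {Y : ι → ι → F → Γ} (R : Fam σ Y) {i j : ι}
    (hij : i ≠ j) : Y i j 0 = 1 := by
  have h := R.add i j hij 0 0
  rwa [add_zero, left_eq_mul] at h

section Pad

variable {k : ℕ}

/-- The selection matrix. -/
def sel (F : Type*) [Field F] (v : Fin k → ι) : Matrix ι (Fin k) F := Matrix.of fun x a => if x = v a then 1 else 0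

variable {v : Fin k → ι} (hv : Function.Injective v)
include hv

theorem sel_tmul_sel : (sel F v)ᵀ * sel F v = 1 := by
  ext a b
  simp [sel, Matrix.mul_apply, Matrix.one_apply, hv.eq_iff, eq_comm]

/-- Embedding of `SL_k` on chosen coordinates. -/
def pad : SL(k, F) →* SpecialLinearGroup ι F where
  toFun M := ⟨1 + sel F v * ((M : Matrix (Fin k) (Fin k) F) - 1) * (sel F v)ᵀ, by
    rw [Matrix.det_one_add_mul_comm, ← Matrix.mul_assoc, sel_tmul_sel hv, Matrix.one_mul,
      add_sub_cancel, M.2]⟩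
  map_one' := Subtype.ext (by simp)
  map_mul' M N := Subtype.ext (by
    show 1 + sel F v * (((M * N : SL(k, F)) : Matrix (Fin k) (Fin k) F) - 1) * (sel F v)ᵀ =
      (1 + sel F v * ((M : Matrix (Fin k) (Fin k) F) - 1) * (sel F v)ᵀ) *
        (1 + sel F v * ((N : Matrix (Fin k) (Fin k) F) - 1) * (sel F v)ᵀ)
    have e : sel F v * ((M : Matrix (Fin k) (Fin k) F) - 1) * (sel F v)ᵀ *
        (sel F v * ((N : Matrix (Fin k) (Fin k) F) - 1) * (sel F v)ᵀ) =
        sel F v * (((M : Matrix (Fin k) (Fin k) F) - 1) * ((N : Matrix (Fin k) (Fin k) F) - 1)) * (sel F v)ᵀ := by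
      simp only [Matrix.mul_assoc]
      rw [← Matrix.mul_assoc (sel F v)ᵀ, sel_tmul_sel hv, Matrix.one_mul]
    rw [Matrix.add_mul, Matrix.one_mul, Matrix.mul_add, Matrix.mul_one, e, add_assoc,
      ← Matrix.add_mul, ← Matrix.add_mul, ← Matrix.mul_add, ← Matrix.mul_add]
    congr 3
    show (M : Matrix (Fin k) (Fin k) F) * (N : Matrix (Fin k) (Fin k) F) - 1 = _
    noncomm_ring)

theorem pad_coe (M : SL(k, F)) : (pad (F := F) hv M : Matrix ι ι F) =
    1 + sel F v * ((M : Matrix (Fin k) (Fin k) F) - 1) * (sel F v)ᵀ := rfl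

theorem pad_apply (M : SL(k, F)) (a b : Fin k) :
    (pad (F := F) hv M : Matrix ι ι F) (v a) (v b) = (M : Matrix (Fin k) (Fin k) F) a b := by
  simp [pad_coe, sel, Matrix.mul_apply, Matrix.one_apply, hv.eq_iff]

theorem pad_apply_out (M : SL(k, F)) {x y : ι} (h : x ∉ Set.range v ∨ y ∉ Set.range v) :
    (pad (F := F) hv M : Matrix ι ι F) x y = (1 : Matrix ι ι F) x y := by
  rcases h with h | h
  · have : ∀ a, x ≠ v a := fun a e => h ⟨a, e.symm⟩
    simp [pad_coe, sel, Matrix.mul_apply, this]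
  · have : ∀ a, y ≠ v a := fun a e => h ⟨a, e.symm⟩
    simp [pad_coe, sel, Matrix.mul_apply, this]

theorem pad_injective : Function.Injective (pad (F := F) hv) := fun M N h => Subtype.ext (by
  ext a b
  rw [← pad_apply hv M, ← pad_apply hv N, h])

theorem pad_tv {a b : Fin k} (h : a ≠ b) (t : F) : pad hv (tv a b t) = tv (v a) (v b) t := by
  apply Subtype.ext
  rw [pad_coe, coe_tv h, coe_tv (hv.ne h), add_sub_cancel_left]
  congr 1
  ext x y
  simp only [Matrix.mul_apply, sel, Matrix.transpose_apply, Matrix.of_apply, ite_mul, one_mul,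
    zero_mul, mul_ite, mul_one, mul_zero, Matrix.single_apply]
  rw [Finset.sum_eq_single b (fun c _ hc => ?_) (by simp), Finset.sum_eq_single a (fun c _ hc => ?_) (by simp)]
  · by_cases hx : x = v a <;> by_cases hy : y = v b <;> simp [hx, hy, eq_comm]
  · simp [Ne.symm hc]
  · rw [Finset.sum_eq_zero fun d _ => by simp [Ne.symm hc], ite_self]

theorem isMono_pad {M : SL(k, F)} {π : Equiv.Perm (Fin k)} {u : Fin k → F}
    (h : IsMono (M : Matrix (Fin k) (Fin k) F) π u) :
    ∃ (π' : Equiv.Perm ι) (u' : ι → F), IsMono (pad hv M : Matrix ι ι F) π' u' ∧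
      ∀ a, π' (v a) = v (π a) ∧ u' (v a) = u a := by
  classical
  refine ⟨π.extendDomain (Equiv.ofInjective v hv), Function.extend v u 1, fun x y => ?_, fun a => ?_⟩
  · by_cases hy : y ∈ Set.range v
    · obtain ⟨b, rfl⟩ := hy
      rw [hv.extend_apply]
      have e : (π.extendDomain (Equiv.ofInjective v hv)) (v b) = v (π b) :=
        Equiv.Perm.extendDomain_apply_image π (Equiv.ofInjective v hv) b
      rw [e]
      by_cases hx : x ∈ Set.range v
      · obtain ⟨a, rfl⟩ := hx
        rw [pad_apply hv M, h]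
        simp [hv.eq_iff]
      · rw [pad_apply_out hv M (Or.inl hx), Matrix.one_apply_ne, if_neg]
        · exact fun e => hx ⟨_, e.symm⟩
        · exact fun e => hx ⟨_, e.symm⟩
    · rw [Equiv.Perm.extendDomain_apply_not_subtype _ _ hy, Function.extend_apply' _ _ _ (by simpa using hy),
        pad_apply_out hv M (Or.inr hy), Matrix.one_apply]
      simp
  · exact ⟨Equiv.Perm.extendDomain_apply_image π (Equiv.ofInjective v hv) a, hv.extend_apply _ _ a⟩

end Pad

/-- The extension of `SL_k` carried by some of the coordinates. -/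
theorem Fam.sub [Finite Γ] [Finite F] {σ : Γ →* SpecialLinearGroup ι F} {X : ι → ι → F → Γ} (R : Fam σ X)
    {k : ℕ} {v : Fin k → ι} (hv : Function.Injective v) :
    ∃ (E : Subgroup (SL(k, F) × Γ)) (Y : Fin k → Fin k → F → E),
      Fam ((MonoidHom.fst (SL(k, F)) Γ).comp E.subtype) Y ∧
      (∀ a b, a ≠ b → ∀ t, (Y a b t : SL(k, F) × Γ).2 = X (v a) (v b) t) ∧
      ∀ e : E, σ (e : SL(k, F) × Γ).2 = pad hv (e : SL(k, F) × Γ).1 := by
  classical
  let S : Set (SL(k, F) × Γ) := {e | ∃ a b, a ≠ b ∧ ∃ t, e = (tv a b t, X (v a) (v b) t)}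
  let E := Subgroup.closure S
  have key : ∀ e ∈ E, σ e.2 = pad hv e.1 := by
    intro e he
    have hle : E ≤ (σ.comp (MonoidHom.snd (SL(k, F)) Γ)).eqLocus ((pad hv).comp (MonoidHom.fst (SL(k, F)) Γ)) := by
      refine (Subgroup.closure_le _).mpr ?_
      rintro _ ⟨a, b, hab, t, rfl⟩
      show σ (X (v a) (v b) t) = pad hv (tv a b t)
      rw [R.lift _ _ (hv.ne hab), pad_tv hv hab]
    exact hle he
  refine ⟨E, fun a b t => if h : a ≠ b then
    ⟨(tv a b t, X (v a) (v b) t), Subgroup.subset_closure ⟨a, b, h, t, rfl⟩⟩ else 1, ?_, ?_, fun e => key e e.2⟩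
  swap
  · intro a b hab t
    simp [hab]
  constructor
  · intro e he
    have h1 : (e : SL(k, F) × Γ).1 = 1 := he
    have h2 : (e : SL(k, F) × Γ).2 ∈ σ.ker := by
      rw [MonoidHom.mem_ker, key e e.2, h1, map_one]
    refine Subgroup.mem_center_iff.mpr fun x => Subtype.ext (Prod.ext ?_ ?_)
    · simp [h1]
    · exact Subgroup.mem_center_iff.mp (R.central h2) _
  · intro a b hab t
    simp [hab]
  · rw [eq_top_iff]
    rintro ⟨e, he⟩ -
    induction he using Subgroup.closure_induction with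
    | mem x hx =>
      obtain ⟨a, b, hab, t, rfl⟩ := hx
      exact Subgroup.subset_closure ⟨a, b, hab, t, by rw [dif_pos hab]⟩
    | one => exact one_mem _
    | mul x y hx hy ihx ihy => exact mul_mem ihx ihy
    | inv x hx ihx => exact inv_mem ihx
  · intro a b hab s t
    simp only [dif_pos hab]
    exact Subtype.ext (Prod.ext (tv_add hab s t) (R.add _ _ (hv.ne hab) s t))
  · intro a b c d hab hcd hbc had s t
    simp only [dif_pos hab, dif_pos hcd]
    exact Subtype.ext (Prod.ext (tv_comm hab hcd hbc had s t)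
      (R.comm _ _ _ _ (hv.ne hab) (hv.ne hcd) (hv.ne hbc) (hv.ne had) s t).eq)
  · intro a b c hab hbc hac s t
    simp only [dif_pos hab, dif_pos hbc, dif_pos hac]
    exact Subtype.ext (Prod.ext (tv_rel hab hbc hac s t)
      (R.rel _ _ _ (hv.ne hab) (hv.ne hbc) (hv.ne hac) s t))
  · intro g π u hg a b hab t
    simp only [dif_pos hab, dif_pos (π.injective.ne hab)]
    refine Subtype.ext (Prod.ext (hg.tv_conj hab t) ?_)
    obtain ⟨π', u', hm, hu⟩ := isMono_pad hv hg
    have hm' : IsMono (σ (g : SL(k, F) × Γ).2 : Matrix ι ι F) π' u' := by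
      rw [key g g.2]; exact hm
    have h := R.conj _ π' u' hm' _ _ (hv.ne hab) t
    rw [(hu a).1, (hu b).1, (hu a).2, (hu b).2] at h
    exact h

end CfsgLib.Schur.SLFam
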