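import Mathlib
import Cfsg.Agent.Lib.Schur.SLFam
import Cfsg.Agent.Lib.Schur.Hopf

/-!
# Root families in stem extensions of `SL_n`, `n ≥ 3`
-/

set_option autoImplicit false
set_option linter.unusedSectionVars false
set_option linter.style.haveILetI false

namespace CfsgLib.Schur.SLFam

open Matrix
open scoped MatrixGroups commutatorElement

variable {F : Type*} [Field F] [Fintype F] {n : ℕ} {Γ : Type*} [Group Γ] {σ : Γ →* SL(n, F)}

theorem exists_ne_zero_ne_one {K : Type*} [Field K] [Fintype K] (h2 : Fintype.card K ≠ 2) :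
    ∃ x : K, x ≠ 0 ∧ x ≠ 1 := by
  classical
  by_contra h
  push Not at h
  have hu : (Finset.univ : Finset K) ⊆ {0, 1} := fun x _ => by
    simp only [Finset.mem_insert, Finset.mem_singleton]
    exact (em (x = 0)).imp_right (h x)
  have := (Finset.card_le_card hu).trans Finset.card_le_two
  have := Fintype.one_lt_card (α := K)
  simp at *
  omega

theorem exists_cube_ne_one {K : Type*} [Field K] [Fintype K] (h2 : Fintype.card K ≠ 2)
    (h4 : Fintype.card K ≠ 4) : ∃ a : K, a ≠ 0 ∧ a ^ 3 ≠ 1 := by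
  classical
  by_contra h
  push Not at h
  have hu : (Finset.univ : Finset K) ⊆ insert 0 (Polynomial.nthRoots 3 (1 : K)).toFinset := fun x _ => by
    simp only [Finset.mem_insert, Multiset.mem_toFinset, Polynomial.mem_nthRoots (show 0 < 3 by omega)]
    exact (em (x = 0)).imp_right (h x)
  have h5 : Fintype.card K ≤ 4 := by
    refine (Finset.card_le_card hu).trans ((Finset.card_insert_le _ _).trans ?_)
    have := (Multiset.toFinset_card_le _).trans (Polynomial.card_nthRoots 3 (1 : K))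
    omega
  have h3 : Fintype.card K = 3 := by have := Fintype.one_lt_card (α := K); omega
  obtain ⟨x, hx0, hx1⟩ := exists_ne_zero_ne_one h2
  have e2 := FiniteField.pow_card_sub_one_eq_one x hx0
  rw [h3] at e2
  exact hx1 (by simpa [pow_succ' x 2, e2] using h x hx0)

/-- A set closed under the field operations and containing all cubes is everything, for `q ≠ 4`. -/
theorem subfield_eq_top_of_cubes {K : Type*} [Field K] [Fintype K] (h4 : Fintype.card K ≠ 4)
    (G : Subfield K) (hG : ∀ y : K, y ^ 3 ∈ G) : G = ⊤ := by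
  classical
  have hle : Fintype.card K - 1 ≤ 3 * (Nat.card G - 1) := by
    have himg : ((Finset.univ.erase (0 : K)).image (fun y => y ^ 3)).card ≤ Nat.card G - 1 := by
      rw [Nat.card_eq_fintype_card, ← Finset.card_univ (α := G), ← Finset.card_erase_of_mem (Finset.mem_univ (0 : G))]
      rw [← Finset.card_image_of_injective ((Finset.univ : Finset G).erase 0) Subtype.val_injective]
      refine Finset.card_le_card fun z hz => ?_
      obtain ⟨y, hy, rfl⟩ := Finset.mem_image.mp hz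
      refine Finset.mem_image.mpr ⟨⟨y ^ 3, hG y⟩, ?_, rfl⟩
      simpa [Subtype.ext_iff] using hy
    have h := Finset.card_le_mul_card_image (f := fun y : K => y ^ 3) (Finset.univ.erase (0 : K)) 3 fun a _ => by
      refine le_trans (Finset.card_le_card (t := (Polynomial.nthRoots 3 a).toFinset) fun z hz => ?_)
        ((Multiset.toFinset_card_le _).trans (Polynomial.card_nthRoots 3 a))
      simpa [Polynomial.mem_nthRoots] using (Finset.mem_filter.mp hz).2
    rw [Finset.card_erase_of_mem (Finset.mem_univ _), Finset.card_univ] at h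
    omega
  have hpow : Fintype.card K = Nat.card G ^ Module.finrank G K := by
    rw [Nat.card_eq_fintype_card]
    exact Module.card_eq_pow_finrank
  by_contra hne
  have hd : 2 ≤ Module.finrank G K := by
    by_contra hd
    have hd1 : Module.finrank G K = 1 := by have := Module.finrank_pos (R := G) (M := K); omega
    rw [hd1, pow_one] at hpow
    apply hne
    rw [eq_top_iff]
    intro x _
    have : (G : Set K) = Set.univ := Set.eq_of_subset_of_ncard_le (Set.subset_univ _) (by
      rw [Set.ncard_univ, Nat.card_eq_fintype_card, hpow, ← Nat.card_coe_set_eq]; rfl) Set.finite_univ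
    show x ∈ (G : Set K)
    rw [this]
    trivial
  have hk : 2 ≤ Nat.card G := Finite.one_lt_card
  have hq : Nat.card G ^ 2 ≤ Fintype.card K := hpow ▸ Nat.pow_le_pow_right (by omega) hd
  have hk2 : Nat.card G = 2 := by
    by_contra hk2
    have h3 : 3 ≤ Nat.card G := by omega
    have : 3 * Nat.card G ≤ Nat.card G ^ 2 := by rw [sq]; exact Nat.mul_le_mul_right _ h3
    omega
  rw [hk2] at hpow hle
  rcases lt_or_ge 2 (Module.finrank G K) with hd3 | hd3
  · have := Nat.pow_le_pow_right (show 0 < 2 by omega) hd3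
    omega
  · rw [show Module.finrank G K = 2 by omega] at hpow
    exact h4 hpow

section

variable (hs : Function.Surjective σ)

/-- Some preimage of a transvection. -/
noncomputable def lf (i j : Fin n) (t : F) : Γ := Function.surjInv hs (tv i j t)

theorem map_lf (i j : Fin n) (t : F) : σ (lf hs i j t) = tv i j t := Function.surjInv_eq hs _

include hs

theorem exists_dia3 {i j l : Fin n} (hij : i ≠ j) (hil : i ≠ l) (hjl : j ≠ l) {α β γ : F}
    (h : α * β * γ = 1) :
    ∃ (g : Γ) (u : Fin n → F), IsMono (σ g : Matrix (Fin n) (Fin n) F) 1 u ∧ u i = α ∧ u j = β ∧ u l = γ ∧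
      ∀ x, x ≠ i → x ≠ j → x ≠ l → u x = 1 := by
  classical
  let d : Fin n → F := fun x => (Pi.mulSingle i α : Fin n → F) x * (Pi.mulSingle j β : Fin n → F) x *
    (Pi.mulSingle l γ : Fin n → F) x
  have hd : ∏ x, d x = 1 := by
    simp only [d, Finset.prod_mul_distrib, Fintype.prod_pi_mulSingle']
    exact h
  obtain ⟨g, hg⟩ := hs (dia d hd)
  refine ⟨g, d, by rw [hg]; exact isMono_dia d hd, ?_, ?_, ?_, fun x h1 h2 h3 => ?_⟩
  · simp [d, hij, hil]
  · simp [d, hij.symm, hjl]
  · simp [d, hil.symm, hjl.symm]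
  · simp [d, h1, h2, h3]

theorem exists_perm (π : Equiv.Perm (Fin n)) (hπ : Equiv.Perm.sign π = 1) :
    ∃ g : Γ, IsMono (σ g : Matrix (Fin n) (Fin n) F) π 1 := by
  let M : SL(n, F) := ⟨(π.permMatrix F)ᵀ, by simp [Matrix.det_permutation, hπ]⟩
  obtain ⟨g, hg⟩ := hs M
  refine ⟨g, fun k a => ?_⟩
  rw [hg]
  show (π.permMatrix F)ᵀ k a = _
  simp [Equiv.Perm.permMatrix, PEquiv.toMatrix_apply, eq_comm]

variable (hc : σ.ker ≤ Subgroup.center Γ)
include hc

theorem conj_pair {g : Γ} {π : Equiv.Perm (Fin n)} {u : Fin n → F}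
    (hg : IsMono (σ g : Matrix (Fin n) (Fin n) F) π u) {i j k l : Fin n} (hij : i ≠ j) (hkl : k ≠ l) (s t : F) :
    g * ⁅lf hs i j s, lf hs k l t⁆ * g⁻¹ =
      ⁅lf hs (π i) (π j) (u i * s / u j), lf hs (π k) (π l) (u k * t / u l)⁆ := by
  rw [show g * ⁅lf hs i j s, lf hs k l t⁆ * g⁻¹ = ⁅g * lf hs i j s * g⁻¹, g * lf hs k l t * g⁻¹⁆ by
    simp only [commutatorElement_def]; group]
  refine commutatorElement_congr σ hc ?_ ?_ <;>
    rw [map_mul, map_mul, map_inv, map_lf, map_lf]
  · exact hg.tv_conj hij s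
  · exact hg.tv_conj hkl t

theorem pair_central {i j k l : Fin n} (hij : i ≠ j) (hkl : k ≠ l) (hjk : j ≠ k) (hil : i ≠ l) (s t : F) :
    ⁅lf hs i j s, lf hs k l t⁆ ∈ Subgroup.center Γ := by
  refine hc ?_
  rw [MonoidHom.mem_ker, map_commutatorElement, map_lf, map_lf, commutatorElement_eq_one_iff_mul_comm]
  exact tv_comm hij hkl hjk hil s t

theorem pair_add_left {i j k l : Fin n} (hij : i ≠ j) (hkl : k ≠ l) (hjk : j ≠ k) (hil : i ≠ l) (s s' t : F) :
    ⁅lf hs i j (s + s'), lf hs k l t⁆ = ⁅lf hs i j s, lf hs k l t⁆ * ⁅lf hs i j s', lf hs k l t⁆ := by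
  have h : ⁅lf hs i j (s + s'), lf hs k l t⁆ = ⁅lf hs i j s * lf hs i j s', lf hs k l t⁆ :=
    commutatorElement_congr σ hc (by rw [map_mul, map_lf, map_lf, map_lf, tv_add hij]) rfl
  have hz := Subgroup.mem_center_iff.mp (pair_central hs hc hij hkl hjk hil s' t)
  rw [h]
  generalize lf hs i j s = a at *
  generalize hw : ⁅lf hs i j s', lf hs k l t⁆ = w at *
  generalize lf hs i j s' = b at *
  generalize lf hs k l t = z at *
  calc ⁅a * b, z⁆ = a * ⁅b, z⁆ * a⁻¹ * ⁅a, z⁆ := by simp only [commutatorElement_def]; group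
    _ = w * a * a⁻¹ * ⁅a, z⁆ := by rw [hw, hz a]
    _ = w * ⁅a, z⁆ := by group
    _ = ⁅a, z⁆ * w := (hz _).symm

theorem commute_lifts_aux (hn : 3 ≤ n) (h32 : ¬(n = 3 ∧ Fintype.card F = 2))
    (h34 : ¬(n = 3 ∧ Fintype.card F = 4)) (h42 : ¬(n = 4 ∧ Fintype.card F = 2))
    {i j k l : Fin n} (hij : i ≠ j) (hkl : k ≠ l) (hjk : j ≠ k) (hil : i ≠ l) (s t : F) :
    ⁅lf hs i j s, lf hs k l t⁆ = 1 := by
  classical
  by_cases hm : ∃ m, m ≠ i ∧ m ≠ j ∧ m ≠ k ∧ m ≠ l
  · obtain ⟨m, hmi, hmj, hmk, hml⟩ := hm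
    rw [commutatorElement_congr σ hc (a' := ⁅lf hs i m s, lf hs m j 1⁆) (b' := lf hs k l t)
      (by rw [map_commutatorElement, map_lf, map_lf, map_lf, tv_rel hmi.symm hmj hij, mul_one]) rfl,
      commutatorElement_eq_one_iff_mul_comm]
    have h : lf hs k l t * ⁅lf hs i m s, lf hs m j 1⁆ * (lf hs k l t)⁻¹ = ⁅lf hs i m s, lf hs m j 1⁆ := by
      rw [show lf hs k l t * ⁅lf hs i m s, lf hs m j 1⁆ * (lf hs k l t)⁻¹ =
        ⁅lf hs k l t * lf hs i m s * (lf hs k l t)⁻¹, lf hs k l t * lf hs m j 1 * (lf hs k l t)⁻¹⁆ by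
          simp only [commutatorElement_def]; group]
      refine commutatorElement_congr σ hc ?_ ?_ <;>
        rw [map_mul, map_mul, map_inv, map_lf, map_lf, mul_inv_eq_iff_eq_mul]
      · exact (tv_comm hmi.symm hkl hmk hil s t).symm
      · exact (tv_comm hmj hkl hjk hml 1 t).symm
    exact (mul_inv_eq_iff_eq_mul.1 h).symm
  push Not at hm
  set c : F → F → Γ := fun s t => ⁅lf hs i j s, lf hs k l t⁆ with hcdef
  show c s t = 1
  have hadd : ∀ a b t, c (a + b) t = c a t * c b t := fun a b t => pair_add_left hs hc hij hkl hjk hil a b t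
  have hc0 : ∀ t, c 0 t = 1 := fun t => by
    have := hadd 0 0 t
    rwa [add_zero, left_eq_mul] at this
  have hfix : ∀ (g : Γ) (π : Equiv.Perm (Fin n)) (u : Fin n → F),
      IsMono (σ g : Matrix (Fin n) (Fin n) F) π u → ∀ s t,
      ⁅lf hs (π i) (π j) (u i * s / u j), lf hs (π k) (π l) (u k * t / u l)⁆ = c s t := by
    intro g π u hg s t
    rw [← conj_pair hs hc hg hij hkl s t,
      Subgroup.mem_center_iff.mp (pair_central hs hc hij hkl hjk hil s t) g, mul_inv_cancel_right]
  have hkill : ∀ a : F, a ≠ 1 → (∀ s t, c (a * s) t = c s t) → ∀ s t, c s t = 1 := by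
    intro a ha hat s t
    have h := hadd s (s / (a - 1)) t
    rw [show s + s / (a - 1) = a * (s / (a - 1)) by field_simp [sub_ne_zero.2 ha]; ring, hat] at h
    exact right_eq_mul.mp h
  have hcard : n ≤ ({i, j, k, l} : Finset (Fin n)).card := by
    have : (Finset.univ : Finset (Fin n)) ⊆ {i, j, k, l} := fun m _ => by
      simp only [Finset.mem_insert, Finset.mem_singleton]
      by_contra h
      simp only [not_or] at h
      exact h.2.2.2 (hm m h.1 h.2.1 h.2.2.1)
    simpa using Finset.card_le_card this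
  by_cases hik : i = k
  · subst hik
    have hjl : j ≠ l := fun e => by
      subst e
      have : ({i, j, i, j} : Finset (Fin n)) ⊆ {i, j} := by intro x; simp only [Finset.mem_insert, Finset.mem_singleton]; tauto
      have := (Finset.card_le_card this).trans Finset.card_le_two
      omega
    have hn3 : n = 3 := le_antisymm (hcard.trans ((Finset.card_le_card
      (show ({i, j, i, l} : Finset (Fin n)) ⊆ {i, j, l} by intro x; simp only [Finset.mem_insert, Finset.mem_singleton]; tauto)).trans Finset.card_le_three)) hn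
    have h1 : ∀ u : F, u ≠ 0 → ∀ s t, c (u * s) (t / u) = c s t := fun u hu s t => by
      obtain ⟨g, d, hg, e1, e2, e3, -⟩ := exists_dia3 hs (σ := σ) hij hil hjl (α := 1) (β := u⁻¹) (γ := u)
        (by simp [hu])
      simpa [e1, e2, e3, mul_comm] using hfix g 1 d hg s t
    obtain ⟨a, ha, ha3⟩ : ∃ a : F, a ≠ 0 ∧ a ^ 3 ≠ 1 := exists_cube_ne_one
      (fun e => h32 ⟨hn3, e⟩) (fun e => h34 ⟨hn3, e⟩)
    have h2 : ∀ s t, c (a * s) (a ^ 2 * t) = c s t := fun s t => by
      obtain ⟨g, d, hg, e1, e2, e3, -⟩ := exists_dia3 hs (σ := σ) hij hil hjl (α := a) (β := 1) (γ := a⁻¹)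
        (by simp [ha])
      simpa [e1, e2, e3, sq, mul_comm, mul_assoc, mul_left_comm] using hfix g 1 d hg s t
    refine hkill _ ha3 (fun s t => ?_) s t
    rw [← h2 s t, ← h1 (a ^ 2) (pow_ne_zero _ ha) (a * s) (a ^ 2 * t)]
    congr 1 <;> field_simp
  by_cases hjl : j = l
  · subst hjl
    have hn3 : n = 3 := le_antisymm (hcard.trans ((Finset.card_le_card
      (show ({i, j, k, j} : Finset (Fin n)) ⊆ {i, j, k} by intro x; simp only [Finset.mem_insert, Finset.mem_singleton]; tauto)).trans Finset.card_le_three)) hn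
    have h1 : ∀ u : F, u ≠ 0 → ∀ s t, c (u * s) (t / u) = c s t := fun u hu s t => by
      obtain ⟨g, d, hg, e1, e2, e3, -⟩ := exists_dia3 hs (σ := σ) hij hik hjk (α := u) (β := 1) (γ := u⁻¹)
        (by simp [hu])
      simpa [e1, e2, e3, mul_comm, div_eq_mul_inv] using hfix g 1 d hg s t
    obtain ⟨a, ha, ha3⟩ : ∃ a : F, a ≠ 0 ∧ a ^ 3 ≠ 1 := exists_cube_ne_one
      (fun e => h32 ⟨hn3, e⟩) (fun e => h34 ⟨hn3, e⟩)
    have h2 : ∀ s t, c (a * s) (a ^ 2 * t) = c s t := fun s t => by
      obtain ⟨g, d, hg, e1, e2, e3, -⟩ := exists_dia3 hs (σ := σ) hij hik hjk (α := 1) (β := a⁻¹) (γ := a)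
        (by simp [ha])
      simpa [e1, e2, e3, sq, mul_comm, mul_assoc, mul_left_comm] using hfix g 1 d hg s t
    refine hkill _ ha3 (fun s t => ?_) s t
    rw [← h2 s t, ← h1 (a ^ 2) (pow_ne_zero _ ha) (a * s) (a ^ 2 * t)]
    congr 1 <;> field_simp
  have hn4 : n = 4 := le_antisymm (hcard.trans Finset.card_le_four) (by
    have : ({i, j, k, l} : Finset (Fin n)).card = 4 := by simp [hij, hik, hil, hjk, hjl, hkl]
    have := Finset.card_le_univ ({i, j, k, l} : Finset (Fin n))
    simp at this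
    omega)
  by_cases h2 : (2 : F) = 0
  · obtain ⟨x, hx0, hx1⟩ : ∃ x : F, x ≠ 0 ∧ x ≠ 1 := exists_ne_zero_ne_one (fun e => h42 ⟨hn4, e⟩)
    refine hkill (x * x) (fun e => ?_) (fun s t => ?_) s t
    · rcases mul_self_eq_one_iff.1 e with h | h
      · exact hx1 h
      · exact hx1 (h.trans (neg_eq_of_add_eq_zero_left (by rw [one_add_one_eq_two, h2])))
    · obtain ⟨g, d, hg, e1, e2, e3, e4⟩ := exists_dia3 hs (σ := σ) hij hik hjk (α := x) (β := x⁻¹) (γ := 1)
        (by simp [hx0])
      simpa [e1, e2, e3, e4 l hil.symm (Ne.symm hjl) hkl.symm, mul_comm, mul_assoc, mul_left_comm] using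
        hfix g 1 d hg s t
  have hswap : ∀ s t, c s t = (c t s)⁻¹ := fun s t => by
    obtain ⟨g, hg⟩ := exists_perm hs (σ := σ) (Equiv.swap i k * Equiv.swap j l)
      (by rw [map_mul, Equiv.Perm.sign_swap hik, Equiv.Perm.sign_swap hjl]; rfl)
    have h := hfix g _ _ hg s t
    simp [Equiv.swap_apply_def, hij, hik, hil, hjk, hjl, hkl, hij.symm, hjk.symm, hil.symm, hkl.symm,
      Ne.symm hik, Ne.symm hjl] at h
    rw [← h]
    exact (commutatorElement_inv _ _).symm
  have hsq : ∀ s t, c s t * c s t = 1 := fun s t => by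
    by_cases hs0 : s = 0
    · rw [hs0, hc0, mul_one]
    by_cases ht0 : t = 0
    · rw [ht0]; nth_rewrite 2 [hswap]; rw [hswap, hc0, inv_one, mul_one]
    obtain ⟨g, d, hg, e1, e2, e3, e4⟩ := exists_dia3 hs (σ := σ) hij hik hjk (α := t / s) (β := 1) (γ := s / t)
      (by field_simp)
    have h : c t s = c s t := by
      simpa [e1, e2, e3, e4 l hil.symm (Ne.symm hjl) hkl.symm, hs0, ht0] using hfix g 1 d hg s t
    nth_rewrite 2 [hswap]
    rw [h, mul_inv_cancel]
  haveI : NeZero (2 : F) := ⟨h2⟩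
  have e : s = s / 2 + s / 2 := (add_halves s).symm
  rw [e, hadd]
  exact hsq _ _

theorem commute_of_map (hn : 3 ≤ n) (h32 : ¬(n = 3 ∧ Fintype.card F = 2))
    (h34 : ¬(n = 3 ∧ Fintype.card F = 4)) (h42 : ¬(n = 4 ∧ Fintype.card F = 2))
    {a b : Γ} {i j k l : Fin n} {s t : F} (ha : σ a = tv i j s) (hb : σ b = tv k l t)
    (hij : i ≠ j) (hkl : k ≠ l) (hjk : j ≠ k) (hil : i ≠ l) : Commute a b := by
  refine commutatorElement_eq_one_iff_mul_comm.mp ?_
  rw [commutatorElement_congr σ hc (a' := lf hs i j s) (b' := lf hs k l t) (by rw [ha, map_lf]) (by rw [hb, map_lf])]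
  exact commute_lifts_aux hs hc hn h32 h34 h42 hij hkl hjk hil s t

theorem exists_fam (hk : σ.ker ≤ commutator Γ) (hn : 3 ≤ n) (h32 : ¬(n = 3 ∧ Fintype.card F = 2))
    (h34 : ¬(n = 3 ∧ Fintype.card F = 4)) (h42 : ¬(n = 4 ∧ Fintype.card F = 2)) :
    ∃ Y : Fin n → Fin n → F → Γ, Fam σ Y := by
  classical
  haveI : Nonempty (Fin n) := ⟨⟨0, by omega⟩⟩
  haveI : Nontrivial (Fin n) := Fin.nontrivial_iff_two_le.2 (by omega)
  have hcomm := fun {a b : Γ} {i j k l : Fin n} {s t : F} =>
    commute_of_map hs hc hn h32 h34 h42 (a := a) (b := b) (i := i) (j := j) (k := k) (l := l) (s := s) (t := t)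
  set f : Fin n → Fin n → Fin n → F → F → Γ := fun i m j s t => ⁅lf hs i m s, lf hs m j t⁆ with hf
  have hfmap : ∀ {i m j}, i ≠ m → m ≠ j → i ≠ j → ∀ s t, σ (f i m j s t) = tv i j (s * t) := fun h1 h2 h3 s t => by
    simp only [hf, map_commutatorElement, map_lf, tv_rel h1 h2 h3]
  have haddl : ∀ {i m j}, i ≠ m → m ≠ j → i ≠ j → ∀ s s' t, f i m j (s + s') t = f i m j s t * f i m j s' t := by
    intro i m j h1 h2 h3 s s' t
    have e : f i m j (s + s') t = ⁅lf hs i m s * lf hs i m s', lf hs m j t⁆ :=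
      commutatorElement_congr σ hc (by rw [map_mul, map_lf, map_lf, map_lf, tv_add h1]) rfl
    have k1 : Commute (lf hs i m s) (f i m j s' t) :=
      hcomm (map_lf hs _ _ _) (hfmap h1 h2 h3 s' t) h1 h3 h1.symm h3
    have k2 : Commute (f i m j s t) (f i m j s' t) :=
      hcomm (hfmap h1 h2 h3 s t) (hfmap h1 h2 h3 s' t) h3 h3 h3.symm h3
    rw [e]
    simp only [hf] at k1 k2 ⊢
    generalize lf hs i m s = a at *
    generalize lf hs i m s' = b at *
    generalize lf hs m j t = z at *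
    calc ⁅a * b, z⁆ = a * ⁅b, z⁆ * a⁻¹ * ⁅a, z⁆ := by simp only [commutatorElement_def]; group
      _ = ⁅b, z⁆ * ⁅a, z⁆ := by rw [k1.eq]; group
      _ = _ := k2.eq.symm
  have haddr : ∀ {i m j}, i ≠ m → m ≠ j → i ≠ j → ∀ s t t', f i m j s (t + t') = f i m j s t * f i m j s t' := by
    intro i m j h1 h2 h3 s t t'
    have e : f i m j s (t + t') = ⁅lf hs i m s, lf hs m j t * lf hs m j t'⁆ :=
      commutatorElement_congr σ hc rfl (by rw [map_mul, map_lf, map_lf, map_lf, tv_add h2])
    have k1 : Commute (lf hs m j t) (f i m j s t') :=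
      hcomm (map_lf hs _ _ _) (hfmap h1 h2 h3 s t') h2 h3 h3.symm h2
    rw [e]
    simp only [hf] at k1 ⊢
    generalize lf hs i m s = a at *
    generalize lf hs m j t = b at *
    generalize lf hs m j t' = z at *
    calc ⁅a, b * z⁆ = ⁅a, b⁆ * (b * ⁅a, z⁆ * b⁻¹) := by simp only [commutatorElement_def]; group
      _ = _ := by rw [k1.eq]; group
  have hf0 : ∀ {i m j}, i ≠ m → m ≠ j → i ≠ j → ∀ s, f i m j s 0 = 1 ∧ f i m j 0 s = 1 := fun h1 h2 h3 s =>
    ⟨by have h := haddr h1 h2 h3 s 0 0; rwa [add_zero, left_eq_mul] at h,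
     by have h := haddl h1 h2 h3 0 0 s; rwa [add_zero, left_eq_mul] at h⟩
  have hswap : ∀ {i m' m j}, i ≠ m' → m' ≠ m → m ≠ j → i ≠ m → i ≠ j → m' ≠ j → ∀ s u t,
      f i m j (s * u) t = f i m' j s (u * t) := by
    intro i m' m j h1 h2 h3 h4 h5 h6 s u t
    set a := lf hs i m' s with ha
    set b := lf hs m' m u with hb
    set c := lf hs m j t with hc'
    have e1 : f i m j (s * u) t = ⁅⁅a, b⁆, c⁆ :=
      commutatorElement_congr σ hc (by rw [map_lf, map_commutatorElement, map_lf, map_lf, tv_rel h1 h2 h4]) rfl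
    have e2 : f i m' j s (u * t) = ⁅a, ⁅b, c⁆⁆ :=
      commutatorElement_congr σ hc rfl (by rw [map_lf, map_commutatorElement, map_lf, map_lf, tv_rel h2 h3 h6])
    have hca : Commute c a := hcomm (map_lf hs _ _ _) (map_lf hs _ _ _) h3 h1 h5.symm h2.symm
    have hx : σ ⁅c, b⁆ = tv m' j (-(u * t)) := by
      rw [← commutatorElement_inv, map_inv, map_commutatorElement, map_lf, map_lf, tv_rel h2 h3 h6]
      exact inv_eq_of_mul_eq_one_right (by rw [← tv_add h6, add_neg_cancel, tv_zero])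
    have hab : σ ⁅a, b⁆ = tv i m (s * u) := by rw [map_commutatorElement, map_lf, map_lf, tv_rel h1 h2 h4]
    have k2 : Commute ⁅c, b⁆ ⁅a, b⁆ := hcomm hx hab h6 h4 h5.symm h2
    have k3 : σ ⁅a, ⁅c, b⁆⁆ = tv i j (-(s * (u * t))) := by
      rw [map_commutatorElement, map_lf, hx, tv_rel h1 h6 h5, mul_neg]
    have k4 : ⁅a, ⁅c, b⁆⁆ * ⁅a, ⁅b, c⁆⁆ = 1 := by
      have h := haddr h1 h6 h5 s (-(u * t)) (u * t)
      rw [neg_add_cancel, (hf0 h1 h6 h5 s).1] at h
      rw [show ⁅a, ⁅c, b⁆⁆ = f i m' j s (-(u * t)) from commutatorElement_congr σ hc rfl (by rw [hx, map_lf]), ← e2,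
        ← h]
    rw [e1, e2]
    have key : c * ⁅a, b⁆ * c⁻¹ = ⁅a, ⁅c, b⁆⁆ * ⁅a, b⁆ := by
      calc c * ⁅a, b⁆ * c⁻¹ = ⁅c * a * c⁻¹, c * b * c⁻¹⁆ := by simp only [commutatorElement_def]; group
        _ = ⁅a, ⁅c, b⁆ * b⁆ := by rw [hca.eq, mul_inv_cancel_right]; simp only [commutatorElement_def]; group
        _ = ⁅a, ⁅c, b⁆⁆ * (⁅c, b⁆ * ⁅a, b⁆ * ⁅c, b⁆⁻¹) := by simp only [commutatorElement_def]; group
        _ = _ := by rw [k2.eq, mul_inv_cancel_right]
    calc ⁅⁅a, b⁆, c⁆ = ⁅a, b⁆ * (c * ⁅a, b⁆ * c⁻¹)⁻¹ := by simp only [commutatorElement_def]; group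
      _ = ⁅a, ⁅c, b⁆⁆⁻¹ := by rw [key, _root_.mul_inv_rev, ← mul_assoc, mul_inv_cancel, one_mul]
      _ = _ := inv_eq_of_mul_eq_one_right k4
  have hone : ∀ {i m j}, i ≠ m → m ≠ j → i ≠ j → ∀ s t, f i m j s t = f i m j (s * t) 1 := by
    intro i m j h1 h2 h3 s t
    rcases Nat.lt_or_ge 3 n with hn4 | hn3
    · obtain ⟨m', -, hm'⟩ := Finset.exists_mem_notMem_of_card_lt_card (t := (Finset.univ : Finset (Fin n)))
        (s := {i, m, j}) (lt_of_le_of_lt Finset.card_le_three (by rw [Finset.card_univ, Fintype.card_fin]; omega))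
      simp only [Finset.mem_insert, Finset.mem_singleton, not_or] at hm'
      obtain ⟨g1, g2, g3⟩ := hm'
      rw [hswap (Ne.symm g1) g2 h2 h1 h3 g3 s t 1, mul_one]
      nth_rewrite 1 [← mul_one s]
      rw [hswap (Ne.symm g1) g2 h2 h1 h3 g3 s 1 t, one_mul]
    have hn' : n = 3 := by omega
    have hcube : ∀ y : F, y ≠ 0 → ∀ s t, f i m j (y ^ 3 * s) t = f i m j s (y ^ 3 * t) := by
      intro y hy s t
      obtain ⟨g, d, hg, e1, e2, e3, -⟩ := exists_dia3 hs (σ := σ) h1 h3 h2 (α := y) (β := (y * y)⁻¹) (γ := y)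
        (by field_simp)
      set D : F → Γ := fun x => ⁅g, lf hs i j x⁆ with hD
      have hDc : ∀ x, D x ∈ Subgroup.center Γ := fun x => by
        refine hc ?_
        rw [MonoidHom.mem_ker, map_commutatorElement, map_lf, commutatorElement_eq_one_iff_mul_comm,
          ← mul_inv_eq_iff_eq_mul, hg.tv_conj h3, e1, e3]
        simp [hy]
      obtain ⟨lam, hl0, hl1⟩ := exists_ne_zero_ne_one (K := F) (fun e => h32 ⟨hn', e⟩)
      have hDl : ∀ x, D (lam * x) = D x := fun x => by
        obtain ⟨h, d', hh, e1', e2', e3', -⟩ := exists_dia3 hs (σ := σ) h1 h3 h2 (α := lam) (β := lam⁻¹) (γ := 1)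
          (by simp [hl0])
        calc D (lam * x) = ⁅h * g * h⁻¹, h * lf hs i j x * h⁻¹⁆ := by
              refine commutatorElement_congr σ hc ?_ ?_
              · rw [map_mul, map_mul, map_inv, eq_mul_inv_iff_mul_eq]
                apply Subtype.ext
                ext a b
                show ((σ g : Matrix (Fin n) (Fin n) F) * (σ h : Matrix (Fin n) (Fin n) F)) a b =
                  ((σ h : Matrix (Fin n) (Fin n) F) * (σ g : Matrix (Fin n) (Fin n) F)) a b
                rw [(hg.mul hh) a b, (hh.mul hg) a b]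
                simp [mul_comm]
              · rw [map_mul, map_mul, map_inv, map_lf, map_lf, hh.tv_conj h3, e1', e3']
                simp
          _ = h * D x * h⁻¹ := by simp only [hD, commutatorElement_def]; group
          _ = D x := by rw [Subgroup.mem_center_iff.mp (hDc x) h, mul_inv_cancel_right]
      have hDadd : ∀ x x', D (x + x') = D x * D x' := fun x x' => by
        have e : D (x + x') = ⁅g, lf hs i j x * lf hs i j x'⁆ :=
          commutatorElement_congr σ hc rfl (by rw [map_mul, map_lf, map_lf, map_lf, tv_add h3])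
        have := Subgroup.mem_center_iff.mp (hDc x') (lf hs i j x)
        rw [e]
        simp only [hD] at this ⊢
        generalize lf hs i j x = b at *
        generalize lf hs i j x' = z at *
        calc ⁅g, b * z⁆ = ⁅g, b⁆ * (b * ⁅g, z⁆ * b⁻¹) := by simp only [commutatorElement_def]; group
          _ = _ := by rw [this]; group
      have hD1 : ∀ x, D x = 1 := fun x => by
        have h := hDadd x (x / (lam - 1))
        rw [show x + x / (lam - 1) = lam * (x / (lam - 1)) by field_simp [sub_ne_zero.2 hl1]; ring, hDl] at h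
        exact right_eq_mul.mp h
      have hfix : ∀ s t, g * f i m j s t * g⁻¹ = f i m j s t := fun s t => by
        have h : Commute g (lf hs i j (s * t)) := commutatorElement_eq_one_iff_mul_comm.mp (hD1 (s * t))
        obtain ⟨z, hz, hfz⟩ : ∃ z ∈ σ.ker, f i m j s t = lf hs i j (s * t) * z :=
          ⟨(lf hs i j (s * t))⁻¹ * f i m j s t, by
            rw [MonoidHom.mem_ker, map_mul, map_inv, map_lf, hfmap h1 h2 h3, inv_mul_cancel], by group⟩
        have k : Commute g (f i m j s t) := hfz ▸ h.mul_right (Subgroup.mem_center_iff.mp (hc hz) g)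
        rw [k.eq, mul_inv_cancel_right]
      have h := conj_pair hs hc hg h1 h2 s (y ^ 3 * t)
      simp only [Equiv.Perm.coe_one, id_eq, e1, e2, e3] at h
      have h' := (hfix s (y ^ 3 * t)).symm.trans h
      rw [show y * s / (y * y)⁻¹ = y ^ 3 * s by field_simp,
        show (y * y)⁻¹ * (y ^ 3 * t) / y = t by field_simp] at h'
      exact h'.symm
    let G : Subfield F :=
      { carrier := {u | ∀ s t, f i m j (u * s) t = f i m j s (u * t)}
        one_mem' := fun s t => by simp
        zero_mem' := fun s t => by simp [(hf0 h1 h2 h3 _).1, (hf0 h1 h2 h3 _).2]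
        add_mem' := fun {u v} hu hv s t => by
          rw [add_mul, add_mul, haddl h1 h2 h3, haddr h1 h2 h3, hu s t, hv s t]
        mul_mem' := fun {u v} hu hv s t => by
          rw [mul_assoc, hu, hv, ← mul_assoc, mul_comm v u]
        neg_mem' := fun {u} hu s t => by
          have k1 := haddl h1 h2 h3 (-u * s) (u * s) t
          have k2 := haddr h1 h2 h3 s (-u * t) (u * t)
          rw [neg_mul, neg_add_cancel, (hf0 h1 h2 h3 _).2] at k1
          rw [neg_mul, neg_add_cancel, (hf0 h1 h2 h3 _).1, ← hu, k1] at k2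
          rw [neg_mul, neg_mul]
          exact mul_right_cancel k2
        inv_mem' := fun u hu s t => by
          by_cases h0 : u = 0
          · simp [h0, (hf0 h1 h2 h3 _).1, (hf0 h1 h2 h3 _).2]
          · have := hu (u⁻¹ * s) (u⁻¹ * t)
            rwa [← mul_assoc, ← mul_assoc, mul_inv_cancel₀ h0, one_mul, one_mul, eq_comm] at this }
    have hG := subfield_eq_top_of_cubes (fun e => h34 ⟨hn', e⟩) G fun y => by
      rcases eq_or_ne y 0 with rfl | hy
      · simp
      · exact hcube y hy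
    have ht : t ∈ G := hG ▸ Subfield.mem_top t
    have k := ht s 1
    rw [mul_one] at k
    rw [← k, mul_comm]
  have hindep : ∀ {i m m' j}, i ≠ m → m ≠ j → i ≠ j → i ≠ m' → m' ≠ j → ∀ v,
      f i m j v 1 = f i m' j v 1 := by
    intro i m m' j h1 h2 h3 h4 h5 v
    rcases eq_or_ne m m' with rfl | hmm
    · rfl
    nth_rewrite 1 [← mul_one v]
    rw [hswap h4 hmm.symm h2 h1 h3 h5 v 1 1, mul_one]
  have hmid : ∀ i j : Fin n, ∃ m, m ≠ i ∧ m ≠ j := fun i j => by
    obtain ⟨m, -, hm⟩ := Finset.exists_mem_notMem_of_card_lt_card (t := (Finset.univ : Finset (Fin n))) (s := {i, j})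
      (lt_of_le_of_lt Finset.card_le_two (by rw [Finset.card_univ, Fintype.card_fin]; omega))
    simp only [Finset.mem_insert, Finset.mem_singleton, not_or] at hm
    exact ⟨m, hm⟩
  choose mid hmid1 hmid2 using hmid
  let X : Fin n → Fin n → F → Γ := fun i j v => f i (mid i j) j v 1
  have hX : ∀ {i m j}, i ≠ m → m ≠ j → i ≠ j → ∀ s t, f i m j s t = X i j (s * t) := fun h1 h2 h3 s t =>
    (hone h1 h2 h3 s t).trans (hindep h1 h2 h3 (hmid1 _ _).symm (hmid2 _ _) _)
  have hlift : ∀ i j, i ≠ j → ∀ t, σ (X i j t) = tv i j t := fun i j h t => by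
    rw [hfmap (hmid1 _ _).symm (hmid2 _ _) h, mul_one]
  refine ⟨X, hc, hlift, ?_, fun i j h s t => haddl (hmid1 _ _).symm (hmid2 _ _) h s t 1,
    fun i j k l hij hkl hjk hil s t => hcomm (hlift i j hij s) (hlift k l hkl t) hij hkl hjk hil,
    fun i j k hij hjk hik s t => ?_, fun g π u hg i j hij t => ?_⟩
  · set H := Subgroup.closure {g | ∃ i j, i ≠ j ∧ ∃ t, g = X i j t} with hH
    have hsur : H.map σ = ⊤ := CfsgLib.Classical.eq_top_of_transvection_mem _ fun i j hij t =>
      ⟨X i j t, Subgroup.subset_closure ⟨i, j, hij, t, rfl⟩, by rw [hlift i j hij, tv_def hij]⟩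
    have hcom : commutator Γ ≤ H := by
      rw [commutator_def, Subgroup.commutator_le]
      intro x _ y _
      obtain ⟨x', hx', ex⟩ : σ x ∈ H.map σ := hsur ▸ Subgroup.mem_top _
      obtain ⟨y', hy', ey⟩ : σ y ∈ H.map σ := hsur ▸ Subgroup.mem_top _
      rw [commutatorElement_congr σ hc ex.symm ey.symm, commutatorElement_def]
      exact mul_mem (mul_mem (mul_mem hx' hy') (inv_mem hx')) (inv_mem hy')
    rw [eq_top_iff]
    intro x _
    obtain ⟨x', hx', ex⟩ : σ x ∈ H.map σ := hsur ▸ Subgroup.mem_top _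
    rw [show x = x' * (x'⁻¹ * x) by group]
    exact mul_mem hx' (hcom (hk (by rw [MonoidHom.mem_ker, map_mul, map_inv, ex, inv_mul_cancel])))
  · rw [← hX hij hjk hik s t]
    exact commutatorElement_congr σ hc (by rw [hlift i j hij, map_lf]) (by rw [hlift j k hjk, map_lf])
  · have hu := hg.ne_zero
    rw [show X i j t = ⁅lf hs i (mid i j) t, lf hs (mid i j) j 1⁆ from rfl,
      conj_pair hs hc hg (hmid1 _ _).symm (hmid2 _ _)]
    refine (hX (π.injective.ne (hmid1 _ _).symm) (π.injective.ne (hmid2 _ _)) (π.injective.ne hij) _ _).trans ?_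
    congr 1
    field_simp [hu j, hu (mid i j)]

end

end CfsgLib.Schur.SLFam
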