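import Mathlib
import Cfsg.Agent.Lib.Schur.SLFam
import Cfsg.Agent.Lib.Schur.SLTwo
import Cfsg.Agent.Lib.Classical.Card
import Cfsg.Agent.Lib.FourOrbit.Basic
import Cfsg.Agent.Lib.SLPres.ThreeCount
import Cfsg.Agent.Lib.SLPres.Field
import Cfsg.Agent.Lib.SLPres.SteinbergCount

/-!
# Extensions with root families are trivial
-/

set_option autoImplicit false
set_option linter.unusedSectionVars false
set_option linter.style.haveILetI false

namespace CfsgLib.Schur.SLFam

open Matrix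
open scoped MatrixGroups commutatorElement

variable {F : Type*} [Field F] [Fintype F] {Γ : Type*} [Group Γ] [Finite Γ]

/-- The Weyl element of a root. -/
def wt (t : F) : SL(2, F) := tv 0 1 t * tv 1 0 (-t⁻¹) * tv 0 1 t

/-- The torus element. -/
def dg (t : F) : SL(2, F) := wt t * wt (-1)

omit [Fintype F] in
theorem coe_wt {t : F} (ht : t ≠ 0) : (wt t : Matrix (Fin 2) (Fin 2) F) = !![0, t; -t⁻¹, 0] := by
  rw [wt]
  simp only [Matrix.SpecialLinearGroup.coe_mul, ne_eq, Fin.reduceEq, not_false_eq_true, coe_tv]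
  ext i j
  fin_cases i <;> fin_cases j <;>
    simp [Matrix.mul_apply, Fin.sum_univ_two, Matrix.one_apply, ht]

omit [Fintype F] in
theorem coe_dg {t : F} (ht : t ≠ 0) : (dg t : Matrix (Fin 2) (Fin 2) F) = !![t, 0; 0, t⁻¹] := by
  rw [dg, Matrix.SpecialLinearGroup.coe_mul, coe_wt ht, coe_wt (neg_ne_zero.2 one_ne_zero)]
  ext i j
  fin_cases i <;> fin_cases j <;> simp [Matrix.mul_apply, Fin.sum_univ_two]

/-- An extension of `SL₂` with a root family is trivial. -/
theorem Fam.two_injective {σ : Γ →* SL(2, F)} {Y : Fin 2 → Fin 2 → F → Γ} (R : Fam σ Y) :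
    Function.Injective σ := by
  classical
  have hs := R.surjective
  have hw : ∀ t, wt (1 : F) * tv 0 1 t * (wt (1 : F))⁻¹ = tv 1 0 (-t) := fun t => by
    rw [mul_inv_eq_iff_eq_mul]
    apply Subtype.ext
    simp only [Matrix.SpecialLinearGroup.coe_mul, ne_eq, Fin.reduceEq, not_false_eq_true, coe_tv,
      coe_wt (one_ne_zero : (1 : F) ≠ 0)]
    ext i j
    fin_cases i <;> fin_cases j <;> simp [Matrix.mul_apply, Fin.sum_univ_two, Matrix.one_apply]
  let w : Γ := Y 0 1 1 * Y 1 0 (-1) * Y 0 1 1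
  have hwσ : σ w = wt (1 : F) := by
    simp [w, wt, R.lift]
  have hmw : IsMono (σ w : Matrix (Fin 2) (Fin 2) F) (Equiv.swap 0 1) ![-1, 1] := fun k a => by
    rw [hwσ, coe_wt one_ne_zero]
    fin_cases k <;> fin_cases a <;> simp
  have h10 : ∀ t, w * Y 0 1 t * w⁻¹ = Y 1 0 (-t) := fun t => by
    simpa using R.conj w _ _ hmw 0 1 (by decide) t
  let f : Multiplicative F →* Abelianization Γ :=
    MonoidHom.mk' (fun t => Abelianization.of (Y 0 1 t.toAdd)) fun a b => by
      rw [← map_mul, ← R.add 0 1 (by decide)]; rfl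
  have hf10 : ∀ t, Abelianization.of (Y 1 0 t) = Abelianization.of (Y 0 1 (-t)) := fun t => by
    have h := h10 (-t)
    rw [neg_neg] at h
    rw [← h, map_mul, map_mul, map_inv, mul_inv_cancel_comm]
  have hfs : Function.Surjective f := by
    rw [← MonoidHom.range_eq_top, eq_top_iff]
    intro x _
    obtain ⟨g, rfl⟩ := QuotientGroup.mk_surjective x
    have hg : g ∈ f.range.comap Abelianization.of := by
      have hle : Subgroup.closure {g | ∃ i j, i ≠ j ∧ ∃ t, g = Y i j t} ≤ f.range.comap Abelianization.of := by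
        refine (Subgroup.closure_le _).mpr ?_
        rintro _ ⟨i, j, hij, t, rfl⟩
        fin_cases i <;> fin_cases j
        · exact absurd rfl hij
        · exact ⟨Multiplicative.ofAdd t, rfl⟩
        · exact ⟨Multiplicative.ofAdd (-t), (hf10 t).symm⟩
        · exact absurd rfl hij
      exact hle (R.gen ▸ Subgroup.mem_top g)
    exact hg
  have hker : σ.ker ≤ commutator Γ := by
    by_cases hsq : ∃ a : F, a ≠ 0 ∧ a * a ≠ 1
    · obtain ⟨a, ha, ha2⟩ := hsq
      obtain ⟨h, hh⟩ := hs (dg a)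
      have hmh : IsMono (σ h : Matrix (Fin 2) (Fin 2) F) 1 ![a, a⁻¹] := fun k b => by
        rw [hh, coe_dg ha]
        fin_cases k <;> fin_cases b <;> simp
      have hc : ∀ t, h * Y 0 1 t * h⁻¹ = Y 0 1 (a * a * t) := fun t => by
        have := R.conj h _ _ hmh 0 1 (by decide) t
        simpa [mul_comm, mul_assoc, mul_left_comm] using this
      have hf1 : ∀ t, f t = 1 := fun t => by
        have e : f (Multiplicative.ofAdd (a * a * (t.toAdd / (a * a - 1)))) =
            f (Multiplicative.ofAdd (t.toAdd / (a * a - 1))) := by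
          show Abelianization.of (Y 0 1 _) = Abelianization.of (Y 0 1 _)
          rw [toAdd_ofAdd, toAdd_ofAdd, ← hc, map_mul, map_mul, map_inv, mul_inv_cancel_comm]
        have et : t = Multiplicative.ofAdd (a * a * (t.toAdd / (a * a - 1))) *
            (Multiplicative.ofAdd (t.toAdd / (a * a - 1)))⁻¹ := by
          rw [← ofAdd_neg, ← ofAdd_add, ← sub_eq_add_neg, ← sub_one_mul,
            mul_div_cancel₀ _ (sub_ne_zero.2 ha2), ofAdd_toAdd]
        rw [et, map_mul, map_inv, e, mul_inv_cancel]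
      intro g _
      obtain ⟨t, ht⟩ := hfs (Abelianization.of g)
      rw [hf1] at ht
      rw [← Abelianization.ker_of]
      exact MonoidHom.mem_ker.mpr ht.symm
    · push Not at hsq
      have hq : Fintype.card F ≤ 3 := by
        have hu : (Finset.univ : Finset F) ⊆ {0, 1, -1} := fun x _ => by
          rcases eq_or_ne x 0 with h | h
          · simp [h]
          · rcases mul_self_eq_one_iff.1 (hsq x h) with h' | h' <;> simp [h']
        exact (Finset.card_le_card hu).trans Finset.card_le_three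
      have hqp : (Fintype.card F).Prime := by
        have := Fintype.one_lt_card (α := F)
        interval_cases Fintype.card F <;> norm_num
      intro z hz
      by_contra hzd
      have hab : Nat.card (Abelianization Γ) ∣ Fintype.card F := by
        have h := Subgroup.card_dvd_of_surjective f hfs
        rwa [Nat.card_congr (Multiplicative.toAdd (α := F)), Nat.card_eq_fintype_card (α := F)] at h
      rcases (Nat.dvd_prime hqp).1 hab with h1 | h1
      · haveI := (Nat.card_eq_one_iff_unique.1 h1).1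
        exact hzd (by rw [← Abelianization.ker_of]; exact Subsingleton.elim _ _)
      haveI : Fact (Fintype.card F).Prime := ⟨hqp⟩
      have hz1 : Abelianization.of z ≠ 1 := fun e => hzd (by rw [← Abelianization.ker_of]; exact e)
      have htop : σ.ker ⊔ commutator Γ = ⊤ := by
        rw [eq_top_iff]
        intro g _
        obtain ⟨i, hi⟩ := Subgroup.mem_zpowers_iff.mp
          (mem_zpowers_of_prime_card h1 hz1 (g' := Abelianization.of g))
        rw [← map_zpow] at hi
        have hc : (z ^ i)⁻¹ * g ∈ commutator Γ := by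
          rw [← Abelianization.ker_of, MonoidHom.mem_ker, map_mul, map_inv, hi, inv_mul_cancel]
        rw [show g = z ^ i * ((z ^ i)⁻¹ * g) by group]
        exact Subgroup.mul_mem_sup (Subgroup.zpow_mem _ hz i) hc
      have hperf : commutator SL(2, F) = ⊤ := by
        have h1' : (σ.ker ⊔ commutator Γ).map σ = ⊤ := by
          rw [htop, ← MonoidHom.range_eq_map, MonoidHom.range_eq_top.mpr hs]
        rw [Subgroup.map_sup, (Subgroup.map_eq_bot_iff _).mpr le_rfl, bot_sup_eq, commutator_def,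
          Subgroup.map_commutator, ← MonoidHom.range_eq_map, MonoidHom.range_eq_top.mpr hs] at h1'
        exact h1'
      have hsol : Group.IsSolvable SL(2, F) := by
        refine CfsgLib.FourOrbit.isSolvable_of_two_primes Nat.prime_two Nat.prime_three (by norm_num)
          fun s hs' hd => ?_
        rw [CfsgLib.Classical.card_SL_two] at hd
        have h2 : 2 ≤ Fintype.card F := hqp.two_le
        have h3 : s ∣ 2 * 3 := by
          interval_cases Fintype.card F
          · simpa using hd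
          · rcases hs'.dvd_mul.mp (show s ∣ 3 * 8 by simpa using hd) with h | h
            · exact h.trans (by norm_num)
            · exact (hs'.dvd_of_dvd_pow (show s ∣ 2 ^ 3 by simpa using h)).trans (by norm_num)
        rcases hs'.dvd_mul.mp h3 with h | h
        · exact Or.inl ((Nat.prime_dvd_prime_iff_eq hs' Nat.prime_two).1 h)
        · exact Or.inr ((Nat.prime_dvd_prime_iff_eq hs' Nat.prime_three).1 h)
      haveI : Nontrivial SL(2, F) := ⟨⟨tv 0 1 1, 1, fun e => by
        have h01 := congrArg (fun M : SL(2, F) => (M : Matrix (Fin 2) (Fin 2) F) 0 1) e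
        simp [coe_tv] at h01⟩⟩
      haveI := hsol
      exact (Group.IsSolvable.commutator_lt_top_of_nontrivial SL(2, F)).ne hperf
  rw [← MonoidHom.ker_eq_bot_iff]
  by_contra hne
  have hcard : Nat.card σ.ker ≠ 1 := fun e => hne (Subgroup.eq_bot_of_card_eq _ e)
  obtain ⟨ℓ, hℓ, hdvd⟩ := Nat.exists_prime_and_dvd hcard
  haveI := Fact.mk hℓ
  obtain ⟨⟨z, hzk⟩, hz⟩ := exists_prime_orderOf_dvd_card' ℓ hdvd
  rw [Subgroup.orderOf_mk] at hz
  have hz1 : z ≠ 1 := fun e => hℓ.ne_one (by rw [← hz, e, orderOf_one])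
  have hmem : ∀ U : Subgroup SL(2, F), ¬ ℓ ∣ U.index → z ∈ ⁅U.comap σ, U.comap σ⁆ := fun U hU =>
    mem_commutator_preimage (a := 1) hs hℓ hzk (R.central hzk) (hker hzk)
      (by rw [pow_one, ← hz, pow_orderOf_eq_one]) U hU
  obtain ⟨p, _⟩ := CharP.exists F
  haveI : Fact p.Prime := ⟨CharP.char_is_prime F p⟩
  apply hz1
  by_cases hℓp : ℓ = p
  · subst hℓp
    obtain ⟨g, hg⟩ := CfsgLib.SL2.exists_conj_upperSL ℓ (default : Sylow ℓ SL(2, F))
    have hidx : ¬ ℓ ∣ ((CfsgLib.SL2.upperHom (F := F)).range).index := by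
      have h := (default : Sylow ℓ SL(2, F)).not_dvd_index
      rw [hg] at h
      rwa [show ((CfsgLib.SL2.upperHom (F := F)).range.map (MulAut.conj g).toMonoidHom).index =
        (CfsgLib.SL2.upperHom (F := F)).range.index from
          Subgroup.index_map_equiv _ (MulAut.conj g)] at h
    have hbot : ⁅(CfsgLib.SL2.upperHom (F := F)).range.comap σ,
        (CfsgLib.SL2.upperHom (F := F)).range.comap σ⁆ = ⊥ := by
      rw [eq_bot_iff, Subgroup.commutator_le]
      rintro x ⟨a, ha⟩ y ⟨b, hb⟩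
      have hu : ∀ t : F, σ (Y 0 1 t) = CfsgLib.SL2.upperHom (Multiplicative.ofAdd t) := fun t => by
        rw [R.lift 0 1 (by decide)]
        apply Subtype.ext
        rw [coe_tv (by decide), CfsgLib.SL2.upperHom_coe]
        ext i j
        fin_cases i <;> fin_cases j <;> simp [Matrix.one_apply]
      rw [Subgroup.mem_bot, CfsgLib.Schur.commutatorElement_congr σ R.central
        (a' := Y 0 1 a.toAdd) (b' := Y 0 1 b.toAdd) (by rw [hu]; exact ha.symm)
        (by rw [hu]; exact hb.symm), commutatorElement_eq_one_iff_mul_comm]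
      exact (R.comm 0 1 0 1 (by decide) (by decide) (by decide) (by decide) _ _).eq
    have h := hmem _ hidx
    rw [hbot] at h
    exact Subgroup.mem_bot.mp h
  have h := hmem _ (default : Sylow ℓ SL(2, F)).not_dvd_index
  by_cases hℓ2 : ℓ = 2
  · subst hℓ2
    have hodd : Odd (Nat.card F) := by
      obtain ⟨m, hp', hm⟩ := FiniteField.card F p
      rw [Nat.card_eq_fintype_card, hm]
      exact (hp'.odd_of_ne_two (Ne.symm hℓp)).pow
    obtain ⟨k, -, ⟨e⟩⟩ := CfsgLib.SL2.sylow_two_quaternion hodd (default : Sylow 2 SL(2, F))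
    exact preimage_commutator_inf_ker_quaternion σ hs R.central _ e hzk h
  · haveI := isCyclic_sylow_odd p ℓ hℓ2 hℓp (default : Sylow ℓ SL(2, F))
    rw [preimage_commutator_eq_bot_of_isCyclic σ R.central] at h
    exact Subgroup.mem_bot.mp h

/-- Homomorphisms from an injective subfamily. -/
theorem Fam.hom_of_sub {ι : Type*} [Fintype ι] [DecidableEq ι] {σ : Γ →* SpecialLinearGroup ι F}
    {X : ι → ι → F → Γ} (R : Fam σ X) {k : ℕ} [Nontrivial (Fin k)] {v : Fin k → ι}
    (hv : Function.Injective v)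
    (hinj : ∀ {E : Subgroup (SL(k, F) × Γ)} {Y : Fin k → Fin k → F → E},
      Fam ((MonoidHom.fst (SL(k, F)) Γ).comp E.subtype) Y →
        Function.Injective ((MonoidHom.fst (SL(k, F)) Γ).comp E.subtype)) :
    ∃ θ : SL(k, F) →* Γ, (∀ a b, a ≠ b → ∀ t, θ (tv a b t) = X (v a) (v b) t) ∧
      ∀ M, σ (θ M) = pad hv M := by
  obtain ⟨E, Y, RY, hY, hkey⟩ := R.sub hv
  let e := MulEquiv.ofBijective _ ⟨hinj RY, RY.surjective⟩
  refine ⟨((MonoidHom.snd (SL(k, F)) Γ).comp E.subtype).comp e.symm.toMonoidHom, fun a b hab t => ?_,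
    fun M => ?_⟩
  · have h : e.symm (tv a b t) = Y a b t := by
      rw [MulEquiv.symm_apply_eq]
      exact (RY.lift a b hab t).symm
    show ((e.symm (tv a b t) : E) : SL(k, F) × Γ).2 = _
    rw [h, hY a b hab]
  · show σ ((e.symm M : E) : SL(k, F) × Γ).2 = _
    rw [hkey]
    exact congrArg (pad hv) (e.apply_symm_apply M)

/-- An extension of `SL₃` with a root family is trivial. -/
theorem Fam.three_injective {σ : Γ →* SL(3, F)} {Y : Fin 3 → Fin 3 → F → Γ} (R : Fam σ Y) :
    Function.Injective σ := by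
  classical
  have hva : Function.Injective (![0, 1] : Fin 2 → Fin 3) := by decide
  have hvb : Function.Injective (![1, 2] : Fin 2 → Fin 3) := by decide
  obtain ⟨θa, hθa, hσa⟩ := R.hom_of_sub hva fun hY => hY.two_injective
  obtain ⟨θb, hθb, hσb⟩ := R.hom_of_sub hvb fun hY => hY.two_injective
  have hpa : ∀ M : SL(2, F), (pad hva M : Matrix (Fin 3) (Fin 3) F) =
      !![(M : Matrix (Fin 2) (Fin 2) F) 0 0, (M : Matrix (Fin 2) (Fin 2) F) 0 1, 0;
        (M : Matrix (Fin 2) (Fin 2) F) 1 0, (M : Matrix (Fin 2) (Fin 2) F) 1 1, 0; 0, 0, 1] := fun M => by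
    rw [pad_coe hva]
    ext i j
    fin_cases i <;> fin_cases j <;> simp [sel, Matrix.mul_apply, Fin.sum_univ_two, Matrix.one_apply]
  have hpb : ∀ M : SL(2, F), (pad hvb M : Matrix (Fin 3) (Fin 3) F) =
      !![1, 0, 0; 0, (M : Matrix (Fin 2) (Fin 2) F) 0 0, (M : Matrix (Fin 2) (Fin 2) F) 0 1;
        0, (M : Matrix (Fin 2) (Fin 2) F) 1 0, (M : Matrix (Fin 2) (Fin 2) F) 1 1] := fun M => by
    rw [pad_coe hvb]
    ext i j
    fin_cases i <;> fin_cases j <;> simp [sel, Matrix.mul_apply, Fin.sum_univ_two, Matrix.one_apply]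
  obtain ⟨p, hpc⟩ := CharP.exists F
  haveI : Fact p.Prime := ⟨CharP.char_is_prime F p⟩
  letI := ZMod.algebra F p
  obtain ⟨μ, hμ, hμq, hord, hgen⟩ := CfsgLib.SLPres.exists_primitive (F := F)
  obtain ⟨e, he⟩ := hgen (-1) (by simp)
  -- elements
  have hone : (1 : F) ≠ 0 := one_ne_zero
  have hm1 : (-1 : F) ≠ 0 := neg_ne_zero.2 one_ne_zero
  set a : Γ := θa (wt 1) with ha
  set b : Γ := θb (wt 1) with hb
  have hmA : ∀ u : F, u ≠ 0 → IsMono (σ (θa (dg u)) : Matrix (Fin 3) (Fin 3) F) 1 ![u, u⁻¹, 1] := fun u hu k x => by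
    rw [hσa, hpa, coe_dg hu]
    fin_cases k <;> fin_cases x <;> simp
  have hmB : ∀ u : F, u ≠ 0 → IsMono (σ (θb (dg u)) : Matrix (Fin 3) (Fin 3) F) 1 ![1, u, u⁻¹] := fun u hu k x => by
    rw [hσb, hpb, coe_dg hu]
    fin_cases k <;> fin_cases x <;> simp
  have hma : IsMono (σ a : Matrix (Fin 3) (Fin 3) F) (Equiv.swap 0 1) ![-1, 1, 1] := fun k x => by
    rw [ha, hσa, hpa, coe_wt hone]
    fin_cases k <;> fin_cases x <;> simp [Equiv.swap_apply_def]
  have hmb : IsMono (σ b : Matrix (Fin 3) (Fin 3) F) (Equiv.swap 1 2) ![1, -1, 1] := fun k x => by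
    rw [hb, hσb, hpb, coe_wt hone]
    fin_cases k <;> fin_cases x <;> simp [Equiv.swap_apply_def]
  -- the conjugate of a Weyl element of a root subgroup
  have hconjW : ∀ (θ : SL(2, F) →* Γ) (i j : Fin 3), i ≠ j →
      (∀ t, θ (tv 0 1 t) = Y i j t) → (∀ t, θ (tv 1 0 t) = Y j i t) →
      ∀ (g : Γ) (l : F), l ≠ 0 → (∀ t, g * Y i j t * g⁻¹ = Y i j (l * t)) →
      (∀ t, g * Y j i t * g⁻¹ = Y j i (t / l)) → ∀ s : F, g * θ (wt s) * g⁻¹ = θ (wt (l * s)) := by
    intro θ i j _ h01 h10 g l hl hg hg' s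
    simp only [wt, map_mul, h01, h10]
    rw [show g * (Y i j s * Y j i (-s⁻¹) * Y i j s) * g⁻¹ =
      (g * Y i j s * g⁻¹) * (g * Y j i (-s⁻¹) * g⁻¹) * (g * Y i j s * g⁻¹) by group, hg, hg']
    rw [show -s⁻¹ / l = -(l * s)⁻¹ by rw [mul_inv]; ring]
  have hBA : ∀ u v : F, u ≠ 0 → v ≠ 0 → θb (dg v) * θa (wt u) * (θb (dg v))⁻¹ = θa (wt (v⁻¹ * u)) := by
    intro u v hu hv
    refine hconjW θa 0 1 (by decide) (hθa 0 1 (by decide)) (hθa 1 0 (by decide)) _ v⁻¹ (inv_ne_zero hv)
      (fun t => ?_) (fun t => ?_) u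
    · simpa [mul_comm, div_eq_mul_inv] using R.conj _ _ _ (hmB v hv) 0 1 (by decide) t
    · simpa [mul_comm, div_eq_mul_inv] using R.conj _ _ _ (hmB v hv) 1 0 (by decide) t
  have hAB : ∀ u v : F, u ≠ 0 → v ≠ 0 → θa (dg v) * θb (wt u) * (θa (dg v))⁻¹ = θb (wt (v⁻¹ * u)) := by
    intro u v hu hv
    refine hconjW θb 1 2 (by decide) (hθb 0 1 (by decide)) (hθb 1 0 (by decide)) _ v⁻¹ (inv_ne_zero hv)
      (fun t => ?_) (fun t => ?_) u
    · simpa [mul_comm, div_eq_mul_inv] using R.conj _ _ _ (hmA v hv) 1 2 (by decide) t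
    · simpa [mul_comm, div_eq_mul_inv] using R.conj _ _ _ (hmA v hv) 2 1 (by decide) t
  have hdd : ∀ u v : F, u ≠ 0 → v ≠ 0 → wt (v⁻¹ * u) * wt (-v⁻¹) = dg u := by
    intro u v hu hv
    apply Subtype.ext
    rw [Matrix.SpecialLinearGroup.coe_mul, coe_wt (mul_ne_zero (inv_ne_zero hv) hu),
      coe_wt (neg_ne_zero.2 (inv_ne_zero hv)), coe_dg hu]
    ext i j
    fin_cases i <;> fin_cases j <;> simp [Matrix.mul_apply, Fin.sum_univ_two] <;> field_simp
  have hcomm : ∀ u v : F, u ≠ 0 → v ≠ 0 → θb (dg v) * θa (dg u) * (θb (dg v))⁻¹ = θa (dg u) := by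
    intro u v hu hv
    rw [show θa (dg u) = θa (wt u) * θa (wt (-1)) from map_mul θa _ _,
      show θb (dg v) * (θa (wt u) * θa (wt (-1))) * (θb (dg v))⁻¹ =
        (θb (dg v) * θa (wt u) * (θb (dg v))⁻¹) * (θb (dg v) * θa (wt (-1)) * (θb (dg v))⁻¹) by group,
      hBA u v hu hv, hBA (-1) v hm1 hv, ← map_mul, ← map_mul, mul_neg_one, hdd u v hu hv]
    rfl
  have hcomm' : ∀ u v : F, u ≠ 0 → v ≠ 0 → θa (dg u) * θb (dg v) = θb (dg v) * θa (dg u) := fun u v hu hv =>
    ((mul_inv_eq_iff_eq_mul).1 (hcomm u v hu hv)).symm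
  have hWW : ∀ u : F, u ≠ 0 → wt 1 * (wt (u⁻¹ * 1))⁻¹ = dg u := by
    intro u hu
    rw [mul_inv_eq_iff_eq_mul]
    apply Subtype.ext
    rw [Matrix.SpecialLinearGroup.coe_mul, mul_one, coe_wt hone, coe_wt (inv_ne_zero hu), coe_dg hu]
    ext i j
    fin_cases i <;> fin_cases j <;> simp [Matrix.mul_apply, Fin.sum_univ_two, hu]
  have hbA : ∀ u : F, u ≠ 0 → b * θa (dg u) * b⁻¹ = θb (dg u) * θa (dg u) := fun u hu => by
    rw [show b * θa (dg u) * b⁻¹ = b * (θa (dg u) * b * (θa (dg u))⁻¹)⁻¹ * θa (dg u) by group,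
      hb, hAB 1 u hone hu, ← map_inv, ← map_mul, hWW u hu]
  have haB : ∀ u : F, u ≠ 0 → a * θb (dg u) * a⁻¹ = θa (dg u) * θb (dg u) := fun u hu => by
    rw [show a * θb (dg u) * a⁻¹ = a * (θb (dg u) * a * (θb (dg u))⁻¹)⁻¹ * θb (dg u) by group,
      ha, hBA 1 u hone hu, ← map_inv, ← map_mul, hWW u hu]
  have hwsq : wt (1 : F) * wt 1 = dg (-1) := by
    apply Subtype.ext
    rw [Matrix.SpecialLinearGroup.coe_mul, coe_wt hone, coe_dg hm1]
    ext i j
    fin_cases i <;> fin_cases j <;> simp [Matrix.mul_apply, Fin.sum_univ_two]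
  have hasq : a * a = θa (dg (-1)) := by rw [ha, ← map_mul, hwsq]
  have hbsq : b * b = θb (dg (-1)) := by rw [hb, ← map_mul, hwsq]
  have hba : ∀ u : F, u ≠ 0 → b⁻¹ * θa (dg u) * b = θb (dg u) * θa (dg u) := fun u hu => by
    rw [← hbA u hu, show b⁻¹ * θa (dg u) * b = b⁻¹ * (θa (dg u) * (b * b)) * b⁻¹ by group,
      hbsq, hcomm' u (-1) hu hm1, ← hbsq]
    group
  have hab : ∀ u : F, u ≠ 0 → a⁻¹ * θb (dg u) * a = θa (dg u) * θb (dg u) := fun u hu => by
    rw [← haB u hu, show a⁻¹ * θb (dg u) * a = a⁻¹ * (θb (dg u) * (a * a)) * a⁻¹ by group,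
      hasq, ← hcomm' (-1) u hm1 hu, ← hasq]
    group
  have haa : ∀ u : F, u ≠ 0 → a * θa (dg u) * a⁻¹ = (θa (dg u))⁻¹ := fun u hu => by
    rw [ha, ← map_inv, ← map_mul, ← map_mul, ← map_inv]
    congr 1
    rw [mul_inv_eq_iff_eq_mul, eq_inv_mul_iff_mul_eq]
    apply Subtype.ext
    simp only [Matrix.SpecialLinearGroup.coe_mul, coe_wt hone, coe_dg hu]
    ext i j
    fin_cases i <;> fin_cases j <;> simp [Matrix.mul_apply, Fin.sum_univ_two, hu]
  have haa' : ∀ u : F, u ≠ 0 → a⁻¹ * θa (dg u) * a = (θa (dg u))⁻¹ := fun u hu => by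
    have h := haa u hu
    rw [mul_inv_eq_iff_eq_mul] at h
    rw [mul_assoc, inv_mul_eq_iff_eq_mul]
    calc θa (dg u) * a = θa (dg u) * (a * θa (dg u)) * (θa (dg u))⁻¹ := by group
      _ = θa (dg u) * ((θa (dg u))⁻¹ * a) * (θa (dg u))⁻¹ := by rw [h]
      _ = a * (θa (dg u))⁻¹ := by group
  -- braid
  have hbraid : a * b * a = b * a * b := by
    have hmab := hma.mul hmb
    have h01 : ∀ t, a * b * Y 0 1 t * (a * b)⁻¹ = Y 1 2 t := fun t => by
      have h := R.conj (a * b) _ _ (by rw [map_mul, Matrix.SpecialLinearGroup.coe_mul]; exact hmab) 0 1 (by decide) t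
      simpa [Equiv.swap_apply_def, Equiv.Perm.mul_apply] using h
    have h10 : ∀ t, a * b * Y 1 0 t * (a * b)⁻¹ = Y 2 1 t := fun t => by
      have h := R.conj (a * b) _ _ (by rw [map_mul, Matrix.SpecialLinearGroup.coe_mul]; exact hmab) 1 0 (by decide) t
      simpa [Equiv.swap_apply_def, Equiv.Perm.mul_apply] using h
    have e : a * b * a * (a * b)⁻¹ = b := by
      rw [ha, hb, show θa (wt 1) = Y 0 1 1 * Y 1 0 (-1) * Y 0 1 1 by simp [wt, hθa],
        show θb (wt 1) = Y 1 2 1 * Y 2 1 (-1) * Y 1 2 1 by simp [wt, hθb]]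
      have k1 := h01 1
      have k2 := h10 (-1)
      rw [ha, hb, show θa (wt 1) = Y 0 1 1 * Y 1 0 (-1) * Y 0 1 1 by simp [wt, hθa],
        show θb (wt 1) = Y 1 2 1 * Y 2 1 (-1) * Y 1 2 1 by simp [wt, hθb]] at k1 k2
      generalize (Y 0 1 1 * Y 1 0 (-1) * Y 0 1 1) * (Y 1 2 1 * Y 2 1 (-1) * Y 1 2 1) = g at k1 k2 ⊢
      calc g * (Y 0 1 1 * Y 1 0 (-1) * Y 0 1 1) * g⁻¹
          = (g * Y 0 1 1 * g⁻¹) * (g * Y 1 0 (-1) * g⁻¹) * (g * Y 0 1 1 * g⁻¹) := by group
        _ = _ := by rw [k1, k2]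
    calc a * b * a = (a * b * a * (a * b)⁻¹) * (a * b) := by group
      _ = b * a * b := by rw [e, mul_assoc]
  have hAA : θa (dg (-1 : F)) * θa (dg (-1)) = 1 := by
    rw [← map_mul, show dg (-1 : F) * dg (-1) = 1 from ?_, map_one]
    apply Subtype.ext
    rw [Matrix.SpecialLinearGroup.coe_mul, coe_dg hm1]
    ext i j
    fin_cases i <;> fin_cases j <;> simp [Matrix.mul_apply, Fin.sum_univ_two]
  have hBB : θb (dg (-1 : F)) * θb (dg (-1)) = 1 := by
    rw [← map_mul, show dg (-1 : F) * dg (-1) = 1 from ?_, map_one]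
    apply Subtype.ext
    rw [Matrix.SpecialLinearGroup.coe_mul, coe_dg hm1]
    ext i j
    fin_cases i <;> fin_cases j <;> simp [Matrix.mul_apply, Fin.sum_univ_two]
  have hsix : (a * b * a) * (a * b * a) = 1 := by
    have e1 : b * θa (dg (-1)) * b = θa (dg (-1)) := by
      rw [show b * θa (dg (-1)) * b = (b * θa (dg (-1)) * b⁻¹) * (b * b) by group, hbA _ hm1, hbsq,
        mul_assoc, hcomm' _ _ hm1 hm1, ← mul_assoc, hBB, one_mul]
    calc (a * b * a) * (a * b * a) = a * (b * (a * a) * b) * a := by group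
      _ = a * θa (dg (-1)) * a := by rw [hasq, e1]
      _ = a * (a * a) * a := by rw [hasq]
      _ = (a * a) * (a * a) := by group
      _ = 1 := by rw [hasq, hAA]
  set c : Γ := a⁻¹ * b⁻¹ with hc
  have hσc : (σ c : Matrix (Fin 3) (Fin 3) F) = !![0, 0, 1; 1, 0, 0; 0, 1, 0] := by
    have h1 : (σ (b * a) : Matrix (Fin 3) (Fin 3) F) = !![0, 1, 0; 0, 0, 1; 1, 0, 0] := by
      rw [map_mul, Matrix.SpecialLinearGroup.coe_mul, hb, ha, hσb, hσa, hpb, hpa, coe_wt hone]
      ext i j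
      fin_cases i <;> fin_cases j <;> simp [Matrix.mul_apply, Fin.sum_univ_three]
    have h2 : (σ c : Matrix (Fin 3) (Fin 3) F) * (σ (b * a) : Matrix (Fin 3) (Fin 3) F) = 1 := by
      rw [← Matrix.SpecialLinearGroup.coe_mul, ← map_mul, hc, show a⁻¹ * b⁻¹ * (b * a) = 1 by group, map_one]
      rfl
    rw [h1] at h2
    have h3 : (!![0, 1, 0; 0, 0, 1; 1, 0, 0] : Matrix (Fin 3) (Fin 3) F) * !![0, 0, 1; 1, 0, 0; 0, 1, 0] = 1 := by
      ext i j
      fin_cases i <;> fin_cases j <;> simp [Matrix.mul_apply, Fin.sum_univ_three]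
    calc (σ c : Matrix (Fin 3) (Fin 3) F)
        = (σ c : Matrix (Fin 3) (Fin 3) F) *
            ((!![0, 1, 0; 0, 0, 1; 1, 0, 0] : Matrix (Fin 3) (Fin 3) F) * !![0, 0, 1; 1, 0, 0; 0, 1, 0]) := by
          rw [h3, mul_one]
      _ = _ := by rw [← mul_assoc, h2, one_mul]
  have hmc : IsMono (σ c : Matrix (Fin 3) (Fin 3) F) (finRotate 3) 1 := fun k x => by
    rw [hσc]
    fin_cases k <;> fin_cases x <;> simp
  have hkk : c * θa (dg μ) * c⁻¹ = θb (dg μ) := by
    rw [hc, show a⁻¹ * b⁻¹ * θa (dg μ) * (a⁻¹ * b⁻¹)⁻¹ = a⁻¹ * (b⁻¹ * θa (dg μ) * b) * a by group,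
      hba μ hμ, show a⁻¹ * (θb (dg μ) * θa (dg μ)) * a = (a⁻¹ * θb (dg μ) * a) * (a⁻¹ * θa (dg μ) * a) by group,
      hab μ hμ, haa' μ hμ, hcomm' μ μ hμ hμ, mul_inv_cancel_right]
  have hkc : c * θb (dg μ) * c⁻¹ = (θb (dg μ))⁻¹ * (θa (dg μ))⁻¹ := by
    have hbb : b⁻¹ * θb (dg μ) * b = (θb (dg μ))⁻¹ := by
      rw [hb, ← map_inv, ← map_mul, ← map_mul, ← map_inv]
      congr 1
      rw [mul_assoc, inv_mul_eq_iff_eq_mul, ← mul_left_inj (dg μ), mul_assoc, mul_assoc,
        inv_mul_cancel, mul_one]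
      apply Subtype.ext
      simp only [Matrix.SpecialLinearGroup.coe_mul, coe_wt hone, coe_dg hμ]
      ext i j
      fin_cases i <;> fin_cases j <;> simp [Matrix.mul_apply, Fin.sum_univ_two, hμ]
    rw [hc, show a⁻¹ * b⁻¹ * θb (dg μ) * (a⁻¹ * b⁻¹)⁻¹ = a⁻¹ * (b⁻¹ * θb (dg μ) * b) * a by group,
      hbb, show a⁻¹ * (θb (dg μ))⁻¹ * a = (a⁻¹ * θb (dg μ) * a)⁻¹ by group, hab μ hμ, _root_.mul_inv_rev]
  have hdpow : θa (dg μ) ^ e = θa (dg (-1)) := by
    rw [← map_pow]
    congr 1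
    have hp : ∀ n : ℕ, dg μ ^ n = dg (μ ^ n) := by
      intro n
      induction n with
      | zero =>
        apply Subtype.ext
        rw [pow_zero, pow_zero, Matrix.SpecialLinearGroup.coe_one, coe_dg hone]
        ext i j
        fin_cases i <;> fin_cases j <;> simp [Matrix.one_apply]
      | succ n ih =>
        apply Subtype.ext
        rw [pow_succ, ih, Matrix.SpecialLinearGroup.coe_mul, coe_dg (pow_ne_zero _ hμ), coe_dg hμ,
          coe_dg (pow_ne_zero _ hμ)]
        ext i j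
        fin_cases i <;> fin_cases j <;> simp [Matrix.mul_apply, Fin.sum_univ_two, pow_succ, mul_comm]
    rw [hp, ← he]
  have hc12 : ∀ t, c * Y 0 1 t * c⁻¹ = Y 1 2 t := fun t => by
    simpa using R.conj c _ _ hmc 0 1 (by decide) t
  have D : CfsgLib.SLPres.ThreeData (Y 0 1 1) (θa (dg μ)) a c (Y 0 1) μ e := by
    refine ⟨hμ, hgen, he.symm, ⟨R.add 0 1 (by decide), rfl, fun t => ?_⟩, fun t => ?_, ?_, ?_, ?_, ?_, ?_, ?_, ?_,
      fun i _ => ?_⟩
    · have h := R.conj _ _ _ (hmB μ hμ) 0 1 (by decide) (μ * t)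
      have h' : θb (dg μ) * Y 0 1 (μ * t) * (θb (dg μ))⁻¹ = Y 0 1 t := by simpa [hμ] using h
      rw [hkk, inv_inv, ← h']
      group
    · have h := R.conj _ _ _ (hmA μ hμ) 0 1 (by decide) t
      simpa [mul_comm, mul_left_comm] using h
    · rw [hkk]
      exact (Commute.inv_right (hcomm' μ μ hμ hμ))
    · exact haa μ hμ
    · rw [hasq, hdpow]
    · rw [hdpow, ← hasq, show Y 0 1 1 = θa (tv 0 1 1) from (hθa 0 1 (by decide) 1).symm,
        show Y 0 1 (-1) = θa (tv 0 1 (-1)) from (hθa 0 1 (by decide) (-1)).symm, ha, ← map_mul, ← map_mul, ← map_mul,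
        ← map_mul, ← map_mul, ← map_mul]
      congr 1
      apply Subtype.ext
      simp only [Matrix.SpecialLinearGroup.coe_mul, coe_wt hone, ne_eq, Fin.reduceEq, not_false_eq_true, coe_tv]
      ext i j
      fin_cases i <;> fin_cases j <;>
        simp [Matrix.mul_apply, Matrix.vecMul, dotProduct, Fin.sum_univ_two, Matrix.one_apply]
    · have h6 : (b * a) * (b * a) * (b * a) = 1 := by
        rw [← hsix]
        calc b * a * (b * a) * (b * a) = (b * a * b) * (a * b * a) := by group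
          _ = _ := by rw [← hbraid]
      rw [hc, show a⁻¹ * b⁻¹ * (a⁻¹ * b⁻¹) * (a⁻¹ * b⁻¹) = ((b * a) * (b * a) * (b * a))⁻¹ by group, h6, inv_one]
    · rw [hdpow, ← hasq, hc]
      calc a * (a⁻¹ * b⁻¹) * a⁻¹ = b⁻¹ * a⁻¹ * ((a * b * a) * (a * b * a)) := by rw [hsix]; group
        _ = _ := by group
    · rw [hkk, show c * c * θa (dg μ) * (c * c)⁻¹ = c * (c * θa (dg μ) * c⁻¹) * c⁻¹ by group, hkk, hkc,
        ← (Commute.inv_inv (hcomm' μ μ hμ hμ)).eq]
    · have hmc2 : IsMono (σ (c * c) : Matrix (Fin 3) (Fin 3) F) (finRotate 3 * finRotate 3) fun _ => (1 : F) * 1 := by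
        rw [map_mul, Matrix.SpecialLinearGroup.coe_mul]
        exact hmc.mul hmc
      have h2 : ∀ t, c * c * Y 1 0 t * (c * c)⁻¹ = Y 0 2 t := fun t => by
        simpa using R.conj (c * c) _ _ hmc2 1 0 (by decide) t
      have h1 : a * Y 0 1 (-μ ^ i) * a⁻¹ = Y 1 0 (μ ^ i) := by
        simpa using R.conj a _ _ hma 0 1 (by decide) (-μ ^ i)
      have hr : Y 0 2 (μ ^ i) = ⁅Y 0 1 1, Y 1 2 (μ ^ i)⁆ := by
        rw [R.rel 0 1 2 (by decide) (by decide) (by decide), one_mul]
      rw [hc12, h1, h2, hr, commutatorElement_def]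
      group
  have hcl : Subgroup.closure ({Y 0 1 1, θa (dg μ), a, c} : Set Γ) = ⊤ := by
    rw [eq_top_iff, ← R.gen, Subgroup.closure_le]
    set S := Subgroup.closure ({Y 0 1 1, θa (dg μ), a, c} : Set Γ) with hS
    have hu : Y 0 1 1 ∈ S := Subgroup.subset_closure (Or.inl rfl)
    have hh : θa (dg μ) ∈ S := Subgroup.subset_closure (Or.inr (Or.inl rfl))
    have haS : a ∈ S := Subgroup.subset_closure (Or.inr (Or.inr (Or.inl rfl)))
    have hcS : c ∈ S := Subgroup.subset_closure (Or.inr (Or.inr (Or.inr rfl)))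
    have hscale : ∀ t, Y 0 1 t ∈ S → Y 0 1 (μ * μ * t) ∈ S := fun t ht => by
      rw [← D.scale]; exact mul_mem (mul_mem hh ht) (inv_mem hh)
    have h01 : ∀ t, Y 0 1 t ∈ S := by
      intro t
      obtain ⟨P, rfl⟩ := CfsgLib.SLPres.exists_poly_sq p hgen t
      let A : AddSubgroup F :=
        { carrier := {t | Y 0 1 t ∈ S}
          add_mem' := fun {x y} hx hy => by
            show Y 0 1 (x + y) ∈ S
            rw [R.add 0 1 (by decide)]; exact mul_mem hx hy
          zero_mem' := by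
            show Y 0 1 0 ∈ S
            rw [R.zero (by decide)]; exact one_mem S
          neg_mem' := fun {x} hx => by
            show Y 0 1 (-x) ∈ S
            rw [show Y 0 1 (-x) = (Y 0 1 x)⁻¹ from eq_inv_of_mul_eq_one_left (by
              rw [← R.add 0 1 (by decide), neg_add_cancel, R.zero (by decide)])]
            exact inv_mem hx }
      show Polynomial.aeval (μ * μ) P ∈ A
      induction P using Polynomial.induction_on' with
      | add P Q hP hQ => rw [map_add]; exact add_mem hP hQ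
      | monomial n r =>
        rw [Polynomial.aeval_monomial, ← Algebra.smul_def, ← ZMod.natCast_zmod_val r, Nat.cast_smul_eq_nsmul]
        refine nsmul_mem ?_ _
        induction n with
        | zero => rw [pow_zero]; exact hu
        | succ n ih => rw [pow_succ']; exact hscale _ ih
    have h12 : ∀ t, Y 1 2 t ∈ S := fun t => by
      rw [← hc12]; exact mul_mem (mul_mem hcS (h01 t)) (inv_mem hcS)
    have h20 : ∀ t, Y 2 0 t ∈ S := fun t => by
      have := R.conj c _ _ hmc 1 2 (by decide) t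
      simp only [Pi.one_apply, one_mul, div_one] at this
      rw [show Y 2 0 t = Y ((finRotate 3) 1) ((finRotate 3) 2) t from rfl, ← this]
      exact mul_mem (mul_mem hcS (h12 t)) (inv_mem hcS)
    have h10 : ∀ t, Y 1 0 t ∈ S := fun t => by
      have := R.conj a _ _ hma 0 1 (by decide) (-t)
      simp at this
      rw [← this]
      exact mul_mem (mul_mem haS (h01 _)) (inv_mem haS)
    have h21 : ∀ t, Y 2 1 t ∈ S := fun t => by
      have := R.conj c _ _ hmc 1 0 (by decide) t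
      simp only [Pi.one_apply, one_mul, div_one] at this
      rw [show Y 2 1 t = Y ((finRotate 3) 1) ((finRotate 3) 0) t from rfl, ← this]
      exact mul_mem (mul_mem hcS (h10 t)) (inv_mem hcS)
    have h02 : ∀ t, Y 0 2 t ∈ S := fun t => by
      have := R.conj c _ _ hmc 2 1 (by decide) t
      simp only [Pi.one_apply, one_mul, div_one] at this
      rw [show Y 0 2 t = Y ((finRotate 3) 2) ((finRotate 3) 1) t from rfl, ← this]
      exact mul_mem (mul_mem hcS (h21 t)) (inv_mem hcS)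
    rintro _ ⟨i, j, hij, t, rfl⟩
    fin_cases i <;> fin_cases j
    all_goals first | exact absurd rfl hij | apply h01 | apply h12 | apply h20 | apply h10 | apply h21 | apply h02
  obtain ⟨-, hle⟩ := D.card_le_three p (CfsgLib.SLPres.exists_poly_sq p hgen) hcl
  refine ((Nat.bijective_iff_surjective_and_card _).mpr ⟨R.surjective, ?_⟩).1
  refine le_antisymm (hle.trans (le_of_eq ?_)) (Nat.card_le_card_of_surjective σ R.surjective)
  have h := CfsgLib.Classical.sub_one_mul_card_SL (F := F) (n := 3) (by omega)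
  have hq : 1 < Fintype.card F := Fintype.one_lt_card
  refine (Nat.eq_of_mul_eq_mul_left (show 0 < Fintype.card F - 1 by omega) ?_).symm
  rw [h, Fin.prod_univ_three]
  obtain ⟨m, hm⟩ := Nat.exists_eq_add_of_le (show 1 ≤ Fintype.card F by omega)
  rw [hm, Fin.val_zero, Fin.val_one, Fin.val_two, pow_zero, pow_one, Nat.add_sub_cancel_left]
  have e1 : (1 + m) ^ 3 - 1 = m * (m * m + 3 * m + 3) := by
    rw [show (1 + m) ^ 3 = 1 + m * (m * m + 3 * m + 3) by ring, Nat.add_sub_cancel_left]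
  have e2 : (1 + m) ^ 3 - (1 + m) = (1 + m) * (m * (m + 2)) := by
    rw [show (1 + m) ^ 3 = (1 + m) + (1 + m) * (m * (m + 2)) by ring, Nat.add_sub_cancel_left]
  have e3 : (1 + m) ^ 3 - (1 + m) ^ 2 = (1 + m) ^ 2 * m := by
    rw [show (1 + m) ^ 3 = (1 + m) ^ 2 + (1 + m) ^ 2 * m by ring, Nat.add_sub_cancel_left]
  rw [e1, e2, e3]
  ring

/-- An extension of `SL_n`, `n ≥ 3`, with a root family is trivial. -/
theorem Fam.injective {n : ℕ} (hn : 3 ≤ n)
    {σ : Γ →* SL(n, F)} {Y : Fin n → Fin n → F → Γ} (R : Fam σ Y) : Function.Injective σ := by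
  classical
  haveI : Nontrivial (Fin n) := Fin.nontrivial_iff_two_le.2 (by omega)
  haveI : Nonempty (Fin n) := ⟨⟨0, by omega⟩⟩
  have RF : CfsgLib.SLPres.RootFam (F := F) Y := by
    refine ⟨fun v hv => ?_, fun i j k l hij hkl hik hil hjk hjl s t => R.comm i j k l hij hkl hjk hil s t,
      fun i j => ?_⟩
    swap
    · obtain ⟨k, -, hk⟩ := Finset.exists_mem_notMem_of_card_lt_card (t := (Finset.univ : Finset (Fin n))) (s := {i, j})
        (lt_of_le_of_lt Finset.card_le_two (by rw [Finset.card_univ, Fintype.card_fin]; omega))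
      simp only [Finset.mem_insert, Finset.mem_singleton, not_or] at hk
      exact ⟨k, hk⟩
    obtain ⟨θ, hθ, -⟩ := R.hom_of_sub hv fun hY => hY.three_injective
    refine ⟨θ, fun a b hab t => ?_⟩
    rw [← hθ a b hab]
    congr 1
  obtain ⟨hfin, hle⟩ := RF.card_le R.gen
  refine ((Nat.bijective_iff_surjective_and_card _).mpr ⟨R.surjective, ?_⟩).1
  rw [Fintype.card_fin] at hle
  exact le_antisymm hle (Nat.card_le_card_of_surjective σ R.surjective)

end CfsgLib.Schur.SLFam
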