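import Cfsg.Agent.Lib.Schur.MonoCover

/-!
# The lifts in a cyclic cover from monomial permutations
-/

set_option autoImplicit false

namespace CfsgLib.Schur.MonoCover

open CfsgLib.Chev CfsgLib.Schur

namespace Data

variable {D : Data} (V : D.Valid)
include V

/-- The generators generate, and the action is faithful. -/
theorem chain_generates {G : Type*} [Group G] [Finite G] (ρ : G →* Equiv.Perm (Fin D.m)) (X : ℕ → G)
    (hX : ∀ g ∈ D.gens 0, ∀ i : Fin D.m, ((ρ (X g) i : Fin D.m) : ℕ) = D.img g i)
    (hcard : Nat.card G ≤ orbitProd D 0 D.nlev) :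
    Subgroup.closure {x | ∃ g ∈ D.gens 0, x = X g} = ⊤ ∧ Function.Injective ρ := by
  have hzero : ∀ g ∈ D.gens 0, g < D.ng := fun g hg => gens_lt V (Nat.zero_le _) hg
  have hproj : ∀ g ∈ D.gens 0, proj V (elem V g) = ρ (X g) := fun g hg => Equiv.ext fun i =>
    Fin.ext (by rw [proj_rep V (rep_elem V (by have := hzero g hg; simp only [nE]; omega)), hX g hg i])
  set H := Subgroup.closure {x | ∃ g ∈ D.gens 0, x = X g}
  have hmap : H.map ρ = (cover V).map (proj V) := by
    rw [MonoidHom.map_closure, cover, lvH, MonoidHom.map_closure]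
    refine le_antisymm (Subgroup.closure_mono ?_) ((Subgroup.closure_le _).2 ?_)
    · rintro _ ⟨_, ⟨g, hg, rfl⟩, rfl⟩
      exact ⟨_, Or.inl ⟨g, hg, rfl⟩, hproj g hg⟩
    · rintro _ ⟨_, ⟨g, hg, rfl⟩ | rfl, rfl⟩
      · exact Subgroup.subset_closure ⟨_, ⟨g, hg, rfl⟩, (hproj g hg).symm⟩
      · rw [proj_Z]; exact one_mem _
  have h1 : Nat.card G ≤ Nat.card (H.map ρ) := by
    rw [hmap]; exact hcard.trans (card_map_ge V D.nlev 0 (Nat.zero_add _))
  have h2 : Nat.card (H.map ρ) ≤ Nat.card H :=
    Nat.card_le_card_of_surjective _ (ρ.subgroupMap_surjective H)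
  have htop : H = ⊤ := Subgroup.eq_top_of_le_card _ (h1.trans h2)
  refine ⟨htop, ?_⟩
  rw [htop, ← MonoidHom.range_eq_map] at h1
  have hbij := (Nat.bijective_iff_surjective_and_card ρ.rangeRestrict).2
    ⟨ρ.rangeRestrict_surjective, le_antisymm h1 (Nat.card_le_card_of_surjective _ ρ.rangeRestrict_surjective)⟩
  intro a b e
  exact hbij.1 (Subtype.ext e)

/-- The extension, with the lifts and the values of the words. -/
theorem exists_stem_lifts {G : Type} [Group G] [Finite G] (ρ : G →* Equiv.Perm (Fin D.m)) (X : ℕ → G)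
    (hX : ∀ g ∈ D.gens 0, ∀ i : Fin D.m, ((ρ (X g) i : Fin D.m) : ℕ) = D.img g i)
    (hgen : Subgroup.closure {x | ∃ g ∈ D.gens 0, x = X g} = ⊤)
    (hcard : Nat.card G ≤ orbitProd D 0 D.nlev) (w : List ℕ) {r : ℕ}
    (hw : (w.all (fun i => decide (i < 2 * D.ng) &&
        decide ((if i < D.ng then i else i - D.ng) ∈ D.gens 0)) &&
      (List.range D.ng).all (fun j => Nat.beq (w.count j) (w.count (D.ng + j))) && D.eqW r w []) = true)
    (hr : Nat.Coprime r D.c) :
    ∃ (Γ : Type) (_ : Group Γ) (_ : Finite Γ) (σ : Γ →* G) (el : ℕ → Γ) (z : Γ),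
      Cfsg.IsStemExtension σ ∧ σ.ker = Subgroup.zpowers z ∧ orderOf z = D.c ∧
      (∀ j ∈ D.gens 0, σ (el j) = X j ∧ el (D.ng + j) = (el j)⁻¹) ∧
      ∀ (v : List ℕ) (d : ℕ), (v.all fun i => decide (i < 2 * D.ng) &&
          decide ((if i < D.ng then i else i - D.ng) ∈ D.gens 0)) = true →
        D.eqW d v [] = true → (v.map el).prod = z ^ d := by
  simp only [Bool.and_eq_true, List.all_eq_true, List.mem_range, Nat.beq_eq, decide_eq_true_eq] at hw
  classical
  obtain ⟨⟨hmem, hbal⟩, heq⟩ := hw
  have hzero : ∀ g ∈ D.gens 0, g < D.ng := fun g hg => gens_lt V (Nat.zero_le _) hg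
  have hproj : ∀ g ∈ D.gens 0, proj V (elem V g) = ρ (X g) := fun g hg => Equiv.ext fun i =>
    Fin.ext (by rw [proj_rep V (rep_elem V (by have := hzero g hg; simp only [nE]; omega)), hX g hg i])
  set Q : Subgroup (Equiv.Perm (Fin D.m)) := (cover V).map (proj V) with hQ
  have hrange : ρ.range = Q := by
    rw [MonoidHom.range_eq_map, ← hgen, MonoidHom.map_closure, hQ, cover, lvH, MonoidHom.map_closure]
    refine le_antisymm (Subgroup.closure_mono ?_) ((Subgroup.closure_le _).2 ?_)
    · rintro _ ⟨_, ⟨g, hg, rfl⟩, rfl⟩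
      exact ⟨_, Or.inl ⟨g, hg, rfl⟩, hproj g hg⟩
    · rintro _ ⟨_, ⟨g, hg, rfl⟩ | rfl, rfl⟩
      · exact Subgroup.subset_closure ⟨_, ⟨g, hg, rfl⟩, (hproj g hg).symm⟩
      · rw [proj_Z]; exact one_mem _
  have hinj : Function.Injective ρ := by
    have hle : Nat.card G ≤ Nat.card ρ.range := by
      rw [hrange]; exact hcard.trans (card_map_ge V D.nlev 0 (Nat.zero_add _))
    have hge : Nat.card ρ.range ≤ Nat.card G := Nat.card_le_card_of_surjective _ ρ.rangeRestrict_surjective
    have hbij := (Nat.bijective_iff_surjective_and_card ρ.rangeRestrict).2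
      ⟨ρ.rangeRestrict_surjective, le_antisymm hle hge⟩
    intro a b e
    exact hbij.1 (Subtype.ext e)
  let e : G ≃* Q := (MonoidHom.ofInjective hinj).trans (MulEquiv.subgroupCongr hrange)
  let π : ↥(cover V) →* Q := (proj V).subgroupMap (cover V)
  let σ : ↥(cover V) →* G := e.symm.toMonoidHom.comp π
  have hσsurj : Function.Surjective σ := e.symm.surjective.comp ((proj V).subgroupMap_surjective _)
  have hZ : Z V ∈ cover V := Subgroup.subset_closure (Or.inr rfl)
  set z : ↥(cover V) := ⟨Z V, hZ⟩ with hz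
  have hker : σ.ker = Subgroup.zpowers z := by
    refine le_antisymm (fun x hx => ?_) ?_
    · have hx' : π x = 1 := e.symm.injective (by rw [map_one]; exact hx)
      obtain ⟨k, hk⟩ := Subgroup.mem_zpowers_iff.1
        (ker_le_zpowers V x.1 x.2 (congrArg Subtype.val hx'))
      exact Subgroup.mem_zpowers_iff.2 ⟨k, Subtype.ext hk⟩
    · rw [Subgroup.zpowers_le, MonoidHom.mem_ker]
      show e.symm (π z) = 1
      rw [show π z = 1 from Subtype.ext (proj_Z V), map_one]
  have hord : orderOf z = D.c := by rw [← Subgroup.orderOf_coe]; exact orderOf_Z V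
  have hwr : z ^ r ∈ commutator ↥(cover V) := by
    let f : ℕ → ↥(cover V) := fun i => if h : elem V i ∈ cover V then ⟨_, h⟩ else 1
    have hin : ∀ i ∈ w, elem V i ∈ cover V := by
      intro i hi
      obtain ⟨h1, h2⟩ := hmem i hi
      rcases Nat.lt_or_ge i D.ng with h | h
      · rw [if_pos h] at h2; exact Subgroup.subset_closure (Or.inl ⟨i, h2, rfl⟩)
      · rw [if_neg (by omega)] at h2
        rw [show i = D.ng + (i - D.ng) by omega, elem_inv V (by omega)]
        exact inv_mem (Subgroup.subset_closure (Or.inl ⟨_, h2, rfl⟩))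
    have e1 : z ^ r = (w.map f).prod := Subtype.ext (by
      rw [SubmonoidClass.coe_pow, Subgroup.val_list_prod, List.map_map]
      have := eq_of_eqW V (elem V) (d := r) (l := w) (r := []) (fun n hn => rep_elem V (by
        have := (hmem n hn).1; simp only [nE]; omega)) (by simp) heq
      rw [List.map_nil, List.prod_nil, mul_one] at this
      rw [← this]
      exact congrArg List.prod (List.map_congr_left fun i hi => by
        simp only [Function.comp, f, dif_pos (hin i hi)]).symm)
    rw [e1, ← Abelianization.ker_of, MonoidHom.mem_ker, map_list_prod, List.map_map,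
      prod_balanced D.ng (Abelianization.of ∘ f) ?_ w fun i hi => (hmem i hi).1]
    · exact Finset.prod_eq_one fun j hj => by rw [hbal j (Finset.mem_range.1 hj), sub_self, zpow_zero]
    · intro j hj
      simp only [Function.comp, ← map_inv]
      congr 1
      have e2 := elem_inv V hj
      by_cases h : elem V j ∈ cover V
      · have h' : elem V (D.ng + j) ∈ cover V := by rw [e2]; exact inv_mem h
        simp only [f, dif_pos h, dif_pos h']
        exact Subtype.ext e2
      · have h' : elem V (D.ng + j) ∉ cover V := by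
          rw [e2]; exact fun hh => h (by simpa using inv_mem hh)
        simp only [f, dif_neg h, dif_neg h', inv_one]
  have hzc : z ∈ commutator ↥(cover V) := by
    have hg : (Nat.gcd r (orderOf z) : ℤ) = 1 := by rw [hord, hr]; rfl
    have : z = (z ^ r) ^ Nat.gcdA r (orderOf z) := by
      have h2 := Nat.gcd_eq_gcd_ab r (orderOf z)
      rw [hg] at h2
      rw [← zpow_natCast z r, ← zpow_mul]
      conv_lhs => rw [← zpow_one z, h2, zpow_add, zpow_mul z (orderOf z : ℤ), zpow_natCast,
        pow_orderOf_eq_one, one_zpow, mul_one]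
    rw [this]; exact zpow_mem hwr _
  let f : ℕ → ↥(cover V) := fun i => if h : elem V i ∈ cover V then ⟨_, h⟩ else 1
  have hgm : ∀ j ∈ D.gens 0, elem V j ∈ cover V := fun j hj =>
    Subgroup.subset_closure (Or.inl ⟨j, hj, rfl⟩)
  refine ⟨↥(cover V), inferInstance, inferInstance, σ, f, z, ⟨hσsurj, ?_, ?_⟩, hker, hord, ?_, ?_⟩
  · rw [hker, Subgroup.zpowers_le, Subgroup.mem_center_iff]
    exact fun x => Subtype.ext (Z_central V x.1)
  · rw [hker, Subgroup.zpowers_le]; exact hzc
  · intro j hj
    have h := hgm j hj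
    have e2 := elem_inv V (hzero j hj)
    have h' : elem V (D.ng + j) ∈ cover V := by rw [e2]; exact inv_mem h
    simp only [f, dif_pos h, dif_pos h']
    refine ⟨e.injective (Subtype.ext ?_), Subtype.ext e2⟩
    show ((e (e.symm (π ⟨elem V j, h⟩)) : Q) : Equiv.Perm (Fin D.m)) = ((e (X j) : Q) : Equiv.Perm (Fin D.m))
    rw [e.apply_symm_apply]
    exact hproj j hj
  · intro v d hv hvd
    simp only [List.all_eq_true, Bool.and_eq_true, decide_eq_true_eq] at hv
    have hin : ∀ i ∈ v, elem V i ∈ cover V := by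
      intro i hi
      obtain ⟨h1, h2⟩ := hv i hi
      rcases Nat.lt_or_ge i D.ng with h | h
      · rw [if_pos h] at h2; exact hgm i h2
      · rw [if_neg (by omega)] at h2
        rw [show i = D.ng + (i - D.ng) by omega, elem_inv V (by omega)]
        exact inv_mem (hgm _ h2)
    refine Subtype.ext ?_
    rw [SubmonoidClass.coe_pow, Subgroup.val_list_prod, List.map_map]
    have := eq_of_eqW V (elem V) (d := d) (l := v) (r := []) (fun n hn => rep_elem V (by
      have := (hv n hn).1; simp only [nE]; omega)) (by simp) hvd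
    rw [List.map_nil, List.prod_nil, mul_one] at this
    rw [← this]
    exact congrArg List.prod (List.map_congr_left fun i hi => by
      simp only [Function.comp, f, dif_pos (hin i hi)])
end Data

end CfsgLib.Schur.MonoCover
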