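import Mathlib

/-!
Stabiliser chains lifted to a group over a permutation group: the kernel of the projection is
controlled level by level (Schreier's lemma).
-/

set_option autoImplicit false

namespace CfsgLib.Schur.LiftChain

variable {W α : Type*} [Group W] [Finite W] (π : W →* Equiv.Perm α)

/-- One level: elements of the generated group fixing the base point lie in the next subgroup. -/
theorem stab_le {gens : Set W} {H' : Subgroup W} {b : α} (P : Set α) (u : α → W) (hb : b ∈ P)
    (hu1 : u b ∈ H') (hu : ∀ p ∈ P, π (u p) b = p)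
    (hmul : ∀ s ∈ gens, ∀ p ∈ P, π s p ∈ P ∧ (u (π s p))⁻¹ * s * u p ∈ H') :
    ∀ w ∈ Subgroup.closure gens, π w b = b → w ∈ H' := by
  have key : ∀ w ∈ Subgroup.closure gens, ∀ p ∈ P,
      π w p ∈ P ∧ (u (π w p))⁻¹ * w * u p ∈ H' := by
    intro w hw
    rw [← Subgroup.mem_toSubmonoid, Subgroup.closure_toSubmonoid_of_finite] at hw
    induction hw using Submonoid.closure_induction with
    | mem s hs => exact hmul s hs
    | one =>
      intro p hp
      rw [map_one, Equiv.Perm.one_apply, mul_one, inv_mul_cancel]
      exact ⟨hp, one_mem H'⟩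
    | mul x y _ _ hx hy =>
      intro p hp
      obtain ⟨hy1, hy2⟩ := hy p hp
      obtain ⟨hx1, hx2⟩ := hx _ hy1
      rw [map_mul, Equiv.Perm.mul_apply]
      refine ⟨hx1, ?_⟩
      have := mul_mem hx2 hy2
      convert this using 1
      group
  intro w hw hwb
  obtain ⟨-, h⟩ := key w hw b hb
  rw [hwb] at h
  have := mul_mem (mul_mem hu1 h) (inv_mem hu1)
  convert this using 1
  group

/-- The kernel of the projection lies in the bottom subgroup. -/
theorem ker_le_bottom {n : ℕ} (H : ℕ → Subgroup W) (b : ℕ → α)
    (hstep : ∀ k < n, ∀ w ∈ H k, π w (b k) = b k → w ∈ H (k + 1)) :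
    ∀ w ∈ H 0, π w = 1 → w ∈ H n := by
  intro w hw h1
  suffices ∀ k ≤ n, w ∈ H k from this n le_rfl
  intro k
  induction k with
  | zero => exact fun _ => hw
  | succ k ih => exact fun hk => hstep k hk w (ih (by omega)) (by rw [h1]; rfl)

end CfsgLib.Schur.LiftChain
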