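import Mathlib
import Cfsg.Prelude.Def_KGroupFacts
import Cfsg.Agent.Lib.Chev.Check
import Cfsg.Agent.Lib.Schur.LiftChain

/-!
# Certified cyclic covers from monomial permutations

Monomial permutations of `m` blocks of `c` states, given by packed tables, with a stabiliser chain
for the action on the blocks whose Schreier generators close up to the common shift.  The group they
generate is a central extension, by the shifts, of the group induced on the blocks, and the chain
bounds the order of the latter from below.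
-/

set_option autoImplicit false

namespace CfsgLib.Schur.MonoCover

open CfsgLib.Chev CfsgLib.Schur

/-- the data -/
structure Data where
  /-- number of blocks -/
  m : ℕ
  /-- size of a block -/
  c : ℕ
  /-- number of generators; their inverses follow them -/
  ng : ℕ
  /-- number of transversal elements; they follow the inverses -/
  nU : ℕ
  /-- packed tables, the image of the first state of each block -/
  tab : ℕ → ℕ
  /-- a transversal element as a generator times an earlier one (shifted by one, zero for none) -/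
  defs : ℕ → ℕ × ℕ
  /-- number of levels -/
  nlev : ℕ
  /-- base block of a level -/
  base : ℕ → ℕ
  /-- generators of a level -/
  gens : ℕ → List ℕ
  /-- orbit of a level with the transversal element (shifted by one) -/
  pts : ℕ → List (ℕ × ℕ)
  /-- generator, block, shift and word of the next level -/
  sch : ℕ → List (ℕ × ℕ × ℕ × List ℕ)
  /-- generators of the next level: index, generator, block, shift -/
  pick : ℕ → List (ℕ × ℕ × ℕ × ℕ)

namespace Data

variable (D : Data)

/-- the common shift -/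
def shift (d s : ℕ) : ℕ := D.c * (s / D.c) + (s % D.c + d) % D.c

/-- the entry of a table at a block -/
noncomputable def entry (T i : ℕ) : ℕ := Nat.land (Nat.shiftRight T (Nat.mul 16 i)) 65535

/-- one element applied to a state -/
noncomputable def step (n s : ℕ) : ℕ := D.shift (s % D.c) (entry (D.tab n) (s / D.c))

/-- `step`, evaluating each argument once -/
noncomputable def stepK (n s : ℕ) (f : ℕ → Bool) : Bool :=
  force s fun a => force (entry (D.tab n) (a / D.c)) fun e => force (D.shift (a % D.c) e) f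

/-- a word applied to a state -/
noncomputable def act : List ℕ → ℕ → ℕ
  | [], s => s
  | n :: w, s => D.step n (act w s)

/-- `act`, evaluating each step once -/
noncomputable def actK : List ℕ → ℕ → (ℕ → Bool) → Bool
  | [], s, f => f s
  | n :: w, s, f => actK w s fun a => D.stepK n a f

/-- two words agree up to a shift -/
noncomputable def eqW (d : ℕ) (l r : List ℕ) : Bool :=
  allBelow D.m fun i => force (D.c * i) fun x =>
    D.actK l x fun a => D.actK r x fun b => force b fun b => Nat.beq a (D.shift d b)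

/-- the number of elements -/
def nE : ℕ := 2 * D.ng + D.nU

/-- a table maps into the states -/
noncomputable def tabChk (n : ℕ) : Bool :=
  allBelow D.m fun i => Nat.blt (entry (D.tab n) i) (D.m * D.c)

/-- a generator with its inverse -/
noncomputable def invChk (j : ℕ) : Bool := D.eqW 0 [j, D.ng + j] [] && D.eqW 0 [D.ng + j, j] []

/-- the word of a transversal element -/
def uWord : ℕ → List ℕ
  | 0 => []
  | n + 1 => [n]

/-- a transversal element is the product it is defined to be -/
noncomputable def defChk (n : ℕ) : Bool :=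
  decide ((D.defs n).1 < D.ng) &&
    (decide ((D.defs n).2 = 0) ||
      decide (2 * D.ng < (D.defs n).2 ∧ (D.defs n).2 - (2 * D.ng + 1) < n)) &&
    D.eqW 0 [2 * D.ng + n] ((D.defs n).1 :: uWord (D.defs n).2)

/-- the transversal element of a block -/
def findU (k q : ℕ) : Option ℕ := ((D.pts k).find? fun p => Nat.beq p.1 q).map Prod.snd

/-- the block of the image -/
noncomputable def img (n p : ℕ) : ℕ := entry (D.tab n) p / D.c

/-- a Schreier generator lies in the next level up to a shift -/
noncomputable def schChk (k : ℕ) (e : ℕ × ℕ × ℕ × List ℕ) : Bool :=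
  match D.findU k e.2.1, D.findU k (D.img e.1 e.2.1) with
  | some a, some b => D.eqW e.2.2.1 (e.1 :: uWord a) (uWord b ++ e.2.2.2)
  | _, _ => false

/-- a generator of the next level is a Schreier generator -/
noncomputable def pickChk (k : ℕ) (e : ℕ × ℕ × ℕ × ℕ) : Bool :=
  decide (e.2.1 ∈ D.gens k) && Nat.beq (D.img e.1 (D.base k)) (D.base k) &&
  match D.findU k e.2.2.1, D.findU k (D.img e.2.1 e.2.2.1) with
  | some a, some b => D.eqW e.2.2.2 (uWord b ++ [e.1]) (e.2.1 :: uWord a)
  | _, _ => false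

/-- the bookkeeping of a level -/
noncomputable def levChk (k : ℕ) : Bool :=
  decide (D.base k < D.m) && (D.gens k).all (fun g => decide (g < D.ng)) &&
  Nat.beq ((D.findU k (D.base k)).getD 1) 0 &&
  (D.pts k).all (fun p => decide (p.1 < D.m) &&
    match p.2 with
    | 0 => Nat.beq p.1 (D.base k)
    | i + 1 => decide (2 * D.ng ≤ i ∧ i < D.nE) && Nat.beq (D.img i (D.base k)) p.1 &&
        decide ((D.defs (i - 2 * D.ng)).1 ∈ D.gens k) &&
          (decide ((D.defs (i - 2 * D.ng)).2 = 0) ||
            (D.pts k).any fun q => Nat.beq q.2 (D.defs (i - 2 * D.ng)).2)) &&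
  decide ((D.pts k).map Prod.fst).Nodup &&
  (D.pts k).all (fun p => (D.gens k).all fun g =>
    (D.sch k).any fun e => Nat.beq e.1 g && Nat.beq e.2.1 p.1) &&
  (D.sch k).all (fun e => decide (e.1 < D.ng) && e.2.2.2.all fun i =>
    (List.range D.nlev).any fun l => decide (k < l) && (D.pts l).any fun q => Nat.beq q.2 (i + 1)) &&
  (D.gens (k + 1)).all (fun g => (D.pick k).any fun e => Nat.beq e.1 g)

/-- the checks -/
structure Valid : Prop where
  hm : 0 < D.m
  hc : 0 < D.c
  htab : (List.range D.nE).all D.tabChk = true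
  hinv : (List.range D.ng).all D.invChk = true
  hdef : (List.range D.nU).all D.defChk = true
  hlev : (List.range D.nlev).all D.levChk = true
  hlast : D.gens D.nlev = []
  hsch : ∀ k < D.nlev, (D.sch k).all (D.schChk k) = true
  hpick : ∀ k < D.nlev, (D.pick k).all (D.pickChk k) = true

variable {D}

lemma shift_lt (hc : 0 < D.c) (d : ℕ) {s : ℕ} (hs : s < D.m * D.c) : D.shift d s < D.m * D.c := by
  have h1 := Nat.mod_lt (s % D.c + d) hc
  have h2 : s / D.c < D.m := (Nat.div_lt_iff_lt_mul hc).2 hs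
  calc D.shift d s < D.c * (s / D.c) + D.c := Nat.add_lt_add_left h1 _
    _ = D.c * (s / D.c + 1) := by rw [Nat.mul_succ]
    _ ≤ D.c * D.m := Nat.mul_le_mul_left _ h2
    _ = D.m * D.c := Nat.mul_comm _ _

lemma shift_div (hc : 0 < D.c) (d s : ℕ) : D.shift d s / D.c = s / D.c := by
  rw [shift, Nat.mul_add_div hc, Nat.div_eq_of_lt (Nat.mod_lt _ hc), Nat.add_zero]

lemma shift_mod (d s : ℕ) : D.shift d s % D.c = (s % D.c + d) % D.c := by
  rw [shift, Nat.mul_add_mod, Nat.mod_mod]

lemma shift_shift (hc : 0 < D.c) (a b s : ℕ) : D.shift a (D.shift b s) = D.shift (a + b) s := by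
  rw [shift, shift_div hc, shift_mod]
  show D.c * (s / D.c) + ((s % D.c + b) % D.c + a) % D.c = D.c * (s / D.c) + (s % D.c + (a + b)) % D.c
  rw [Nat.mod_add_mod, Nat.add_assoc, Nat.add_comm b a]

lemma shift_zero (s : ℕ) : D.shift 0 s = s := by
  rw [shift, Nat.add_zero, Nat.mod_mod, Nat.div_add_mod]

lemma shift_c (s : ℕ) : D.shift D.c s = s := by
  rw [shift, Nat.add_mod_right, Nat.mod_mod, Nat.div_add_mod]

lemma stepK_eq (n s : ℕ) (f : ℕ → Bool) : D.stepK n s f = f (D.step n s) := by
  simp only [stepK, force_eq, step]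

lemma actK_eq : ∀ (w : List ℕ) (s : ℕ) (f : ℕ → Bool), D.actK w s f = f (D.act w s)
  | [], _, _ => rfl
  | n :: w, s, f => by
    show D.actK w s _ = _
    rw [actK_eq w s, stepK_eq]
    rfl

lemma step_shift (hc : 0 < D.c) (n k s : ℕ) : D.step n (D.shift k s) = D.shift k (D.step n s) := by
  rw [step, step, shift_div hc, shift_mod, shift_shift hc, Nat.add_comm k]
  simp only [shift, Nat.add_mod_mod]

lemma act_shift (hc : 0 < D.c) : ∀ (w : List ℕ) (k s : ℕ), D.act w (D.shift k s) = D.shift k (D.act w s)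
  | [], _, _ => rfl
  | n :: w, k, s => by
    show D.step n (D.act w (D.shift k s)) = _
    rw [act_shift hc w, step_shift hc]
    rfl

lemma eqW_spec (hc : 0 < D.c) {d : ℕ} {l r : List ℕ} (h : D.eqW d l r = true) {s : ℕ}
    (hs : s < D.m * D.c) : D.act l s = D.shift d (D.act r s) := by
  have h1 := allBelow_eq_true h (s / D.c) ((Nat.div_lt_iff_lt_mul hc).2 hs)
  rw [force_eq, actK_eq, actK_eq, force_eq, Nat.beq_eq] at h1
  have e : s = D.shift (s % D.c) (D.c * (s / D.c)) := by
    rw [shift, Nat.mul_div_cancel_left _ hc, Nat.mul_mod_right, Nat.zero_add, Nat.mod_mod,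
      Nat.div_add_mod]
  rw [e, act_shift hc, act_shift hc, h1, shift_shift hc, shift_shift hc, Nat.add_comm]

lemma step_lt (V : D.Valid) {n : ℕ} (hn : n < D.nE) {s : ℕ} (hs : s < D.m * D.c) :
    D.step n s < D.m * D.c := by
  have h := allBelow_eq_true (List.all_eq_true.1 V.htab n (List.mem_range.2 hn)) (s / D.c)
    ((Nat.div_lt_iff_lt_mul V.hc).2 hs)
  rw [Nat.blt_eq] at h
  exact shift_lt V.hc _ h

variable (D)

/-- the states -/
abbrev St : Type := Fin (D.m * D.c)

variable {D}

/-- the shift as a permutation -/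
noncomputable def shiftPerm (V : D.Valid) : Equiv.Perm D.St where
  toFun s := ⟨D.shift 1 s, shift_lt V.hc 1 s.isLt⟩
  invFun s := ⟨D.shift (D.c - 1) s, shift_lt V.hc _ s.isLt⟩
  left_inv s := Fin.ext (by
    show D.shift (D.c - 1) (D.shift 1 s) = s
    rw [shift_shift V.hc, Nat.sub_add_cancel V.hc, shift_c])
  right_inv s := Fin.ext (by
    show D.shift 1 (D.shift (D.c - 1) s) = s
    rw [shift_shift V.hc, Nat.add_sub_cancel' V.hc, shift_c])

lemma shiftPerm_pow (V : D.Valid) (d : ℕ) (s : D.St) :
    (((shiftPerm V ^ d) s : D.St) : ℕ) = D.shift d s := by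
  induction d with
  | zero => rw [pow_zero, Equiv.Perm.one_apply, shift_zero]
  | succ d ih =>
    rw [pow_succ', Equiv.Perm.mul_apply]
    show D.shift 1 ((shiftPerm V ^ d) s : D.St) = _
    rw [ih, shift_shift V.hc, Nat.add_comm]

/-- the monomial permutations -/
abbrev Mono (V : D.Valid) : Subgroup (Equiv.Perm D.St) := Subgroup.centralizer {shiftPerm V}

variable (V : D.Valid)

include V

/-- the first state of a block -/
def first (i : Fin D.m) : D.St := ⟨D.c * i, by
  calc D.c * i < D.c * D.m := Nat.mul_lt_mul_of_pos_left i.isLt V.hc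
    _ = D.m * D.c := Nat.mul_comm _ _⟩

/-- the block of a state -/
def blk (s : D.St) : Fin D.m := ⟨s / D.c, (Nat.div_lt_iff_lt_mul V.hc).2 s.isLt⟩

lemma blk_first (i : Fin D.m) : blk V (first V i) = i :=
  Fin.ext (Nat.mul_div_cancel_left _ V.hc)

lemma blk_apply (w : Mono V) (s : D.St) :
    blk V ((w : Equiv.Perm D.St) s) = blk V ((w : Equiv.Perm D.St) (first V (blk V s))) := by
  have hw : Commute (w : Equiv.Perm D.St) (shiftPerm V) := Subgroup.mem_centralizer_singleton_iff.1 w.2
  have e : s = (shiftPerm V ^ (s.1 % D.c)) (first V (blk V s)) := Fin.ext (by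
    rw [shiftPerm_pow]
    show _ = D.shift _ (D.c * (s.1 / D.c))
    rw [shift, Nat.mul_div_cancel_left _ V.hc, Nat.mul_mod_right, Nat.zero_add, Nat.mod_mod,
      Nat.div_add_mod])
  conv_lhs => rw [e, ← Equiv.Perm.mul_apply, (hw.pow_right _).eq, Equiv.Perm.mul_apply]
  exact Fin.ext (by show _ / D.c = _; rw [shiftPerm_pow, shift_div V.hc]; rfl)

/-- the action on the blocks -/
noncomputable def proj : Mono V →* Equiv.Perm (Fin D.m) where
  toFun w :=
    { toFun := fun i => blk V ((w : Equiv.Perm D.St) (first V i))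
      invFun := fun i => blk V (((w⁻¹ : Mono V) : Equiv.Perm D.St) (first V i))
      left_inv := fun i => by
        show blk V _ = _
        rw [← blk_apply V w⁻¹, ← Equiv.Perm.mul_apply, ← Subgroup.coe_mul, inv_mul_cancel]
        exact blk_first V i
      right_inv := fun i => by
        show blk V _ = _
        rw [← blk_apply V w, ← Equiv.Perm.mul_apply, ← Subgroup.coe_mul, mul_inv_cancel]
        exact blk_first V i }
  map_one' := Equiv.ext fun i => blk_first V i
  map_mul' u w := Equiv.ext fun i => by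
    show blk V (((u * w : Mono V) : Equiv.Perm D.St) (first V i)) = _
    rw [Subgroup.coe_mul, Equiv.Perm.mul_apply, blk_apply V u]
    rfl

/-- the shift in the monomial group -/
noncomputable def Z : Mono V := ⟨shiftPerm V, Subgroup.mem_centralizer_singleton_iff.2 rfl⟩

lemma Z_central (a : Mono V) : a * Z V = Z V * a :=
  Subtype.ext (Subgroup.mem_centralizer_singleton_iff.1 a.2)

lemma Z_pow_apply (d : ℕ) (s : D.St) :
    ((((Z V) ^ d : Mono V) : Equiv.Perm D.St) s : ℕ) = D.shift d s := by
  rw [SubmonoidClass.coe_pow]; exact shiftPerm_pow V d s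

lemma proj_Z : proj V (Z V) = 1 := Equiv.ext fun i => Fin.ext (by
  show D.shift 1 (D.c * i) / D.c = _
  rw [shift_div V.hc, Nat.mul_div_cancel_left _ V.hc]; rfl)

lemma orderOf_Z : orderOf (Z V) = D.c := by
  have hpow : ∀ d, (Z V) ^ d = 1 → d % D.c = 0 := by
    intro d h
    have := Z_pow_apply V d ⟨0, Nat.mul_pos V.hm V.hc⟩
    rw [h] at this
    simp [shift] at this
    omega
  rw [orderOf_eq_iff V.hc]
  refine ⟨Subtype.ext (Equiv.ext fun s => Fin.ext ?_), fun d hd hd0 h => ?_⟩
  · rw [Z_pow_apply, shift_c]; rfl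
  · have := hpow d h
    rw [Nat.mod_eq_of_lt hd] at this
    omega

/-- the element has the given table -/
def Rep (n : ℕ) (w : Mono V) : Prop :=
  ∀ s : D.St, (((w : Equiv.Perm D.St) s : D.St) : ℕ) = D.step n s

lemma proj_rep {n : ℕ} {w : Mono V} (h : Rep V n w) (i : Fin D.m) :
    ((proj V w i : Fin D.m) : ℕ) = D.img n i := by
  show (((w : Equiv.Perm D.St) (first V i) : D.St) : ℕ) / D.c = _
  rw [h, img, step, shift_div V.hc]
  show entry (D.tab n) (D.c * i / D.c) / D.c = _
  rw [Nat.mul_div_cancel_left _ V.hc]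

lemma rep_word (el : ℕ → Mono V) : ∀ {w : List ℕ}, (∀ n ∈ w, Rep V n (el n)) →
    ∀ s : D.St, ((((w.map el).prod : Mono V) : Equiv.Perm D.St) s : ℕ) = D.act w s := by
  intro w
  induction w with
  | nil => intro _ s; rfl
  | cons n w ih =>
    intro h s
    rw [List.map_cons, List.prod_cons, Subgroup.coe_mul, Equiv.Perm.mul_apply,
      h n List.mem_cons_self, ih fun a ha => h a (List.mem_cons_of_mem _ ha)]
    rfl

lemma eq_of_eqW (el : ℕ → Mono V) {d : ℕ} {l r : List ℕ} (hl : ∀ n ∈ l, Rep V n (el n))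
    (hr : ∀ n ∈ r, Rep V n (el n)) (h : D.eqW d l r = true) :
    (l.map el).prod = Z V ^ d * (r.map el).prod := by
  refine Subtype.ext (Equiv.ext fun s => Fin.ext ?_)
  rw [rep_word V el hl, eqW_spec V.hc h s.isLt, Subgroup.coe_mul, Equiv.Perm.mul_apply, Z_pow_apply,
    rep_word V el hr]

/-- a generator -/
noncomputable def gen (j : Fin D.ng) : Mono V :=
  ⟨{ toFun := fun s => ⟨D.step j s, step_lt V (by simp only [nE]; omega) s.isLt⟩
     invFun := fun s => ⟨D.step (D.ng + j) s, step_lt V (by simp only [nE]; omega) s.isLt⟩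
     left_inv := fun s => Fin.ext (by
       have h := List.all_eq_true.1 V.hinv j.1 (List.mem_range.2 j.2)
       simp only [invChk, Bool.and_eq_true] at h
       have := eqW_spec V.hc h.2 s.isLt
       rw [shift_zero] at this
       exact this)
     right_inv := fun s => Fin.ext (by
       have h := List.all_eq_true.1 V.hinv j.1 (List.mem_range.2 j.2)
       simp only [invChk, Bool.and_eq_true] at h
       have := eqW_spec V.hc h.1 s.isLt
       rw [shift_zero] at this
       exact this) },
    Subgroup.mem_centralizer_singleton_iff.2 (Equiv.ext fun s => Fin.ext (step_shift V.hc j 1 s))⟩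

/-- the transversal products -/
noncomputable def uEl (n : ℕ) : Mono V :=
  (if h : (D.defs n).1 < D.ng then gen V ⟨(D.defs n).1, h⟩ else 1) *
    if _h : 2 * D.ng < (D.defs n).2 ∧ (D.defs n).2 - (2 * D.ng + 1) < n then
      uEl ((D.defs n).2 - (2 * D.ng + 1)) else 1
termination_by n
decreasing_by exact _h.2

/-- an element -/
noncomputable def elem (n : ℕ) : Mono V :=
  if h : n < D.ng then gen V ⟨n, h⟩
  else if h' : n < 2 * D.ng then (gen V ⟨n - D.ng, by omega⟩)⁻¹
  else uEl V (n - 2 * D.ng)

lemma rep_gen (j : Fin D.ng) : Rep V j (gen V j) := fun _ => rfl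

lemma rep_inv (j : Fin D.ng) : Rep V (D.ng + j) (gen V j)⁻¹ := fun _ => rfl

lemma rep_uEl : ∀ n, n < D.nU → Rep V (2 * D.ng + n) (uEl V n) := by
  intro n
  induction n using Nat.strong_induction_on with
  | _ n ih =>
    intro hn
    have h := List.all_eq_true.1 V.hdef n (List.mem_range.2 hn)
    simp only [defChk, Bool.and_eq_true, decide_eq_true_eq, Bool.or_eq_true] at h
    obtain ⟨⟨hg, hp⟩, he⟩ := h
    obtain ⟨el, hel, hu⟩ : ∃ el : ℕ → Mono V,
        (∀ a ∈ (D.defs n).1 :: uWord (D.defs n).2, Rep V a (el a)) ∧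
          uEl V n = (((D.defs n).1 :: uWord (D.defs n).2).map el).prod := by
      rw [uEl, dif_pos hg]
      rcases hp with hp | ⟨hp1, hp2⟩
      · refine ⟨fun _ => gen V ⟨_, hg⟩, fun a ha => ?_, ?_⟩
        · rw [hp] at ha
          simp only [uWord, List.mem_cons, List.not_mem_nil, or_false] at ha
          subst ha
          exact rep_gen V ⟨_, hg⟩
        · rw [dif_neg (by omega), hp]
          simp [uWord]
      · obtain ⟨i, hi⟩ : ∃ i, (D.defs n).2 = i + 1 := ⟨(D.defs n).2 - 1, by omega⟩
        refine ⟨fun a => if a = (D.defs n).1 then gen V ⟨_, hg⟩ else uEl V (a - 2 * D.ng),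
          fun a ha => ?_, ?_⟩
        · rw [hi] at ha
          simp only [uWord, List.mem_cons, List.not_mem_nil, or_false] at ha
          rcases ha with e | e
          · subst e; simp only [if_true]; exact rep_gen V ⟨_, hg⟩
          · have hne : a ≠ (D.defs n).1 := by omega
            simp only [if_neg hne]
            have := ih (a - 2 * D.ng) (by omega) (by omega)
            rwa [show 2 * D.ng + (a - 2 * D.ng) = a by omega] at this
        · rw [dif_pos ⟨hp1, hp2⟩]
          conv_rhs => rw [hi]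
          simp only [uWord, List.map_cons, List.map_nil, List.prod_cons, List.prod_nil, mul_one,
            if_true]
          rw [if_neg (by omega), show i - 2 * D.ng = (D.defs n).2 - (2 * D.ng + 1) by omega]
    intro s
    rw [hu, rep_word V el hel]
    have := eqW_spec V.hc he s.isLt
    rw [shift_zero] at this
    exact this.symm

lemma rep_elem {n : ℕ} (hn : n < D.nE) : Rep V n (elem V n) := by
  simp only [nE] at hn
  rcases Nat.lt_or_ge n D.ng with h | h
  · rw [elem, dif_pos h]; exact rep_gen V ⟨n, h⟩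
  rcases Nat.lt_or_ge n (2 * D.ng) with h' | h'
  · rw [elem, dif_neg (by omega), dif_pos h']
    have := rep_inv V ⟨n - D.ng, by omega⟩
    rwa [show D.ng + (n - D.ng) = n by omega] at this
  · rw [elem, dif_neg (by omega), dif_neg (by omega)]
    have := rep_uEl V (n - 2 * D.ng) (by omega)
    rwa [show 2 * D.ng + (n - 2 * D.ng) = n by omega] at this

lemma elem_inv {j : ℕ} (hj : j < D.ng) : elem V (D.ng + j) = (elem V j)⁻¹ := by
  have e1 : ¬ D.ng + j < D.ng := by omega
  have e2 : D.ng + j < 2 * D.ng := by omega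
  rw [elem, dif_neg e1, dif_pos e2, elem, dif_pos hj]
  simp only [Nat.add_sub_cancel_left]

/-- the transversal element of an orbit entry -/
noncomputable def uOf (i : ℕ) : Mono V := ((uWord i).map (elem V)).prod

/-- the subgroup of a level -/
noncomputable def lvH (k : ℕ) : Subgroup (Mono V) :=
  Subgroup.closure ({a | ∃ g ∈ D.gens k, a = elem V g} ∪ {Z V})

lemma lev_spec {k : ℕ} (hk : k < D.nlev) :
    (D.base k < D.m ∧ ∀ g ∈ D.gens k, g < D.ng) ∧
    D.findU k (D.base k) = some 0 ∧
    (∀ p ∈ D.pts k, p.1 < D.m ∧ ((p.2 = 0 ∧ p.1 = D.base k) ∨ ∃ i, p.2 = i + 1 ∧ 2 * D.ng ≤ i ∧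
      i < D.nE ∧ D.img i (D.base k) = p.1 ∧ (D.defs (i - 2 * D.ng)).1 ∈ D.gens k ∧
        ((D.defs (i - 2 * D.ng)).2 = 0 ∨ ∃ q ∈ D.pts k, q.2 = (D.defs (i - 2 * D.ng)).2))) ∧
    ((D.pts k).map Prod.fst).Nodup ∧
    (∀ p ∈ D.pts k, ∀ g ∈ D.gens k, ∃ e ∈ D.sch k, e.1 = g ∧ e.2.1 = p.1) ∧
    (∀ e ∈ D.sch k, e.1 < D.ng ∧ ∀ i ∈ e.2.2.2, ∃ l, k < l ∧ l < D.nlev ∧
      ∃ q ∈ D.pts l, q.2 = i + 1) ∧
    ∀ g ∈ D.gens (k + 1), ∃ e ∈ D.pick k, e.1 = g := by
  have h := List.all_eq_true.1 V.hlev k (List.mem_range.2 hk)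
  simp only [levChk, Bool.and_eq_true, List.all_eq_true, List.any_eq_true, decide_eq_true_eq,
    Nat.beq_eq, List.mem_range] at h
  obtain ⟨⟨⟨⟨⟨⟨⟨h1, h2⟩, h3⟩, h4⟩, h5⟩, h6⟩, h7⟩, h8⟩ := h
  refine ⟨⟨h1, h2⟩, ?_, fun p hp => ?_, h5, h6, fun e he => ?_, h8⟩
  · cases hf : D.findU k (D.base k) with
    | none => rw [hf] at h3; simp at h3
    | some j => rw [hf] at h3; simp at h3; rw [h3]
  · obtain ⟨a, b⟩ := h4 p hp
    refine ⟨a, ?_⟩
    obtain ⟨q, i⟩ := p
    cases i with
    | zero => exact Or.inl ⟨rfl, Nat.eq_of_beq_eq_true b⟩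
    | succ i =>
      simp only [Bool.and_eq_true, Bool.or_eq_true, decide_eq_true_eq, List.any_eq_true,
        Nat.beq_eq] at b
      obtain ⟨⟨⟨⟨b1, b2⟩, b3⟩, b4⟩, b5⟩ := b
      exact Or.inr ⟨i, rfl, b1, b2, b3, b4, b5⟩
  · obtain ⟨c1, c2⟩ := h7 e he
    refine ⟨c1, fun i hi => ?_⟩
    obtain ⟨l, hl, hkl, hq⟩ := c2 i hi
    exact ⟨l, hkl, hl, hq⟩

lemma gens_lt {k : ℕ} (hk : k ≤ D.nlev) {g : ℕ} (hg : g ∈ D.gens k) : g < D.ng := by
  rcases Nat.lt_or_ge k D.nlev with h | h
  · exact (lev_spec V h).1.2 g hg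
  · rw [show k = D.nlev by omega, V.hlast] at hg; simp at hg

lemma uEl_mem {k : ℕ} (hk : k < D.nlev) : ∀ i, (∃ q ∈ D.pts k, q.2 = i + 1) →
    2 * D.ng ≤ i ∧ i < D.nE ∧ elem V i ∈ lvH V k := by
  intro i
  induction i using Nat.strong_induction_on with
  | _ i ih =>
    rintro ⟨q, hq, e⟩
    rcases ((lev_spec V hk).2.2.1 q hq).2 with ⟨h0, -⟩ | ⟨i', hi', h7, h84, -, hg, hp⟩
    · omega
    obtain rfl : i' = i := by omega
    refine ⟨h7, h84, ?_⟩
    have hgn := (lev_spec V hk).1.2 _ hg
    have hmem : gen V ⟨_, hgn⟩ ∈ lvH V k := by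
      refine Subgroup.subset_closure (Or.inl ⟨_, hg, ?_⟩)
      rw [elem, dif_pos hgn]
    rw [elem, dif_neg (by omega), dif_neg (by omega), uEl, dif_pos hgn]
    refine mul_mem hmem ?_
    split_ifs with hc
    · obtain hp | ⟨q', hq', eq'⟩ := hp
      · omega
      · have hlt : (D.defs (i' - 2 * D.ng)).2 - 1 < i' := by omega
        have h := (ih _ hlt ⟨q', hq', by omega⟩).2.2
        rw [elem, dif_neg (by omega), dif_neg (by omega)] at h
        rwa [show (D.defs (i' - 2 * D.ng)).2 - (2 * D.ng + 1) =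
          (D.defs (i' - 2 * D.ng)).2 - 1 - 2 * D.ng by omega]
    · exact one_mem _

omit V in
lemma findU_mem {k q j : ℕ} (h : D.findU k q = some j) : (q, j) ∈ D.pts k := by
  rw [findU, Option.map_eq_some_iff] at h
  obtain ⟨p, hp, rfl⟩ := h
  have h1 := List.find?_some hp
  rw [Nat.beq_eq] at h1
  rw [← h1]
  exact List.mem_of_find?_eq_some hp

omit V in
lemma findU_some {k : ℕ} {p : ℕ × ℕ} (hp : p ∈ D.pts k) :
    ∃ j, D.findU k p.1 = some j ∧ (p.1, j) ∈ D.pts k := by
  have : ((D.pts k).find? fun a => Nat.beq a.1 p.1).isSome = true := by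
    rw [List.find?_isSome]; exact ⟨p, hp, Nat.beq_refl _⟩
  obtain ⟨a, ha⟩ := Option.isSome_iff_exists.1 this
  exact ⟨a.2, by rw [findU, ha]; rfl, findU_mem (by rw [findU, ha]; rfl)⟩

lemma uOf_spec {k : ℕ} (hk : k < D.nlev) {p : ℕ × ℕ} (hp : p ∈ D.pts k) :
    (∀ a ∈ uWord p.2, a < D.nE ∧ Rep V a (elem V a) ∧ elem V a ∈ lvH V k) ∧
      uOf V p.2 ∈ lvH V k ∧
      proj V (uOf V p.2) ⟨D.base k, (lev_spec V hk).1.1⟩ = ⟨p.1, ((lev_spec V hk).2.2.1 p hp).1⟩ := by
  obtain ⟨q, n⟩ := p
  rcases ((lev_spec V hk).2.2.1 _ hp).2 with ⟨h0, hb⟩ | ⟨i, hi, h7, h84, he, -, -⟩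
  · change n = 0 at h0
    subst h0
    simp only [uOf, uWord, List.not_mem_nil, List.map_nil, List.prod_nil]
    exact ⟨fun _ h => h.elim, one_mem _, Fin.ext (by rw [map_one]; exact hb.symm)⟩
  · change n = i + 1 at hi
    subst hi
    have hmem := (uEl_mem V hk i ⟨_, hp, rfl⟩).2.2
    simp only [uOf, uWord, List.mem_singleton, List.map_cons, List.map_nil, List.prod_cons, List.prod_nil,
      mul_one, forall_eq]
    exact ⟨⟨h84, rep_elem V h84, hmem⟩, hmem, Fin.ext (by rw [proj_rep V (rep_elem V h84)]; exact he)⟩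

lemma Z_mem_lvH (k : ℕ) : Z V ∈ lvH V k := Subgroup.subset_closure (Or.inr rfl)

lemma zpow_mem_lvH (k d : ℕ) : Z V ^ d ∈ lvH V k := pow_mem (Z_mem_lvH V k) d

theorem gen_succ_mem {k : ℕ} (hk : k < D.nlev) {g : ℕ} (hg : g ∈ D.gens (k + 1)) :
    elem V g ∈ lvH V k ∧
      proj V (elem V g) ⟨D.base k, (lev_spec V hk).1.1⟩ = ⟨D.base k, (lev_spec V hk).1.1⟩ := by
  obtain ⟨e, he, rfl⟩ := (lev_spec V hk).2.2.2.2.2.2 g hg
  have h := List.all_eq_true.1 (V.hpick k hk) e he
  simp only [pickChk, Bool.and_eq_true, decide_eq_true_eq, Nat.beq_eq] at h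
  obtain ⟨⟨hgk, hfix⟩, hm⟩ := h
  have he1 : e.1 < D.ng := gens_lt V (by omega) hg
  have he2 : e.2.1 < D.ng := gens_lt V (by omega) hgk
  have hr1 := rep_elem V (n := e.1) (by simp only [nE]; omega)
  refine ⟨?_, Fin.ext (by rw [proj_rep V hr1]; exact hfix)⟩
  rcases ha : D.findU k e.2.2.1 with _ | a
  · rw [ha] at hm; simp at hm
  rcases hb : D.findU k (D.img e.2.1 e.2.2.1) with _ | b
  · rw [ha, hb] at hm; simp at hm
  rw [ha, hb] at hm
  simp only at hm
  obtain ⟨wa, ma, -⟩ := uOf_spec V hk (findU_mem ha)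
  obtain ⟨wb, mb, -⟩ := uOf_spec V hk (findU_mem hb)
  have key := eq_of_eqW V (elem V) (fun n hn => by
      rcases List.mem_append.1 hn with hn | hn
      · exact (wb n hn).2.1
      · rw [List.mem_singleton] at hn; subst hn; exact hr1)
    (fun n hn => by
      rcases List.mem_cons.1 hn with rfl | hn
      · exact rep_elem V (by simp only [nE]; omega)
      · exact (wa n hn).2.1) hm
  rw [List.map_append, List.prod_append, List.map_cons, List.map_cons, List.map_nil, List.prod_cons,
    List.prod_nil, mul_one, List.prod_cons] at key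
  rw [eq_inv_mul_of_mul_eq key]
  exact mul_mem (inv_mem mb) (mul_mem (zpow_mem_lvH V k _)
    (mul_mem (Subgroup.subset_closure (Or.inl ⟨_, hgk, rfl⟩)) ma))

theorem lvH_succ_le {k : ℕ} (hk : k < D.nlev) : lvH V (k + 1) ≤ lvH V k := by
  rw [lvH, Subgroup.closure_le]
  rintro _ (⟨g, hg, rfl⟩ | rfl)
  · exact (gen_succ_mem V hk hg).1
  · exact Subgroup.subset_closure (Or.inr rfl)

theorem lvH_le {k l : ℕ} (hkl : k ≤ l) (hl : l ≤ D.nlev) : lvH V l ≤ lvH V k := by
  induction l with
  | zero => rw [show k = 0 by omega]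
  | succ l ih =>
    rcases Nat.lt_or_ge k (l + 1) with h | h
    · exact (lvH_succ_le V (by omega)).trans (ih (by omega) (by omega))
    · rw [show k = l + 1 by omega]

theorem stab_step {k : ℕ} (hk : k < D.nlev) :
    ∀ w ∈ lvH V k, proj V w ⟨D.base k, (lev_spec V hk).1.1⟩ = ⟨D.base k, (lev_spec V hk).1.1⟩ →
      w ∈ lvH V (k + 1) := by
  classical
  obtain ⟨⟨hb, hg7⟩, hbase, hpts, -, hcov, hchk, -⟩ := lev_spec V hk
  let P : Set (Fin D.m) := {x | ∃ p ∈ D.pts k, x.1 = p.1}
  let u : Fin D.m → Mono V := fun x => uOf V ((D.findU k x.1).getD 0)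
  have hu : ∀ x ∈ P, proj V (u x) ⟨D.base k, hb⟩ = x := by
    rintro x ⟨p, hp, e⟩
    obtain ⟨j, hj, hm⟩ := findU_some hp
    show proj V (uOf V ((D.findU k x.1).getD 0)) _ = _
    rw [e, hj, Option.getD_some]
    exact ((uOf_spec V hk hm).2.2).trans (Fin.ext e.symm)
  refine LiftChain.stab_le (proj V) P u ⟨_, findU_mem hbase, rfl⟩ ?_ hu ?_
  · show uOf V ((D.findU k (D.base k)).getD 0) ∈ _
    rw [hbase, Option.getD_some]
    simp [uOf, uWord]
  · rintro s (⟨g, hg, rfl⟩ | rfl) x ⟨p, hp, ex⟩
    · obtain ⟨e, he, eg, ep⟩ := hcov p hp g hg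
      have hc := List.all_eq_true.1 (V.hsch k hk) e he
      have hlt : g < D.nE := by have := hg7 g hg; simp only [nE]; omega
      obtain ⟨a, ha, hma⟩ := findU_some hp
      rw [schChk, eg, ep, ha] at hc
      rcases hb' : D.findU k (D.img g p.1) with _ | b'
      · rw [hb'] at hc; simp at hc
      rw [hb'] at hc
      simp only at hc
      have hmb := findU_mem hb'
      have hps : (proj V (elem V g) x).1 = D.img g p.1 := by rw [proj_rep V (rep_elem V hlt), ex]
      refine ⟨⟨_, hmb, hps⟩, ?_⟩
      show (uOf V ((D.findU k (proj V (elem V g) x).1).getD 0))⁻¹ * elem V g *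
        uOf V ((D.findU k x.1).getD 0) ∈ _
      rw [hps, ex, ha, hb', Option.getD_some, Option.getD_some]
      have hr : ∀ i ∈ e.2.2.2, i < D.nE ∧ elem V i ∈ lvH V (k + 1) := by
        intro i hi
        obtain ⟨l, hkl, hl, hq⟩ := (hchk e he).2 i hi
        obtain ⟨-, h84, hmem⟩ := uEl_mem V hl i hq
        exact ⟨h84, lvH_le V hkl (le_of_lt hl) hmem⟩
      have key := eq_of_eqW V (elem V) (fun n hn => by
          rcases List.mem_cons.1 hn with rfl | hn
          · exact rep_elem V hlt
          · exact ((uOf_spec V hk hma).1 n hn).2.1)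
        (fun n hn => by
          rcases List.mem_append.1 hn with hn | hn
          · exact ((uOf_spec V hk hmb).1 n hn).2.1
          · exact rep_elem V (hr n hn).1) hc
      rw [List.map_cons, List.prod_cons, List.map_append, List.prod_append] at key
      have hzc : ∀ y : Mono V, Commute y (Z V ^ e.2.2.1) := fun y =>
        Commute.pow_right (Z_central V y) _
      rw [mul_assoc (uOf V b')⁻¹]
      simp only [uOf]
      rw [key, ← mul_assoc (Z V ^ e.2.2.1), ← (hzc _).eq,
        mul_assoc ((uWord b').map (elem V)).prod, inv_mul_cancel_left]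
      refine mul_mem (zpow_mem_lvH V _ _) (list_prod_mem fun y hy => ?_)
      obtain ⟨i, hi, rfl⟩ := List.mem_map.1 hy
      exact (hr i hi).2
    · rw [proj_Z]
      refine ⟨⟨p, hp, ex⟩, ?_⟩
      rw [Equiv.Perm.one_apply, mul_assoc, ← Z_central, ← mul_assoc, inv_mul_cancel, one_mul]
      exact Subgroup.subset_closure (Or.inr rfl)

/-- the covering group -/
noncomputable def cover : Subgroup (Mono V) := lvH V 0

theorem ker_le_zpowers : ∀ w ∈ cover V, proj V w = 1 → w ∈ Subgroup.zpowers (Z V) := by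
  intro w hw h1
  let b : ℕ → Fin D.m := fun k => if h : k < D.nlev then ⟨D.base k, (lev_spec V h).1.1⟩ else ⟨0, V.hm⟩
  have := LiftChain.ker_le_bottom (proj V) (n := D.nlev) (lvH V) b
    (fun k hk => by simp only [b, dif_pos hk]; exact stab_step V hk) w hw h1
  rw [lvH, V.hlast] at this
  rw [Subgroup.zpowers_eq_closure]
  refine Subgroup.closure_mono ?_ this
  rintro x (⟨g, hg, -⟩ | hx)
  · simp at hg
  · exact hx

omit V in
/-- the product of the orbit lengths from a level on -/
def orbitProd (D : Data) : ℕ → ℕ → ℕ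
  | _, 0 => 1
  | k, n + 1 => (D.pts k).length * orbitProd D (k + 1) n

theorem card_map_ge : ∀ n k, k + n = D.nlev → orbitProd D k n ≤ Nat.card ((lvH V k).map (proj V)) := by
  intro n
  induction n with
  | zero => exact fun k _ => Nat.card_pos
  | succ n ih =>
    intro k hk
    have hk' : k < D.nlev := by omega
    obtain ⟨⟨hb, -⟩, -, hpts, hnd, -, -, -⟩ := lev_spec V hk'
    set A : Subgroup (Equiv.Perm (Fin D.m)) := (lvH V k).map (proj V)
    set bp : Fin D.m := ⟨D.base k, hb⟩
    have hB : (lvH V (k + 1)).map (proj V) ≤ A ⊓ MulAction.stabilizer _ bp := by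
      refine le_inf (Subgroup.map_mono (lvH_succ_le V hk')) ?_
      rw [lvH, MonoidHom.map_closure, Subgroup.closure_le]
      rintro _ ⟨_, ⟨g, hg, rfl⟩ | rfl, rfl⟩
      · exact (gen_succ_mem V hk' hg).2
      · show proj V (Z V) bp = bp; rw [proj_Z]; rfl
    have e2 : Nat.card ↥(MulAction.stabilizer A bp) = Nat.card ↥(A ⊓ MulAction.stabilizer _ bp) :=
      Nat.card_congr
        { toFun := fun g => ⟨g.1.1, g.1.2, g.2⟩
          invFun := fun g => ⟨⟨g.1, g.2.1⟩, g.2.2⟩
          left_inv := fun _ => rfl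
          right_inv := fun _ => rfl }
    have e1 : Nat.card ↥(MulAction.orbit A bp) * Nat.card ↥(MulAction.stabilizer A bp) = Nat.card A := by
      rw [← Nat.card_prod]
      exact Nat.card_congr (MulAction.orbitProdStabilizerEquivGroup A bp)
    have e3 : (D.pts k).length ≤ Nat.card ↥(MulAction.orbit A bp) := by
      let f : Fin (D.pts k).length → ↥(MulAction.orbit A bp) := fun i =>
        ⟨⟨((D.pts k).get i).1, (hpts _ (List.get_mem _ _)).1⟩,
          ⟨⟨_, Subgroup.mem_map_of_mem _ (uOf_spec V hk' (List.get_mem _ i)).2.1⟩,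
            (uOf_spec V hk' (List.get_mem _ i)).2.2⟩⟩
      have hf : Function.Injective f := by
        intro i j e
        have e' : ((D.pts k).get i).1 = ((D.pts k).get j).1 :=
          congrArg (fun z : ↥(MulAction.orbit A bp) => (z.1 : ℕ)) e
        have := List.Nodup.injective_get hnd
          (a₁ := ⟨i.1, by simp⟩) (a₂ := ⟨j.1, by simp⟩) (by simpa using e')
        exact Fin.ext (congrArg Fin.val this :)
      simpa using Nat.card_le_card_of_injective f hf
    rw [orbitProd, ← e1, e2]
    exact Nat.mul_le_mul e3 ((ih (k + 1) (by omega)).trans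
      (Nat.card_le_card_of_injective _ (Subgroup.inclusion_injective hB)))

omit V in
lemma prod_balanced {A : Type*} [CommGroup A] (ng : ℕ) (f : ℕ → A)
    (hf : ∀ j < ng, f (ng + j) = (f j)⁻¹) : ∀ w : List ℕ, (∀ i ∈ w, i < 2 * ng) →
      (w.map f).prod = ∏ j ∈ Finset.range ng, f j ^ ((w.count j : ℤ) - (w.count (ng + j) : ℤ)) := by
  intro w
  induction w with
  | nil => intro _; simp
  | cons a w ih =>
    intro h
    rw [List.map_cons, List.prod_cons, ih fun i hi => h i (List.mem_cons_of_mem _ hi)]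
    have ha := h a List.mem_cons_self
    obtain ⟨j, hj, ε, hε, hfa⟩ : ∃ j < ng, ∃ ε : ℤ, (∀ i < ng,
        ((a :: w).count i : ℤ) - ((a :: w).count (ng + i) : ℤ) =
          ((w.count i : ℤ) - (w.count (ng + i) : ℤ)) + if i = j then ε else 0) ∧ f a = f j ^ ε := by
      rcases Nat.lt_or_ge a ng with h' | h'
      · refine ⟨a, h', 1, fun i hi => ?_, (zpow_one _).symm⟩
        rw [List.count_cons_of_ne (show a ≠ ng + i by omega)]
        by_cases e : i = a
        · subst e; rw [List.count_cons_self, if_pos rfl]; push_cast; ring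
        · rw [List.count_cons_of_ne (Ne.symm e), if_neg e]; ring
      · refine ⟨a - ng, by omega, -1, fun i hi => ?_, ?_⟩
        · rw [List.count_cons_of_ne (show a ≠ i by omega)]
          by_cases e : i = a - ng
          · rw [if_pos e, show ng + i = a by omega, List.count_cons_self]; push_cast; ring
          · rw [List.count_cons_of_ne (show a ≠ ng + i by omega), if_neg e]; ring
        · rw [zpow_neg_one, ← hf (a - ng) (by omega), show ng + (a - ng) = a by omega]
    refine Eq.trans ?_ (Finset.prod_congr rfl fun i hi => by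
      rw [hε i (Finset.mem_range.1 hi), zpow_add]).symm
    rw [Finset.prod_mul_distrib, mul_comm (f a), hfa]
    congr 1
    rw [Finset.prod_eq_single j, if_pos rfl]
    · intro i _ hi; rw [if_neg hi, zpow_zero]
    · intro hh; exact absurd (Finset.mem_range.2 hj) hh

/-- The extension of a group with the same permutations of the blocks. -/
theorem exists_stem {G : Type} [Group G] [Finite G] (ρ : G →* Equiv.Perm (Fin D.m)) (X : ℕ → G)
    (hX : ∀ g ∈ D.gens 0, ∀ i : Fin D.m, ((ρ (X g) i : Fin D.m) : ℕ) = D.img g i)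
    (hgen : Subgroup.closure {x | ∃ g ∈ D.gens 0, x = X g} = ⊤)
    (hcard : Nat.card G ≤ orbitProd D 0 D.nlev) (w : List ℕ) {r : ℕ}
    (hw : (w.all (fun i => decide (i < 2 * D.ng) &&
        decide ((if i < D.ng then i else i - D.ng) ∈ D.gens 0)) &&
      (List.range D.ng).all (fun j => Nat.beq (w.count j) (w.count (D.ng + j))) && D.eqW r w []) = true)
    (hr : Nat.Coprime r D.c) :
    Function.Injective ρ ∧ ∃ (Γ : Type) (_ : Group Γ) (_ : Finite Γ) (σ : Γ →* G),
      Cfsg.IsStemExtension σ ∧ Nonempty (σ.ker ≃* Multiplicative (ZMod D.c)) := by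
  simp only [Bool.and_eq_true, List.all_eq_true, List.mem_range, Nat.beq_eq, decide_eq_true_eq] at hw
  classical
  obtain ⟨⟨hmem, hbal⟩, heq⟩ := hw
  have hzero : ∀ g ∈ D.gens 0, g < D.ng := fun g hg => gens_lt V (Nat.zero_le _) hg
  have hproj : ∀ g ∈ D.gens 0, proj V (elem V g) = ρ (X g) := fun g hg => Equiv.ext fun i =>
    Fin.ext (by rw [proj_rep V (rep_elem V (by have := hzero g hg; simp only [nE]; omega)), hX g hg i])
  set Q : Subgroup (Equiv.Perm (Fin D.m)) := (cover V).map (proj V) with hQ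
  have hrange : ρ.range = Q := by
    rw [MonoidHom.range_eq_map, ← hgen, MonoidHom.map_closure, hQ, cover, lvH, MonoidHom.map_closure]
    refine le_antisymm (Subgroup.closure_mono ?_) ((Subgroup.closure_le _).2 ?_)
    · rintro _ ⟨_, ⟨g, hg, rfl⟩, rfl⟩
      exact ⟨_, Or.inl ⟨g, hg, rfl⟩, hproj g hg⟩
    · rintro _ ⟨_, ⟨g, hg, rfl⟩ | rfl, rfl⟩
      · exact Subgroup.subset_closure ⟨_, ⟨g, hg, rfl⟩, (hproj g hg).symm⟩
      · rw [proj_Z]; exact one_mem _
  have hinj : Function.Injective ρ := by
    have hle : Nat.card G ≤ Nat.card ρ.range := by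
      rw [hrange]; exact hcard.trans (card_map_ge V D.nlev 0 (Nat.zero_add _))
    have hge : Nat.card ρ.range ≤ Nat.card G := Nat.card_le_card_of_surjective _ ρ.rangeRestrict_surjective
    have hbij := (Nat.bijective_iff_surjective_and_card ρ.rangeRestrict).2
      ⟨ρ.rangeRestrict_surjective, le_antisymm hle hge⟩
    intro a b e
    exact hbij.1 (Subtype.ext e)
  refine ⟨hinj, ?_⟩
  let e : G ≃* Q := (MonoidHom.ofInjective hinj).trans (MulEquiv.subgroupCongr hrange)
  let π : ↥(cover V) →* Q := (proj V).subgroupMap (cover V)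
  let σ : ↥(cover V) →* G := e.symm.toMonoidHom.comp π
  have hσsurj : Function.Surjective σ := e.symm.surjective.comp ((proj V).subgroupMap_surjective _)
  have hZ : Z V ∈ cover V := Subgroup.subset_closure (Or.inr rfl)
  set z : ↥(cover V) := ⟨Z V, hZ⟩ with hz
  have hker : σ.ker = Subgroup.zpowers z := by
    refine le_antisymm (fun x hx => ?_) ?_
    · have hx' : π x = 1 := e.symm.injective (by rw [map_one]; exact hx)
      obtain ⟨k, hk⟩ := Subgroup.mem_zpowers_iff.1
        (ker_le_zpowers V x.1 x.2 (congrArg Subtype.val hx'))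
      exact Subgroup.mem_zpowers_iff.2 ⟨k, Subtype.ext hk⟩
    · rw [Subgroup.zpowers_le, MonoidHom.mem_ker]
      show e.symm (π z) = 1
      rw [show π z = 1 from Subtype.ext (proj_Z V), map_one]
  have hord : orderOf z = D.c := by rw [← Subgroup.orderOf_coe]; exact orderOf_Z V
  have hwr : z ^ r ∈ commutator ↥(cover V) := by
    let f : ℕ → ↥(cover V) := fun i => if h : elem V i ∈ cover V then ⟨_, h⟩ else 1
    have hin : ∀ i ∈ w, elem V i ∈ cover V := by
      intro i hi
      obtain ⟨h1, h2⟩ := hmem i hi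
      rcases Nat.lt_or_ge i D.ng with h | h
      · rw [if_pos h] at h2; exact Subgroup.subset_closure (Or.inl ⟨i, h2, rfl⟩)
      · rw [if_neg (by omega)] at h2
        rw [show i = D.ng + (i - D.ng) by omega, elem_inv V (by omega)]
        exact inv_mem (Subgroup.subset_closure (Or.inl ⟨_, h2, rfl⟩))
    have e1 : z ^ r = (w.map f).prod := Subtype.ext (by
      rw [SubmonoidClass.coe_pow, Subgroup.val_list_prod, List.map_map]
      have := eq_of_eqW V (elem V) (d := r) (l := w) (r := []) (fun n hn => rep_elem V (by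
        have := (hmem n hn).1; simp only [nE]; omega)) (by simp) heq
      rw [List.map_nil, List.prod_nil, mul_one] at this
      rw [← this]
      exact congrArg List.prod (List.map_congr_left fun i hi => by
        simp only [Function.comp, f, dif_pos (hin i hi)]).symm)
    rw [e1, ← Abelianization.ker_of, MonoidHom.mem_ker, map_list_prod, List.map_map,
      prod_balanced D.ng (Abelianization.of ∘ f) ?_ w fun i hi => (hmem i hi).1]
    · exact Finset.prod_eq_one fun j hj => by rw [hbal j (Finset.mem_range.1 hj), sub_self, zpow_zero]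
    · intro j hj
      simp only [Function.comp, ← map_inv]
      congr 1
      have e2 := elem_inv V hj
      by_cases h : elem V j ∈ cover V
      · have h' : elem V (D.ng + j) ∈ cover V := by rw [e2]; exact inv_mem h
        simp only [f, dif_pos h, dif_pos h']
        exact Subtype.ext e2
      · have h' : elem V (D.ng + j) ∉ cover V := by
          rw [e2]; exact fun hh => h (by simpa using inv_mem hh)
        simp only [f, dif_neg h, dif_neg h', inv_one]
  have hzc : z ∈ commutator ↥(cover V) := by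
    have hg : (Nat.gcd r (orderOf z) : ℤ) = 1 := by rw [hord, hr]; rfl
    have : z = (z ^ r) ^ Nat.gcdA r (orderOf z) := by
      have h2 := Nat.gcd_eq_gcd_ab r (orderOf z)
      rw [hg] at h2
      rw [← zpow_natCast z r, ← zpow_mul]
      conv_lhs => rw [← zpow_one z, h2, zpow_add, zpow_mul z (orderOf z : ℤ), zpow_natCast,
        pow_orderOf_eq_one, one_zpow, mul_one]
    rw [this]; exact zpow_mem hwr _
  refine ⟨↥(cover V), inferInstance, inferInstance, σ, ⟨hσsurj, ?_, ?_⟩, ⟨?_⟩⟩
  · rw [hker, Subgroup.zpowers_le, Subgroup.mem_center_iff]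
    exact fun x => Subtype.ext (Z_central V x.1)
  · rw [hker, Subgroup.zpowers_le]; exact hzc
  · haveI : IsCyclic σ.ker := by rw [hker]; infer_instance
    exact mulEquivOfCyclicCardEq (by
      rw [hker, Nat.card_zpowers, hord, Nat.card_congr Multiplicative.toAdd, Nat.card_zmod])

end Data

end CfsgLib.Schur.MonoCover
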