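import Mathlib
import Cfsg.Prelude.Def_KGroupFacts
import Cfsg.Agent.Lib.Schur.CyclicBound
import Cfsg.Agent.Lib.Schur.MonoCover

/-!
# Fibre products of three stem extensions

One kernel of order prime to `p` and two kernels of order `p`, told apart by a balanced word; and
kernels spanned by three elements.
-/

set_option autoImplicit false
set_option linter.style.haveILetI false

open scoped commutatorElement

namespace CfsgLib.Schur.Triple

universe u v w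

variable {G : Type u} [Group G]

/-- The image of a stem extension under an isomorphism. -/
theorem isStem_comp {H : Type v} [Group H] {Γ : Type w} [Group Γ] (e : H ≃* G) {σ : Γ →* H}
    (hσ : Cfsg.IsStemExtension σ) :
    Cfsg.IsStemExtension (e.toMonoidHom.comp σ) ∧ (e.toMonoidHom.comp σ).ker = σ.ker := by
  have hk : (e.toMonoidHom.comp σ).ker = σ.ker := by
    ext x
    simp only [MonoidHom.mem_ker, MonoidHom.comp_apply, MulEquiv.coe_toMonoidHom]
    exact e.map_eq_one_iff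
  exact ⟨⟨e.surjective.comp hσ.1, hk.symm ▸ hσ.2.1, hk.symm ▸ hσ.2.2⟩, hk⟩

/-- Commutators lift along surjections. -/
theorem exists_mem_commutator {A : Type v} {H : Type w} [Group A] [Group H] (q : A →* H)
    (hq : Function.Surjective q) {h : H} (hh : h ∈ commutator H) : ∃ d ∈ commutator A, q d = h := by
  have e : (commutator A).map q = commutator H := by
    rw [commutator_def, Subgroup.map_commutator, Subgroup.map_top_of_surjective q hq, ← commutator_def]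
  rw [← e] at hh
  exact hh

/-- The fibre product is a stem extension with the product of the kernels as kernel. -/
theorem exists_stem_triple {Γ₁ : Type u} {Γ₂ Γ₃ : Type v} [Group Γ₁] [Finite Γ₁] [Group Γ₂] [Finite Γ₂]
    [Group Γ₃] [Finite Γ₃] {σ₁ : Γ₁ →* G} {σ₂ : Γ₂ →* G} {σ₃ : Γ₃ →* G}
    (h₁ : Cfsg.IsStemExtension σ₁) (h₂ : Cfsg.IsStemExtension σ₂) (h₃ : Cfsg.IsStemExtension σ₃)
    {p : ℕ} (hp : p.Prime) (hco : (Nat.card σ₁.ker).Coprime p) (hc₂ : Nat.card σ₂.ker = p)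
    (hc₃ : Nat.card σ₃.ker = p) (ng : ℕ) (v : List ℕ) (e₂ : ℕ → Γ₂) (e₃ : ℕ → Γ₃)
    (hv : ∀ i ∈ v, i < 2 * ng ∧
      σ₂ (e₂ (if i < ng then i else i - ng)) = σ₃ (e₃ (if i < ng then i else i - ng)) ∧
      (ng ≤ i → e₂ i = (e₂ (i - ng))⁻¹ ∧ e₃ i = (e₃ (i - ng))⁻¹))
    (hbal : ∀ j < ng, v.count j = v.count (ng + j))
    (h2v : (v.map e₂).prod = 1) (h3v : (v.map e₃).prod ≠ 1) :
    ∃ (Γ : Type (max u v)) (_ : Group Γ) (_ : Finite Γ) (σ : Γ →* G),
      Cfsg.IsStemExtension σ ∧ Nonempty (σ.ker ≃* σ₁.ker × σ₂.ker × σ₃.ker) := by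
  classical
  haveI := Fact.mk hp
  let P : Subgroup (Γ₁ × Γ₂ × Γ₃) :=
    { carrier := {x | σ₁ x.1 = σ₂ x.2.1 ∧ σ₂ x.2.1 = σ₃ x.2.2}
      one_mem' := by simp
      mul_mem' := by
        rintro x y ⟨a, b⟩ ⟨c, d⟩
        exact ⟨by simp [a, c], by simp [b, d]⟩
      inv_mem' := by
        rintro x ⟨a, b⟩
        exact ⟨by simp [a], by simp [b]⟩ }
  let q₁ : P →* Γ₁ := (MonoidHom.fst _ _).comp P.subtype
  let q₂ : P →* Γ₂ := ((MonoidHom.fst _ _).comp (MonoidHom.snd _ _)).comp P.subtype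
  let q₃ : P →* Γ₃ := ((MonoidHom.snd _ _).comp (MonoidHom.snd _ _)).comp P.subtype
  let τ : P →* G := σ₁.comp q₁
  have hmk : ∀ (x : G), ∃ a b c, σ₁ a = x ∧ σ₂ b = x ∧ σ₃ c = x := fun x => by
    obtain ⟨a, ha⟩ := h₁.1 x
    obtain ⟨b, hb⟩ := h₂.1 x
    obtain ⟨c, hc⟩ := h₃.1 x
    exact ⟨a, b, c, ha, hb, hc⟩
  have hs₁ : Function.Surjective q₁ := fun a => by
    obtain ⟨-, b, c, -, hb, hc⟩ := hmk (σ₁ a)
    exact ⟨⟨(a, b, c), hb.symm, hb.trans hc.symm⟩, rfl⟩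
  have hs₂ : Function.Surjective q₂ := fun b => by
    obtain ⟨a, -, c, ha, -, hc⟩ := hmk (σ₂ b)
    exact ⟨⟨(a, b, c), ha, hc.symm⟩, rfl⟩
  have hτs : Function.Surjective τ := h₁.1.comp hs₁
  have hkmem : ∀ x : P, x ∈ τ.ker ↔ x.1.1 ∈ σ₁.ker ∧ x.1.2.1 ∈ σ₂.ker ∧ x.1.2.2 ∈ σ₃.ker := fun x => by
    obtain ⟨a, b⟩ := x.2
    simp only [MonoidHom.mem_ker]
    constructor
    · intro h
      have h' : σ₁ x.1.1 = 1 := h
      exact ⟨h', a ▸ h', b ▸ a ▸ h'⟩
    · exact fun h => h.1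
  let D : Subgroup P := commutator P
  have hpw₂ : ∀ b ∈ σ₂.ker, b ^ p = 1 := fun b hb => by
    have := pow_card_eq_one' (x := (⟨b, hb⟩ : σ₂.ker))
    rw [hc₂] at this
    exact congrArg Subtype.val this
  have hpw₃ : ∀ b ∈ σ₃.ker, b ^ p = 1 := fun b hb => by
    have := pow_card_eq_one' (x := (⟨b, hb⟩ : σ₃.ker))
    rw [hc₃] at this
    exact congrArg Subtype.val this
  have hK₁ : ∀ a ∈ σ₁.ker, ∃ d ∈ D, (d : Γ₁ × Γ₂ × Γ₃) = (a, 1, 1) := fun a ha => by
    obtain ⟨m, hm⟩ := exists_pow_eq_self_of_coprime (x := (⟨a, ha⟩ : σ₁.ker)) (n := p)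
      ((hco.coprime_dvd_left (orderOf_dvd_natCard _)).symm)
    obtain ⟨d, hd, e⟩ := exists_mem_commutator q₁ hs₁ (h₁.2.2 ha)
    have hk := (hkmem d).1 (show σ₁ (q₁ d) = 1 by rw [e]; exact ha)
    refine ⟨(d ^ p) ^ m, pow_mem (pow_mem hd p) m, Prod.ext ?_ (Prod.ext ?_ ?_)⟩
    · have h' : ((a ^ p) ^ m : Γ₁) = a := congrArg Subtype.val hm
      show (d.1.1 ^ p) ^ m = a
      rw [show d.1.1 = a from e, h']
    · show (d.1.2.1 ^ p) ^ m = 1
      rw [hpw₂ _ hk.2.1, one_pow]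
    · show (d.1.2.2 ^ p) ^ m = 1
      rw [hpw₃ _ hk.2.2, one_pow]
  -- the word
  let t : ℕ → P := fun j => if h : σ₂ (e₂ j) = σ₃ (e₃ j) then
    ⟨((h₁.1 (σ₂ (e₂ j))).choose, e₂ j, e₃ j), (h₁.1 (σ₂ (e₂ j))).choose_spec, h⟩ else 1
  let f : ℕ → P := fun i => if i < ng then t i else (t (i - ng))⁻¹
  have hfD : (v.map f).prod ∈ D := by
    rw [show D = commutator P from rfl, ← Abelianization.ker_of, MonoidHom.mem_ker, map_list_prod,
      List.map_map, MonoCover.Data.prod_balanced ng (Abelianization.of ∘ f) ?_ v fun i hi => (hv i hi).1]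
    · exact Finset.prod_eq_one fun j hj => by rw [hbal j (Finset.mem_range.1 hj), sub_self, zpow_zero]
    · intro j hj
      simp only [Function.comp, f, if_pos hj, if_neg (show ¬ ng + j < ng by omega), Nat.add_sub_cancel_left,
        map_inv]
  have hf₂ : q₂ (v.map f).prod = 1 ∧ q₃ (v.map f).prod = (v.map e₃).prod := by
    have key : ∀ i ∈ v, q₂ (f i) = e₂ i ∧ q₃ (f i) = e₃ i := fun i hi => by
      obtain ⟨-, hc, hinv⟩ := hv i hi
      by_cases h : i < ng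
      · rw [if_pos h] at hc
        simp only [f, if_pos h, t, dif_pos hc]
        exact ⟨rfl, rfl⟩
      · rw [if_neg h] at hc
        simp only [f, if_neg h, t, dif_pos hc, map_inv]
        obtain ⟨u₂, u₃⟩ := hinv (not_lt.1 h)
        exact ⟨u₂.symm, u₃.symm⟩
    constructor
    · rw [map_list_prod, List.map_map,
        List.map_congr_left (f := q₂ ∘ f) (g := e₂) fun i hi => (key i hi).1]
      exact h2v
    · rw [map_list_prod, List.map_map]
      exact congrArg List.prod (List.map_congr_left fun i hi => (key i hi).2)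
  have hK₃ : ∀ c ∈ σ₃.ker, ∃ d ∈ D, (d : Γ₁ × Γ₂ × Γ₃) = (1, 1, c) := fun c hc => by
    set d := (v.map f).prod
    have hd2 : d.1.2.1 = 1 := hf₂.1
    have hk : d ∈ τ.ker := by
      show σ₁ d.1.1 = 1
      rw [d.2.1, hd2, map_one]
    obtain ⟨hk1, -, hk3⟩ := (hkmem d).1 hk
    obtain ⟨d', hd', e'⟩ := hK₁ _ (inv_mem hk1)
    let z : σ₃.ker := ⟨d.1.2.2, hk3⟩
    have hz : z ≠ 1 := fun e => h3v (hf₂.2.symm.trans (congrArg Subtype.val e))
    obtain ⟨m, hm⟩ := Submonoid.mem_powers_iff _ _ |>.1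
      ((mem_powers_iff_mem_zpowers).2 (mem_zpowers_of_prime_card hc₃ hz : (⟨c, hc⟩ : σ₃.ker) ∈ _))
    refine ⟨(d' * d) ^ m, pow_mem (mul_mem hd' hfD) m, ?_⟩
    have h' : (d.1.2.2 : Γ₃) ^ m = c := congrArg Subtype.val hm
    rw [SubmonoidClass.coe_pow, Subgroup.coe_mul, e']
    refine Prod.ext ?_ (Prod.ext ?_ ?_)
    · show (d.1.1⁻¹ * d.1.1) ^ m = 1
      rw [inv_mul_cancel, one_pow]
    · show (1 * d.1.2.1) ^ m = 1
      rw [hd2, one_mul, one_pow]
    · show (1 * d.1.2.2) ^ m = c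
      rw [one_mul, h']
  have hK : ∀ x ∈ τ.ker, x ∈ D := fun x hx => by
    obtain ⟨hx1, hx2, hx3⟩ := (hkmem x).1 hx
    obtain ⟨d, hd, e⟩ := exists_mem_commutator q₂ hs₂ (h₂.2.2 hx2)
    have hk := (hkmem d).1 (show σ₁ d.1.1 = 1 by rw [d.2.1, show d.1.2.1 = x.1.2.1 from e]; exact hx2)
    obtain ⟨a, ha, ea⟩ := hK₁ _ (mul_mem hx1 (inv_mem hk.1))
    obtain ⟨c, hc, ec⟩ := hK₃ _ (mul_mem hx3 (inv_mem hk.2.2))
    have : x = a * c * d := Subtype.ext (by
      rw [Subgroup.coe_mul, Subgroup.coe_mul, ea, ec]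
      refine Prod.ext ?_ (Prod.ext ?_ ?_)
      · show x.1.1 = x.1.1 * d.1.1⁻¹ * 1 * d.1.1
        rw [mul_one, inv_mul_cancel_right]
      · show x.1.2.1 = 1 * 1 * d.1.2.1
        rw [one_mul, one_mul]
        exact e.symm
      · show x.1.2.2 = 1 * (x.1.2.2 * d.1.2.2⁻¹) * d.1.2.2
        rw [one_mul, inv_mul_cancel_right])
    rw [this]
    exact mul_mem (mul_mem ha hc) hd
  refine ⟨P, inferInstance, inferInstance, τ, ⟨hτs, fun x hx => ?_, hK⟩, ⟨?_⟩⟩
  · obtain ⟨a, b, c⟩ := (hkmem x).1 hx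
    exact Subgroup.mem_center_iff.2 fun y => Subtype.ext (Prod.ext (Subgroup.mem_center_iff.1 (h₁.2.1 a) _)
      (Prod.ext (Subgroup.mem_center_iff.1 (h₂.2.1 b) _) (Subgroup.mem_center_iff.1 (h₃.2.1 c) _)))
  · exact
      { toFun := fun x => (⟨x.1.1.1, ((hkmem _).1 x.2).1⟩, ⟨x.1.1.2.1, ((hkmem _).1 x.2).2.1⟩,
          ⟨x.1.1.2.2, ((hkmem _).1 x.2).2.2⟩)
        invFun := fun y => ⟨⟨(y.1.1, y.2.1.1, y.2.2.1),
          (MonoidHom.mem_ker.1 y.1.2).trans (MonoidHom.mem_ker.1 y.2.1.2).symm,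
          (MonoidHom.mem_ker.1 y.2.1.2).trans (MonoidHom.mem_ker.1 y.2.2.2).symm⟩,
          MonoidHom.mem_ker.1 y.1.2⟩
        left_inv := fun x => rfl
        right_inv := fun y => rfl
        map_mul' := fun x y => rfl }

variable {Γ : Type v} [Group Γ]

/-- A kernel lying, prime by prime, in a subgroup. -/
theorem ker_le_of_local [Finite Γ] {σ : Γ →* G} (hσ : Cfsg.IsStemExtension σ) (H : Subgroup Γ)
    (h : ∀ ℓ : ℕ, ℓ.Prime → ∃ U : Subgroup G, ¬ ℓ ∣ U.index ∧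
      ∀ z ∈ σ.ker, z ∈ ⁅U.comap σ, U.comap σ⁆ → z ∈ H) : σ.ker ≤ H := by
  suffices Hn : ∀ n : ℕ, n ≠ 0 → ∀ z ∈ σ.ker, z ^ n = 1 → z ∈ H by
    intro z hz
    exact Hn (orderOf z) (orderOf_pos z).ne' z hz (pow_orderOf_eq_one z)
  intro n
  induction n using Nat.recOnPrimeCoprime with
  | zero => exact fun h0 => absurd rfl h0
  | prime_pow p a hp =>
    intro _ z hz hza
    obtain ⟨U, hU, hUz⟩ := h p hp
    exact hUz z hz (mem_commutator_preimage hσ.1 hp hz (hσ.2.1 hz) (hσ.2.2 hz) hza U hU)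
  | coprime a b ha hb hab iha ihb =>
    intro _ z hz hzab
    have h1 : z = (z ^ b) ^ (Nat.gcdB a b) * (z ^ a) ^ (Nat.gcdA a b) := by
      have e := Nat.gcd_eq_gcd_ab a b
      rw [hab.gcd_eq_one] at e
      rw [← zpow_natCast z b, ← zpow_natCast z a, ← zpow_mul, ← zpow_mul, ← zpow_add, add_comm, ← e,
        Nat.cast_one, zpow_one]
    rw [h1]
    refine mul_mem (zpow_mem ?_ _) (zpow_mem ?_ _)
    · refine iha (by omega) _ (pow_mem hz b) ?_
      rw [← pow_mul, mul_comm, hzab]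
    · refine ihb (by omega) _ (pow_mem hz a) ?_
      rw [← pow_mul, hzab]

/-- Powers of an element killed by `n`, as a homomorphism. -/
def powZ {K : Type*} [Monoid K] {n : ℕ} [NeZero n] (x : K) (hx : x ^ n = 1) :
    Multiplicative (ZMod n) →* K :=
  { toFun := fun a => x ^ (Multiplicative.toAdd a).val
    map_one' := by rw [toAdd_one, ZMod.val_zero, pow_zero]
    map_mul' := fun a b => by rw [← pow_add, toAdd_mul, ZMod.val_add, ← pow_eq_pow_mod _ hx] }

theorem powZ_one {K : Type*} [Monoid K] {n : ℕ} [NeZero n] [Fact (1 < n)] (x : K) (hx : x ^ n = 1) :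
    powZ x hx (Multiplicative.ofAdd 1) = x := by
  simp [powZ, ZMod.val_one]

/-- A surjection onto a kernel spanned by three elements of given exponents. -/
theorem exists_surjection {σ : Γ →* G} (hc : σ.ker ≤ Subgroup.center Γ) {k l m : ℕ} [Fact (1 < k)]
    [Fact (1 < l)] [Fact (1 < m)] {a b c : Γ} (ha : a ∈ σ.ker) (hb : b ∈ σ.ker) (hc' : c ∈ σ.ker)
    (hak : a ^ k = 1) (hbl : b ^ l = 1) (hcm : c ^ m = 1)
    (hle : σ.ker ≤ Subgroup.closure {a, b, c}) :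
    ∃ π : Multiplicative (ZMod k × ZMod l × ZMod m) →* σ.ker, Function.Surjective π := by
  haveI : NeZero k := ⟨by have := (Fact.out : 1 < k); omega⟩
  haveI : NeZero l := ⟨by have := (Fact.out : 1 < l); omega⟩
  haveI : NeZero m := ⟨by have := (Fact.out : 1 < m); omega⟩
  letI : CommGroup σ.ker :=
    { (inferInstance : Group σ.ker) with
      mul_comm := fun x y => Subtype.ext (Subgroup.mem_center_iff.mp (hc y.2) x.1) }
  let A : σ.ker := ⟨a, ha⟩
  let B : σ.ker := ⟨b, hb⟩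
  let C : σ.ker := ⟨c, hc'⟩
  let fA := powZ A (n := k) (Subtype.ext hak)
  let fB := powZ B (n := l) (Subtype.ext hbl)
  let fC := powZ C (n := m) (Subtype.ext hcm)
  let p₁ : Multiplicative (ZMod k × ZMod l × ZMod m) →* Multiplicative (ZMod k) :=
    AddMonoidHom.toMultiplicative (AddMonoidHom.fst _ _)
  let p₂ : Multiplicative (ZMod k × ZMod l × ZMod m) →* Multiplicative (ZMod l) :=
    AddMonoidHom.toMultiplicative ((AddMonoidHom.fst _ _).comp (AddMonoidHom.snd _ _))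
  let p₃ : Multiplicative (ZMod k × ZMod l × ZMod m) →* Multiplicative (ZMod m) :=
    AddMonoidHom.toMultiplicative ((AddMonoidHom.snd _ _).comp (AddMonoidHom.snd _ _))
  let π := fA.comp p₁ * fB.comp p₂ * fC.comp p₃
  refine ⟨π, fun z => ?_⟩
  have key : Subgroup.closure ({a, b, c} : Set Γ) ≤ π.range.map σ.ker.subtype := by
    rw [Subgroup.closure_le]
    rintro g (rfl | rfl | rfl)
    · refine ⟨A, ⟨Multiplicative.ofAdd (1, 0, 0), ?_⟩, rfl⟩
      show fA (Multiplicative.ofAdd 1) * fB 1 * fC 1 = A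
      simp only [map_one fB, map_one fC, mul_one]; exact powZ_one _ _
    · refine ⟨B, ⟨Multiplicative.ofAdd (0, 1, 0), ?_⟩, rfl⟩
      show fA 1 * fB (Multiplicative.ofAdd 1) * fC 1 = B
      simp only [map_one fA, map_one fC, one_mul, mul_one]; exact powZ_one _ _
    · refine ⟨C, ⟨Multiplicative.ofAdd (0, 0, 1), ?_⟩, rfl⟩
      show fA 1 * fB 1 * fC (Multiplicative.ofAdd 1) = C
      simp only [map_one fA, map_one fB, one_mul]; exact powZ_one _ _
  obtain ⟨y, ⟨x, hx⟩, hy⟩ := key (hle z.2)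
  exact ⟨x, hx.trans (Subtype.ext hy)⟩

end CfsgLib.Schur.Triple
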