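import Cfsg.Agent.Lib.Schur.LinearTable

/-!
The check of a linear table cut into pieces, so that each kernel computation stays small.
-/

set_option autoImplicit false

namespace CfsgLib.Schur.LinTable

namespace Tab

variable (T : Tab)

/-- what the trivial edges teach -/
def treeKnown (l : List (ℕ × ℕ)) (K : ℕ) : ℕ := l.foldl (fun K c => learn K c.1 c.2) K

/-- what the deductions teach -/
def certKnown (l : List (ℕ × ℕ × ℕ)) (K : ℕ) : ℕ :=
  l.foldl (fun K c =>
    learn K ((T.word c.1).getD c.2.2 0) (T.wEnd ((T.word c.1).drop (c.2.2 + 1)) c.2.1)) K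

/-- the known edges before the piece number `i` of length `n` -/
def knownAt (n i : ℕ) : ℕ := T.certKnown (T.cert.take (n * i)) (treeKnown T.tree 0)

/-- the deductions of one piece -/
def runPieceOK (n i : ℕ) : Bool :=
  decide (T.run ((T.cert.drop (n * i)).take n) (T.knownAt n i) = some (T.knownAt n (i + 1)))

/-- the last check at one element -/
def edgeOK (K i : ℕ) : Bool :=
  (List.range T.k).all fun j =>
    K.testBit (8 * i + j) && decide (T.tab j i < T.N) &&
      (List.range T.k).all fun c => decide (T.expv c (T.E j i) +
        ((T.path (T.tab j i)).count c : ℤ) = ((T.path i).count c : ℤ) + if j = c then 1 else 0)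

/-- the remaining checks -/
def restOK : Bool :=
  decide (T.k ≤ 8) && decide (0 < T.N) && T.path 0 == [] &&
    decide (T.treeRun T.tree 0 = some (treeKnown T.tree 0)) &&
  (List.range T.N).all fun t => (T.path t).all (fun j => decide (j < T.k)) &&
    decide (T.invOf t < T.N) && T.wEnd (T.path (T.invOf t)) t == 0 && T.wEnd (T.path t) 0 == t

theorem run_append : ∀ (a b : List (ℕ × ℕ × ℕ)) (K : ℕ),
    T.run (a ++ b) K = (T.run a K).bind (T.run b)
  | [], _, _ => rfl
  | c :: a, b, K => by
    simp only [List.cons_append, run]
    cases T.step K c with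
    | none => rfl
    | some K' => exact run_append a b K'

theorem run_take {n : ℕ} : ∀ i, (∀ j < i, T.runPieceOK n j = true) →
    T.run (T.cert.take (n * i)) (T.knownAt n 0) = some (T.knownAt n i)
  | 0, _ => by simp [run]
  | i + 1, h => by
    rw [Nat.mul_succ, List.take_add, run_append, run_take i fun j hj => h j (by omega),
      Option.bind_some]
    exact of_decide_eq_true (h i (by omega))

theorem ok_of_pieces {n m : ℕ} (h : T.restOK = true) (hlen : T.cert.length ≤ n * m)
    (hrun : ∀ i < m, T.runPieceOK n i = true)
    (hedge : (List.range T.N).all (T.edgeOK (T.knownAt n m)) = true) : T.ok = true := by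
  simp only [restOK, Bool.and_eq_true, decide_eq_true_eq] at h
  obtain ⟨⟨hhead, htree⟩, htail⟩ := h
  have hr := run_take T m hrun
  rw [List.take_of_length_le hlen] at hr
  have h0 : T.knownAt n 0 = treeKnown T.tree 0 := by simp [knownAt, certKnown]
  rw [h0] at hr
  simp only [ok, htree, hr, Bool.and_eq_true, decide_eq_true_eq]
  refine ⟨⟨hhead, ?_⟩, htail⟩
  simp only [edgeOK, List.all_eq_true, Bool.and_eq_true, decide_eq_true_eq] at hedge ⊢
  exact fun j hj i hi => hedge i hi j hj

end Tab

end CfsgLib.Schur.LinTable
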