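import Mathlib
import Cfsg.Prelude.Def_KGroupFacts
import Cfsg.Agent.Lib.Chev.StMultiplier
import Cfsg.Agent.Lib.Chev.StCenterE
import Cfsg.Agent.Lib.Chev.OrderData
import Cfsg.Agent.Lib.Classical.SympTrans
import Cfsg.Agent.Lib.Classical.SympOrder

/-!
# `Sp_4(q)`, `q ≥ 3`, is the cover of type B2, so its Schur multiplier is trivial
-/

set_option autoImplicit false
set_option maxRecDepth 100000
set_option linter.unusedSectionVars false

namespace CfsgLib.Schur.SpFour

open CfsgLib.Classical.SympTrans Cfsg.Lie Matrix CfsgLib.Chev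
open scoped commutatorElement

variable {F : Type*} [Field F]

local notation "ω" => Cfsg.sympForm _ _
local notation "V4" => (Fin 2 ⊕ Fin 2 → F)

/-- First basis vectors. -/
def aV (F : Type*) [Field F] (i : Fin 2) : Fin 2 ⊕ Fin 2 → F := Pi.single (.inr i) 1

/-- Dual basis vectors. -/
def bV (F : Type*) [Field F] (i : Fin 2) : Fin 2 ⊕ Fin 2 → F := Pi.single (.inl i) 1

/-- A short root element. -/
def Sh (a b : V4) (c : F) : symplecticGroup (Fin 2) F := T (a + b) c * T a (-c) * T b (-c)

theorem app_Sh {a b : V4} (h : ω a b = 0) (c : F) (x : V4) :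
    app (Sh a b c) x = x + (c * ω x a) • b + (c * ω x b) • a := by
  simp only [Sh, app_mul, app_T, f_add_left, f_add_right, f_smul_left, f_self, h, f_swap a b]
  match_scalars <;> ring

/-- The root elements in the natural module. -/
def xS : ℕ → F → symplecticGroup (Fin 2) F
  | 0, t => T (bV F 0) t
  | 1, t => Sh (bV F 0) (bV F 1) t
  | 2, t => Sh (aV F 1) (bV F 0) t
  | 3, t => T (bV F 1) (-t)
  | 4, t => T (aV F 1) t
  | 5, t => Sh (aV F 0) (bV F 1) t
  | 6, t => Sh (aV F 0) (aV F 1) (-t)
  | _, t => T (aV F 0) (-t)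

theorem app_xS (r : ℕ) (hr : r < 8) (t : F) (x : V4) :
    app (xS r t) x = x + [(t * ω x (bV F 0)) • bV F 0,
      (t * ω x (bV F 0)) • bV F 1 + (t * ω x (bV F 1)) • bV F 0,
      (t * ω x (aV F 1)) • bV F 0 + (t * ω x (bV F 0)) • aV F 1,
      (-t * ω x (bV F 1)) • bV F 1,
      (t * ω x (aV F 1)) • aV F 1,
      (t * ω x (aV F 0)) • bV F 1 + (t * ω x (bV F 1)) • aV F 0,
      (-t * ω x (aV F 0)) • aV F 1 + (-t * ω x (aV F 1)) • aV F 0,
      (-t * ω x (aV F 0)) • aV F 0].getD r 0 := by
  interval_cases r <;> simp only [xS, app_T, List.getD_cons_zero, List.getD_cons_succ] <;>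
    first
    | rfl
    | (rw [app_Sh (by simp [aV, bV, f_inl, f_inr]), add_assoc])

theorem xS_add (r : ℕ) (hr : r < 8) (t u : F) : xS r t * xS r u = xS r (t + u) := by
  refine ext_app fun x => ?_
  rw [app_mul, app_xS r hr, app_xS r hr, app_xS r hr]
  funext s
  interval_cases r <;>
    (simp only [List.getD_cons_zero, List.getD_cons_succ]
     rcases s with i | i <;> fin_cases i <;>
       simp [aV, bV, f_inl, f_inr, f_apply, Fin.sum_univ_two, Pi.single_apply] <;> ring)

theorem xS_zero (r : ℕ) (hr : r < 8) : xS r (0 : F) = 1 := by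
  have h := xS_add r hr (0 : F) 0
  rwa [add_zero, mul_eq_left] at h

theorem xS_inv (r : ℕ) (hr : r < 8) (t : F) : (xS r t)⁻¹ = xS r (-t) :=
  inv_eq_of_mul_eq_one_right (by rw [xS_add r hr, add_neg_cancel, xS_zero r hr])

/-- The table of the commutator terms. -/
def tblC : List (List (List (ℕ × ℤ × ℕ × ℕ))) :=
  [[[], [], [], [], [], [(1, 1, 1, 1), (3, -1, 1, 2)], [(2, -1, 1, 1), (4, 1, 1, 2)], []],
        [[], [], [(0, 2, 1, 1)], [], [(2, 1, 1, 1), (0, 1, 2, 1)], [(3, -2, 1, 1)], [],
          [(5, -1, 1, 1), (3, 1, 2, 1)]],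
        [[], [(0, -2, 1, 1)], [], [(1, 1, 1, 1), (0, -1, 2, 1)], [], [], [(4, -2, 1, 1)],
          [(6, 1, 1, 1), (4, -1, 2, 1)]],
        [[], [], [(1, -1, 1, 1), (0, -1, 1, 2)], [], [], [], [(5, 1, 1, 1), (7, 1, 1, 2)], []],
        [[], [(2, -1, 1, 1), (0, 1, 1, 2)], [], [], [], [(6, 1, 1, 1), (7, -1, 1, 2)], [], []],
        [[(1, -1, 1, 1), (3, -1, 2, 1)], [(3, 2, 1, 1)], [], [], [(6, -1, 1, 1), (7, -1, 2, 1)], [],
          [(7, 2, 1, 1)], []],
        [[(2, 1, 1, 1), (4, 1, 2, 1)], [], [(4, 2, 1, 1)], [(5, -1, 1, 1), (7, 1, 2, 1)], [],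
          [(7, -2, 1, 1)], [], []],
        [[], [(5, 1, 1, 1), (3, 1, 1, 2)], [(6, -1, 1, 1), (4, -1, 1, 2)], [], [], [], [], []]]

open CfsgLib.ChevOrth (SM toM mulS oneS sm toM_mulS toM_sm toM_append toM_eq_zero toM_oneS)

/-- The root matrices. -/
def mR : ℕ → SM (Fin 2 ⊕ Fin 2)
  | 0 => [(.inl 0, .inr 0, 1)]
  | 1 => [(.inl 1, .inr 0, 1), (.inl 0, .inr 1, 1)]
  | 2 => [(.inl 0, .inl 1, -1), (.inr 1, .inr 0, 1)]
  | 3 => [(.inl 1, .inr 1, -1)]
  | 4 => [(.inr 1, .inl 1, -1)]
  | 5 => [(.inl 1, .inl 0, -1), (.inr 0, .inr 1, 1)]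
  | 6 => [(.inr 1, .inl 0, 1), (.inr 0, .inl 1, 1)]
  | _ => [(.inr 0, .inl 0, 1)]

theorem coe_xS (r : ℕ) (hr : r < 8) (t : F) :
    (xS r t : Matrix (Fin 2 ⊕ Fin 2) (Fin 2 ⊕ Fin 2) F) = 1 + t • toM F (mR r) := by
  refine Matrix.ext_of_mulVec_single fun j => ?_
  show app (xS r t) _ = _
  rw [app_xS r hr, add_mulVec, one_mulVec]
  congr 1
  funext i
  interval_cases r <;> rcases i with i | i <;> rcases j with j | j <;> fin_cases i <;> fin_cases j <;>
    simp [mR, toM, aV, bV, f_apply, Fin.sum_univ_two, Pi.single_apply, Matrix.single_apply,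
      Matrix.mulVec_single]

/-- Polynomial matrices in two variables. -/
abbrev PM := List ((ℕ × ℕ) × SM (Fin 2 ⊕ Fin 2))

/-- Their values. -/
noncomputable def evP (t u : F) (L : PM) : Matrix (Fin 2 ⊕ Fin 2) (Fin 2 ⊕ Fin 2) F :=
  (L.map fun e => (t ^ e.1.1 * u ^ e.1.2) • toM F e.2).sum

/-- The product. -/
def mulP (A B : PM) : PM :=
  A.flatMap fun a => B.map fun b => ((a.1.1 + b.1.1, a.1.2 + b.1.2), mulS a.2 b.2)

/-- The negative. -/
def negP (A : PM) : PM := A.map fun a => (a.1, sm (-1) a.2)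

/-- The identity. -/
def oneP : PM := [((0, 0), oneS [.inl 0, .inl 1, .inr 0, .inr 1])]

/-- A root element. -/
def rootP (r : ℕ) (c : ℤ) (i j : ℕ) : PM := oneP ++ [((i, j), sm c (mR r))]

/-- The coefficients vanish. -/
def chkP (L : PM) : Bool :=
  (L.all fun e => decide (e.1.1 < 6 ∧ e.1.2 < 6)) && (List.range 6).all fun i => (List.range 6).all fun j =>
    CfsgLib.ChevOrth.chkZero ((L.filter fun e => decide (e.1 = (i, j))).flatMap Prod.snd)

theorem evP_mulP (t u : F) (A B : PM) : evP t u (mulP A B) = evP t u A * evP t u B := by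
  induction A with
  | nil => simp [evP, mulP]
  | cons a A ih =>
    simp only [evP, mulP, List.flatMap_cons, List.map_append, List.map_map, List.map_cons,
      List.sum_append, List.sum_cons, add_mul] at ih ⊢
    rw [ih]
    congr 1
    clear ih
    induction B with
    | nil => simp
    | cons b B ihB =>
      simp only [List.map_cons, List.sum_cons, Function.comp_apply, mul_add, ihB, toM_mulS,
        smul_mul_smul_comm]
      congr 2
      ring

theorem evP_negP (t u : F) (A : PM) : evP t u (negP A) = -evP t u A := by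
  induction A with
  | nil => simp [evP, negP]
  | cons a A ih =>
    simp only [evP, negP, List.map_cons, List.sum_cons] at ih ⊢
    rw [ih, toM_sm]
    simp [add_comm]

theorem evP_eq_zero (t u : F) {L : PM} (h : chkP L = true) : evP t u L = 0 := by
  simp only [chkP, Bool.and_eq_true, List.all_eq_true, List.mem_range, decide_eq_true_eq] at h
  have key : ∀ M : PM, (∀ e ∈ M, e.1.1 < 6 ∧ e.1.2 < 6) →
      evP t u M = ∑ i ∈ Finset.range 6, ∑ j ∈ Finset.range 6,
        (t ^ i * u ^ j) • toM F ((M.filter fun e => decide (e.1 = (i, j))).flatMap Prod.snd) := by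
    intro M hM
    induction M with
    | nil => simp [evP, toM]
    | cons a M ih =>
      have ha := hM a (List.mem_cons_self ..)
      have e : ∀ i j : ℕ, toM F (((a :: M).filter fun e => decide (e.1 = (i, j))).flatMap Prod.snd) =
          (if a.1 = (i, j) then toM F a.2 else 0) +
            toM F ((M.filter fun e => decide (e.1 = (i, j))).flatMap Prod.snd) := by
        intro i j
        by_cases h : a.1 = (i, j)
        · simp [h, toM_append]
        · simp [h]
      simp only [e, smul_add, Finset.sum_add_distrib]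
      rw [← ih fun x hx => hM x (List.mem_cons_of_mem _ hx), Finset.sum_eq_single a.1.1,
        Finset.sum_eq_single a.1.2]
      · simp [evP]
      · intro j _ hj
        rw [if_neg (fun e => hj (by rw [e])), smul_zero]
      · simp [ha.2]
      · intro i _ hi
        refine Finset.sum_eq_zero fun j _ => ?_
        rw [if_neg (fun e => hi (by rw [e])), smul_zero]
      · simp [ha.1]
  rw [key L h.1]
  refine Finset.sum_eq_zero fun i hi => Finset.sum_eq_zero fun j hj => ?_
  rw [toM_eq_zero (h.2 i (Finset.mem_range.1 hi) j (Finset.mem_range.1 hj)), smul_zero]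

theorem coe_rootP (r : ℕ) (hr : r < 8) (c : ℤ) (i j : ℕ) (t u : F) :
    evP t u (rootP r c i j) =
      (xS r ((c : F) * t ^ i * u ^ j) : Matrix (Fin 2 ⊕ Fin 2) (Fin 2 ⊕ Fin 2) F) := by
  have h1 : toM F (oneS ([.inl 0, .inl 1, .inr 0, .inr 1] : List (Fin 2 ⊕ Fin 2))) = 1 :=
    toM_oneS (by decide) (by rintro (i | i) <;> fin_cases i <;> simp)
  rw [coe_xS r hr, evP, rootP, oneP]
  simp only [List.map_append, List.map_cons, List.map_nil, List.sum_append, List.sum_cons, List.sum_nil,
    add_zero, pow_zero, mul_one, one_smul, h1, toM_sm, smul_smul]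
  congr 2
  ring

/-- The check for a pair. -/
def chkPairP (r s : ℕ) : Bool :=
  chkP (mulP (mulP (rootP r (-1) 1 0) (rootP s 1 0 1)) (rootP r 1 1 0) ++
    negP (mulP (rootP s 1 0 1) (((tblC.getD r []).getD s []).foldr
      (fun c acc => mulP (rootP c.1 (c.2.1 * (-1) ^ c.2.2.1) c.2.2.1 c.2.2.2) acc) oneP)))

theorem chk_table : ((List.range 8).all fun r => (List.range 8).all fun s =>
    decide (s = r ∨ s = 7 - r) || (chkPairP r s &&
      ((tblC.getD r []).getD s []).all fun c => decide (c.1 < 8))) = true := by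
  decide +kernel

theorem commTerms_table : ∀ r < 8, ∀ s < 8, s ≠ r → s ≠ 7 - r →
    tabB2.commTerms r s = (tblC.getD r []).getD s [] := by
  intro r hr s hs h1 h2
  interval_cases r <;> interval_cases s <;> first | omega | decide +kernel

/-- The commutator relations. -/
theorem xS_comm (r s : ℕ) (hr : r < 8) (hs : s < 8) (hne : s ≠ r) (hneg : s ≠ tabB2.neg r) (t u : F) :
    xS r (-t) * xS s u * xS r t = xS s u * ((tabB2.commTerms r s).map fun c =>
      xS c.1 ((c.2.1 : F) * (-t) ^ c.2.2.1 * u ^ c.2.2.2)).prod := by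
  have hneg' : s ≠ 7 - r := hneg
  have h := List.all_eq_true.1 (List.all_eq_true.1 chk_table r (List.mem_range.2 hr)) s (List.mem_range.2 hs)
  simp only [Bool.or_eq_true, decide_eq_true_eq, Bool.and_eq_true] at h
  obtain ⟨hc, hlt⟩ := h.resolve_left (not_or.2 ⟨hne, hneg'⟩)
  rw [commTerms_table r hr s hs hne hneg']
  generalize hL : (tblC.getD r []).getD s [] = L at hlt
  simp only [chkPairP, hL] at hc
  have h0 := evP_eq_zero t u hc
  have hlt' : ∀ c ∈ L, c.1 < 8 := fun c hc' => of_decide_eq_true (List.all_eq_true.1 hlt c hc')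
  have hprod : ∀ M : List (ℕ × ℤ × ℕ × ℕ), (∀ c ∈ M, c.1 < 8) →
      evP t u (M.foldr (fun c acc => mulP (rootP c.1 (c.2.1 * (-1) ^ c.2.2.1) c.2.2.1 c.2.2.2) acc) oneP) =
      ((M.map fun c => xS c.1 ((c.2.1 : F) * (-t) ^ c.2.2.1 * u ^ c.2.2.2)).prod :
        Matrix.symplecticGroup (Fin 2) F).val := by
    intro M hM
    induction M with
    | nil =>
      simp only [List.foldr_nil, List.map_nil, List.prod_nil, OneMemClass.coe_one, evP, oneP,
        List.map_cons, List.sum_cons, List.sum_nil, add_zero, pow_zero, mul_one, one_smul]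
      exact toM_oneS (by decide) (by rintro (i | i) <;> fin_cases i <;> simp)
    | cons a M ih =>
      rw [List.foldr_cons, evP_mulP, ih fun c hc => hM c (List.mem_cons_of_mem _ hc),
        coe_rootP _ (hM a (List.mem_cons_self ..)), List.map_cons, List.prod_cons, Submonoid.coe_mul]
      congr 3
      push_cast
      rw [neg_pow t]
      ring
  rw [evP, List.map_append, List.sum_append, ← evP, ← evP, evP_negP, add_neg_eq_zero, evP_mulP,
    evP_mulP, evP_mulP, hprod L hlt', coe_rootP r hr, coe_rootP s hs, coe_rootP r hr] at h0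
  refine Subtype.ext ?_
  simpa [mul_assoc] using h0

/-- The map from the cover. -/
theorem exists_toSp : ∃ ρ : chevB2.SteinbergCover F →* symplecticGroup (Fin 2) F,
    Function.Surjective ρ := by
  have hn : chevB2.nroots = 8 := rfl
  have hst : ∀ r, r < 8 → ∀ t,
      FreeGroup.lift (fun p : Fin chevB2.nroots × F => xS p.1.val p.2) (chevB2.stX r t) = xS r t := by
    intro r hr t
    rw [ChevalleyDatum.stX, dif_pos (by rw [hn]; exact hr), FreeGroup.lift_apply_of]
  have hrel : ∀ g ∈ chevB2.steinbergRelsAB F,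
      FreeGroup.lift (fun p : Fin chevB2.nroots × F => xS p.1.val p.2) g = 1 := by
    rintro g (⟨r, t₁, t₂, hr, rfl⟩ | ⟨r, s, t, u, hr, hs, hne, hneg, rfl⟩)
    · rw [hn] at hr
      rw [map_mul, map_mul, map_inv, hst r hr, hst r hr, hst r hr, xS_add r hr, mul_inv_cancel]
    · rw [certB2.nroots_eq] at hr hs
      rw [certB2.neg_eq hr] at hneg
      have hr' : r < 8 := hr
      have hs' : s < 8 := hs
      rw [map_mul, map_mul, map_mul, map_mul, map_inv, map_inv, map_inv, hst r hr', hst s hs',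
        xS_inv r hr', mul_inv_eq_one, mul_assoc (xS s u)⁻¹, mul_assoc (xS s u)⁻¹,
        xS_comm r s hr' hs' hne hneg, inv_mul_cancel_left, ChevalleyDatum.stWord,
        map_list_prod, ChevalleyDatum.commWord, certB2.commTerms_eq hr hs, List.map_map, List.map_map]
      exact congrArg List.prod (List.map_congr_left fun c hc =>
        (hst _ (certB2.commTerms_lt hr hs hc) _).symm)
  refine ⟨PresentedGroup.toGroup hrel, ?_⟩
  set R := (PresentedGroup.toGroup hrel).range
  have hx : ∀ r, r < 8 → ∀ t, xS r t ∈ R := fun r hr t =>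
    ⟨PresentedGroup.of (⟨r, by rw [hn]; exact hr⟩, t), PresentedGroup.toGroup.of hrel⟩
  rw [← MonoidHom.range_eq_top]
  show R = ⊤
  -- the centres of the transvections in the image
  let C : Set V4 := {v | ∀ c : F, T v c ∈ R}
  have hsm : ∀ (a : F) {v : V4}, v ∈ C → a • v ∈ C := fun a v hv c => by rw [T_smul]; exact hv _
  have happ : ∀ {g : symplecticGroup (Fin 2) F} {v : V4}, g ∈ R → v ∈ C → app g v ∈ C := fun hg hv c => by
    rw [← conj_T]; exact mul_mem (mul_mem hg (hv c)) (inv_mem hg)
  have ha0 : aV F 0 ∈ C := fun c => by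
    simpa [xS] using hx 7 (by omega) (-c)
  have one : ∀ v : V4, v (.inr 0) = 1 → v ∈ C := by
    intro v h1
    -- add the three other coordinates one after the other
    have e := happ (hx 2 (by omega) (v (.inr 1))) (happ (hx 1 (by omega) (v (.inl 1)))
      (happ (hx 0 (by omega) (v (.inl 0) + v (.inr 1) * v (.inl 1))) ha0))
    convert e using 1
    funext s
    simp only [app_xS 2 (by omega), app_xS 1 (by omega), app_xS 0 (by omega)]
    rcases s with i | i <;> fin_cases i <;>
      simp [aV, bV, f_inl, f_inr, f_apply, Fin.sum_univ_two, Pi.single_apply, h1] <;> ring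
  have nz : ∀ v : V4, v (.inr 0) ≠ 0 → v ∈ C := fun v h => by
    have := hsm (v (.inr 0)) (one ((v (.inr 0))⁻¹ • v) (by simp [h]))
    rwa [smul_smul, mul_inv_cancel₀ h, one_smul] at this
  have all : ∀ v : V4, v ≠ 0 → v ∈ C := by
    intro v hv
    by_cases h : v (.inr 0) = 0
    swap
    · exact nz v h
    obtain ⟨r, hr, hrv⟩ : ∃ r, r < 8 ∧ app (xS r (1 : F)) v (.inr 0) ≠ 0 := by
      by_contra hc
      push Not at hc
      refine hv ?_
      have e5 := hc 5 (by omega)
      have e6 := hc 6 (by omega)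
      have e7 := hc 7 (by omega)
      simp only [app_xS _ (by omega : 5 < 8), app_xS _ (by omega : 6 < 8), app_xS _ (by omega : 7 < 8)]
        at e5 e6 e7
      simp [aV, bV, f_inl, f_inr, f_apply, Fin.sum_univ_two, Pi.single_apply, h] at e5 e6 e7
      funext s
      rcases s with i | i <;> fin_cases i <;> simp_all
    have := happ (inv_mem (hx r hr 1)) (nz _ hrv)
    rwa [app_inv] at this
  rw [eq_top_iff, ← gen_univ, CfsgLib.Classical.SympTrans.gen, Subgroup.closure_le]
  rintro _ ⟨v, -, c, rfl⟩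
  by_cases hv : v = 0
  · rw [hv, T_zero']; exact one_mem _
  · exact all v hv c

/-- The cover of type B2 is the symplectic group. -/
theorem exists_equiv [Fintype F] (hq : Fintype.card F ≠ 2) :
    Nonempty (chevB2.SteinbergCover F ≃* symplecticGroup (Fin 2) F) := by
  classical
  obtain ⟨ρ, hρ⟩ := exists_toSp (F := F)
  have hnb : Rel.Nbr tabB2 := by unfold Rel.Nbr; decide +kernel
  have hfin : Finite (chevB2.SteinbergCover F) := certB2.finite_cover hnb
  set L := certB2.relOf (R := chevB2.steinbergRelsAB F) le_rfl (steinbergRelsAB_subset chevB2 F)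
  have hmul := L.mult_of_finite certB2 hnb
  set θ := certB2.stTheta (K := F) le_rfl (steinbergRelsAB_subset chevB2 F)
  have hsurj := certB2.stTheta_surjective (K := F) le_rfl (steinbergRelsAB_subset chevB2 F)
  have hle : θ.ker ≤ ((matHom (G := Fˣ) (cartanT tabB2)).ker).map (L.torG certB2 hnb hmul) := by
    rw [certB2.ker_stTheta]
    exact L.ker_le_map certB2 hnb hmul
  have hk : Nat.card θ.ker ≤ Nat.gcd 2 (Fintype.card F - 1) := by
    refine le_trans (Subgroup.card_le_of_le hle) ?_
    refine le_trans (Nat.le_of_dvd Nat.card_pos (Subgroup.card_map_dvd _ _)) (le_of_eq ?_)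
    rw [card_ker_matHom (cartanT tabB2) (matOf _ snfUB2) (matOf _ snfUiB2) (matOf _ snfVB2)
      (matOf _ snfViB2) (fun i => [1, 2].getD i.1 0) (by decide +kernel) (by decide +kernel)
      (by decide +kernel), Nat.card_eq_fintype_card, Fintype.card_units]
    show ∏ i : Fin 2, Nat.gcd (Fintype.card F - 1) ([1, 2].getD i.1 0) = _
    simp [Fin.prod_univ_succ, Nat.gcd_comm (Fintype.card F - 1)]
  have hcard : Nat.card (chevB2.SteinbergCover F) ≤ Nat.card (symplecticGroup (Fin 2) F) := by
    rw [← Subgroup.card_mul_index θ.ker, Subgroup.index_ker,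
      show Nat.card θ.range = Nat.card ↥(chevB2.group F) by
        rw [MonoidHom.range_eq_top.2 hsurj, Subgroup.card_top],
      CfsgLib.Classical.SympTrans.card_symplectic, Nat.card_eq_fintype_card (α := F)]
    refine (Nat.mul_le_mul_right _ hk).trans (le_of_eq ?_)
    rw [card_groupB2]
    simp [Finset.prod_range_succ]
  exact ⟨MulEquiv.ofBijective ρ ((Nat.bijective_iff_surjective_and_card _).2
    ⟨hρ, le_antisymm hcard (Nat.card_le_card_of_surjective ρ hρ)⟩)⟩

universe u v

/-- Stem extensions of `Sp_4(q)`, `q ≥ 3`, are trivial. -/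
theorem injective_of_stem {F : Type u} [Field F] [Fintype F] (hq : Fintype.card F ≠ 2) {Δ : Type v}
    [Group Δ] (τ : Δ →* symplecticGroup (Fin 2) F) (hτ : Cfsg.IsStemExtension τ) :
    Function.Injective τ := by
  classical
  obtain ⟨e⟩ := exists_equiv hq
  have hD : chevB2 ∈ [chevB2, chevD4, chevF4, chevE6, chevE7, chevE8] := by simp
  obtain ⟨T, C, h, hnb, hlift⟩ := rel_of_card_ne_two.{u, v} (K := F) hq hD
  have hperfC : commutator (chevB2.SteinbergCover F) = ⊤ := perfect_cover hD fun _ => hq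
  have hperf : commutator (symplecticGroup (Fin 2) F) = ⊤ := by
    rw [commutator_def, ← Subgroup.map_top_of_surjective e.toMonoidHom e.surjective,
      ← Subgroup.map_commutator, ← commutator_def, hperfC]
  have hΔ := commutator_eq_top_of_stem hτ hperf
  set L₀ := h.relOf (R := chevB2.steinbergRelsAB F) le_rfl (steinbergRelsAB_subset chevB2 F)
  have hker := L₀.ker_eq_center h hnb
  let θ : Δ →* GL chevB2.Idx F := L₀.π.comp (e.symm.toMonoidHom.comp τ)
  let Y : Ext chevB2 F Δ :=
    { θ := θ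
      central := fun z hz => central_of_perfect hΔ fun y => by
        refine hτ.2.1 ?_
        have hzc : e.symm (τ z) ∈ Subgroup.center (chevB2.SteinbergCover F) := by
          rw [← hker]; exact hz
        rw [MonoidHom.mem_ker, map_commutatorElement, commutatorElement_eq_one_iff_mul_comm]
        apply e.symm.injective
        rw [map_mul, map_mul]
        exact (Subgroup.mem_center_iff.1 hzc _).symm
      range_eq := by
        refine le_antisymm ?_ fun g hg => ?_
        · rintro _ ⟨a, rfl⟩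
          exact h.π_mem_group L₀ _
        · obtain ⟨c, hc⟩ := h.stTheta_surjective le_rfl (steinbergRelsAB_subset chevB2 F) ⟨g, hg⟩
          obtain ⟨a, ha⟩ := hτ.1 (e c)
          exact ⟨a, by
            show L₀.π (e.symm (τ a)) = g
            rw [ha, e.symm_apply_apply]
            exact congrArg Subtype.val hc⟩
      perfect := hΔ }
  obtain ⟨ρ, hρ, hπ⟩ : ∃ ρ : chevB2.SteinbergCover F →* Δ, Function.Surjective ρ ∧
      ∀ y, Y.θ (ρ y) = L₀.π y := by
    obtain ⟨L, hL⟩ := hlift Δ Y
    obtain ⟨ρ, hρ⟩ := L.exists_hom h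
    have hρ' : ∀ y, Y.θ (ρ y) = L₀.π y := fun y => by rw [← hL]; exact hρ y
    refine ⟨ρ, ?_, hρ'⟩
    have key : ∀ d, ∃ a ∈ ρ.range, Y.θ d = Y.θ a := fun d => by
      obtain ⟨y, hy⟩ := h.stTheta_surjective le_rfl (steinbergRelsAB_subset chevB2 F) ⟨_, Y.θ_mem d⟩
      exact ⟨ρ y, ⟨y, rfl⟩, ((congrArg Subtype.val hy).symm.trans (hρ' y).symm)⟩
    refine MonoidHom.range_eq_top.1 ?_
    rw [eq_top_iff, ← Y.perfect, commutator_def, Subgroup.commutator_le]
    intro p _ q _
    obtain ⟨a, ha, ea⟩ := key p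
    obtain ⟨b, hb, eb⟩ := key q
    rw [Y.comm_congr ea eb, commutatorElement_def]
    exact mul_mem (mul_mem (mul_mem ha hb) (inv_mem ha)) (inv_mem hb)
  have hid : (e.symm.toMonoidHom.comp (τ.comp ρ)) = MonoidHom.id _ :=
    hom_eq_of_perfect hperfC L₀.π hker.le _ _ (MonoidHom.ext fun y => hπ y)
  intro a b hab
  obtain ⟨x, rfl⟩ := hρ a
  obtain ⟨y, rfl⟩ := hρ b
  have := DFunLike.congr_fun hid x
  have h2 := DFunLike.congr_fun hid y
  simp only [MonoidHom.comp_apply, MulEquiv.coe_toMonoidHom, hab, MonoidHom.id_apply] at this h2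
  rw [← this, h2]

end CfsgLib.Schur.SpFour
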