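import Mathlib
import Cfsg.Agent.Lib.Classical.SympTrans

/-!
# Central extensions of `Sp_{2m}` with an equivariant family of transvections

If the lifts of the transvections are permuted by conjugation and satisfy three relations, then
the extension is trivial: the lifted stabiliser of a vector splits by induction, and the triangle
relation makes the cosets of that stabiliser a copy of the nonzero vectors.
-/

set_option autoImplicit false
set_option linter.unusedSectionVars false

namespace CfsgLib.Schur.SpFam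

open CfsgLib.Classical.SympTrans Matrix

variable {F : Type*} [Field F] {m : ℕ} {Γ : Type*} [Group Γ]

local notation "ω" => Cfsg.sympForm _ _
local notation "G" => Matrix.symplecticGroup (Fin m) F
local notation "V" => (Fin m ⊕ Fin m → F)

/-- An equivariant family of lifts of transvections generating the extension. -/
structure Fam (σ : Γ →* G) (X : V → F → Γ) : Prop where
  central : σ.ker ≤ Subgroup.center Γ
  lift : ∀ v c, σ (X v c) = T v c
  gen : Subgroup.closure {g | ∃ v c, g = X v c} = ⊤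
  conj : ∀ γ v c, γ * X v c * γ⁻¹ = X (app (σ γ) v) c
  add : ∀ v c d, X v (c + d) = X v c * X v d
  smul : ∀ v a c, X (a • v) c = X v (a * a * c)

/-- The lift of the transvection moving `a` to `b`. -/
def E (X : V → F → Γ) (a b : V) : Γ := X (b - a) (Cfsg.sympForm m F a b)⁻¹

/-- The element of the unipotent radical of the stabiliser of `v`. -/
def Y (X : V → F → Γ) (v u : V) : Γ := X (u + v) 1 * (X u 1)⁻¹

/-- The relations: triangles, and the group law of the radical. -/
structure Rels (X : V → F → Γ) : Prop where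
  tri : ∀ a b c : V, ω a b ≠ 0 → ω a c ≠ 0 → ω b c ≠ 0 → E X b c * E X a b = E X a c *
    X (ω a b • c - ω a c • b + (ω a c - ω a b) • a) (ω a b * ω b c * ω a c)⁻¹
  law2 : ∀ v u : V, ω v u = 0 → ∀ a c : F,
    X (u + a • v) c = Y X v ((a * c) • u) * X v (c * (a * a) - 1) * X u c
  law3 : ∀ v w u u' : V, ω v w = 1 → ω v u = 0 → ω w u = 0 → ω v u' = 0 → ω w u' = 0 →
    Y X v u * Y X v u' = Y X v (u + u') * X v (1 + ω u' u)

section Basic

variable {σ : Γ →* Matrix.symplecticGroup (Fin m) F} {X : (Fin m ⊕ Fin m → F) → F → Γ}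

theorem Fam.zero (R : Fam σ X) (v : V) : X v 0 = 1 := by
  have h := R.add v 0 0
  rwa [add_zero, left_eq_mul] at h

theorem Fam.zero' (R : Fam σ X) (c : F) : X 0 c = 1 := by
  rw [show (0 : V) = (0 : F) • (0 : V) from (smul_zero _).symm, R.smul, mul_zero, zero_mul, R.zero]

theorem Fam.inv (R : Fam σ X) (v : V) (c : F) : (X v c)⁻¹ = X v (-c) :=
  inv_eq_of_mul_eq_one_right (by rw [← R.add, add_neg_cancel, R.zero])

theorem Fam.neg (R : Fam σ X) (v : V) (c : F) : X (-v) c = X v c := by
  rw [← neg_one_smul F v, R.smul, neg_mul_neg, one_mul, one_mul]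

theorem Fam.app_E (R : Fam σ X) {a b : V} (h : ω a b ≠ 0) : app (σ (E X a b)) a = b := by
  rw [E, R.lift, T_diff h]

theorem Fam.E_E (R : Fam σ X) (a b : V) : E X b a * E X a b = 1 := by
  rw [E, E, ← neg_sub b a, R.neg, ← R.add, f_swap a b, inv_neg, neg_add_cancel, R.zero]

/-- The subgroup of the lifts fixing `v`. -/
def K (X : V → F → Γ) (v : V) : Subgroup Γ :=
  Subgroup.closure {g | ∃ y c, Cfsg.sympForm m F v y = 0 ∧ g = X y c}

theorem X_mem_K {v y : V} (h : ω v y = 0) (c : F) : X y c ∈ K X v :=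
  Subgroup.subset_closure ⟨y, c, h, rfl⟩

theorem Fam.conj_K (R : Fam σ X) (γ : Γ) {v : V} {k : Γ} (hk : k ∈ K X v) :
    γ * k * γ⁻¹ ∈ K X (app (σ γ) v) := by
  induction hk using Subgroup.closure_induction with
  | mem x hx =>
    obtain ⟨y, c, hy, rfl⟩ := hx
    rw [R.conj]
    exact X_mem_K (by rw [f_app, hy]) c
  | one => simp
  | mul x y _ _ hx hy =>
    rw [show γ * (x * y) * γ⁻¹ = γ * x * γ⁻¹ * (γ * y * γ⁻¹) by group]
    exact mul_mem hx hy
  | inv x _ hx =>
    rw [show γ * x⁻¹ * γ⁻¹ = (γ * x * γ⁻¹)⁻¹ by group]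
    exact inv_mem hx

/-- The cosets reached through a common neighbour. -/
def reach (σ : Γ →* G) (X : V → F → Γ) (v : V) : Set Γ :=
  {γ | ∃ z : V, ω v z ≠ 0 ∧ ω z (app (σ γ) v) ≠ 0 ∧
    (E X z (app (σ γ) v) * E X v z)⁻¹ * γ ∈ K X v}

theorem two_step (R : Fam σ X) (L : Rels X) {v z z' u : V} (h1 : ω v z ≠ 0) (h2 : ω z u ≠ 0)
    (h1' : ω v z' ≠ 0) (h2' : ω z' u ≠ 0) :
    (E X z' u * E X v z')⁻¹ * (E X z u * E X v z) ∈ K X v := by
  -- adjacent middle points
  have adj : ∀ z z' : V, ω v z ≠ 0 → ω z u ≠ 0 → ω v z' ≠ 0 → ω z' u ≠ 0 → ω z z' ≠ 0 →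
      (E X z' u * E X v z')⁻¹ * (E X z u * E X v z) ∈ K X v := by
    intro z z' h1 h2 h1' h2' hzz
    have t1 := L.tri z z' u hzz h2 h2'
    have t2 := L.tri v z z' h1 h1' hzz
    generalize hp : (ω z z' • u - ω z u • z' + (ω z u - ω z z') • z : V) = p at t1
    generalize hq : (ω v z • z' - ω v z' • z + (ω v z' - ω v z) • v : V) = q at t2
    generalize (ω z z' * ω z' u * ω z u)⁻¹ = c at t1
    generalize (ω v z * ω z z' * ω v z')⁻¹ = d at t2
    have hpz : ω z p = 0 := by
      rw [← hp, f_add_right, f_sub_right, f_smul_right, f_smul_right, f_smul_right, f_self]; ring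
    have hqv : ω v q = 0 := by
      rw [← hq, f_add_right, f_sub_right, f_smul_right, f_smul_right, f_smul_right, f_self]; ring
    have hk : (E X v z)⁻¹ * X p c * E X v z ∈ K X v := by
      have h := R.conj_K (E X v z)⁻¹ (X_mem_K (v := z) hpz c) (X := X)
      rw [inv_inv, map_inv] at h
      have e : app (σ (E X v z))⁻¹ z = v := by
        have e := app_inv (σ (E X v z)) v
        rwa [R.app_E h1] at e
      rwa [e] at h
    have e1 : E X z u = E X z' u * E X z z' * (X p c)⁻¹ := by rw [t1]; group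
    have e2 : E X z z' = E X v z' * X q d * (E X v z)⁻¹ := by rw [← t2]; group
    rw [e1, e2, show (E X z' u * E X v z')⁻¹ *
        (E X z' u * (E X v z' * X q d * (E X v z)⁻¹) * (X p c)⁻¹ * E X v z) =
        X q d * ((E X v z)⁻¹ * X p c * E X v z)⁻¹ by group]
    exact mul_mem (X_mem_K hqv d) (inv_mem hk)
  by_cases hzz : ω z z' ≠ 0
  · exact adj z z' h1 h2 h1' h2' hzz
  push Not at hzz
  by_cases hvu : ω v u ≠ 0
  · -- both equal the direct step
    have dir : ∀ z : V, ω v z ≠ 0 → ω z u ≠ 0 → (E X v u)⁻¹ * (E X z u * E X v z) ∈ K X v := by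
      intro z h1 h2
      rw [L.tri v z u h1 hvu h2, inv_mul_cancel_left]
      exact X_mem_K (by
        rw [f_add_right, f_sub_right, f_smul_right, f_smul_right, f_smul_right, f_self]; ring) _
    have := mul_mem (inv_mem (dir z' h1' h2')) (dir z h1 h2)
    simpa only [_root_.mul_inv_rev, inv_inv, mul_assoc, mul_inv_cancel_left] using this
  push Not at hvu
  have a1 : ω v (v + z) ≠ 0 := by rwa [f_add_right, f_self, zero_add]
  have a2 : ω (v + z) u ≠ 0 := by rwa [f_add_left, hvu, zero_add]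
  have a3 : ω z (v + z) ≠ 0 := by
    rw [f_add_right, f_self, add_zero, f_swap]; exact neg_ne_zero.2 h1
  have a4 : ω (v + z) z' ≠ 0 := by rwa [f_add_left, hzz, add_zero]
  have := mul_mem (adj (v + z) z' a1 a2 h1' h2' a4) (adj z (v + z) h1 h2 a1 a2 a3)
  simpa only [_root_.mul_inv_rev, inv_inv, mul_assoc, mul_inv_cancel_left] using this

theorem X_mul_reach (R : Fam σ X) (L : Rels X) {v : V} (hv : v ≠ 0) {γ : Γ}
    (hγ : γ ∈ reach σ X v) (x : V) (c : F) : X x c * γ ∈ reach σ X v := by
  obtain ⟨z, h1, h2, hk⟩ := hγ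
  set u := app (σ γ) v with hu
  set u' := app (σ (X x c * γ)) v with hu'
  have hu'eq : u' = u + (c * ω u x) • x := by rw [hu', map_mul, app_mul, R.lift, app_T, hu]
  by_cases hx : c * ω u x = 0
  · rw [hx, zero_smul, add_zero] at hu'eq
    refine ⟨z, h1, by rwa [← hu', hu'eq], ?_⟩
    rw [← hu', hu'eq]
    rcases mul_eq_zero.1 hx with hc | hc
    · rwa [hc, R.zero, one_mul]
    have e : X x c * γ = γ * X (app (σ γ⁻¹) x) c := by
      rw [← R.conj, inv_inv]; group
    rw [e, ← mul_assoc]
    refine mul_mem hk (X_mem_K ?_ c)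
    rw [← f_app (σ γ), map_inv, app_inv', ← hu, hc]
  -- the step is an edge
  have huu : ω u u' ≠ 0 := by
    rw [hu'eq, f_add_right, f_self, zero_add, f_smul_right]
    exact mul_ne_zero hx (fun h => hx (by rw [h, mul_zero]))
  have hE : X x c = E X u u' := by
    rw [E, hu'eq, add_sub_cancel_left, R.smul, f_add_right, f_self, zero_add, f_smul_right]
    have h0 : ω u x ≠ 0 := fun h => hx (by rw [h, mul_zero])
    have hc0 : c ≠ 0 := fun h => hx (by rw [h, zero_mul])
    congr 1
    field_simp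
  -- a triangle at `v`
  have tri_mem : ∀ a b : V, ω v a ≠ 0 → ω v b ≠ 0 → ω a b ≠ 0 →
      (E X v b)⁻¹ * (E X a b * E X v a) ∈ K X v := by
    intro a b ha hb hab
    rw [L.tri v a b ha hb hab, inv_mul_cancel_left]
    exact X_mem_K (by
      rw [f_add_right, f_sub_right, f_smul_right, f_smul_right, f_smul_right, f_self]; ring) _
  by_cases hboth : ω v u ≠ 0 ∧ ω v u' ≠ 0
  · obtain ⟨hvu, hvu'⟩ := hboth
    obtain ⟨w, -, hw1, hw2⟩ := exists_ne_pair (W (F := F) (m := m) 0) (f_add_right v)
      (f_add_right u') (exists_f_ne (mem_W_zero v) hv)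
      (exists_f_ne (mem_W_zero u') (fun h => hvu' (by rw [h, f_zero_right])))
    have hw3 : ω w u' ≠ 0 := by rw [f_swap]; exact neg_ne_zero.2 hw2
    refine ⟨w, hw1, by rwa [← hu'], ?_⟩
    rw [← hu', hE, show (E X w u' * E X v w)⁻¹ * (E X u u' * γ) =
      ((E X v u')⁻¹ * (E X w u' * E X v w))⁻¹ * ((E X v u')⁻¹ * (E X u u' * E X v u)) *
        ((E X v u)⁻¹ * (E X z u * E X v z)) * ((E X z u * E X v z)⁻¹ * γ) by group]
    exact mul_mem (mul_mem (mul_mem (inv_mem (tri_mem w u' hw1 hvu' hw3)) (tri_mem u u' hvu hvu' huu))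
      (tri_mem z u h1 hvu h2)) hk
  obtain ⟨y, hy1, hy2, hy3⟩ : ∃ y : V, ω v y ≠ 0 ∧ ω y u ≠ 0 ∧ ω y u' ≠ 0 := by
    by_cases hvu : ω v u = 0
    · by_cases hvu' : ω v u' = 0
      · by_cases h3 : ω z u' = 0
        · refine ⟨z + u, ?_, ?_, ?_⟩
          · rwa [f_add_right, hvu, add_zero]
          · rwa [f_add_left, f_self, add_zero]
          · rwa [f_add_left, h3, zero_add]
        · exact ⟨z, h1, h2, h3⟩
      · refine ⟨v + u', ?_, ?_, ?_⟩
        · rwa [f_add_right, f_self, zero_add]
        · rw [f_add_left, hvu, zero_add, f_swap]; exact neg_ne_zero.2 huu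
        · rwa [f_add_left, f_self, add_zero]
    · have hvu' : ω v u' = 0 := by
        by_contra h
        exact hboth ⟨hvu, h⟩
      refine ⟨v + u, ?_, ?_, ?_⟩
      · rwa [f_add_right, f_self, zero_add]
      · rwa [f_add_left, f_self, add_zero]
      · rwa [f_add_left, hvu', zero_add]
  refine ⟨y, hy1, by rwa [← hu'], ?_⟩
  rw [← hu', hE]
  have hk' := two_step R L hy1 hy2 h1 h2
  have t := L.tri y u u' hy2 hy3 huu
  generalize hp : (ω y u • u' - ω y u' • u + (ω y u' - ω y u) • y : V) = p at t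
  generalize (ω y u * ω u u' * ω y u')⁻¹ = d at t
  have hpy : ω y p = 0 := by
    rw [← hp, f_add_right, f_sub_right, f_smul_right, f_smul_right, f_smul_right, f_self]; ring
  have hkp : (E X v y)⁻¹ * X p d * E X v y ∈ K X v := by
    have h := R.conj_K (E X v y)⁻¹ (X_mem_K (v := y) hpy d) (X := X)
    rw [inv_inv, map_inv] at h
    have e : app (σ (E X v y))⁻¹ y = v := by
      have e := app_inv (σ (E X v y)) v
      rwa [R.app_E hy1] at e
    rwa [e] at h
  have e : E X u u' = E X y u' * X p d * (E X y u)⁻¹ := by rw [← t]; group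
  rw [e, show (E X y u' * E X v y)⁻¹ * (E X y u' * X p d * (E X y u)⁻¹ * γ) =
    (E X v y)⁻¹ * X p d * E X v y * ((E X y u * E X v y)⁻¹ * (E X z u * E X v z)) *
      ((E X z u * E X v z)⁻¹ * γ) by group]
  exact mul_mem (mul_mem hkp (two_step R L h1 h2 hy1 hy2)) hk

/-- The coset argument. -/
theorem injective_of_K (R : Fam σ X) (L : Rels X) {v : V} (hv : v ≠ 0)
    (hK : ∀ k : Γ, k ∈ K X v → σ k = 1 → k = 1) : Function.Injective σ := by
  obtain ⟨z, -, hz⟩ := exists_f_ne (mem_W_zero v) hv
  have hzv : ω z v ≠ 0 := by rw [f_swap]; exact neg_ne_zero.2 hz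
  have h1 : (1 : Γ) ∈ reach σ X v := ⟨z, hz, by rwa [map_one, app_one], by
    rw [map_one, app_one, R.E_E, inv_one, one_mul]; exact one_mem _⟩
  have hall : ∀ γ : Γ, γ ∈ reach σ X v := by
    intro γ
    have hγ : γ ∈ Subgroup.closure {g | ∃ v c, g = X v c} := by rw [R.gen]; trivial
    induction hγ using Subgroup.closure_induction_left with
    | one => exact h1
    | mul_left a ha b _ ih =>
      obtain ⟨x, c, rfl⟩ := ha
      exact X_mul_reach R L hv ih x c
    | inv_mul_cancel a ha b _ ih =>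
      obtain ⟨x, c, rfl⟩ := ha
      rw [R.inv]
      exact X_mul_reach R L hv ih x _
  rw [← MonoidHom.ker_eq_bot_iff, Subgroup.eq_bot_iff_forall]
  intro γ hγ
  rw [MonoidHom.mem_ker] at hγ
  obtain ⟨y, -, -, hk⟩ := hall γ
  rw [hγ, app_one, R.E_E, inv_one, one_mul] at hk
  exact hK γ hk hγ

end Basic

section Pad

variable {k n : ℕ}

/-- Coordinates below `k` filled with zeros. -/
def pad (k : ℕ) (y : Fin n ⊕ Fin n → F) : Fin (k + n) ⊕ Fin (k + n) → F :=
  Sum.elim (Fin.addCases (fun _ => 0) fun i => y (.inl i))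
    (Fin.addCases (fun _ => 0) fun i => y (.inr i))

/-- The coordinates from `k` on. -/
def res (k : ℕ) (x : Fin (k + n) ⊕ Fin (k + n) → F) : Fin n ⊕ Fin n → F :=
  fun i => x (i.map (Fin.natAdd k) (Fin.natAdd k))

theorem res_pad (y : Fin n ⊕ Fin n → F) : res k (pad k y) = y := by
  funext i; rcases i with i | i <;> simp [res, pad]

theorem pad_injective : Function.Injective (pad (F := F) (n := n) k) :=
  Function.LeftInverse.injective res_pad

theorem pad_add (y y' : Fin n ⊕ Fin n → F) : pad k (y + y') = pad k y + pad k y' := by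
  funext i; rcases i with i | i <;> cases i using Fin.addCases <;> simp [pad]

theorem pad_smul (c : F) (y : Fin n ⊕ Fin n → F) : pad k (c • y) = c • pad k y := by
  funext i; rcases i with i | i <;> cases i using Fin.addCases <;> simp [pad]

theorem pad_sub (y y' : Fin n ⊕ Fin n → F) : pad k (y - y') = pad k y - pad k y' := by
  funext i; rcases i with i | i <;> cases i using Fin.addCases <;> simp [pad]

theorem f_pad (y : Fin n ⊕ Fin n → F) (x : Fin (k + n) ⊕ Fin (k + n) → F) :
    Cfsg.sympForm (k + n) F (pad k y) x = Cfsg.sympForm n F y (res k x) := by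
  rw [f_apply, f_apply, Fin.sum_univ_add]
  simp [pad, res]

theorem f_pad' (y : Fin n ⊕ Fin n → F) (x : Fin (k + n) ⊕ Fin (k + n) → F) :
    Cfsg.sympForm (k + n) F x (pad k y) = Cfsg.sympForm n F (res k x) y := by
  rw [f_swap, f_pad, ← f_swap]

theorem f_pad_pad (y y' : Fin n ⊕ Fin n → F) :
    Cfsg.sympForm (k + n) F (pad k y) (pad k y') = Cfsg.sympForm n F y y' := by
  rw [f_pad, res_pad]

/-- The action on the coordinates from `k` on. -/
def emLin (k : ℕ) (A : Matrix (Fin n ⊕ Fin n) (Fin n ⊕ Fin n) F) :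
    (Fin (k + n) ⊕ Fin (k + n) → F) →ₗ[F] (Fin (k + n) ⊕ Fin (k + n) → F) where
  toFun x := x - pad k (res k x) + pad k (A *ᵥ res k x)
  map_add' x y := by
    rw [show res k (x + y) = res k x + res k y from rfl, mulVec_add, pad_add, pad_add]; abel
  map_smul' c x := by
    rw [show res k (c • x) = c • res k x from rfl, mulVec_smul, pad_smul, pad_smul, RingHom.id_apply,
      smul_add, smul_sub]

/-- The matrix of that action. -/
def emMat (k : ℕ) (A : Matrix (Fin n ⊕ Fin n) (Fin n ⊕ Fin n) F) :=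
  LinearMap.toMatrix' (emLin k A)

theorem emMat_mulVec (A : Matrix (Fin n ⊕ Fin n) (Fin n ⊕ Fin n) F)
    (x : Fin (k + n) ⊕ Fin (k + n) → F) :
    emMat k A *ᵥ x = x - pad k (res k x) + pad k (A *ᵥ res k x) := by
  rw [emMat, LinearMap.toMatrix'_mulVec]; rfl

theorem emMat_mem (g : symplecticGroup (Fin n) F) :
    emMat k (g : Matrix (Fin n ⊕ Fin n) (Fin n ⊕ Fin n) F) ∈ symplecticGroup (Fin (k + n)) F := by
  rw [mem_iff_f]
  intro u v
  have h := f_app g (res k u) (res k v)
  rw [app, app] at h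
  simp only [emMat_mulVec, f_add_left, f_add_right, f_sub_left, f_sub_right, f_pad, f_pad', res_pad, h]
  ring

/-- The embedding of the smaller group. -/
def em (k : ℕ) : symplecticGroup (Fin n) F →* symplecticGroup (Fin (k + n)) F :=
  MonoidHom.mk' (fun g => ⟨emMat k (g : Matrix (Fin n ⊕ Fin n) (Fin n ⊕ Fin n) F), emMat_mem g⟩)
    fun g h => ext_app fun x => by
      rw [app_mul]
      simp only [app, emMat_mulVec]
      have hl : ∀ a b : Fin (k + n) ⊕ Fin (k + n) → F, res k (a + b) = res k a + res k b :=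
        fun a b => rfl
      have hr : ∀ a b : Fin (k + n) ⊕ Fin (k + n) → F, res k (a - b) = res k a - res k b :=
        fun a b => rfl
      rw [hl, hr, res_pad, res_pad, sub_self, zero_add, mulVec_mulVec, Submonoid.coe_mul]
      abel

theorem app_em (g : symplecticGroup (Fin n) F) (x : Fin (k + n) ⊕ Fin (k + n) → F) :
    app (em k g) x = x - pad k (res k x) + pad k (app g (res k x)) :=
  emMat_mulVec _ x

theorem app_em_pad (g : symplecticGroup (Fin n) F) (y : Fin n ⊕ Fin n → F) :
    app (em k g) (pad k y) = pad k (app g y) := by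
  rw [app_em, res_pad, sub_self, zero_add]

theorem em_T (y : Fin n ⊕ Fin n → F) (c : F) : em k (T y c) = T (pad k y) c := by
  refine ext_app fun x => ?_
  rw [app_em, app_T, app_T, f_pad', pad_add, pad_smul]
  abel

theorem em_injective : Function.Injective (em (F := F) (n := n) k) := fun g h e => by
  refine ext_app fun y => pad_injective (k := k) ?_
  rw [← app_em_pad, ← app_em_pad, e]

end Pad

section Step

variable {n : ℕ}

local notation "V'" => (Fin (1 + n) ⊕ Fin (1 + n) → F)

theorem X_zero_smul {σ : Γ →* symplecticGroup (Fin (1 + n)) F} {X : V' → F → Γ} (R : Fam σ X)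
    (v : V') (c : F) : X ((0 : F) • v) c = 1 := by
  rw [zero_smul, R.zero']

/-- Splitting of the stabiliser from the smaller group. -/
theorem K_inj {σ : Γ →* symplecticGroup (Fin (1 + n)) F} {X : V' → F → Γ} (R : Fam σ X) (L : Rels X)
    (hW : ∀ g : Γ, g ∈ Subgroup.closure {g | ∃ y c, g = X (pad 1 y) c} → σ g = 1 → g = 1) :
    ∀ g : Γ, g ∈ K X (Pi.single (.inr 0) 1) → σ g = 1 → g = 1 := by
  classical
  set v : V' := Pi.single (.inr 0) 1 with hv
  set w : V' := Pi.single (.inl 0) 1 with hw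
  have hvw : Cfsg.sympForm (1 + n) F v w = 1 := by rw [f_inl, hv]; simp
  have hrv : res 1 v = 0 := by
    funext i; rcases i with i | i <;> simp [res, hv, Fin.ext_iff]
  have hrw : res 1 w = 0 := by
    funext i; rcases i with i | i <;> simp [res, hw, Fin.ext_iff]
  have hvp : ∀ y : Fin n ⊕ Fin n → F, Cfsg.sympForm (1 + n) F v (pad 1 y) = 0 := fun y => by
    rw [f_pad', hrv, f_zero_left]
  have hwp : ∀ y : Fin n ⊕ Fin n → F, Cfsg.sympForm (1 + n) F w (pad 1 y) = 0 := fun y => by
    rw [f_pad', hrw, f_zero_left]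
  have hperp : ∀ u : V', Cfsg.sympForm (1 + n) F v u = 0 →
      ∃ (y : Fin n ⊕ Fin n → F) (a : F), u = pad 1 y + a • v := by
    intro u hu
    refine ⟨res 1 u, u (.inr 0), ?_⟩
    rw [f_swap, f_inr, neg_neg] at hu
    funext i
    rcases i with i | i <;> cases i using Fin.addCases with
    | left i =>
      obtain rfl : i = 0 := Subsingleton.elim _ _
      rw [show Fin.castAdd n (0 : Fin 1) = 0 from Fin.ext rfl]
      simp [pad, hv, Fin.ext_iff]
      first
      | exact hu
      | rw [show (0 : Fin (1 + n)) = Fin.castAdd n 0 from Fin.ext rfl, Fin.addCases_left]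
    | right i => simp [pad, res, hv, Fin.ext_iff]
  -- the conjugates
  have hfix : ∀ y c, app (σ (X (pad 1 y) c)) v = v := fun y c => by
    rw [R.lift, app_T, hvp, mul_zero, zero_smul, add_zero]
  have hXv : ∀ (γ : Γ) (c : F), app (σ γ) v = v → Commute γ (X v c) := fun γ c h => by
    have := R.conj γ v c
    rw [h, mul_inv_eq_iff_eq_mul] at this
    exact this
  have hYfix : ∀ y, app (σ (Y X v (pad 1 y))) v = v := fun y => by
    rw [Y, map_mul, map_inv, R.lift, R.lift, app_mul,
      show app (T (pad 1 y) (1 : F))⁻¹ v = v by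
        conv_lhs => arg 2; rw [show v = app (T (pad 1 y) (1 : F)) v by
          rw [app_T, hvp, mul_zero, zero_smul, add_zero]]
        rw [app_inv], app_T, f_add_right, hvp, f_self, add_zero, mul_zero, zero_smul, add_zero]
  have conjY : ∀ y c y', X (pad 1 y) c * Y X v (pad 1 y') * (X (pad 1 y) c)⁻¹ =
      Y X v (pad 1 (app (T y c) y')) := by
    intro y c y'
    rw [Y, Y, show X (pad 1 y) c * (X (pad 1 y' + v) 1 * (X (pad 1 y') 1)⁻¹) * (X (pad 1 y) c)⁻¹ =
      X (pad 1 y) c * X (pad 1 y' + v) 1 * (X (pad 1 y) c)⁻¹ *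
        (X (pad 1 y) c * X (pad 1 y') 1 * (X (pad 1 y) c)⁻¹)⁻¹ by group, R.conj, R.conj, app_add,
      hfix, R.lift, ← em_T, app_em_pad]
  -- the radical
  let Q : Subgroup Γ := Subgroup.closure ({g | ∃ y, g = Y X v (pad 1 y)} ∪ {g | ∃ e, g = X v e})
  have hQY : ∀ y e, Y X v (pad 1 y) * X v e ∈ Q := fun y e =>
    mul_mem (Subgroup.subset_closure (Or.inl ⟨y, rfl⟩)) (Subgroup.subset_closure (Or.inr ⟨e, rfl⟩))
  have hY0 : Y X v (pad 1 (0 : Fin n ⊕ Fin n → F)) = X v 1 := by
    rw [Y, show pad 1 (0 : Fin n ⊕ Fin n → F) = (0 : V') from by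
      simpa using pad_smul (k := 1) (0 : F) (0 : Fin n ⊕ Fin n → F), zero_add, R.zero', inv_one, mul_one]
  have form : ∀ g ∈ Q, ∃ y e, g = Y X v (pad 1 y) * X v e := by
    intro g hg
    have law : ∀ y y', Y X v (pad 1 y) * Y X v (pad 1 y') = Y X v (pad 1 (y + y')) *
        X v (1 + Cfsg.sympForm n F y' y) := by
      intro y y'
      rw [L.law3 v w _ _ hvw (hvp y) (hwp y) (hvp y') (hwp y'), f_pad_pad, pad_add]
    have mul_gen : ∀ y e y', (Y X v (pad 1 y) * X v e) * Y X v (pad 1 y') =
        Y X v (pad 1 (y + y')) * X v (1 + Cfsg.sympForm n F y' y + e) := by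
      intro y e y'
      rw [mul_assoc, ← (hXv _ e (hYfix y')).eq, ← mul_assoc, law, mul_assoc, ← R.add]
    have h1 : (1 : Γ) = Y X v (pad 1 (0 : Fin n ⊕ Fin n → F)) * X v (-1) := by
      rw [hY0, ← R.add, add_neg_cancel, R.zero]
    induction hg using Subgroup.closure_induction_right with
    | one => exact ⟨0, -1, h1⟩
    | mul_right a ha b hb ih =>
      obtain ⟨y, e, rfl⟩ := ih
      rcases hb with ⟨y', rfl⟩ | ⟨e', rfl⟩
      · exact ⟨_, _, mul_gen y e y'⟩
      · exact ⟨y, e + e', by rw [R.add, mul_assoc]⟩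
    | mul_inv_cancel a ha b hb ih =>
      obtain ⟨y, e, rfl⟩ := ih
      rcases hb with ⟨y', rfl⟩ | ⟨e', rfl⟩
      · have hinv : (Y X v (pad 1 y'))⁻¹ = Y X v (pad 1 (-y')) * X v (-2) := by
          refine inv_eq_of_mul_eq_one_right ?_
          rw [← mul_assoc, law, add_neg_cancel, ← neg_one_smul F y', f_smul_left, f_self, mul_zero,
            add_zero, hY0, ← R.add, ← R.add, show (1 : F) + 1 + -2 = 0 by ring, R.zero]
        refine ⟨y + -y', (1 + Cfsg.sympForm n F (-y') y + e) + -2, ?_⟩
        rw [hinv, ← mul_assoc, mul_gen, mul_assoc, ← R.add]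
      · exact ⟨y, e + -e', by rw [R.inv, R.add, mul_assoc]⟩
  let H : Subgroup Γ := Subgroup.closure {g | ∃ y c, g = X (pad 1 y) c}
  have hnorm : ∀ h ∈ H, ∀ q ∈ Q, h * q * h⁻¹ ∈ Q := by
    intro h hh
    have step : ∀ y c, ∀ q ∈ Q, X (pad 1 y) c * q * (X (pad 1 y) c)⁻¹ ∈ Q := by
      intro y c q hq
      induction hq using Subgroup.closure_induction with
      | mem x hx =>
        rcases hx with ⟨y', rfl⟩ | ⟨e, rfl⟩
        · rw [conjY]; exact Subgroup.subset_closure (Or.inl ⟨_, rfl⟩)
        · rw [R.conj, hfix]; exact Subgroup.subset_closure (Or.inr ⟨e, rfl⟩)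
      | one => simp
      | mul a b _ _ ha hb =>
        rw [show X (pad 1 y) c * (a * b) * (X (pad 1 y) c)⁻¹ =
          X (pad 1 y) c * a * (X (pad 1 y) c)⁻¹ * (X (pad 1 y) c * b * (X (pad 1 y) c)⁻¹) by group]
        exact mul_mem ha hb
      | inv a _ ha =>
        rw [show X (pad 1 y) c * a⁻¹ * (X (pad 1 y) c)⁻¹ =
          (X (pad 1 y) c * a * (X (pad 1 y) c)⁻¹)⁻¹ by group]
        exact inv_mem ha
    induction hh using Subgroup.closure_induction_left with
    | one => intro q hq; simpa using hq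
    | mul_left a ha b _ ih =>
      obtain ⟨y, c, rfl⟩ := ha
      intro q hq
      have := step y c _ (ih q hq)
      simpa only [mul_assoc, _root_.mul_inv_rev] using this
    | inv_mul_cancel a ha b _ ih =>
      obtain ⟨y, c, rfl⟩ := ha
      intro q hq
      have := step y (-c) _ (ih q hq)
      rw [R.inv]
      simpa only [mul_assoc, _root_.mul_inv_rev] using this
  have hsplit : ∀ g ∈ K X v, ∃ q ∈ Q, ∃ h ∈ H, g = q * h := by
    intro g hg
    have gen_split : ∀ (u : V') (c : F), Cfsg.sympForm (1 + n) F v u = 0 →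
        ∃ q ∈ Q, ∃ y, X u c = q * X (pad 1 y) c := by
      intro u c hu
      obtain ⟨y, a, rfl⟩ := hperp u hu
      refine ⟨_, hQY ((a * c) • y) (c * (a * a) - 1), y, ?_⟩
      rw [L.law2 v _ (hvp y) a c, pad_smul]
    induction hg using Subgroup.closure_induction_left with
    | one => exact ⟨1, one_mem _, 1, one_mem _, (one_mul _).symm⟩
    | mul_left a ha b _ ih =>
      obtain ⟨u, c, hu, rfl⟩ := ha
      obtain ⟨q, hq, y, e⟩ := gen_split u c hu
      obtain ⟨q', hq', h', hh', rfl⟩ := ih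
      refine ⟨q * (X (pad 1 y) c * q' * (X (pad 1 y) c)⁻¹), mul_mem hq (hnorm _
        (Subgroup.subset_closure ⟨y, c, rfl⟩) _ hq'), X (pad 1 y) c * h',
        mul_mem (Subgroup.subset_closure ⟨y, c, rfl⟩) hh', ?_⟩
      rw [e]; group
    | inv_mul_cancel a ha b _ ih =>
      obtain ⟨u, c, hu, rfl⟩ := ha
      obtain ⟨q, hq, y, e⟩ := gen_split u (-c) hu
      obtain ⟨q', hq', h', hh', rfl⟩ := ih
      refine ⟨q * (X (pad 1 y) (-c) * q' * (X (pad 1 y) (-c))⁻¹), mul_mem hq (hnorm _
        (Subgroup.subset_closure ⟨y, -c, rfl⟩) _ hq'), X (pad 1 y) (-c) * h',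
        mul_mem (Subgroup.subset_closure ⟨y, -c, rfl⟩) hh', ?_⟩
      rw [R.inv, e]; group
  intro g hg h1
  obtain ⟨q, hq, h, hh, rfl⟩ := hsplit g hg
  obtain ⟨y, e, rfl⟩ := form q hq
  rw [map_mul] at h1
  have hem : ∃ s, σ h = em 1 s := by
    clear h1 hg
    induction hh using Subgroup.closure_induction with
    | mem x hx => obtain ⟨y, c, rfl⟩ := hx; exact ⟨T y c, by rw [R.lift, em_T]⟩
    | one => exact ⟨1, by rw [map_one, map_one]⟩
    | mul a b _ _ ha hb =>
      obtain ⟨s, hs⟩ := ha
      obtain ⟨t, ht⟩ := hb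
      exact ⟨s * t, by rw [map_mul, map_mul, hs, ht]⟩
    | inv a _ ha =>
      obtain ⟨s, hs⟩ := ha
      exact ⟨s⁻¹, by rw [map_inv, map_inv, hs]⟩
  obtain ⟨s, hs⟩ := hem
  -- the radical acts trivially on the middle
  have hYapp : ∀ x : V', app (σ (Y X v (pad 1 y) * X v e)) x = x +
      Cfsg.sympForm (1 + n) F x v • pad 1 y +
      (Cfsg.sympForm (1 + n) F x (pad 1 y) + (1 + e) * Cfsg.sympForm (1 + n) F x v) • v := by
    intro x
    rw [Y, R.inv, map_mul, map_mul, R.lift, R.lift, R.lift, app_mul, app_mul, app_T, app_T, app_T]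
    simp only [f_add_left, f_add_right, f_smul_left, f_self, hvp,
      show Cfsg.sympForm (1 + n) F (pad 1 y) v = 0 by rw [f_swap, hvp, neg_zero], mul_zero, add_zero]
    module
  have happ : ∀ x : V', app (σ (Y X v (pad 1 y) * X v e)) (app (σ h) x) = x := fun x => by
    rw [← app_mul, h1, app_one]
  have hs1 : s = 1 := by
    refine ext_app fun z => ?_
    have h2 := congrArg (res 1) (happ (pad 1 z))
    rw [hs, app_em_pad, hYapp, f_pad, f_pad, res_pad, hrv, f_zero_right] at h2
    rw [app_one]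
    have hadd : ∀ a b : V', res 1 (a + b) = res 1 a + res 1 b := fun _ _ => rfl
    have hsm : ∀ (a : F) (b : V'), res 1 (a • b) = a • res 1 b := fun _ _ => rfl
    simp only [hadd, hsm, res_pad, hrv, smul_zero, zero_smul, add_zero] at h2
    exact h2
  have hh1 : h = 1 := hW h hh (by rw [hs, hs1, map_one])
  rw [hh1, map_one, mul_one] at h1
  rw [hh1, mul_one]
  have h3 := hYapp w
  rw [h1, app_one, hwp, f_swap v w, hvw] at h3
  have hy : y = 0 := by
    have := congrArg (res 1) h3
    have hadd : ∀ a b : V', res 1 (a + b) = res 1 a + res 1 b := fun _ _ => rfl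
    have hsm : ∀ (a : F) (b : V'), res 1 (a • b) = a • res 1 b := fun _ _ => rfl
    have hng : ∀ b : V', res 1 (-b) = -res 1 b := fun _ => rfl
    simp only [hadd, hsm, hng, res_pad, hrv, hrw, smul_zero, add_zero, zero_add, neg_smul, one_smul] at this
    exact neg_eq_zero.1 this.symm
  subst hy
  rw [hY0, ← R.add] at h1 ⊢
  have hvne : v ≠ 0 := by simp [hv]
  have h4 := congrArg (fun g => app g w (.inr 0)) h1
  simp only [R.lift, app_T, app_one, f_swap v w, hvw] at h4
  simp [hv, hw] at h4
  rw [show (1 : F) + e = 0 by linear_combination -h4, R.zero]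

end Step

/-- An equivariant family with the relations gives a trivial extension. -/
theorem Fam.injective {F : Type*} [Field F] : ∀ {m : ℕ} {Γ : Type*} [Group Γ]
    {σ : Γ →* symplecticGroup (Fin m) F} {X : (Fin m ⊕ Fin m → F) → F → Γ},
    Fam σ X → Rels X → Function.Injective σ := by
  intro m
  induction m with
  | zero =>
    intro Γ _ σ X R _
    have hX : ∀ v c, X v c = 1 := fun v c => by
      rw [Subsingleton.elim v 0, R.zero']
    have : Subgroup.closure {g | ∃ v c, g = X v c} ≤ ⊥ := by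
      rw [Subgroup.closure_le]
      rintro _ ⟨v, c, rfl⟩
      exact hX v c
    rw [R.gen] at this
    intro a b _
    have ha := this (Subgroup.mem_top a)
    have hb := this (Subgroup.mem_top b)
    rw [Subgroup.mem_bot] at ha hb
    rw [ha, hb]
  | succ n ih =>
    obtain ⟨k, hk⟩ : ∃ k, k = n + 1 := ⟨_, rfl⟩
    rw [← hk]
    obtain rfl : k = 1 + n := by omega
    intro Γ _ σ X R L
    refine injective_of_K R L (v := Pi.single (.inr 0) 1) (by simp) (K_inj R L ?_)
    -- the smaller extension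
    let H : Subgroup Γ := Subgroup.closure {g | ∃ y c, g = X (pad 1 y) c}
    have hmem : ∀ g ∈ H, σ g ∈ (em (F := F) (n := n) 1).range := by
      intro g hg
      induction hg using Subgroup.closure_induction with
      | mem x hx => obtain ⟨y, c, rfl⟩ := hx; exact ⟨T y c, by rw [R.lift, em_T]⟩
      | one => rw [map_one]; exact one_mem _
      | mul a b _ _ ha hb => rw [map_mul]; exact mul_mem ha hb
      | inv a _ ha => rw [map_inv]; exact inv_mem ha
    let e := MonoidHom.ofInjective (em_injective (F := F) (n := n) (k := 1))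
    let σ' : H →* symplecticGroup (Fin n) F := e.symm.toMonoidHom.comp
      ((σ.comp H.subtype).codRestrict _ fun g => hmem g g.2)
    have key : ∀ g : H, em 1 (σ' g) = σ g := fun g =>
      MonoidHom.apply_ofInjective_symm (em_injective (F := F) (n := n) (k := 1)) _
    let X' : (Fin n ⊕ Fin n → F) → F → H :=
      fun y c => ⟨X (pad 1 y) c, Subgroup.subset_closure ⟨y, c, rfl⟩⟩
    have R' : Fam σ' X' := by
      refine ⟨fun g hg => ?_, fun v c => em_injective (k := 1) ?_, ?_, fun g v c => Subtype.ext ?_,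
        fun v c d => Subtype.ext (R.add _ c d), fun v a c => Subtype.ext ?_⟩
      · have h2 : (g : Γ) ∈ σ.ker := by
          rw [MonoidHom.mem_ker, ← key, MonoidHom.mem_ker.1 hg, map_one]
        exact Subgroup.mem_center_iff.2 fun r =>
          Subtype.ext (Subgroup.mem_center_iff.1 (R.central h2) _)
      · rw [key, em_T]; exact R.lift _ c
      · rw [eq_top_iff]
        rintro ⟨p, hp⟩ -
        induction hp using Subgroup.closure_induction with
        | mem x hx => obtain ⟨y, c, rfl⟩ := hx; exact Subgroup.subset_closure ⟨y, c, rfl⟩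
        | one => exact one_mem _
        | mul a b ha hb iha ihb => exact mul_mem iha ihb
        | inv a ha iha => exact inv_mem iha
      · show (g : Γ) * X (pad 1 v) c * (g : Γ)⁻¹ = X (pad 1 (app (σ' g) v)) c
        rw [R.conj, ← key, app_em_pad]
      · show X (pad 1 (a • v)) c = _
        rw [pad_smul, R.smul]
    have L' : Rels X' := by
      have hX : ∀ y c, ((X' y c : H) : Γ) = X (pad 1 y) c := fun y c => rfl
      refine ⟨fun a b c h1 h2 h3 => Subtype.ext ?_, fun v u h a c => Subtype.ext ?_,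
        fun v w u u' h h1 h2 h3 h4 => Subtype.ext ?_⟩
      · simp only [E, Subgroup.coe_mul, hX, pad_sub, pad_add, pad_smul]
        have := L.tri (pad 1 a) (pad 1 b) (pad 1 c)
          (by rwa [f_pad_pad]) (by rwa [f_pad_pad]) (by rwa [f_pad_pad])
        simpa only [E, f_pad_pad] using this
      · simp only [Y, Subgroup.coe_mul, Subgroup.coe_inv, hX, pad_add, pad_smul]
        have := L.law2 (pad 1 v) (pad 1 u) (by rwa [f_pad_pad]) a c
        simpa only [Y] using this
      · simp only [Y, Subgroup.coe_mul, Subgroup.coe_inv, hX, pad_add]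
        have := L.law3 (pad 1 v) (pad 1 w) (pad 1 u) (pad 1 u') (by rwa [f_pad_pad])
          (by rwa [f_pad_pad]) (by rwa [f_pad_pad]) (by rwa [f_pad_pad]) (by rwa [f_pad_pad])
        simpa only [Y, f_pad_pad] using this
    intro g hg h1
    have h2 : σ' ⟨g, hg⟩ = 1 := em_injective (k := 1) (by rw [key, map_one]; exact h1)
    have h3 : (⟨g, hg⟩ : H) = 1 := ih R' L' (h2.trans (map_one σ').symm)
    exact congrArg Subtype.val h3

end CfsgLib.Schur.SpFam
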