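import Mathlib
import Cfsg.Prelude.Def_KGroupFacts
import Cfsg.Agent.Lib.Schur.SpFam

/-!
# Lifts of transvections to perfect central extensions of `Sp_{2m}`

If `Sp_4` has trivial multiplier and is perfect, then the embedded copies of `Sp_4` carry
canonical lifts. They give an equivariant family with the relations, so that the extension is
trivial.
-/

set_option autoImplicit false
set_option linter.unusedSectionVars false

namespace CfsgLib.Schur.SpFam

open CfsgLib.Classical.SympTrans Matrix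
open scoped commutatorElement

universe u v

/-- Homomorphisms from a perfect group with trivial multiplier lift through central extensions. -/
theorem exists_lift_hom {A : Type u} {Q : Type*} {Γ : Type v} [Group A] [Finite A] [Group Q] [Group Γ]
    [Finite Γ] (hperf : commutator A = ⊤)
    (hinj : ∀ Δ : Subgroup (A × Γ), Cfsg.IsStemExtension ((MonoidHom.fst A Γ).comp Δ.subtype) →
      Function.Injective ((MonoidHom.fst A Γ).comp Δ.subtype))
    (f : A →* Q) {τ : Γ →* Q} (hs : Function.Surjective τ) (hc : τ.ker ≤ Subgroup.center Γ) :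
    ∃ φ : A →* Γ, ∀ x, τ (φ x) = f x := by
  let D₀ : Subgroup (A × Γ) := (f.comp (MonoidHom.fst A Γ)).eqLocus (τ.comp (MonoidHom.snd A Γ))
  let D : Subgroup (A × Γ) := ⁅D₀, D₀⁆
  have hDle : D ≤ D₀ := by
    rw [Subgroup.commutator_le]
    intro a ha b hb
    rw [commutatorElement_def]
    exact mul_mem (mul_mem (mul_mem ha hb) (inv_mem ha)) (inv_mem hb)
  have hfst : D₀.map (MonoidHom.fst A Γ) = ⊤ := by
    rw [eq_top_iff]
    intro x _
    obtain ⟨y, hy⟩ := hs (f x)
    exact ⟨(x, y), hy.symm, rfl⟩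
  have hD : D.map (MonoidHom.fst A Γ) = ⊤ := by
    rw [Subgroup.map_commutator, hfst, ← commutator_def, hperf]
  have hcen : ∀ x ∈ D₀, x.1 = 1 → x ∈ Subgroup.center (A × Γ) := by
    intro x hx h1
    have h2 : x.2 ∈ τ.ker := by
      have : f x.1 = τ x.2 := hx
      rw [MonoidHom.mem_ker, ← this, h1, map_one]
    refine Subgroup.mem_center_iff.mpr fun y => Prod.ext ?_ ?_
    · simp [h1]
    · exact Subgroup.mem_center_iff.mp (hc h2) y.2
  have hDD : D ≤ ⁅D, D⁆ := by
    rw [Subgroup.commutator_le]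
    intro a ha b hb
    obtain ⟨a', ha', ea⟩ : a.1 ∈ D.map (MonoidHom.fst A Γ) := hD ▸ Subgroup.mem_top _
    obtain ⟨b', hb', eb⟩ : b.1 ∈ D.map (MonoidHom.fst A Γ) := hD ▸ Subgroup.mem_top _
    have key : ∀ z w : A × Γ, z ∈ D₀ → z.1 = 1 → w * z = z * w := fun z w hz h1 =>
      Subgroup.mem_center_iff.mp (hcen z hz h1) w
    obtain ⟨z, hz, hz1, rfl⟩ : ∃ z, z ∈ D₀ ∧ z.1 = 1 ∧ a = a' * z :=
      ⟨a'⁻¹ * a, mul_mem (inv_mem (hDle ha')) ha, by
        show (a'.1)⁻¹ * a.1 = 1
        rw [show a'.1 = a.1 from ea, inv_mul_cancel], by group⟩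
    obtain ⟨w, hw, hw1, rfl⟩ : ∃ w, w ∈ D₀ ∧ w.1 = 1 ∧ b = b' * w :=
      ⟨b'⁻¹ * b, mul_mem (inv_mem (hDle hb')) hb, by
        show (b'.1)⁻¹ * b.1 = 1
        rw [show b'.1 = b.1 from eb, inv_mul_cancel], by group⟩
    rw [show ⁅a' * z, b' * w⁆ = ⁅a', b'⁆ by
      simp only [commutatorElement_def, _root_.mul_inv_rev]
      calc a' * z * (b' * w) * (z⁻¹ * a'⁻¹) * (w⁻¹ * b'⁻¹)
          = a' * (z * (b' * w)) * (z⁻¹ * a'⁻¹) * (w⁻¹ * b'⁻¹) := by group
        _ = a' * b' * (w * a'⁻¹) * (w⁻¹ * b'⁻¹) := by rw [← key z _ hz hz1]; group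
        _ = a' * b' * a'⁻¹ * b'⁻¹ := by rw [← key w _ hw hw1]; group]
    exact Subgroup.commutator_mem_commutator ha' hb'
  set p := (MonoidHom.fst A Γ).comp D.subtype with hp
  have hps : Function.Surjective p := fun x => by
    obtain ⟨y, hy, e⟩ : x ∈ D.map (MonoidHom.fst A Γ) := hD ▸ Subgroup.mem_top x
    exact ⟨⟨y, hy⟩, e⟩
  have hi : Function.Injective p := by
    refine hinj D ⟨hps, fun x hx => ?_, fun x _ => ?_⟩
    · refine Subgroup.mem_center_iff.mpr fun y => Subtype.ext ?_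
      exact Subgroup.mem_center_iff.mp (hcen x (hDle x.2) hx) y
    · rw [← Subgroup.mem_map_iff_mem (f := D.subtype) D.subtype_injective, commutator_def,
        Subgroup.map_commutator, ← MonoidHom.range_eq_map, Subgroup.range_subtype]
      exact hDD x.2
  let e := MulEquiv.ofBijective p ⟨hi, hps⟩
  refine ⟨((MonoidHom.snd A Γ).comp D.subtype).comp e.symm.toMonoidHom, fun x => ?_⟩
  have h : f ((e.symm x : D) : A × Γ).1 = τ ((e.symm x : D) : A × Γ).2 := hDle (e.symm x).2
  rw [show ((e.symm x : D) : A × Γ).1 = x from e.apply_symm_apply x] at h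
  exact h.symm

/-- Elements with the same images commute alike. -/
theorem commute_congr {Γ Q : Type*} [Group Γ] [Group Q] {σ : Γ →* Q} (hc : σ.ker ≤ Subgroup.center Γ)
    {a a' b b' : Γ} (ha : σ a = σ a') (hb : σ b = σ b') (h : Commute a b) : Commute a' b' := by
  have key : ∀ {x x' y : Γ}, σ x = σ x' → Commute x y → Commute x' y := by
    intro x x' y e hxy
    have hz : x⁻¹ * x' ∈ Subgroup.center Γ := hc (by rw [MonoidHom.mem_ker, map_mul, map_inv, e, inv_mul_cancel])
    have h1 : Commute (x⁻¹ * x') y := (Subgroup.mem_center_iff.1 hz y).symm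
    have := hxy.mul_left h1
    rwa [mul_inv_cancel_left] at this
  exact (key hb (key ha h).symm).symm

section Identities

variable {F : Type*} [Field F] {m : ℕ}

local notation "ω" => Cfsg.sympForm _ _
local notation "V" => (Fin m ⊕ Fin m → F)

theorem T_inv (v : V) (c : F) : (T v c)⁻¹ = T v (-c) :=
  inv_eq_of_mul_eq_one_right (by rw [T_mul, add_neg_cancel, T_zero])

theorem T_tri (a b c : V) (h1 : ω a b ≠ 0) (h2 : ω a c ≠ 0) (h3 : ω b c ≠ 0) :
    T (c - b) (ω b c)⁻¹ * T (b - a) (ω a b)⁻¹ = T (c - a) (ω a c)⁻¹ *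
      T (ω a b • c - ω a c • b + (ω a c - ω a b) • a) (ω a b * ω b c * ω a c)⁻¹ := by
  refine ext_app fun x => ?_
  simp only [app_mul, app_T, f_add_left, f_add_right, f_sub_left, f_sub_right, f_smul_left,
    f_smul_right, f_self, f_swap a b, f_swap a c, f_swap b c]
  match_scalars <;> field_simp <;> ring

theorem T_law2 (v u : V) (h : ω v u = 0) (a c : F) :
    T (u + a • v) c = T ((a * c) • u + v) 1 * (T ((a * c) • u) 1)⁻¹ * T v (c * (a * a) - 1) * T u c := by
  refine ext_app fun x => ?_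
  simp only [T_inv, app_mul, app_T, f_add_left, f_add_right, f_smul_left, f_smul_right, f_self, h,
    f_swap v u]
  match_scalars <;> ring

theorem T_law3 (v u u' : V) (h : ω v u = 0) (h' : ω v u' = 0) :
    T (u + v) 1 * (T u 1)⁻¹ * (T (u' + v) 1 * (T u' 1)⁻¹) =
      T (u + u' + v) 1 * (T (u + u') (1 : F))⁻¹ * T v (1 + ω u' u) := by
  refine ext_app fun x => ?_
  simp only [T_inv, app_mul, app_T, f_add_left, f_add_right, f_smul_left, f_smul_right, f_self, h, h',
    f_swap v u, f_swap v u', f_swap u' u]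
  match_scalars <;> ring

end Identities

section Frames

variable {F : Type*} [Field F] {m : ℕ}

local notation "ω" => Cfsg.sympForm _ _
local notation "V" => (Fin m ⊕ Fin m → F)

/-- Two pairs can be moved to the first two coordinate pairs. -/
theorem exists_std (i j : Fin m) (hi : (i : ℕ) = 0) (hj : (j : ℕ) = 1) {a b c d : V}
    (hab : ω a b = 1) (hcd : ω c d = 1) (hac : ω a c = 0) (had : ω a d = 0) (hbc : ω b c = 0)
    (hbd : ω b d = 0) :
    ∃ g : symplecticGroup (Fin m) F, app g (Pi.single (.inr i) 1) = a ∧ app g (Pi.single (.inl i) 1) = b ∧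
      app g (Pi.single (.inr j) 1) = c ∧ app g (Pi.single (.inl j) 1) = d := by
  classical
  have hstd : ∀ k : Fin m, ω (Pi.single (.inr k) 1 : V) (Pi.single (.inl k) 1) = 1 := fun k => by
    rw [f_inl]; simp
  obtain ⟨g, -, g1, g2⟩ := exists_move_pair (mem_W_zero (Pi.single (.inr i) (1 : F) : V))
    (mem_W_zero (Pi.single (.inl i) 1)) (mem_W_zero a) (mem_W_zero b) (hstd i) hab
  have hW : ∀ {z : V}, ω a z = 0 → ω b z = 0 → app g⁻¹ z ∈ W (F := F) (m := m) 1 := by
    intro z ha hb k hk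
    obtain rfl : k = i := Fin.ext (by omega)
    constructor
    · have := f_app g (app g⁻¹ z) (Pi.single (.inr k) 1)
      rw [app_inv', g1, f_swap, ha, neg_zero, f_inr] at this
      exact neg_eq_zero.1 this.symm
    · have := f_app g (app g⁻¹ z) (Pi.single (.inl k) 1)
      rw [app_inv', g2, f_swap, hb, neg_zero, f_inl] at this
      exact this.symm
  have hWj : ∀ s : Fin m ⊕ Fin m, Sum.elim id id s = j → (Pi.single s (1 : F) : V) ∈ W 1 := by
    intro s hs k hk
    have hne : k ≠ j := fun e => by rw [e, hj] at hk; omega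
    constructor <;>
    · refine Pi.single_eq_of_ne (fun e => hne ?_) _
      subst e
      exact hs
  obtain ⟨h, hh, h1, h2⟩ := exists_move_pair (hWj (.inr j) rfl) (hWj (.inl j) rfl) (hW hac hbc)
    (hW had hbd) (hstd j) (by rw [f_app, hcd])
  have hfix : ∀ s : Fin m ⊕ Fin m, Sum.elim id id s = i →
      app h (Pi.single s (1 : F)) = Pi.single s 1 := by
    intro s hs
    refine gen_fix (fun w hw => ?_) hh
    rcases s with k | k <;> (obtain rfl : k = i := hs)
    · rw [f_swap, f_inl, (hw k (by omega)).2, neg_zero]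
    · rw [f_swap, f_inr, (hw k (by omega)).1, neg_zero, neg_zero]
  exact ⟨g * h, by rw [app_mul, hfix _ rfl, g1], by rw [app_mul, hfix _ rfl, g2],
    by rw [app_mul, h1, app_inv'], by rw [app_mul, h2, app_inv']⟩

/-- The transvections orthogonal to a basis vector generate its stabiliser. -/
theorem stab_mem (i₀ : Fin m) (hi₀ : (i₀ : ℕ) = 0) (P : Subgroup (symplecticGroup (Fin m) F))
    (hP : ∀ z : V, ω (Pi.single (.inr i₀) (1 : F) : V) z = 0 → ∀ d : F, T z d ∈ P)
    (g : symplecticGroup (Fin m) F) (hgf : app g (Pi.single (.inr i₀) 1) = Pi.single (.inr i₀) 1) :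
    g ∈ P := by
  classical
  set f : V := Pi.single (.inr i₀) 1 with hf
  set w : V := Pi.single (.inl i₀) 1 with hw
  have hfw : ω f w = 1 := by rw [f_inl, hf]; simp
  -- move the partner back
  have step : ∀ a b : V, ω f a = 1 → ω f b = 1 → ω a b ≠ 0 → ∃ h ∈ P, app h f = f ∧ app h a = b := by
    intro a b ha hb hab
    refine ⟨T (b - a) (ω a b)⁻¹, hP _ ?_ _, ?_, T_diff hab⟩
    · rw [f_sub_right, ha, hb, sub_self]
    · rw [app_T, f_sub_right, ha, hb, sub_self, mul_zero, zero_smul, add_zero]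
  have hgw : ω f (app g w) = 1 := by
    have h2 := f_app g f w
    rw [hgf] at h2
    rw [h2, hfw]
  obtain ⟨h, hh, hhf, hhw⟩ : ∃ h ∈ P, app h f = f ∧ app h (app g w) = w := by
    by_cases h0 : ω (app g w) w = 0
    · have h2 : ω f (w + f) = 1 := by rw [f_add_right, hfw, f_self, add_zero]
      obtain ⟨h₁, m₁, a₁, b₁⟩ := step (app g w) (w + f) hgw h2 (by
        rw [f_add_right, h0, zero_add, f_swap f (app g w), hgw]; exact neg_ne_zero.2 one_ne_zero)
      obtain ⟨h₂, m₂, a₂, b₂⟩ := step (w + f) w h2 hfw (by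
        rw [f_add_left, f_self, zero_add, hfw]; exact one_ne_zero)
      exact ⟨h₂ * h₁, mul_mem m₂ m₁, by rw [app_mul, a₁, a₂], by rw [app_mul, b₁, b₂]⟩
    · exact step _ w hgw hfw h0
  -- the rest fixes the pair
  have hfix : ∀ g' : symplecticGroup (Fin (m)) F, app g' f = f → app g' w = w → g' ∈ P := by
    intro g' e1 e2
    have key : ∀ j ≤ m, 1 ≤ j → ∃ h ∈ gen ((W 1 : Submodule F V) : Set V), ∀ i : Fin (m),
        (i : ℕ) < j → app (h * g') (Pi.single (.inl i) 1) = Pi.single (.inl i) 1 ∧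
          app (h * g') (Pi.single (.inr i) 1) = Pi.single (.inr i) 1 := by
      intro j
      induction j with
      | zero => intro _ h; omega
      | succ j ih =>
        intro hj _
        rcases Nat.eq_zero_or_pos j with hj0 | hj0
        · refine ⟨1, one_mem _, fun i hi => ?_⟩
          obtain rfl : i = i₀ := Fin.ext (show (i : ℕ) = (i₀ : ℕ) by omega)
          rw [one_mul]
          exact ⟨e2, e1⟩
        obtain ⟨h, hh, hfix⟩ := ih (by omega) hj0
        set i₁ : Fin (m) := ⟨j, by omega⟩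
        have he' : ∀ s : Fin (m) ⊕ Fin (m), Sum.elim id id s = i₁ →
            (Pi.single s (1 : F) : V) ∈ W j := by
          intro s hs' i hi
          have hne : i ≠ i₁ := fun e => by rw [e] at hi; exact lt_irrefl j hi
          constructor <;>
          · refine Pi.single_eq_of_ne (fun e => hne ?_) _
            subst e
            exact hs'
        have hWimg : ∀ x ∈ W (F := F) (m := m) j, app (h * g') x ∈ W j := by
          intro x hx i hi
          obtain ⟨a1, a2⟩ := hfix i hi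
          constructor
          · have h3 := f_app (h * g') x (Pi.single (.inr i) 1)
            rw [a2, f_inr, f_inr, (hx i hi).1] at h3
            simpa using h3
          · have h3 := f_app (h * g') x (Pi.single (.inl i) 1)
            rw [a1, f_inl, f_inl, (hx i hi).2] at h3
            exact h3
        obtain ⟨h', hh', h1, h2⟩ := exists_move_pair (k := j)
          (hWimg _ (he' (.inr i₁) rfl)) (hWimg _ (he' (.inl i₁) rfl)) (he' (.inr i₁) rfl)
          (he' (.inl i₁) rfl) (by rw [f_app, f_inl]; simp) (by rw [f_inl]; simp)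
        have hWle : ((W j : Submodule F V) : Set V) ⊆ (W 1 : Submodule F V) :=
          fun x hx i hi => hx i (by omega)
        refine ⟨h' * h, mul_mem (gen_mono hWle hh') hh, fun i hi => ?_⟩
        rw [mul_assoc, app_mul h', app_mul h']
        rcases Nat.lt_succ_iff_lt_or_eq.1 hi with hi | hi
        · obtain ⟨a1, a2⟩ := hfix i hi
          rw [a1, a2]
          refine ⟨gen_fix (fun x hx => ?_) hh', gen_fix (fun x hx => ?_) hh'⟩
          · rw [f_swap, f_inl, (hx i hi).2, neg_zero]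
          · rw [f_swap, f_inr, (hx i hi).1, neg_zero, neg_zero]
        · obtain rfl : i = i₁ := Fin.ext hi
          exact ⟨h2, h1⟩
    obtain ⟨h, hh, hh'⟩ := key m le_rfl (by have := i₀.2; omega)
    have h1 : h * g' = 1 := Subtype.ext <| Matrix.ext_of_mulVec_single fun j => by
      rcases j with i | i
      · exact ((hh' i i.2).1).trans (one_mulVec _).symm
      · exact ((hh' i i.2).2).trans (one_mulVec _).symm
    rw [eq_inv_of_mul_eq_one_right h1]
    refine inv_mem ?_
    refine (Subgroup.closure_le P).2 ?_ hh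
    rintro _ ⟨z, hz, d, rfl⟩
    exact hP z (by rw [f_swap, hf, f_inr, (hz i₀ (by omega)).1, neg_zero, neg_zero]) d
  have h3 := hfix (h * g) (by rw [app_mul, hgf, hhf]) (by rw [app_mul, hhw])
  simpa using mul_mem (inv_mem hh) h3

/-- Lifts of all transvections generate a perfect central extension. -/
theorem gen_top {Γ : Type*} [Group Γ] {σ : Γ →* symplecticGroup (Fin m) F}
    (hperf : commutator Γ = ⊤) (hc : σ.ker ≤ Subgroup.center Γ)
    (X : (Fin m ⊕ Fin m → F) → F → Γ) (hX : ∀ x c, σ (X x c) = T x c) :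
    Subgroup.closure {g | ∃ v c, g = X v c} = ⊤ := by
  set S := Subgroup.closure {g | ∃ v c, g = X v c}
  have hmap : S.map σ = ⊤ := by
    rw [eq_top_iff, ← gen_univ, gen, Subgroup.closure_le]
    rintro _ ⟨v, -, c, rfl⟩
    exact ⟨X v c, Subgroup.subset_closure ⟨v, c, rfl⟩, hX v c⟩
  rw [eq_top_iff, ← hperf, commutator_def, Subgroup.commutator_le]
  intro a _ b _
  obtain ⟨a', ha', ea⟩ : σ a ∈ S.map σ := hmap ▸ Subgroup.mem_top _
  obtain ⟨b', hb', eb⟩ : σ b ∈ S.map σ := hmap ▸ Subgroup.mem_top _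
  have za : a'⁻¹ * a ∈ Subgroup.center Γ :=
    hc (by rw [MonoidHom.mem_ker, map_mul, map_inv, ea, inv_mul_cancel])
  have zb : b'⁻¹ * b ∈ Subgroup.center Γ :=
    hc (by rw [MonoidHom.mem_ker, map_mul, map_inv, eb, inv_mul_cancel])
  obtain ⟨z, hz, rfl⟩ : ∃ z ∈ Subgroup.center Γ, a = a' * z := ⟨_, za, by group⟩
  obtain ⟨w, hw, rfl⟩ : ∃ w ∈ Subgroup.center Γ, b = b' * w := ⟨_, zb, by group⟩
  have e : ⁅a' * z, b' * w⁆ = ⁅a', b'⁆ := by
    simp only [commutatorElement_def, _root_.mul_inv_rev]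
    have k1 := fun g => Subgroup.mem_center_iff.1 hz g
    have k2 := fun g => Subgroup.mem_center_iff.1 hw g
    calc a' * z * (b' * w) * (z⁻¹ * a'⁻¹) * (w⁻¹ * b'⁻¹)
        = a' * (z * (b' * w)) * (z⁻¹ * a'⁻¹) * (w⁻¹ * b'⁻¹) := by group
      _ = a' * b' * (w * a'⁻¹) * (w⁻¹ * b'⁻¹) := by rw [← k1]; group
      _ = a' * b' * a'⁻¹ * b'⁻¹ := by rw [← k2]; group
  rw [e, commutatorElement_def]
  exact mul_mem (mul_mem (mul_mem ha' hb') (inv_mem ha')) (inv_mem hb')

end Frames

section Lift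

variable {F : Type u} [Field F] {k : ℕ}

local notation "ω" => Cfsg.sympForm _ _
local notation "Vk" => (Fin (k + 2) ⊕ Fin (k + 2) → F)

/-- The image of the small symplectic space under `g`. -/
def frame (g : symplecticGroup (Fin (k + 2)) F) :
    Submodule F (Fin (k + 2) ⊕ Fin (k + 2) → F) where
  carrier := {x | ∃ y : Fin 2 ⊕ Fin 2 → F, x = app g (pad k y)}
  add_mem' := by
    rintro _ _ ⟨y, rfl⟩ ⟨y', rfl⟩
    exact ⟨y + y', by rw [pad_add, app_add]⟩
  zero_mem' := ⟨0, by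
    rw [show pad k (0 : Fin 2 ⊕ Fin 2 → F) = 0 by
      simpa using pad_smul (k := k) (0 : F) (0 : Fin 2 ⊕ Fin 2 → F), app, mulVec_zero]⟩
  smul_mem' := by
    rintro c _ ⟨y, rfl⟩
    exact ⟨c • y, by rw [pad_smul, app_smul]⟩

/-- A hyperbolic pair and a vector lie in one frame. -/
theorem exists_frame_four {a b c d : Vk} (hab : ω a b = 1) (hcd : ω c d = 1) (hac : ω a c = 0)
    (had : ω a d = 0) (hbc : ω b c = 0) (hbd : ω b d = 0) :
    ∃ g, a ∈ frame g ∧ b ∈ frame g ∧ c ∈ frame g ∧ d ∈ frame g := by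
  classical
  obtain ⟨g, g1, g2, g3, g4⟩ := exists_std ⟨0, by omega⟩ ⟨1, by omega⟩ rfl rfl hab hcd hac had hbc hbd
  have hp : ∀ i j : Fin 2, Cfsg.sympForm (k + 2) F (pad k (Pi.single (.inr i) 1))
      (pad k (Pi.single (.inl j) 1)) = if i = j then 1 else 0 := by
    intro i j
    rw [f_pad_pad, f_inl]
    simp [Pi.single_apply, eq_comm]
  have hrr : ∀ i j : Fin 2, Cfsg.sympForm (k + 2) F (pad k (Pi.single (.inr i) 1))
      (pad k (Pi.single (.inr j) 1)) = 0 := by
    intro i j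
    rw [f_pad_pad, f_inr]
    simp
  have hll : ∀ i j : Fin 2, Cfsg.sympForm (k + 2) F (pad k (Pi.single (.inl i) 1))
      (pad k (Pi.single (.inl j) 1)) = 0 := by
    intro i j
    rw [f_pad_pad, f_inl]
    simp
  obtain ⟨s, s1, s2, s3, s4⟩ := exists_std (F := F) (m := k + 2) ⟨0, by omega⟩ ⟨1, by omega⟩ rfl rfl
    ((hp 0 0).trans (if_pos rfl)) ((hp 1 1).trans (if_pos rfl)) (hrr 0 1)
    ((hp 0 1).trans (if_neg (by decide))) (by rw [f_swap, hp, if_neg (by decide), neg_zero]) (hll 0 1)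
  refine ⟨g * s⁻¹, ⟨Pi.single (.inr 0) 1, ?_⟩, ⟨Pi.single (.inl 0) 1, ?_⟩, ⟨Pi.single (.inr 1) 1, ?_⟩,
    ⟨Pi.single (.inl 1) 1, ?_⟩⟩
  · rw [app_mul, ← s1, app_inv, g1]
  · rw [app_mul, ← s2, app_inv, g2]
  · rw [app_mul, ← s3, app_inv, g3]
  · rw [app_mul, ← s4, app_inv, g4]

/-- A partner inside the orthogonal of a hyperbolic pair. -/
theorem exists_partner {a b c : Vk} (hab : ω a b = 1) (hac : ω a c = 0) (hbc : ω b c = 0) (hc : c ≠ 0) :
    ∃ d, ω c d = 1 ∧ ω a d = 0 ∧ ω b d = 0 := by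
  obtain ⟨z, -, hz⟩ := exists_f_ne (mem_W_zero c) hc
  refine ⟨(ω c z)⁻¹ • (z - ω a z • b + ω b z • a), ?_, ?_, ?_⟩
  · rw [f_smul_right, f_add_right, f_sub_right, f_smul_right, f_smul_right, f_swap b c, hbc, f_swap a c,
      hac, neg_zero, mul_zero, mul_zero, sub_zero, add_zero, inv_mul_cancel₀ hz]
  · rw [f_smul_right, f_add_right, f_sub_right, f_smul_right, f_smul_right, hab, f_self]; ring
  · rw [f_smul_right, f_add_right, f_sub_right, f_smul_right, f_smul_right, f_swap a b, hab, f_self]; ring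

theorem exists_other {a b : Vk} (hab : ω a b = 1) : ∃ c : Vk, c ≠ 0 ∧ ω a c = 0 ∧ ω b c = 0 := by
  classical
  obtain ⟨g, -, g1, g2⟩ := exists_move_pair
    (mem_W_zero (Pi.single (.inr (⟨0, by omega⟩ : Fin (k + 2))) (1 : F) : Vk))
    (mem_W_zero (Pi.single (.inl ⟨0, by omega⟩) 1)) (mem_W_zero a) (mem_W_zero b)
    (by rw [f_inl]; simp) hab
  refine ⟨app g (Pi.single (.inr ⟨1, by omega⟩) 1), app_ne_zero g (by simp), ?_, ?_⟩
  · rw [← g1, f_app, f_inr]; simp
  · rw [← g2, f_app, f_inr]; simp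

/-- Three vectors, two of them not orthogonal, lie in one frame. -/
theorem exists_frame {a b : Vk} (hab : ω a b ≠ 0) (c : Vk) :
    ∃ g, a ∈ frame g ∧ b ∈ frame g ∧ c ∈ frame g := by
  obtain ⟨b', hb'⟩ : ∃ b' : Vk, b' = (ω a b)⁻¹ • b := ⟨_, rfl⟩
  have h1 : ω a b' = 1 := by rw [hb', f_smul_right, inv_mul_cancel₀ hab]
  have h1' : ω b' a = -1 := by rw [f_swap a b', h1]
  obtain ⟨c', hc'⟩ : ∃ c' : Vk, c' = c - ω a c • b' + ω b' c • a := ⟨_, rfl⟩
  have ha : ω a c' = 0 := by
    rw [hc', f_add_right, f_sub_right, f_smul_right, f_smul_right, h1, f_self]; ring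
  have hb : ω b' c' = 0 := by
    rw [hc', f_add_right, f_sub_right, f_smul_right, f_smul_right, h1', f_self]; ring
  have fin : ∀ g, a ∈ frame g → b' ∈ frame g → c' ∈ frame g →
      ∃ g, a ∈ frame g ∧ b ∈ frame g ∧ c ∈ frame g := by
    intro g ga gb gc
    refine ⟨g, ga, ?_, ?_⟩
    · have := (frame g).smul_mem (ω a b) gb
      rwa [hb', smul_smul, mul_inv_cancel₀ hab, one_smul] at this
    · have := (frame g).add_mem (sub_mem gc ((frame g).smul_mem (ω b' c) ga))
        ((frame g).smul_mem (ω a c) gb)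
      rwa [hc', show c - ω a c • b' + ω b' c • a - ω b' c • a + ω a c • b' = c by abel] at this
  by_cases h0 : c' = 0
  · obtain ⟨x, hx, hax, hbx⟩ := exists_other h1
    obtain ⟨d, hd, had, hbd⟩ := exists_partner h1 hax hbx hx
    obtain ⟨g, ga, gb, -, -⟩ := exists_frame_four h1 hd hax had hbx hbd
    exact fin g ga gb (h0 ▸ (frame g).zero_mem)
  · obtain ⟨d, hd, had, hbd⟩ := exists_partner h1 ha hb h0
    obtain ⟨g, ga, gb, gc, -⟩ := exists_frame_four h1 hd ha had hb hbd
    exact fin g ga gb gc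

variable {Γ : Type v} [Group Γ] (σ : Γ →* symplecticGroup (Fin (k + 2)) F)
  (θ : symplecticGroup (Fin 2) F →* Γ)

/-- The base vector. -/
def base (F : Type u) [Field F] : Fin 2 ⊕ Fin 2 → F := Pi.single (.inr 0) 1

/-- The lifts of the transvections. -/
noncomputable def lifts (x : Fin (k + 2) ⊕ Fin (k + 2) → F) (c : F) : Γ :=
  @dite Γ (∃ γ : Γ, app (σ γ) (pad k (base F)) = x) (Classical.propDecidable _)
    (fun h => h.choose * θ (T (base F) c) * h.choose⁻¹) fun _ => 1

variable {σ θ}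

theorem eq_of_frame (hθ : ∀ s, σ (θ s) = em k s) (γ : Γ) {x y : Γ}
    (hx : x ∈ ((MulAut.conj γ).toMonoidHom.comp θ).range)
    (hy : y ∈ ((MulAut.conj γ).toMonoidHom.comp θ).range) (h : σ x = σ y) : x = y := by
  obtain ⟨s, rfl⟩ := hx
  obtain ⟨t, rfl⟩ := hy
  simp only [MonoidHom.comp_apply, MulEquiv.coe_toMonoidHom, MulAut.conj_apply, map_mul, map_inv,
    hθ, mul_left_inj, mul_right_inj] at h
  rw [em_injective h]

theorem base_ne_zero : pad k (base F) ≠ 0 := fun h => by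
  have := congrArg (res k) h
  rw [res_pad] at this
  simpa [base, res] using congrFun this (.inr 0)

theorem exists_to (hs : Function.Surjective σ) {x : Vk} (hx : x ≠ 0) :
    ∃ γ : Γ, app (σ γ) (pad k (base F)) = x := by
  obtain ⟨g, hg⟩ := exists_app_eq base_ne_zero hx
  obtain ⟨γ, hγ⟩ := hs g
  exact ⟨γ, hγ ▸ hg⟩

variable (hs : Function.Surjective σ) (hc : σ.ker ≤ Subgroup.center Γ) (hθ : ∀ s, σ (θ s) = em k s)
include hs hc hθ

theorem commute_base (δ : Γ) (hδ : app (σ δ) (pad k (base F)) = pad k (base F)) (c : F) :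
    Commute δ (θ (T (base F) c)) := by
  set e := pad k (base F) with he
  set H : Subgroup (symplecticGroup (Fin (k + 2)) F) :=
    { carrier := {g | ∀ γ, σ γ = g → Commute γ (θ (T (base F) c))}
      one_mem' := fun γ hγ => (Subgroup.mem_center_iff.1 (hc hγ) _).symm
      mul_mem' := fun {a b} ha hb γ hγ => by
        obtain ⟨γa, hγa⟩ := hs a
        obtain ⟨γb, hγb⟩ := hs b
        exact commute_congr hc (by rw [map_mul, hγa, hγb, hγ]) rfl ((ha γa hγa).mul_left (hb γb hγb))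
      inv_mem' := fun {a} ha γ hγ => by
        have := ha γ⁻¹ (by rw [map_inv, hγ, inv_inv])
        simpa using this.inv_left }
  suffices h : σ δ ∈ H from h δ rfl
  -- transvections orthogonal to the base vector
  have hT : ∀ y : Vk, ω e y = 0 → ∀ d : F, T y d ∈ H := by
    intro y hy d γ hγ
    obtain ⟨b, -, hb⟩ := exists_f_ne (mem_W_zero e) base_ne_zero
    obtain ⟨g, ge, -, gy⟩ := exists_frame hb y
    obtain ⟨γg, hγg⟩ := hs g
    obtain ⟨e', he'⟩ := ge
    obtain ⟨y', hy'⟩ := gy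
    have hlift : ∀ (z : Fin 2 ⊕ Fin 2 → F) (t : F), σ (γg * θ (T z t) * γg⁻¹) = T (app g (pad k z)) t := by
      intro z t
      rw [map_mul, map_mul, map_inv, hθ, em_T, hγg, conj_T]
    refine commute_congr hc (a := γg * θ (T y' d) * γg⁻¹) (b := γg * θ (T e' c) * γg⁻¹) ?_ ?_ ?_
    · rw [hlift, ← hy', hγ]
    · rw [hlift, ← he', hθ, em_T]
    · have hcom : Commute (T y' d) (T e' c) := by
        refine (mul_inv_eq_iff_eq_mul.1 ?_ : T y' d * T e' c = T e' c * T y' d)
        rw [conj_T]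
        congr 1
        have : ω e' y' = 0 := by
          rw [← f_pad_pad (k := k), ← f_app g, ← he', ← hy', hy]
        rw [app_T, this, mul_zero, zero_smul, add_zero]
      exact (Commute.map hcom θ).map (MulAut.conj γg).toMonoidHom
  -- they generate the stabiliser
  obtain ⟨g₀, hg₀⟩ := exists_app_eq (v := (Pi.single (.inr (⟨0, by omega⟩ : Fin (k + 2))) (1 : F) : Vk))
    (by simp) (base_ne_zero (F := F) (k := k))
  set g := g₀⁻¹ * σ δ * g₀ with hg
  have hgf : app g (Pi.single (.inr ⟨0, by omega⟩) (1 : F)) = Pi.single (.inr ⟨0, by omega⟩) 1 := by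
    have e1 := app_inv g₀ (Pi.single (.inr (⟨0, by omega⟩ : Fin (k + 2))) (1 : F))
    rw [hg₀] at e1
    rw [hg, app_mul, app_mul, hg₀, hδ, e1]
  have hmem : ∀ z, ω (Pi.single (.inr (⟨0, by omega⟩ : Fin (k + 2))) (1 : F) : Vk) z = 0 → ∀ d,
      T z d ∈ H.comap (MulAut.conj g₀).toMonoidHom := by
    intro z hz d
    show g₀ * T z d * g₀⁻¹ ∈ H
    rw [conj_T]
    exact hT _ (by rw [he, ← hg₀, f_app, hz]) d
  suffices hg' : g ∈ H.comap (MulAut.conj g₀).toMonoidHom by
    have : g₀ * g * g₀⁻¹ ∈ H := hg'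
    rwa [hg, show g₀ * (g₀⁻¹ * σ δ * g₀) * g₀⁻¹ = σ δ by group] at this
  set P := H.comap (MulAut.conj g₀).toMonoidHom
  exact stab_mem ⟨0, by omega⟩ rfl P hmem g hgf

theorem lifts_eq {γ : Γ} {x : Vk} (h : app (σ γ) (pad k (base F)) = x) (c : F) :
    lifts σ θ x c = γ * θ (T (base F) c) * γ⁻¹ := by
  have hex : ∃ γ : Γ, app (σ γ) (pad k (base F)) = x := ⟨γ, h⟩
  rw [lifts, dif_pos hex]
  set δ := γ⁻¹ * hex.choose with hδ
  have hf : app (σ δ) (pad k (base F)) = pad k (base F) := by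
    rw [hδ, map_mul, app_mul, hex.choose_spec, ← h, map_inv, app_inv]
  have := commute_base hs hc hθ δ hf c
  rw [show hex.choose = γ * δ by rw [hδ]; group]
  calc γ * δ * θ (T (base F) c) * (γ * δ)⁻¹ = γ * (δ * θ (T (base F) c)) * δ⁻¹ * γ⁻¹ := by group
    _ = _ := by rw [this.eq]; group

theorem lifts_zero (c : F) : lifts σ θ (0 : Vk) c = 1 := by
  rw [lifts, dif_neg]
  rintro ⟨γ, hγ⟩
  exact app_ne_zero (σ γ) base_ne_zero hγ

theorem lifts_conj (γ : Γ) (x : Vk) (c : F) : γ * lifts σ θ x c * γ⁻¹ = lifts σ θ (app (σ γ) x) c := by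
  by_cases hx : x = 0
  · subst hx
    rw [show app (σ γ) (0 : Vk) = 0 from mulVec_zero _, lifts_zero hs hc hθ, mul_one, mul_inv_cancel]
  obtain ⟨γ₀, h₀⟩ := exists_to hs hx
  rw [lifts_eq hs hc hθ h₀, lifts_eq hs hc hθ (γ := γ * γ₀) (by rw [map_mul, app_mul, h₀])]
  group

theorem lifts_pad (y : Fin 2 ⊕ Fin 2 → F) (c : F) : lifts σ θ (pad k y) c = θ (T y c) := by
  by_cases hy : y = 0
  · subst hy
    rw [show pad k (0 : Fin 2 ⊕ Fin 2 → F) = 0 by
      simpa using pad_smul (k := k) (0 : F) (0 : Fin 2 ⊕ Fin 2 → F), lifts_zero hs hc hθ, T_zero',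
      map_one]
  obtain ⟨d, hd⟩ := exists_app_eq (v := base F) (fun h => base_ne_zero (F := F) (k := k) (by
    rw [h]; simpa using pad_smul (k := k) (0 : F) (0 : Fin 2 ⊕ Fin 2 → F))) hy
  rw [lifts_eq hs hc hθ (γ := θ d) (by rw [hθ, app_em_pad, hd]), ← map_inv, ← map_mul, ← map_mul,
    conj_T, hd]

theorem lifts_mem_frame {γ : Γ} {x : Vk} (hx : x ∈ frame (σ γ)) (c : F) :
    lifts σ θ x c ∈ ((MulAut.conj γ).toMonoidHom.comp θ).range := by
  obtain ⟨y, rfl⟩ := hx
  exact ⟨T y c, by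
    show γ * θ (T y c) * γ⁻¹ = _
    rw [← lifts_pad hs hc hθ, lifts_conj hs hc hθ]⟩

theorem lifts_fam (hperf : commutator Γ = ⊤) : Fam σ (lifts σ θ) := by
  have hsig : ∀ x c, σ (lifts σ θ x c) = T x c := by
    intro x c
    by_cases hx : x = 0
    · rw [hx, lifts_zero hs hc hθ, map_one, T_zero']
    obtain ⟨γ₀, h₀⟩ := exists_to hs hx
    rw [lifts_eq hs hc hθ h₀, map_mul, map_mul, map_inv, hθ, em_T, conj_T, h₀]
  refine ⟨hc, hsig, ?_, lifts_conj hs hc hθ, fun x c d => ?_, fun x a c => ?_⟩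
  · exact gen_top hperf hc _ hsig
  · by_cases hx : x = 0
    · simp [hx, lifts_zero hs hc hθ]
    obtain ⟨γ₀, h₀⟩ := exists_to hs hx
    simp only [lifts_eq hs hc hθ h₀, ← T_mul, map_mul]
    group
  · by_cases hx : x = 0
    · simp [hx, lifts_zero hs hc hθ]
    obtain ⟨γ₀, h₀⟩ := exists_to hs hx
    rw [show a • x = app (σ γ₀) (pad k (a • base F)) by rw [pad_smul, app_smul, h₀],
      ← lifts_conj hs hc hθ, lifts_pad hs hc hθ, T_smul, lifts_eq hs hc hθ h₀]

theorem lifts_rels (hperf : commutator Γ = ⊤) (hq : ∃ t : F, t ≠ 0 ∧ t ≠ 1) :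
    Rels (lifts σ θ) := by
  have R := lifts_fam hs hc hθ hperf
  have hmemE : ∀ {γ : Γ} {x y : Vk}, x ∈ frame (σ γ) → y ∈ frame (σ γ) →
      E (lifts σ θ) x y ∈ ((MulAut.conj γ).toMonoidHom.comp θ).range := fun {γ x y} hx hy =>
    lifts_mem_frame hs hc hθ (sub_mem hy hx) _
  have hmemY : ∀ {γ : Γ} {x y : Vk}, x ∈ frame (σ γ) → y ∈ frame (σ γ) →
      Y (lifts σ θ) x y ∈ ((MulAut.conj γ).toMonoidHom.comp θ).range := fun {γ x y} hx hy =>
    mul_mem (lifts_mem_frame hs hc hθ (add_mem hy hx) _)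
      (inv_mem (lifts_mem_frame hs hc hθ hy _))
  have law3' : ∀ v u u' : Vk, ω v u = 0 → ω v u' = 0 → (∃ g, v ∈ frame g ∧ u ∈ frame g ∧ u' ∈ frame g) →
      Y (lifts σ θ) v u * Y (lifts σ θ) v u' =
        Y (lifts σ θ) v (u + u') * lifts σ θ v (1 + ω u' u) := by
    intro v u u' hu hu' ⟨g, gv, gu, gu'⟩
    obtain ⟨γ, rfl⟩ := hs g
    refine eq_of_frame hθ γ (mul_mem (hmemY gv gu) (hmemY gv gu'))
      (mul_mem (hmemY gv (add_mem gu gu')) (lifts_mem_frame hs hc hθ gv _)) ?_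
    simp only [Y, map_mul, map_inv, R.lift]
    exact T_law3 v u u' hu hu'
  refine ⟨fun a b c h1 h2 h3 => ?_, fun v u hvu a c => ?_, fun v w u u' hvw hu hwu hu' hwu' => ?_⟩
  · obtain ⟨g, ga, gb, gc⟩ := exists_frame h1 c
    obtain ⟨γ, rfl⟩ := hs g
    refine eq_of_frame hθ γ (mul_mem (hmemE gb gc) (hmemE ga gb)) (mul_mem (hmemE ga gc)
      (lifts_mem_frame hs hc hθ (add_mem (sub_mem ((frame _).smul_mem _ gc) ((frame _).smul_mem _ gb))
        ((frame _).smul_mem _ ga)) _)) ?_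
    simp only [E, map_mul, R.lift]
    exact T_tri a b c h1 h2 h3
  · by_cases hv : v = 0
    · subst hv
      simp [Y, lifts_zero hs hc hθ]
    obtain ⟨b, -, hb⟩ := exists_f_ne (mem_W_zero v) hv
    obtain ⟨g, gv, -, gu⟩ := exists_frame hb u
    obtain ⟨γ, rfl⟩ := hs g
    refine eq_of_frame hθ γ (lifts_mem_frame hs hc hθ (add_mem gu ((frame _).smul_mem _ gv)) _)
      (mul_mem (mul_mem (hmemY gv ((frame _).smul_mem _ gu)) (lifts_mem_frame hs hc hθ gv _))
        (lifts_mem_frame hs hc hθ gu _)) ?_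
    simp only [Y, map_mul, map_inv, R.lift]
    exact T_law2 v u hvu a c
  · have hv0 : v ≠ 0 := fun h => by rw [h, f_zero_left] at hvw; exact zero_ne_one hvw
    have hne : ω v w ≠ 0 := by rw [hvw]; exact one_ne_zero
    by_cases hdep : ω u u' ≠ 0 ∨ u = 0 ∨ ∃ t : F, u' = t • u
    · refine law3' v u u' hu hu' ?_
      rcases hdep with h | h | ⟨t, rfl⟩
      · have e : Cfsg.sympForm (k + 2) F u ((ω u u')⁻¹ • u') = 1 := by
          rw [f_smul_right, inv_mul_cancel₀ h]
        obtain ⟨g, gv, -, gu, gu'⟩ := exists_frame_four hvw e hu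
          (by rw [f_smul_right, hu', mul_zero]) hwu (by rw [f_smul_right, hwu', mul_zero])
        refine ⟨g, gv, gu, ?_⟩
        have := (frame g).smul_mem (ω u u') gu'
        rwa [smul_smul, mul_inv_cancel₀ h, one_smul] at this
      · obtain ⟨g, gv, -, gu'⟩ := exists_frame hne u'
        exact ⟨g, gv, h ▸ (frame g).zero_mem, gu'⟩
      · obtain ⟨g, gv, -, gu⟩ := exists_frame hne u
        exact ⟨g, gv, gu, (frame g).smul_mem t gu⟩
    push Not at hdep
    obtain ⟨h0, hu0, hind⟩ := hdep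
    -- break `u'` into two pieces
    obtain ⟨t, ht0, ht1⟩ := hq
    have hi : ∀ s : F, u ≠ s • u' := fun s e => by
      rcases eq_or_ne s 0 with rfl | hs0
      · exact hu0 (by rw [e, zero_smul])
      · exact hind s⁻¹ (by rw [e, smul_smul, inv_mul_cancel₀ hs0, one_smul])
    obtain ⟨z₁, hz₁, hz₁'⟩ := exists_perp_f_ne hind
    obtain ⟨z₂, hz₂, hz₂'⟩ := exists_perp_f_ne hi
    set z : Vk := (ω u z₂)⁻¹ • z₂ + (-t * (ω u' z₁)⁻¹) • z₁ with hz
    set u₁ : Vk := z - ω v z • w + ω w z • v with hu₁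
    have a1 : ω v u₁ = 0 := by
      rw [hu₁, f_add_right, f_sub_right, f_smul_right, f_smul_right, hvw, f_self]; ring
    have a2 : ω w u₁ = 0 := by
      rw [hu₁, f_add_right, f_sub_right, f_smul_right, f_smul_right, f_self, f_swap v w, hvw]; ring
    have a3 : ω u u₁ = 1 := by
      rw [hu₁, f_add_right, f_sub_right, f_smul_right, f_smul_right, f_swap w u, hwu, f_swap v u, hu, hz,
        f_add_right, f_smul_right, f_smul_right, show ω u z₁ = 0 from hz₁, inv_mul_cancel₀ hz₂']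
      ring
    have a4 : ω u' u₁ = -t := by
      rw [hu₁, f_add_right, f_sub_right, f_smul_right, f_smul_right, f_swap w u', hwu', f_swap v u', hu',
        hz, f_add_right, f_smul_right, f_smul_right, show ω u' z₂ = 0 from hz₂, mul_assoc,
        inv_mul_cancel₀ hz₁']
      ring
    set u₂ := u' - u₁ with hu₂
    have b1 : ω v u₂ = 0 := by rw [hu₂, f_sub_right, hu', a1, sub_zero]
    have b2 : ω w u₂ = 0 := by rw [hu₂, f_sub_right, hwu', a2, sub_zero]
    have c12 : ω u₁ u₂ = t := by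
      rw [hu₂, f_sub_right, f_self, sub_zero, f_swap u' u₁, a4, neg_neg]
    have c3 : ω (u + u₁) u₂ = t - 1 := by
      rw [f_add_left, c12, hu₂, f_sub_right, h0, a3]; ring
    have pair : ∀ x y : Vk, ω v x = 0 → ω w x = 0 → ω v y = 0 → ω w y = 0 → ω x y ≠ 0 →
        Y (lifts σ θ) v x * Y (lifts σ θ) v y =
          Y (lifts σ θ) v (x + y) * lifts σ θ v (1 + ω y x) := by
      intro x y hx hwx hy hwy hxy
      refine law3' v x y hx hy ?_
      have e : Cfsg.sympForm (k + 2) F x ((ω x y)⁻¹ • y) = 1 := by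
        rw [f_smul_right, inv_mul_cancel₀ hxy]
      obtain ⟨g, gv, -, gu, gu'⟩ := exists_frame_four hvw e hx
        (by rw [f_smul_right, hy, mul_zero]) hwx (by rw [f_smul_right, hwy, mul_zero])
      refine ⟨g, gv, gu, ?_⟩
      have := (frame g).smul_mem (ω x y) gu'
      rwa [smul_smul, mul_inv_cancel₀ hxy, one_smul] at this
    have p1 := pair u u₁ hu hwu a1 a2 (by rw [a3]; exact one_ne_zero)
    have p2 := pair u₁ u₂ a1 a2 b1 b2 (by rw [c12]; exact ht0)
    have p3 := pair (u + u₁) u₂ (by rw [f_add_right, hu, a1, add_zero])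
      (by rw [f_add_right, hwu, a2, add_zero]) b1 b2 (by rw [c3, sub_ne_zero]; exact ht1)
    rw [show u₁ + u₂ = u' by rw [hu₂, add_sub_cancel]] at p2
    rw [show u + u₁ + u₂ = u + u' by rw [hu₂]; abel] at p3
    have hcom : ∀ s : F, Commute (Y (lifts σ θ) v u₂) (lifts σ θ v s) := by
      intro s
      have h := R.conj (Y (lifts σ θ) v u₂) v s
      have e : app (σ (Y (lifts σ θ) v u₂)) v = v := by
        simp only [Y, map_mul, map_inv, R.lift, T_inv, app_mul, app_T]
        simp [f_add_right, f_self, b1]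
      rw [e, mul_inv_eq_iff_eq_mul] at h
      exact h
    have e2 : Y (lifts σ θ) v u' =
        Y (lifts σ θ) v u₁ * Y (lifts σ θ) v u₂ * (lifts σ θ v (1 + ω u₂ u₁))⁻¹ := by
      rw [p2, mul_inv_cancel_right]
    rw [e2, ← mul_assoc, ← mul_assoc, p1, mul_assoc (Y (lifts σ θ) v (u + u₁)), ← (hcom _).eq,
      ← mul_assoc, p3, R.inv, mul_assoc, ← R.add, mul_assoc, ← R.add]
    congr 2
    rw [f_add_right u₂, hu₂, f_sub_left, f_sub_left, f_self]
    ring

end Lift

/-- Central extensions of `Sp_{2m}`, `m ≥ 3`, from those of `Sp_4`. -/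
theorem injective_of_four {F : Type u} [Field F] [Finite F] {k : ℕ} {Γ : Type v} [Group Γ] [Finite Γ]
    (hperf : commutator (symplecticGroup (Fin 2) F) = ⊤)
    (hfour : ∀ Δ : Subgroup (symplecticGroup (Fin 2) F × Γ),
      Cfsg.IsStemExtension ((MonoidHom.fst _ Γ).comp Δ.subtype) →
        Function.Injective ((MonoidHom.fst (symplecticGroup (Fin 2) F) Γ).comp Δ.subtype))
    (hq : ∃ t : F, t ≠ 0 ∧ t ≠ 1) (σ : Γ →* symplecticGroup (Fin (k + 2)) F)
    (hs : Function.Surjective σ) (hc : σ.ker ≤ Subgroup.center Γ) (hΓ : commutator Γ = ⊤) :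
    Function.Injective σ := by
  obtain ⟨θ, hθ⟩ := exists_lift_hom hperf hfour (em k) hs hc
  exact (lifts_fam hs hc hθ hΓ).injective (lifts_rels hs hc hθ hΓ hq)

end CfsgLib.Schur.SpFam
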