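import Mathlib
import Cfsg.Agent.Lib.Schur.SpLift
import Cfsg.Agent.Lib.Schur.Hopf

/-!
# Central extensions of `Sp_{2m}(2)`, `m ≥ 4`

A class of lifts of the transvections exists because the transvections orthogonal to a vector
commute with its lift. After a rescaling by a central element the family has the relations.
-/

set_option autoImplicit false
set_option linter.unusedSectionVars false

namespace CfsgLib.Schur.SpFam

open CfsgLib.Classical.SympTrans Matrix
open scoped commutatorElement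

universe u v

section Frames

variable {F : Type*} [Field F] {m : ℕ}

local notation "ω" => Cfsg.sympForm _ _
local notation "V" => (Fin m ⊕ Fin m → F)

/-- A pair and a totally isotropic pair orthogonal to it can be moved to standard position. -/
theorem exists_std_three (i j l : Fin m) (hi : (i : ℕ) = 0) (hj : (j : ℕ) = 1) (hl : (l : ℕ) = 2)
    {v w u u' : V} (hvw : ω v w = 1) (hu : ω v u = 0) (hwu : ω w u = 0) (hu' : ω v u' = 0)
    (hwu' : ω w u' = 0) (h0 : ω u u' = 0) (hu0 : u ≠ 0) (hind : ∀ c : F, u' ≠ c • u) :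
    ∃ g : symplecticGroup (Fin m) F, app g (Pi.single (.inr i) 1) = v ∧
      app g (Pi.single (.inr j) 1) = u ∧ app g (Pi.single (.inr l) 1) = u' := by
  classical
  have hu'0 : u' ≠ 0 := fun h => hind 0 (by rw [h, zero_smul])
  have hi' : ∀ c : F, u ≠ c • u' := fun c e => by
    rcases eq_or_ne c 0 with rfl | hc
    · exact hu0 (by rw [e, zero_smul])
    · exact hind c⁻¹ (by rw [e, smul_smul, inv_mul_cancel₀ hc, one_smul])
  obtain ⟨z, hz, hz'⟩ := exists_perp_f_ne hi'
  set d : V := (ω u z)⁻¹ • (z - ω v z • w + ω w z • v) with hd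
  have hd1 : ω u d = 1 := by
    rw [hd, f_smul_right, f_add_right, f_sub_right, f_smul_right, f_smul_right, f_swap w u, hwu,
      f_swap v u, hu, neg_zero, mul_zero, mul_zero, sub_zero, add_zero, inv_mul_cancel₀ hz']
  have hd2 : ω v d = 0 := by
    rw [hd, f_smul_right, f_add_right, f_sub_right, f_smul_right, f_smul_right, hvw, f_self]; ring
  have hd3 : ω w d = 0 := by
    rw [hd, f_smul_right, f_add_right, f_sub_right, f_smul_right, f_smul_right, f_self, f_swap v w, hvw]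
    ring
  have hd4 : ω u' d = 0 := by
    rw [hd, f_smul_right, f_add_right, f_sub_right, f_smul_right, f_smul_right, f_swap w u', hwu',
      f_swap v u', hu', show ω u' z = 0 from hz]
    ring
  obtain ⟨g, g1, g2, g3, g4⟩ := exists_std i j hi hj hvw hd1 hu hd2 hwu hd3
  -- the last vector
  have hW : app g⁻¹ u' ∈ W (F := F) (m := m) 2 := by
    intro k hk
    rcases (show (k : ℕ) = 0 ∨ (k : ℕ) = 1 by omega) with e | e
    · obtain rfl : k = i := Fin.ext (by omega)
      constructor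
      · have := f_app g (app g⁻¹ u') (Pi.single (.inr k) 1)
        rw [app_inv', g1, f_swap, hu', neg_zero, f_inr] at this
        exact neg_eq_zero.1 this.symm
      · have := f_app g (app g⁻¹ u') (Pi.single (.inl k) 1)
        rw [app_inv', g2, f_swap, hwu', neg_zero, f_inl] at this
        exact this.symm
    · obtain rfl : k = j := Fin.ext (by omega)
      constructor
      · have := f_app g (app g⁻¹ u') (Pi.single (.inr k) 1)
        rw [app_inv', g3, f_swap, h0, neg_zero, f_inr] at this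
        exact neg_eq_zero.1 this.symm
      · have := f_app g (app g⁻¹ u') (Pi.single (.inl k) 1)
        rw [app_inv', g4, hd4, f_inl] at this
        exact this.symm
  have hl' : (Pi.single (.inr l) (1 : F) : V) ∈ W 2 := by
    intro k hk
    have hne : k ≠ l := fun e => by rw [e, hl] at hk; omega
    exact ⟨by simp, Pi.single_eq_of_ne (fun e => hne (Sum.inr_injective e)) _⟩
  obtain ⟨h, hh, hhl⟩ := exists_move hl' hW (by simp) (app_ne_zero _ hu'0)
  have hfix : ∀ k : Fin m, (k : ℕ) < 2 → app h (Pi.single (.inr k) (1 : F)) = Pi.single (.inr k) 1 :=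
    fun k hk => gen_fix (fun x hx => by rw [f_swap, f_inr, (hx k hk).1, neg_zero, neg_zero]) hh
  exact ⟨g * h, by rw [app_mul, hfix i (by omega), g1], by rw [app_mul, hfix j (by omega), g3],
    by rw [app_mul, hhl, app_inv']⟩

end Frames

section Two

variable {F : Type u} [Field F] {n : ℕ} {Γ : Type v} [Group Γ]
  (σ : Γ →* symplecticGroup (Fin (1 + n)) F) (t : Γ)

local notation "ω" => Cfsg.sympForm _ _
local notation "V1" => (Fin (1 + n) ⊕ Fin (1 + n) → F)

/-- The first coordinate. -/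
def fz (n : ℕ) : Fin (1 + n) := ⟨0, by omega⟩

/-- The base vector. -/
def e0 (F : Type u) [Field F] (n : ℕ) : Fin (1 + n) ⊕ Fin (1 + n) → F := Pi.single (.inr (fz n)) 1

/-- The class of the lift `t`. -/
noncomputable def cls (x : Fin (1 + n) ⊕ Fin (1 + n) → F) (c : F) : Γ :=
  @ite Γ (c = 0) (Classical.propDecidable _) 1
    (@dite Γ (∃ γ : Γ, app (σ γ) (e0 F n) = x) (Classical.propDecidable _)
      (fun h => h.choose * t * h.choose⁻¹) fun _ => 1)

variable {σ t}

theorem e0_ne_zero : e0 F n ≠ 0 := by simp [e0]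

theorem cls_zero (x : V1) : cls σ t x 0 = 1 := by simp [cls]

theorem cls_zero' (c : F) : cls σ t (0 : V1) c = 1 := by
  by_cases hc : c = 0
  · rw [hc, cls_zero]
  rw [cls, if_neg hc, dif_neg]
  rintro ⟨γ, hγ⟩
  exact app_ne_zero (σ γ) e0_ne_zero hγ

section Perfect

variable (h2 : ∀ c : F, c = 0 ∨ c = 1) (hn : 3 ≤ n) (hs : Function.Surjective σ)
  (hc : σ.ker ≤ Subgroup.center Γ) (hperf : commutator (symplecticGroup (Fin n) F) = ⊤)
  (ht : σ t = T (e0 F n) 1)
include h2 hn hs hc hperf ht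

theorem commute_t_of_perfect (δ : Γ) (hδ : app (σ δ) (e0 F n) = e0 F n) : Commute δ t := by
  let H : Subgroup (symplecticGroup (Fin (1 + n)) F) :=
    { carrier := {g | ∀ γ, σ γ = g → Commute γ t}
      one_mem' := fun γ hγ => (Subgroup.mem_center_iff.1 (hc hγ) _).symm
      mul_mem' := fun {a b} ha hb γ hγ => by
        obtain ⟨γa, hγa⟩ := hs a
        obtain ⟨γb, hγb⟩ := hs b
        exact commute_congr hc (by rw [map_mul, hγa, hγb, hγ]) rfl ((ha γa hγa).mul_left (hb γb hγb))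
      inv_mem' := fun {a} ha γ hγ => by
        have := ha γ⁻¹ (by rw [map_inv, hγ, inv_inv])
        simpa using this.inv_left }
  suffices h : σ δ ∈ H from h δ rfl
  have hres : res 1 (e0 F n) = 0 := by
    funext i; rcases i with i | i <;> simp [res, e0, fz, Fin.ext_iff]
  have hfixe : ∀ s : symplecticGroup (Fin n) F, app (em 1 s) (e0 F n) = e0 F n := fun s => by
    rw [app_em, hres, show app s 0 = 0 from mulVec_zero _]
    abel
  -- the smaller group is perfect
  have hem : ∀ s : symplecticGroup (Fin n) F, em 1 s ∈ H := by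
    have h : ⊤ ≤ H.comap (em (F := F) (n := n) 1) := by
      rw [← hperf, commutator_def, Subgroup.commutator_le]
      intro a _ b _ γ hγ
      obtain ⟨γa, hγa⟩ := hs (em 1 a)
      obtain ⟨γb, hγb⟩ := hs (em 1 b)
      refine commute_congr hc (a := ⁅γa, γb⁆) (b := t) ?_ rfl ?_
      · rw [map_commutatorElement, hγa, hγb, hγ, map_commutatorElement]
      -- conjugation by `t` moves lifts by central elements
      show ⁅γa, γb⁆ * t = t * ⁅γa, γb⁆
      have key : t⁻¹ * ⁅γa, γb⁆ * t = ⁅γa, γb⁆ := by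
        rw [show t⁻¹ * ⁅γa, γb⁆ * t = ⁅t⁻¹ * γa * t, t⁻¹ * γb * t⁆ by
          simp only [commutatorElement_def]; group]
        have cz : ∀ {g γ}, app g (e0 F n) = e0 F n → σ γ = g → σ (t⁻¹ * γ * t) = σ γ := by
          intro g γ hg hγ
          have hcm : g * T (e0 F n) (1 : F) = T (e0 F n) 1 * g := by
            rw [← mul_inv_eq_iff_eq_mul, conj_T, hg]
          rw [map_mul, map_mul, map_inv, ht, hγ, mul_assoc, hcm, inv_mul_cancel_left]
        exact commutatorElement_congr σ hc (cz (hfixe a) hγa) (cz (hfixe b) hγb)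
      calc ⁅γa, γb⁆ * t = t * (t⁻¹ * ⁅γa, γb⁆ * t) := by group
        _ = _ := by rw [key]
    exact fun s => h (Subgroup.mem_top s)
  -- transvections orthogonal to the base vector
  have hT : ∀ y : V1, ω (e0 F n) y = 0 → ∀ d : F, T y d ∈ H := by
    intro y hy d
    rcases h2 d with rfl | rfl
    · rw [T_zero]; exact one_mem H
    by_cases hdep : ∃ a : F, y = a • e0 F n
    · obtain ⟨a, rfl⟩ := hdep
      rcases h2 a with rfl | rfl
      · rw [zero_smul, T_zero']; exact one_mem H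
      · intro γ hγ
        rw [one_smul, ← ht] at hγ
        exact commute_congr hc hγ.symm rfl (Commute.refl t)
    push Not at hdep
    classical
    set z : Fin n ⊕ Fin n → F := Pi.single (.inr ⟨0, by omega⟩) 1 with hz
    have hz1 : ω (e0 F n) (pad 1 z) = 0 := by rw [f_pad', hres, f_zero_left]
    have hz2 : ∀ a : F, pad 1 z ≠ a • e0 F n := fun a e => by
      have := congrArg (res 1) e
      rw [res_pad, show res 1 (a • e0 F n) = a • res 1 (e0 F n) from rfl, hres, smul_zero] at this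
      simp [hz] at this
    obtain ⟨g, hg, hgy⟩ := exists_move_perp hz1 hy hz2 hdep
    intro γ hγ
    obtain ⟨γg, hγg⟩ := hs g
    obtain ⟨γz, hγz⟩ := hs (em 1 (T z 1))
    have hcom : Commute γz t := hem _ γz hγz
    refine commute_congr hc (a := γg * γz * γg⁻¹) (b := γg * t * γg⁻¹) ?_ ?_ (hcom.map (MulAut.conj γg).toMonoidHom)
    · rw [map_mul, map_mul, map_inv, hγg, hγz, em_T, conj_T, hgy, hγ]
    · rw [map_mul, map_mul, map_inv, hγg, ht, conj_T, hg]
  exact stab_mem (fz n) rfl H hT _ hδ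

omit t ht in
/-- Lifts of commuting transvections commute when the smaller group is perfect. -/
theorem comm_of_perfect : ∀ x y : Fin (1 + n) ⊕ Fin (1 + n) → F, Cfsg.sympForm (1 + n) F x y = 0 → ∀ γ δ : Γ,
    σ γ = T x (1 : F) → σ δ = T y (1 : F) →
    Commute γ δ := by
  intro x y hxy γ δ hγ hδ
  by_cases hx : x = 0
  · rw [hx, T_zero'] at hγ
    exact (Subgroup.mem_center_iff.1 (hc hγ) δ).symm
  obtain ⟨g, hg⟩ := exists_app_eq e0_ne_zero hx
  obtain ⟨γg, rfl⟩ := hs g
  have ht' : σ (γg⁻¹ * γ * γg) = T (e0 F n) 1 := by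
    rw [map_mul, map_mul, hγ, map_inv, show (σ γg)⁻¹ * T x 1 * σ γg =
      (σ γg)⁻¹ * T x 1 * (σ γg)⁻¹⁻¹ by rw [inv_inv], conj_T, ← hg, app_inv]
  have hfix : app (σ (γg⁻¹ * δ * γg)) (e0 F n) = e0 F n := by
    rw [map_mul, map_mul, app_mul, app_mul, hg, hδ, app_T, hxy, mul_zero, zero_smul, add_zero,
      ← hg, map_inv, app_inv]
  have h := (commute_t_of_perfect h2 hn hs hc hperf ht' _ hfix).map (MulAut.conj γg).toMonoidHom
  simpa [mul_assoc] using h.symm

end Perfect

variable (h2 : ∀ c : F, c = 0 ∨ c = 1) (hn : 2 ≤ n) (hs : Function.Surjective σ)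
  (hc : σ.ker ≤ Subgroup.center Γ)
  (hcom : ∀ x y : Fin (1 + n) ⊕ Fin (1 + n) → F, Cfsg.sympForm (1 + n) F x y = 0 → ∀ γ δ : Γ, σ γ = T x (1 : F) →
    σ δ = T y (1 : F) → Commute γ δ)
  (ht : σ t = T (e0 F n) 1)
include h2 hn hs hc hcom ht

theorem commute_t (δ : Γ) (hδ : app (σ δ) (e0 F n) = e0 F n) : Commute δ t := by
  let H : Subgroup (symplecticGroup (Fin (1 + n)) F) :=
    { carrier := {g | ∀ γ, σ γ = g → Commute γ t}
      one_mem' := fun γ hγ => (Subgroup.mem_center_iff.1 (hc hγ) _).symm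
      mul_mem' := fun {a b} ha hb γ hγ => by
        obtain ⟨γa, hγa⟩ := hs a
        obtain ⟨γb, hγb⟩ := hs b
        exact commute_congr hc (by rw [map_mul, hγa, hγb, hγ]) rfl ((ha γa hγa).mul_left (hb γb hγb))
      inv_mem' := fun {a} ha γ hγ => by
        have := ha γ⁻¹ (by rw [map_inv, hγ, inv_inv])
        simpa using this.inv_left }
  suffices h : σ δ ∈ H from h δ rfl
  have hT : ∀ y : V1, ω (e0 F n) y = 0 → ∀ d : F, T y d ∈ H := by
    intro y hy d
    rcases h2 d with rfl | rfl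
    · rw [T_zero]; exact one_mem H
    intro γ hγ
    exact hcom y _ (by rw [f_swap, hy, neg_zero]) γ t hγ ht
  exact stab_mem (fz n) rfl H hT _ hδ

theorem cls_eq {γ : Γ} {x : V1} (h : app (σ γ) (e0 F n) = x) : cls σ t x 1 = γ * t * γ⁻¹ := by
  have hex : ∃ γ : Γ, app (σ γ) (e0 F n) = x := ⟨γ, h⟩
  rw [cls, if_neg one_ne_zero, dif_pos hex]
  set δ := γ⁻¹ * hex.choose with hδ
  have hf : app (σ δ) (e0 F n) = e0 F n := by
    rw [hδ, map_mul, app_mul, hex.choose_spec, ← h, map_inv, app_inv]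
  have := commute_t h2 hn hs hc hcom ht δ hf
  rw [show hex.choose = γ * δ by rw [hδ]; group]
  calc γ * δ * t * (γ * δ)⁻¹ = γ * (δ * t) * δ⁻¹ * γ⁻¹ := by group
    _ = _ := by rw [this.eq]; group

omit t ht in
theorem exists_to_e0 {x : V1} (hx : x ≠ 0) : ∃ γ : Γ, app (σ γ) (e0 F n) = x := by
  obtain ⟨g, hg⟩ := exists_app_eq e0_ne_zero hx
  obtain ⟨γ, hγ⟩ := hs g
  exact ⟨γ, hγ ▸ hg⟩

theorem cls_lift (x : V1) (c : F) : σ (cls σ t x c) = T x c := by
  rcases h2 c with rfl | rfl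
  · rw [cls_zero, map_one, T_zero]
  by_cases hx : x = 0
  · rw [hx, cls_zero', map_one, T_zero']
  obtain ⟨γ, hγ⟩ := exists_to_e0 h2 hn hs hc hcom hx
  rw [cls_eq h2 hn hs hc hcom ht hγ, map_mul, map_mul, map_inv, ht, conj_T, hγ]

theorem cls_conj (γ : Γ) (x : V1) (c : F) : γ * cls σ t x c * γ⁻¹ = cls σ t (app (σ γ) x) c := by
  rcases h2 c with rfl | rfl
  · rw [cls_zero, cls_zero, mul_one, mul_inv_cancel]
  by_cases hx : x = 0
  · rw [hx, show app (σ γ) (0 : V1) = 0 from mulVec_zero _, cls_zero', mul_one, mul_inv_cancel]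
  obtain ⟨γ₀, h₀⟩ := exists_to_e0 h2 hn hs hc hcom hx
  rw [cls_eq h2 hn hs hc hcom ht h₀,
    cls_eq h2 hn hs hc hcom ht (γ := γ * γ₀) (by rw [map_mul, app_mul, h₀])]
  group

theorem cls_scale {ε : Γ} (hε : ε ∈ σ.ker) {x : V1} (hx : x ≠ 0) :
    cls σ (t * ε) x 1 = cls σ t x 1 * ε := by
  obtain ⟨γ, hγ⟩ := exists_to_e0 h2 hn hs hc hcom hx
  have ht' : σ (t * ε) = T (e0 F n) 1 := by rw [map_mul, MonoidHom.mem_ker.1 hε, mul_one, ht]
  rw [cls_eq h2 hn hs hc hcom ht hγ, cls_eq h2 hn hs hc hcom ht' hγ, ← mul_assoc, mul_assoc (γ * t),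
    ← Subgroup.mem_center_iff.1 (hc hε) γ⁻¹]
  group

theorem cls_comm {x y : V1} (h : ω y x = 0) (c d : F) : Commute (cls σ t x c) (cls σ t y d) := by
  have := cls_conj h2 hn hs hc hcom ht (cls σ t x c) y d
  rw [cls_lift h2 hn hs hc hcom ht, app_T, h, mul_zero, zero_smul, add_zero, mul_inv_eq_iff_eq_mul]
    at this
  exact this

end Two

/-- Central extensions of `Sp_{2m}(2)`, `m ≥ 3`, in which the lifts of commuting transvections
commute, are trivial. -/
theorem injective_two_of_comm {F : Type u} [Field F] {n : ℕ} {Γ : Type v} [Group Γ]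
    (h2 : ∀ c : F, c = 0 ∨ c = 1) (hn : 2 ≤ n)
    (σ : Γ →* symplecticGroup (Fin (1 + n)) F) (hs : Function.Surjective σ)
    (hc : σ.ker ≤ Subgroup.center Γ) (hΓ : commutator Γ = ⊤)
    (hcom : ∀ x y : Fin (1 + n) ⊕ Fin (1 + n) → F, Cfsg.sympForm (1 + n) F x y = 0 →
      ∀ γ δ : Γ, σ γ = T x 1 → σ δ = T y 1 → Commute γ δ) : Function.Injective σ := by
  classical
  have htwo : (1 : F) + 1 = 0 := (h2 (1 + 1)).resolve_right fun e => one_ne_zero (α := F)
    (by linear_combination e)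
  obtain ⟨t₀, ht₀⟩ := hs (T (e0 F n) 1)
  have hmul : ∀ {t : Γ}, σ t = T (e0 F n) 1 → ∀ {x : Fin (1 + n) ⊕ Fin (1 + n) → F}, x ≠ 0 →
      cls σ t x 1 * cls σ t x 1 = t * t := by
    intro t ht x hx
    obtain ⟨γ, hγ⟩ := exists_to_e0 h2 hn hs hc hcom hx
    rw [cls_eq h2 hn hs hc hcom ht hγ, show γ * t * γ⁻¹ * (γ * t * γ⁻¹) = γ * (t * t) * γ⁻¹ by group]
    have hz : t * t ∈ Subgroup.center Γ := hc (by
      rw [MonoidHom.mem_ker, map_mul, ht, T_mul, htwo, T_zero])
    rw [Subgroup.mem_center_iff.1 hz γ, mul_inv_cancel_right]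
  -- the seven term relation
  let P : Γ → (Fin (1 + n) ⊕ Fin (1 + n) → F) → _ → _ → Γ := fun t v u u' =>
    cls σ t (u + v) 1 * cls σ t u 1 * (cls σ t (u' + v) 1 * cls σ t u' 1) *
      (cls σ t (u + u' + v) 1 * cls σ t (u + u') 1 * cls σ t v 1)⁻¹
  set v₀ : Fin (1 + n) ⊕ Fin (1 + n) → F := Pi.single (.inr ⟨0, by omega⟩) 1 with hv₀
  set u₀ : Fin (1 + n) ⊕ Fin (1 + n) → F := Pi.single (.inr ⟨1, by omega⟩) 1 with hu₀
  set u₁ : Fin (1 + n) ⊕ Fin (1 + n) → F := Pi.single (.inr ⟨2, by omega⟩) 1 with hu₁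
  have o : ∀ i j : Fin (1 + n), Cfsg.sympForm (1 + n) F (Pi.single (.inr i) 1) (Pi.single (.inr j) 1) = 0 :=
    fun i j => by rw [f_inr]; simp
  have hTP : ∀ (t : Γ), σ t = T (e0 F n) 1 → σ (P t v₀ u₀ u₁) = 1 := by
    intro t ht
    have h := T_law3 v₀ u₀ u₁ (o _ _) (o _ _)
    have hi : ∀ y : Fin (1 + n) ⊕ Fin (1 + n) → F, (T y (1 : F))⁻¹ = T y 1 := fun y =>
      inv_eq_of_mul_eq_one_right (by rw [T_mul, htwo, T_zero])
    rw [hi, hi, hi, show Cfsg.sympForm (1 + n) F u₁ u₀ = 0 from o ⟨2, by omega⟩ ⟨1, by omega⟩, add_zero] at h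
    simp only [P, map_mul, map_inv, cls_lift h2 hn hs hc hcom ht]
    rw [h, mul_inv_cancel]
  set z := P t₀ v₀ u₀ u₁ with hz
  set t := t₀ * z⁻¹ with htdef
  have hzk : z⁻¹ ∈ σ.ker := inv_mem (MonoidHom.mem_ker.2 (hTP t₀ ht₀))
  have ht : σ t = T (e0 F n) 1 := by rw [htdef, map_mul, MonoidHom.mem_ker.1 hzk, mul_one, ht₀]
  have nz : v₀ ≠ 0 ∧ u₀ ≠ 0 ∧ u₁ ≠ 0 ∧ u₀ + v₀ ≠ 0 ∧ u₁ + v₀ ≠ 0 ∧ u₀ + u₁ ≠ 0 ∧ u₀ + u₁ + v₀ ≠ 0 := by
    refine ⟨by simp [hv₀], by simp [hu₀], by simp [hu₁], fun h => ?_, fun h => ?_, fun h => ?_, fun h => ?_⟩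
    · simpa [hv₀, hu₀, Fin.ext_iff] using congrFun h (.inr ⟨1, by omega⟩)
    · simpa [hv₀, hu₁, Fin.ext_iff] using congrFun h (.inr ⟨2, by omega⟩)
    · simpa [hu₁, hu₀, Fin.ext_iff] using congrFun h (.inr ⟨1, by omega⟩)
    · simpa [hv₀, hu₀, hu₁, Fin.ext_iff] using congrFun h (.inr ⟨1, by omega⟩)
  obtain ⟨n1, n2, n3, n4, n5, n6, n7⟩ := nz
  have hzc : ∀ g : Γ, Commute z g := fun g => (Subgroup.mem_center_iff.1 (hc (hTP t₀ ht₀)) g).symm
  have hP1 : P t v₀ u₀ u₁ = 1 := by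
    simp only [P, htdef, cls_scale h2 hn hs hc hcom ht₀ hzk n1, cls_scale h2 hn hs hc hcom ht₀ hzk n2,
      cls_scale h2 hn hs hc hcom ht₀ hzk n3, cls_scale h2 hn hs hc hcom ht₀ hzk n4,
      cls_scale h2 hn hs hc hcom ht₀ hzk n5, cls_scale h2 hn hs hc hcom ht₀ hzk n6,
      cls_scale h2 hn hs hc hcom ht₀ hzk n7]
    have hz' : z = cls σ t₀ (u₀ + v₀) 1 * cls σ t₀ u₀ 1 * (cls σ t₀ (u₁ + v₀) 1 * cls σ t₀ u₁ 1) *
        (cls σ t₀ (u₀ + u₁ + v₀) 1 * cls σ t₀ (u₀ + u₁) 1 * cls σ t₀ v₀ 1)⁻¹ := hz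
    generalize cls σ t₀ (u₀ + v₀) 1 = A at *
    generalize cls σ t₀ u₀ 1 = B at *
    generalize cls σ t₀ (u₁ + v₀) 1 = C at *
    generalize cls σ t₀ u₁ 1 = D at *
    generalize cls σ t₀ (u₀ + u₁ + v₀) 1 = A' at *
    generalize cls σ t₀ (u₀ + u₁) 1 = B' at *
    generalize cls σ t₀ v₀ 1 = C' at *
    have e : ∀ g : Γ, z⁻¹ * g = g * z⁻¹ := fun g => ((hzc g).inv_left).eq
    have mv : ∀ (g k : Γ) (i : ℤ), g * z⁻¹ ^ i * (k * z⁻¹) = g * k * z⁻¹ ^ (i + 1) := fun g k i => by
      rw [mul_assoc, ← mul_assoc (z⁻¹ ^ i), (((hzc k).inv_left).zpow_left i).eq, mul_assoc k,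
        ← _root_.zpow_add_one, ← mul_assoc]
    have mv' : ∀ (g k : Γ) (i j : ℤ), g * z⁻¹ ^ i * (k * z⁻¹ ^ j) = g * k * z⁻¹ ^ (i + j) := fun g k i j => by
      rw [mul_assoc, ← mul_assoc (z⁻¹ ^ i), (((hzc k).inv_left).zpow_left i).eq, mul_assoc k,
        ← _root_.zpow_add, ← mul_assoc]
    have e1 : ∀ g k : Γ, g * z⁻¹ * (k * z⁻¹) = g * k * z⁻¹ ^ (2 : ℤ) := fun g k => by
      simpa using mv g k 1
    calc A * z⁻¹ * (B * z⁻¹) * (C * z⁻¹ * (D * z⁻¹)) * (A' * z⁻¹ * (B' * z⁻¹) * (C' * z⁻¹))⁻¹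
        = A * B * (C * D) * z⁻¹ ^ (4 : ℤ) * ((A' * B' * C') * z⁻¹ ^ (3 : ℤ))⁻¹ := by
          rw [e1, e1, e1, mv', mv]
          rfl
      _ = A * B * (C * D) * z⁻¹ * (A' * B' * C')⁻¹ := by group
      _ = A * B * (C * D) * (A' * B' * C')⁻¹ * z⁻¹ := by rw [mul_assoc, e, ← mul_assoc]
      _ = 1 := by rw [← hz', mul_inv_cancel]
  have hPall : ∀ (v w u u' : Fin (1 + n) ⊕ Fin (1 + n) → F), Cfsg.sympForm (1 + n) F v w = 1 →
      Cfsg.sympForm (1 + n) F v u = 0 → Cfsg.sympForm (1 + n) F w u = 0 →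
      Cfsg.sympForm (1 + n) F v u' = 0 → Cfsg.sympForm (1 + n) F w u' = 0 →
      Cfsg.sympForm (1 + n) F u u' = 0 → u ≠ 0 → (∀ c : F, u' ≠ c • u) → P t v u u' = 1 := by
    intro v w u u' a1 a2 a3 a4 a5 a6 a7 a8
    obtain ⟨g, g1, g2, g3⟩ := exists_std_three (⟨0, by omega⟩ : Fin (1 + n)) ⟨1, by omega⟩ ⟨2, by omega⟩
      rfl rfl rfl a1 a2 a3 a4 a5 a6 a7 a8
    obtain ⟨γ, rfl⟩ := hs g
    have := congrArg (MulAut.conj γ) hP1
    simp only [P, map_mul, map_inv, MulAut.conj_apply, cls_conj h2 hn hs hc hcom ht, map_one, app_add,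
      hv₀, hu₀, hu₁, g1, g2, g3] at this
    exact this
  -- squares
  have hsq : t * t = 1 := by
    have hne : e0 F n ≠ 0 := e0_ne_zero
    have cm : ∀ a b : Fin (1 + n) ⊕ Fin (1 + n) → F, Cfsg.sympForm (1 + n) F b a = 0 →
        Commute (cls σ t a 1) (cls σ t b 1) := fun a b h => cls_comm h2 hn hs hc hcom ht h 1 1
    have h := mul_inv_eq_one.1 hP1
    have hh := congrArg (fun g => g * g) h
    have s1 : ∀ {a b : Γ}, Commute a b → a * b * (a * b) = a * a * (b * b) := fun {a b} hab => by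
      rw [mul_assoc, ← mul_assoc b, ← hab.eq, mul_assoc a b b, ← mul_assoc]
    have f0 : ∀ a b : Fin (1 + n), ∀ c d : Fin (1 + n), Cfsg.sympForm (1 + n) F
        (Pi.single (.inr a) 1 + Pi.single (.inr b) 1) (Pi.single (.inr c) 1 + Pi.single (.inr d) 1) = 0 :=
      fun a b c d => by simp only [f_add_left, f_add_right, o, add_zero]
    rw [s1 (((cm _ _ (by simp only [hv₀, hu₀, hu₁, f_add_left, f_add_right, o, add_zero])).mul_right
        (cm _ _ (by simp only [hv₀, hu₀, hu₁, f_add_left, f_add_right, o, add_zero]))).mul_left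
      ((cm _ _ (by simp only [hv₀, hu₀, hu₁, f_add_left, f_add_right, o, add_zero])).mul_right
        (cm _ _ (by simp only [hv₀, hu₀, hu₁, f_add_left, f_add_right, o, add_zero])))),
      s1 (cm _ _ (by simp only [hv₀, hu₀, f_add_left, f_add_right, o, add_zero])),
      s1 (cm _ _ (by simp only [hv₀, hu₁, f_add_left, f_add_right, o, add_zero])),
      s1 ((cm _ _ (by simp only [hv₀, hu₀, hu₁, f_add_left, f_add_right, o, add_zero])).mul_left
        (cm _ _ (by simp only [hv₀, hu₀, hu₁, f_add_left, f_add_right, o, add_zero]))),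
      s1 (cm _ _ (by simp only [hv₀, hu₀, hu₁, f_add_left, f_add_right, o, add_zero])),
      hmul ht n1, hmul ht n2, hmul ht n3, hmul ht n4, hmul ht n5, hmul ht n6, hmul ht n7] at hh
    generalize t * t = a at hh
    have : a * a * (a * a) = a * a * a * a := by group
    rw [this, mul_eq_left] at hh
    exact hh
  -- the family
  have hX1 : ∀ x, cls σ t x 1 * cls σ t x 1 = 1 := fun x => by
    by_cases hx : x = 0
    · rw [hx, cls_zero', mul_one]
    · rw [hmul ht hx, hsq]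
  have R : Fam σ (cls σ t) := by
    refine ⟨hc, cls_lift h2 hn hs hc hcom ht, gen_top hΓ hc _ (cls_lift h2 hn hs hc hcom ht),
      cls_conj h2 hn hs hc hcom ht, fun x c d => ?_, fun x a c => ?_⟩
    · rcases h2 c with rfl | rfl
      · rw [cls_zero, zero_add, one_mul]
      rcases h2 d with rfl | rfl
      · rw [cls_zero, add_zero, mul_one]
      · rw [htwo, cls_zero, hX1]
    · rcases h2 a with rfl | rfl
      · rw [zero_smul, cls_zero', mul_zero, zero_mul, cls_zero]
      · rw [one_smul, one_mul, one_mul]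
  have hneg1 : (-1 : F) = 1 := neg_eq_of_add_eq_zero_right htwo
  have hinv : ∀ x, (cls σ t x 1)⁻¹ = cls σ t x 1 := fun x => inv_eq_of_mul_eq_one_right (hX1 x)
  refine R.injective ⟨fun a b c h1 h2' h3 => ?_, fun v u hvu a c => ?_, fun v w u u' hvw hu hwu hu' hwu' => ?_⟩
  · have e1 : ∀ {x : F}, x ≠ 0 → x = 1 := fun {x} hx => (h2 x).resolve_left hx
    simp only [E, e1 h1, e1 h2', e1 h3, inv_one, one_mul, one_smul, sub_self, zero_smul, add_zero]
    have h := R.conj (cls σ t (c - b) 1) (b - a) 1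
    rw [R.lift, app_T, f_sub_left, f_sub_right, f_sub_right, f_self, e1 h1, e1 h2', e1 h3,
      show (1 : F) * (1 - 0 - (1 - 1)) = 1 by ring, one_smul, show b - a + (c - b) = c - a by abel,
      mul_inv_eq_iff_eq_mul] at h
    exact h
  · rcases h2 c with rfl | rfl
    · simp only [mul_zero, zero_mul, zero_smul, zero_sub, hneg1, Y, zero_add, cls_zero', cls_zero, inv_one,
        mul_one]
      exact (hX1 v).symm
    · rcases h2 a with rfl | rfl
      · simp only [zero_smul, add_zero, mul_one, mul_zero, one_mul, zero_sub, hneg1, Y, zero_add, cls_zero',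
          inv_one, hX1]
      · simp only [one_smul, one_mul, sub_self, Y, cls_zero, mul_one]
        rw [inv_mul_cancel_right]
  · have cm : ∀ {a b : Fin (1 + n) ⊕ Fin (1 + n) → F}, Cfsg.sympForm (1 + n) F b a = 0 →
        Commute (cls σ t a 1) (cls σ t b 1) := fun h => cls_comm h2 hn hs hc hcom ht h 1 1
    have huv : Cfsg.sympForm (1 + n) F u v = 0 := by rw [f_swap, hu, neg_zero]
    have hu'v : Cfsg.sympForm (1 + n) F u' v = 0 := by rw [f_swap, hu', neg_zero]
    have hY0 : Y (cls σ t) v 0 = cls σ t v 1 := by rw [Y, zero_add, cls_zero', inv_one, mul_one]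
    have hvY : ∀ y, Cfsg.sympForm (1 + n) F v y = 0 → Commute (cls σ t v 1) (Y (cls σ t) v y) := fun y hy =>
      (cm (by rw [f_add_left, f_swap v y, hy, f_self, neg_zero, add_zero])).mul_right
        (cm (by rw [f_swap v y, hy, neg_zero])).inv_right
    rcases h2 (Cfsg.sympForm (1 + n) F u' u) with h0 | h1
    swap
    · rw [h1, htwo, cls_zero, mul_one]
      have hconj := R.conj (cls σ t u 1)
      simp only [R.lift, app_T, one_mul] at hconj
      have e1 := hconj (u' + v) 1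
      have e2 := hconj u' 1
      rw [f_add_left, h1, show Cfsg.sympForm (1 + n) F v u = 0 from hu, add_zero, one_smul,
        show u' + v + u = u + u' + v by abel] at e1
      rw [h1, one_smul, add_comm u' u] at e2
      have e3 : Y (cls σ t) v u' * cls σ t u 1 = cls σ t (u + v) 1 * Y (cls σ t) v u' := by
        have h := R.conj (Y (cls σ t) v u') u 1
        rw [mul_inv_eq_iff_eq_mul] at h
        rw [h]
        congr 2
        simp only [Y, map_mul, map_inv, R.lift, T_inv, hneg1, app_mul, app_T, one_mul, f_add_left,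
          f_add_right, f_smul_left, f_self, show Cfsg.sympForm (1 + n) F u u' = 1 by
            rw [f_swap, h1, hneg1], hu'v, huv, show Cfsg.sympForm (1 + n) F u' v = 0 from hu'v]
        match_scalars <;> first | linear_combination htwo | linear_combination -htwo | ring
      calc Y (cls σ t) v u * Y (cls σ t) v u'
          = cls σ t u 1 * (cls σ t (u + v) 1 * Y (cls σ t) v u') := by
            rw [Y, hinv, (cm (a := u + v) (b := u) (by rw [f_add_right, f_self, huv, add_zero])).eq,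
              mul_assoc]
        _ = cls σ t u 1 * (Y (cls σ t) v u' * cls σ t u 1) := by rw [e3]
        _ = (cls σ t u 1 * cls σ t (u' + v) 1 * (cls σ t u 1)⁻¹) *
              (cls σ t u 1 * cls σ t u' 1 * (cls σ t u 1)⁻¹)⁻¹ := by
            rw [Y]
            conv_lhs => arg 2; arg 2; rw [← hinv u]
            group
        _ = Y (cls σ t) v (u + u') := by rw [e1, e2, Y]
    rw [h0, add_zero]
    by_cases hu0 : u = 0
    · rw [hu0, hY0, zero_add, (hvY u' hu').eq]
    by_cases hu'0 : u' = 0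
    · rw [hu'0, hY0, add_zero]
    by_cases hee : u' = u
    · rw [hee, show u + u = (1 + 1 : F) • u by rw [add_smul, one_smul], htwo, zero_smul, hY0, hX1, Y, hinv]
      rw [mul_assoc, ← mul_assoc (cls σ t u 1), ← (cm (a := u + v) (b := u) (by
        rw [f_add_right, f_self, huv, add_zero])).eq, mul_assoc, hX1, mul_one, hX1]
    have h := mul_inv_eq_one.1 (hPall v w u u' hvw hu hwu hu' hwu' (by rw [f_swap, h0, neg_zero]) hu0
      fun c e => (h2 c).elim (fun hc0 => hu'0 (by rw [e, hc0, zero_smul]))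
        (fun hc1 => hee (by rw [e, hc1, one_smul])))
    simp only [Y, hinv]
    exact h

/-- Central extensions of `Sp_{2m}(2)`, `m ≥ 4`, are trivial. -/
theorem injective_two {F : Type u} [Field F] {n : ℕ} {Γ : Type v} [Group Γ]
    (h2 : ∀ c : F, c = 0 ∨ c = 1) (hn : 3 ≤ n) (hperf : commutator (symplecticGroup (Fin n) F) = ⊤)
    (σ : Γ →* symplecticGroup (Fin (1 + n)) F) (hs : Function.Surjective σ)
    (hc : σ.ker ≤ Subgroup.center Γ) (hΓ : commutator Γ = ⊤) : Function.Injective σ :=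
  injective_two_of_comm h2 (by omega) σ hs hc hΓ (comm_of_perfect h2 hn hs hc hperf)

end CfsgLib.Schur.SpFam
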