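import Cfsg.Agent.Lib.Schur.MonoCover

/-!
The bookkeeping of a level of a certified chain, assembled from separately checked parts.
-/

set_option autoImplicit false

namespace CfsgLib.Schur.MonoCover.Data

/-- the check of one point of an orbit -/
noncomputable def levPt (D : Data) (k : ℕ) (p : ℕ × ℕ) : Bool :=
  decide (p.1 < D.m) &&
    match p.2 with
    | 0 => Nat.beq p.1 (D.base k)
    | i + 1 => decide (2 * D.ng ≤ i ∧ i < D.nE) && Nat.beq (D.img i (D.base k)) p.1 &&
        decide ((D.defs (i - 2 * D.ng)).1 ∈ D.gens k) &&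
          (decide ((D.defs (i - 2 * D.ng)).2 = 0) ||
            (D.pts k).any fun q => Nat.beq q.2 (D.defs (i - 2 * D.ng)).2)

/-- every Schreier generator at a point is listed -/
noncomputable def levCov (D : Data) (k : ℕ) (p : ℕ × ℕ) : Bool :=
  (D.gens k).all fun g => (D.sch k).any fun e => Nat.beq e.1 g && Nat.beq e.2.1 p.1

/-- no number occurs twice, by a mask of the numbers seen -/
noncomputable def distinctMask : List ℕ → ℕ → Bool
  | [], _ => true
  | a :: l, m => !(m.testBit a) && distinctMask l (m ||| 2 ^ a)

theorem distinctMask_spec : ∀ (l : List ℕ) (m : ℕ), distinctMask l m = true →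
    l.Nodup ∧ ∀ a ∈ l, m.testBit a = false
  | [], _, _ => by simp
  | a :: l, m, h => by
    simp only [distinctMask, Bool.and_eq_true, Bool.not_eq_true'] at h
    obtain ⟨hn, hm⟩ := distinctMask_spec l _ h.2
    refine ⟨List.nodup_cons.mpr ⟨fun ha => ?_, hn⟩, fun b hb => ?_⟩
    · have := hm a ha; simp [Nat.testBit_or] at this
    · rcases List.mem_cons.mp hb with rfl | hb
      · exact h.1
      · have := hm b hb; simp [Nat.testBit_or] at this; exact this.1

theorem levChk_of {D : Data} {k : ℕ}
    (h0 : (decide (D.base k < D.m) && (D.gens k).all (fun g => decide (g < D.ng)) &&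
      Nat.beq ((D.findU k (D.base k)).getD 1) 0) = true)
    (h1 : (D.pts k).all (D.levPt k) = true)
    (h2 : distinctMask ((D.pts k).map Prod.fst) 0 = true)
    (h3 : (D.pts k).all (D.levCov k) = true)
    (h4 : ((D.sch k).all (fun e => decide (e.1 < D.ng) && e.2.2.2.all fun i =>
      (List.range D.nlev).any fun l => decide (k < l) && (D.pts l).any fun q => Nat.beq q.2 (i + 1))) = true)
    (h5 : (D.gens (k + 1)).all (fun g => (D.pick k).any fun e => Nat.beq e.1 g) = true) :
    D.levChk k = true := by
  have h2' : decide ((D.pts k).map Prod.fst).Nodup = true := decide_eq_true (distinctMask_spec _ _ h2).1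
  unfold levChk
  rw [h0, h2', h4, h5]
  show (true && (D.pts k).all (D.levPt k) && true && (D.pts k).all (D.levCov k) && true && true) = true
  rw [h1, h3]
  rfl

end CfsgLib.Schur.MonoCover.Data
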