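import Mathlib

/-!
The permutations induced on an invariant family.
-/

set_option autoImplicit false

namespace CfsgLib.Schur

/-- A family carried into itself by generators carries a homomorphism. -/
theorem exists_familyHom {G α : Type*} [Group G] [Finite G] {n : ℕ} (a : G → α → α) (f : Fin n → α)
    (hf : Function.Injective f) (hone : ∀ i, a 1 (f i) = f i)
    (hmul : ∀ g h i, a (g * h) (f i) = a g (a h (f i))) {S : Set G} (hS : Subgroup.closure S = ⊤)
    (hgen : ∀ s ∈ S, ∀ i, ∃ j, a s (f i) = f j) :
    ∃ ρ : G →* Equiv.Perm (Fin n), ∀ g i, f (ρ g i) = a g (f i) := by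
  have hall : ∀ g : G, ∀ i, ∃ j, a g (f i) = f j := by
    intro g
    have hg : g ∈ Submonoid.closure S := by
      rw [← Subgroup.closure_toSubmonoid_of_finite, hS]; exact Subgroup.mem_top g
    induction hg using Submonoid.closure_induction with
    | mem s hs => exact hgen s hs
    | one => exact fun i => ⟨i, hone i⟩
    | mul x y _ _ hx hy =>
      intro i
      obtain ⟨j, hj⟩ := hy i
      obtain ⟨l, hl⟩ := hx j
      exact ⟨l, by rw [hmul, hj, hl]⟩
  choose p hp using hall
  have hp1 : ∀ i, p 1 i = i := fun i => hf (by rw [← hp, hone])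
  have hpm : ∀ g h i, p (g * h) i = p g (p h i) := fun g h i => hf (by
    rw [← hp, hmul, hp h, hp g])
  refine ⟨MonoidHom.mk' (fun g => ⟨p g, p g⁻¹, fun i => by rw [← hpm, inv_mul_cancel, hp1],
    fun i => by rw [← hpm, mul_inv_cancel, hp1]⟩) (fun g h => Equiv.ext (hpm g h)),
    fun g i => (hp g i).symm⟩

end CfsgLib.Schur
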