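import Mathlib
import Cfsg.Prelude.Def_KGroupFacts

/-!
Two stem extensions with kernels of order two of a perfect group whose multiplier is cyclic are equivalent.
-/

set_option autoImplicit false

open scoped commutatorElement

namespace CfsgLib.Schur.StemTwoUnique

universe u

/-- In a perfect group with cyclic multiplier, a stem extension with kernel of order two maps to every other. -/
theorem exists_hom_of_small {Q : Type u} [Group Q] (hperf : commutator Q = ⊤) {n : ℕ}
    (hM : Cfsg.HasCyclicSchurMultiplier Q n) {A B : Type u} [Group A] [Group B] [Finite A] [Finite B]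
    {σ : A →* Q} {τ : B →* Q} (hσ : Cfsg.IsStemExtension σ) (h2 : Nat.card σ.ker = 2)
    (hτ : Cfsg.IsStemExtension τ) (h2' : Nat.card τ.ker = 2) : ∃ θ : A →* B, τ.comp θ = σ := by
  let P : Subgroup (A × B) := (σ.comp (MonoidHom.fst A B)).eqLocus (τ.comp (MonoidHom.snd A B))
  let pA : P →* A := (MonoidHom.fst A B).comp P.subtype
  let pB : P →* B := (MonoidHom.snd A B).comp P.subtype
  let ν : P →* Q := σ.comp pA
  have heq : ∀ p : P, σ (pA p) = τ (pB p) := fun p => p.2
  have hA : Function.Surjective pA := fun a => by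
    obtain ⟨b, hb⟩ := hτ.1 (σ a)
    exact ⟨⟨(a, b), hb.symm⟩, rfl⟩
  have hcent : ν.ker ≤ Subgroup.center P := fun p hp => Subgroup.mem_center_iff.mpr fun y => by
    refine Subtype.ext (Prod.ext ?_ ?_)
    · exact Subgroup.mem_center_iff.mp (hσ.2.1 hp) (pA y)
    · exact Subgroup.mem_center_iff.mp (hτ.2.1 (MonoidHom.mem_ker.mpr ((heq p).symm.trans hp))) (pB y)
  let R : Subgroup P := commutator P
  let μ : R →* Q := ν.comp R.subtype
  have hRν : R.map ν = ⊤ := by
    rw [show R = commutator P from rfl, commutator_def, Subgroup.map_commutator,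
      Subgroup.map_top_of_surjective ν (hσ.1.comp hA), ← commutator_def, hperf]
  have hμ : Function.Surjective μ := fun q => by
    obtain ⟨r, hr, rfl⟩ := show q ∈ R.map ν from hRν ▸ Subgroup.mem_top q
    exact ⟨⟨r, hr⟩, rfl⟩
  -- the derived subgroup of the fibre product is perfect
  have hdec : ∀ p : P, ∃ z ∈ Subgroup.center P, ∃ r ∈ R, p = z * r := fun p => by
    obtain ⟨r, hr⟩ := hμ (ν p)
    refine ⟨p * (r : P)⁻¹, hcent ?_, r, r.2, by group⟩
    rw [MonoidHom.mem_ker, map_mul, map_inv, show ν (r : P) = ν p from hr, mul_inv_cancel]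
  have hRperf : commutator P ≤ (commutator R).map R.subtype := by
    rw [commutator_def, Subgroup.commutator_le]
    intro x _ y _
    obtain ⟨z, hz, r, hr, rfl⟩ := hdec x
    obtain ⟨w, hw, s, hs, rfl⟩ := hdec y
    have e : ⁅z * r, w * s⁆ = ⁅r, s⁆ := by
      have hz' : ∀ t, Commute z t := fun t => (Subgroup.mem_center_iff.mp hz t).symm
      have hw' : ∀ t, Commute w t := fun t => (Subgroup.mem_center_iff.mp hw t).symm
      rw [commutatorElement_def, commutatorElement_def, mul_inv_rev, mul_inv_rev]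
      calc z * r * (w * s) * (r⁻¹ * z⁻¹) * (s⁻¹ * w⁻¹)
          = z * (r * w) * s * r⁻¹ * (z⁻¹ * (s⁻¹ * w⁻¹)) := by group
        _ = z * (w * r) * s * r⁻¹ * ((s⁻¹ * w⁻¹) * z⁻¹) := by rw [(hw' r).eq, (hz' _).inv_left.eq]
        _ = z * (w * (r * s * r⁻¹ * s⁻¹)) * w⁻¹ * z⁻¹ := by group
        _ = z * ((r * s * r⁻¹ * s⁻¹) * w) * w⁻¹ * z⁻¹ := by rw [(hw' _).eq]
        _ = z * (r * s * r⁻¹ * s⁻¹) * z⁻¹ := by group
        _ = r * s * r⁻¹ * s⁻¹ := by rw [(hz' _).eq, mul_inv_cancel_right]
    rw [e]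
    exact ⟨⁅(⟨r, hr⟩ : R), ⟨s, hs⟩⁆, Subgroup.commutator_mem_commutator trivial trivial, rfl⟩
  have hRtop : commutator R = ⊤ := eq_top_iff.mpr fun r _ => by
    obtain ⟨r', hr', e⟩ := hRperf r.2
    rwa [show r = r' from (Subtype.ext e).symm]
  have hμs : Cfsg.IsStemExtension μ := by
    refine ⟨hμ, fun r hr => Subgroup.mem_center_iff.mpr fun y => Subtype.ext ?_, by rw [hRtop]; exact le_top⟩
    exact Subgroup.mem_center_iff.mp (hcent hr) y
  obtain ⟨π, hπ⟩ := hM.2 R μ hμs
  haveI : IsCyclic μ.ker := isCyclic_of_surjective π hπ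
  have : Finite μ.ker := inferInstance
  have hsq : ∀ r : μ.ker, r ^ 2 = 1 := fun r => by
    have hk : (r : R) ∈ μ.ker := r.2
    have h1 : (pA (r : R)) ^ 2 = 1 := by
      have := congrArg Subtype.val (pow_card_eq_one' (x := (⟨pA (r : R), hk⟩ : σ.ker)))
      rwa [h2] at this
    have h1' : (pB (r : R)) ^ 2 = 1 := by
      have hmem : pB (r : R) ∈ τ.ker := MonoidHom.mem_ker.mpr ((heq _).symm.trans hk)
      have := congrArg Subtype.val (pow_card_eq_one' (x := (⟨pB (r : R), hmem⟩ : τ.ker)))
      rwa [h2'] at this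
    exact Subtype.ext (Subtype.ext (Subtype.ext (Prod.ext h1 h1')))
  have hle : Nat.card μ.ker ≤ 2 := by
    obtain ⟨g, hg⟩ := IsCyclic.exists_generator (α := μ.ker)
    rw [← orderOf_eq_card_of_forall_mem_zpowers hg]
    exact Nat.le_of_dvd two_pos (orderOf_dvd_of_pow_eq_one (hsq g))
  let qA : R →* A := pA.comp R.subtype
  let qB : R →* B := pB.comp R.subtype
  have hqA : Function.Surjective qA := fun a => by
    have : (commutator P).map pA = commutator A := by
      rw [commutator_def, Subgroup.map_commutator, Subgroup.map_top_of_surjective pA hA, ← commutator_def]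
    have htop : commutator A = ⊤ := by
      refine eq_top_iff.mpr fun x _ => ?_
      have hm : (commutator A).map σ = ⊤ := by
        rw [commutator_def, Subgroup.map_commutator, Subgroup.map_top_of_surjective σ hσ.1, ← commutator_def,
          hperf]
      obtain ⟨c, hc, hcx⟩ := show σ x ∈ (commutator A).map σ from hm ▸ Subgroup.mem_top _
      have hk : x * c⁻¹ ∈ σ.ker := by rw [MonoidHom.mem_ker, map_mul, map_inv, hcx, mul_inv_cancel]
      have := mul_mem (hσ.2.2 hk) hc
      simpa using this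
    obtain ⟨r, hr, e⟩ := show a ∈ (commutator P).map pA from this ▸ htop ▸ Subgroup.mem_top a
    exact ⟨⟨r, hr⟩, e⟩
  have hinj : Function.Injective qA := by
    refine (injective_iff_map_eq_one _).mpr fun r hr => ?_
    let f : μ.ker → σ.ker := fun x => ⟨qA x, x.2⟩
    have hf : Function.Surjective f := fun z => by
      obtain ⟨x, hx⟩ := hqA z
      refine ⟨⟨x, ?_⟩, Subtype.ext hx⟩
      show σ (qA x) = 1
      rw [hx]; exact z.2
    have hb : Function.Bijective f :=
      (Nat.bijective_iff_surjective_and_card f).mpr ⟨hf, le_antisymm (h2.symm ▸ hle)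
        (Nat.card_le_card_of_surjective f hf)⟩
    have hrk : r ∈ μ.ker := by
      show σ (qA r) = 1
      rw [hr, map_one]
    exact congrArg Subtype.val (hb.1 (a₁ := ⟨r, hrk⟩) (a₂ := 1) (Subtype.ext (by
      show qA r = qA 1
      rw [hr, map_one])))
  let e : R ≃* A := MulEquiv.ofBijective qA ⟨hinj, hqA⟩
  refine ⟨qB.comp e.symm.toMonoidHom, MonoidHom.ext fun a => ?_⟩
  show τ (qB (e.symm a)) = σ a
  rw [show τ (qB (e.symm a)) = σ (qA (e.symm a)) from (heq _).symm]
  exact congrArg σ (e.apply_symm_apply a)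

universe v w

/-- The same statement across universes. -/
theorem exists_hom {Q : Type} [Group Q] (hperf : commutator Q = ⊤) {n : ℕ}
    (hM : Cfsg.HasCyclicSchurMultiplier Q n) {A : Type} {B : Type v} [Group A] [Group B] [Finite A] [Finite B]
    {σ : A →* Q} {τ : B →* Q} (hσ : Cfsg.IsStemExtension σ) (h2 : Nat.card σ.ker = 2)
    (hτ : Cfsg.IsStemExtension τ) (h2' : Nat.card τ.ker = 2) : ∃ θ : A →* B, τ.comp θ = σ := by
  let m : Shrink.{0} B ≃* B := Shrink.mulEquiv
  haveI : Finite (Shrink.{0} B) := Finite.of_equiv B (equivShrink.{0} B)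
  let τ' : Shrink.{0} B →* Q := τ.comp m.toMonoidHom
  have hker : ∀ x, x ∈ τ'.ker ↔ m x ∈ τ.ker := fun x => Iff.rfl
  have hτ' : Cfsg.IsStemExtension τ' := by
    refine ⟨hτ.1.comp m.surjective, fun x hx => Subgroup.mem_center_iff.mpr fun y => m.injective ?_,
      fun x hx => ?_⟩
    · rw [map_mul, map_mul]
      exact Subgroup.mem_center_iff.mp (hτ.2.1 ((hker x).1 hx)) (m y)
    · have := hτ.2.2 ((hker x).1 hx)
      have hmap : (commutator (Shrink.{0} B)).map m.toMonoidHom = commutator B := by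
        rw [commutator_def, Subgroup.map_commutator, Subgroup.map_top_of_surjective _ m.surjective,
          ← commutator_def]
      obtain ⟨y, hy, e⟩ := show m x ∈ (commutator (Shrink.{0} B)).map m.toMonoidHom from hmap ▸ this
      rwa [← m.injective e]
  have hcard : Nat.card τ'.ker = 2 := by
    rw [← h2']
    exact Nat.card_congr (m.toEquiv.subtypeEquiv hker)
  obtain ⟨θ, hθ⟩ := exists_hom_of_small hperf hM hσ h2 hτ' hcard
  exact ⟨m.toMonoidHom.comp θ, hθ⟩

end CfsgLib.Schur.StemTwoUnique
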