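import Mathlib
import Cfsg.Prelude.Def_KGroupFacts
import Cfsg.Agent.Lib.Schur.InvolutionLift

/-!
An odd prime does not divide a Schur multiplier when a Sylow subgroup is a product of two abelian
subgroups, each inverted by an involution in a compatible way.
-/

set_option autoImplicit false
set_option linter.style.haveILetI false

open scoped commutatorElement

namespace CfsgLib.Schur

universe u

variable {G : Type u} [Group G]

/-- Prime-by-prime criterion: there is no stem extension with kernel of prime order. -/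
theorem trivial_multiplier_of_prime [Finite G]
    (h : ∀ ℓ : ℕ, ℓ.Prime → ∀ (E : Type u) [Group E] [Finite E] (τ : E →* G),
      Cfsg.IsStemExtension τ → Nat.card τ.ker = ℓ → False) :
    Cfsg.HasCyclicSchurMultiplier G 1 := by
  refine CfsgLib.StemExt.hasCyclicSchurMultiplier_one fun Δ _ _ σ hσ => ?_
  by_contra hne
  have hcard : Nat.card σ.ker ≠ 1 := fun e => hne (Subgroup.eq_bot_of_card_eq _ e)
  obtain ⟨ℓ, hℓ, hdvd⟩ := Nat.exists_prime_and_dvd hcard
  obtain ⟨E, _, _, τ, hτ, hk⟩ := InvolLift.exists_stem_ker_prime hσ hℓ hdvd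
  exact h ℓ hℓ E τ hτ hk

/-- A subgroup of index prime to the order of the kernel with nothing of the kernel in the derived
subgroup of its preimage. -/
theorem no_stem_of_local [Finite G] {ℓ : ℕ} (hℓ : ℓ.Prime) {E : Type u} [Group E] [Finite E]
    {τ : E →* G} (hτ : Cfsg.IsStemExtension τ) (hk : Nat.card τ.ker = ℓ) (U : Subgroup G)
    (hU : ¬ ℓ ∣ U.index)
    (h : ∀ z ∈ τ.ker, z ∈ ⁅U.comap τ, U.comap τ⁆ → z ^ ℓ = 1 → z = 1) : False := by
  haveI := Fact.mk hℓ
  obtain ⟨⟨z, hzk⟩, hz⟩ := exists_prime_orderOf_dvd_card' (p := ℓ) (G := τ.ker) (by rw [hk])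
  rw [Subgroup.orderOf_mk] at hz
  have hzo : z ^ ℓ = 1 := by rw [← hz, pow_orderOf_eq_one]
  have hmem := mem_commutator_preimage (a := 1) hτ.1 hℓ hzk (hτ.2.1 hzk) (hτ.2.2 hzk)
    (by rw [pow_one]; exact hzo) U hU
  rw [h z hzk hmem hzo, orderOf_one] at hz
  exact hℓ.ne_one hz.symm

/-- An element fixing one and inverting the other. -/
def FixInvert (x y : G) : Prop := ∃ g : G, g * x * g⁻¹ = x ∧ g * y * g⁻¹ = y⁻¹

/-- The subgroup generated by commuting elements inverted by `K` is inverted by `K`. -/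
theorem inverted_closure {E : Type*} [Group E] {M : Type*} (F : M → E) (K : E)
    (hc : ∀ m m', F m * F m' = F m' * F m) (hK : ∀ m, K * F m * K⁻¹ = (F m)⁻¹) :
    ∀ x ∈ Subgroup.closure (Set.range F), K * x * K⁻¹ = x⁻¹ := by
  intro x hx
  have hab : ∀ u ∈ Subgroup.closure (Set.range F), ∀ v ∈ Subgroup.closure (Set.range F),
      u * v = v * u := fun u hu v hv => by
    have := (Subgroup.isMulCommutative_closure (k := Set.range F) (by
      rintro _ ⟨m, rfl⟩ _ ⟨m', rfl⟩; exact hc m m')).is_comm.comm ⟨u, hu⟩ ⟨v, hv⟩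
    exact congrArg Subtype.val this
  induction hx using Subgroup.closure_induction with
  | mem x hx => obtain ⟨m, rfl⟩ := hx; exact hK m
  | one => simp
  | mul u v hu hv ihu ihv =>
    rw [show K * (u * v) * K⁻¹ = K * u * K⁻¹ * (K * v * K⁻¹) by group, ihu, ihv, mul_inv_rev]
    exact hab _ (inv_mem hu) _ (inv_mem hv)
  | inv u _ ihu => rw [show K * u⁻¹ * K⁻¹ = (K * u * K⁻¹)⁻¹ by group, ihu]

/-- Two abelian pieces with inverting elements leave no stem extension with kernel of odd prime order. -/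
theorem no_stem_of_two_abelian [Finite G] {ℓ : ℕ} (hℓ : ℓ.Prime) (h2 : ℓ ≠ 2) {E : Type u}
    [Group E] [Finite E] {τ : E →* G} (hτ : Cfsg.IsStemExtension τ) (hk : Nat.card τ.ker = ℓ)
    {ι κ : Type*} (a : ι → G) (b : κ → G) (t r : G)
    (hta : ∀ i, t * a i * t⁻¹ = (a i)⁻¹) (htb : ∀ j, t * b j = b j * t)
    (hrb : ∀ j, r * b j * r⁻¹ = (b j)⁻¹)
    (haℓ : ∀ i, a i ^ ℓ = 1) (hbℓ : ∀ j, b j ^ ℓ = 1)
    (haa : ∀ i i', a i * a i' = a i' * a i) (hbb : ∀ j j', b j * b j' = b j' * b j)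
    (hpa : ∀ i i', i ≠ i' → FixInvert (a i) (a i') ∨ FixInvert (a i') (a i))
    (hpb : ∀ j j', j ≠ j' → FixInvert (b j) (b j') ∨ FixInvert (b j') (b j))
    (hnorm : ∀ j i, b j * a i * (b j)⁻¹ ∈ Subgroup.closure (Set.range a))
    {k l : ℕ} (hA : ℓ ^ k ≤ Nat.card (Subgroup.closure (Set.range a)))
    (hB : ℓ ^ l ≤ Nat.card (Subgroup.closure (Set.range b)))
    (hG : ¬ ℓ ^ (k + l + 1) ∣ Nat.card G) : False := by
  classical
  haveI := Fact.mk hℓ
  have kc : ∀ {z : E}, z ∈ τ.ker → ∀ x, x * z = z * x := fun hz x =>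
    Subgroup.mem_center_iff.mp (hτ.2.1 hz) x
  have kpow : ∀ {z : E}, z ∈ τ.ker → z ^ ℓ = 1 := fun {z} hz => by
    have := pow_card_eq_one' (G := τ.ker) (x := ⟨z, hz⟩)
    rw [hk] at this
    exact congrArg Subtype.val this
  obtain ⟨half, hhalf⟩ : ∃ n, ℓ + 1 = 2 * n := by
    obtain ⟨n, rfl⟩ := hℓ.odd_of_ne_two h2
    exact ⟨n + 1, by omega⟩
  have ksqrt : ∀ {z : E}, z ∈ τ.ker → ∃ w ∈ τ.ker, w * w = z := fun {z} hz =>
    ⟨z ^ half, pow_mem hz _, by rw [← pow_add, ← two_mul, ← hhalf, pow_succ, kpow hz, one_mul]⟩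
  have ksq : ∀ {z : E}, z ∈ τ.ker → z * z = 1 → z = 1 := fun {z} hz h => by
    have h1 : z ^ (2 * half) = 1 := by rw [pow_mul, sq, h, one_pow]
    rwa [← hhalf, pow_succ, kpow hz, one_mul] at h1
  obtain ⟨T, hT⟩ := hτ.1 t
  obtain ⟨R, hR⟩ := hτ.1 r
  -- the lift inverted by a given element
  have canon : ∀ {x g : G} {X0 : E}, τ X0 = g → g * x * g⁻¹ = x⁻¹ →
      ∃ X, τ X = x ∧ X0 * X * X0⁻¹ = X⁻¹ := by
    intro x g X0 hX0 hx
    obtain ⟨X, hX⟩ := hτ.1 x
    obtain ⟨w, hw, hww⟩ := ksqrt (z := X0 * X * X0⁻¹ * X) (by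
      rw [MonoidHom.mem_ker, map_mul, map_mul, map_mul, map_inv, hX0, hX, hx, inv_mul_cancel])
    refine ⟨X * w⁻¹, by rw [map_mul, map_inv, hX, MonoidHom.mem_ker.mp hw, inv_one, mul_one], ?_⟩
    have hwi := kc (inv_mem hw)
    rw [show X0 * (X * w⁻¹) * X0⁻¹ = X0 * X * (w⁻¹ * X0⁻¹) by group, ← hwi X0⁻¹, mul_inv_rev, inv_inv,
      show X0 * X * (X0⁻¹ * w⁻¹) = X0 * X * X0⁻¹ * X * (X⁻¹ * w⁻¹) by group, ← hww, hwi X⁻¹]
    group
  choose A hAτ hAT using fun i => canon hT (hta i)
  choose B hBτ hBR using fun j => canon hR (hrb j)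
  -- lifts of commuting elements commute when a suitable element fixes one and inverts the other
  have comm0 : ∀ {x y : G} {X Y : E}, τ X = x → τ Y = y → x * y = y * x → FixInvert x y →
      X * Y = Y * X := by
    intro x y X Y hX hY hxy hfi
    obtain ⟨g, hg1, hg2⟩ := hfi
    obtain ⟨K, hK⟩ := hτ.1 g
    set c := ⁅X, Y⁆ with hc
    have hck : c ∈ τ.ker := by
      rw [MonoidHom.mem_ker, map_commutatorElement, hX, hY, commutatorElement_eq_one_iff_mul_comm, hxy]
    have e1 : K * c * K⁻¹ = ⁅X, Y⁻¹⁆ := by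
      rw [show K * c * K⁻¹ = ⁅K * X * K⁻¹, K * Y * K⁻¹⁆ by
        rw [hc]; simp only [commutatorElement_def]; group]
      exact commutatorElement_congr τ hτ.2.1
        (by rw [map_mul, map_mul, map_inv, hK, hX, hg1])
        (by rw [map_mul, map_mul, map_inv, map_inv, hK, hY, hg2])
    have e2 : ⁅X, Y⁻¹⁆ = Y⁻¹ * c⁻¹ * Y := by rw [hc]; simp only [commutatorElement_def]; group
    rw [e2, kc hck K, mul_inv_cancel_right, kc (inv_mem hck) Y⁻¹, inv_mul_cancel_right] at e1
    have : c = 1 := ksq hck (by nth_rw 2 [e1]; exact mul_inv_cancel c)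
    exact commutatorElement_eq_one_iff_mul_comm.mp this
  have hAA : ∀ i i', A i * A i' = A i' * A i := fun i i' => by
    rcases eq_or_ne i i' with rfl | hne
    · rfl
    rcases hpa i i' hne with h | h
    · exact comm0 (hAτ i) (hAτ i') (haa i i') h
    · exact (comm0 (hAτ i') (hAτ i) (haa i' i) h).symm
  have hBB : ∀ j j', B j * B j' = B j' * B j := fun j j' => by
    rcases eq_or_ne j j' with rfl | hne
    · rfl
    rcases hpb j j' hne with h | h
    · exact comm0 (hBτ j) (hBτ j') (hbb j j') h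
    · exact (comm0 (hBτ j') (hBτ j) (hbb j' j) h).symm
  set SA := Subgroup.closure (Set.range A) with hSA
  set SB := Subgroup.closure (Set.range B) with hSB
  have hSAinv := inverted_closure A T hAA hAT
  have hSBinv := inverted_closure B R hBB hBR
  have hmapA : SA.map τ = Subgroup.closure (Set.range a) := by
    rw [hSA, MonoidHom.map_closure, ← Set.range_comp]
    congr 2
    exact funext hAτ
  have hmapB : SB.map τ = Subgroup.closure (Set.range b) := by
    rw [hSB, MonoidHom.map_closure, ← Set.range_comp]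
    congr 2
    exact funext hBτ
  -- the second piece normalises the first
  have hconj : ∀ j, ∀ x ∈ SA, B j * x * (B j)⁻¹ ∈ SA := by
    intro j x hx
    induction hx using Subgroup.closure_induction with
    | mem x hx =>
      obtain ⟨i, rfl⟩ := hx
      obtain ⟨w, hw, hwe⟩ := hmapA.ge (hnorm j i)
      set y := B j * A i * (B j)⁻¹ with hy
      have hcomm : ⁅T, B j⁆ ∈ τ.ker := by
        rw [MonoidHom.mem_ker, map_commutatorElement, hT, hBτ, commutatorElement_eq_one_iff_mul_comm]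
        exact htb j
      have hTy : T * y * T⁻¹ = y⁻¹ := by
        have e : T * B j = ⁅T, B j⁆ * (B j * T) := by simp only [commutatorElement_def]; group
        rw [hy, show T * (B j * A i * (B j)⁻¹) * T⁻¹ = T * B j * A i * (T * B j)⁻¹ by group, e,
          show ⁅T, B j⁆ * (B j * T) * A i * (⁅T, B j⁆ * (B j * T))⁻¹ =
            ⁅T, B j⁆ * (B j * (T * A i * T⁻¹) * (B j)⁻¹) * ⁅T, B j⁆⁻¹ by group, hAT,
          ← kc hcomm, mul_inv_cancel_right]
        group
      have hd : w⁻¹ * y ∈ τ.ker := by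
        rw [MonoidHom.mem_ker, map_mul, map_inv, hwe, hy, map_mul, map_mul, map_inv, hBτ, hAτ,
          inv_mul_cancel]
      have hkk : (w⁻¹ * y) * (w⁻¹ * y) = 1 := by
        set z := w⁻¹ * y with hz
        have hyz : y = w * z := by rw [hz, mul_inv_cancel_left]
        have h1 := hTy
        rw [hyz, show T * (w * z) * T⁻¹ = T * w * (z * T⁻¹) by group, ← kc hd T⁻¹,
          show T * w * (T⁻¹ * z) = T * w * T⁻¹ * z by group, hSAinv w hw, mul_inv_rev,
          kc (inv_mem hd) w⁻¹ |>.symm, mul_right_inj] at h1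
        nth_rw 2 [h1]
        exact mul_inv_cancel z
      rwa [← mul_inv_cancel_left w y, ksq hd hkk, mul_one]
    | one => simp
    | mul u v _ _ ihu ihv =>
      rw [show B j * (u * v) * (B j)⁻¹ = B j * u * (B j)⁻¹ * (B j * v * (B j)⁻¹) by group]
      exact mul_mem ihu ihv
    | inv u _ ihu =>
      rw [show B j * u⁻¹ * (B j)⁻¹ = (B j * u * (B j)⁻¹)⁻¹ by group]
      exact inv_mem ihu
  have hBnorm : SB ≤ Subgroup.normalizer (SA : Set E) := by
    rw [hSB, Subgroup.closure_le]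
    rintro _ ⟨j, rfl⟩
    exact Subgroup.mem_normalizer_fintype (hconj j)
  set K := SB ⊔ SA with hK
  have hKmem : ∀ x ∈ K, ∃ u ∈ SA, ∃ v ∈ SB, x = v * u := fun x hx => by
    have h := Subgroup.coe_mul_of_left_le_normalizer_right SB SA hBnorm
    rw [hK, ← SetLike.mem_coe, h] at hx
    obtain ⟨v, hv, u, hu, rfl⟩ := hx
    exact ⟨u, hu, v, hv, rfl⟩
  have hAab : ∀ x ∈ Subgroup.closure (Set.range a), x ^ ℓ = 1 ∧ t * x * t⁻¹ = x⁻¹ := by
    have hab := Subgroup.isMulCommutative_closure (k := Set.range a) (by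
      rintro _ ⟨m, rfl⟩ _ ⟨m', rfl⟩; exact haa m m')
    intro x hx
    induction hx using Subgroup.closure_induction with
    | mem x hx => obtain ⟨i, rfl⟩ := hx; exact ⟨haℓ i, hta i⟩
    | one => simp
    | mul u v hu hv ihu ihv =>
      have hc : Commute u v := congrArg Subtype.val (hab.is_comm.comm ⟨u, hu⟩ ⟨v, hv⟩)
      refine ⟨by rw [hc.mul_pow, ihu.1, ihv.1, one_mul], ?_⟩
      rw [show t * (u * v) * t⁻¹ = t * u * t⁻¹ * (t * v * t⁻¹) by group, ihu.2, ihv.2, mul_inv_rev]
      exact hc.inv_inv.eq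
    | inv u _ ihu =>
      exact ⟨by rw [inv_pow, ihu.1, inv_one],
        by rw [show t * u⁻¹ * t⁻¹ = (t * u * t⁻¹)⁻¹ by group, ihu.2]⟩
  have hBab : ∀ x ∈ Subgroup.closure (Set.range b), x ^ ℓ = 1 ∧ t * x = x * t := by
    have hab := Subgroup.isMulCommutative_closure (k := Set.range b) (by
      rintro _ ⟨m, rfl⟩ _ ⟨m', rfl⟩; exact hbb m m')
    intro x hx
    induction hx using Subgroup.closure_induction with
    | mem x hx => obtain ⟨j, rfl⟩ := hx; exact ⟨hbℓ j, htb j⟩
    | one => simp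
    | mul u v hu hv ihu ihv =>
      have hc : Commute u v := congrArg Subtype.val (hab.is_comm.comm ⟨u, hu⟩ ⟨v, hv⟩)
      refine ⟨by rw [hc.mul_pow, ihu.1, ihv.1, one_mul], ?_⟩
      rw [← mul_assoc, ihu.2, mul_assoc, ihv.2, mul_assoc]
    | inv u _ ihu =>
      exact ⟨by rw [inv_pow, ihu.1, inv_one], (show Commute t u from ihu.2).inv_right.eq⟩
  have hdisj : ∀ x ∈ Subgroup.closure (Set.range a), x ∈ Subgroup.closure (Set.range b) → x = 1 := by
    intro x hx hx'
    have h1 : x = x⁻¹ := by rw [← (hAab x hx).2, (hBab x hx').2, mul_inv_cancel_right]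
    have h2' : x ^ (2 * half) = 1 := by
      rw [pow_mul, sq]; nth_rw 2 [h1]; rw [mul_inv_cancel, one_pow]
    rwa [← hhalf, pow_succ, (hAab x hx).1, one_mul] at h2'
  have hinter : ∀ z ∈ K, τ z = 1 → z = 1 := by
    intro z hz h1
    obtain ⟨u, hu, v, hv, rfl⟩ := hKmem z hz
    rw [map_mul] at h1
    have hua : τ u ∈ Subgroup.closure (Set.range a) := hmapA.le ⟨u, hu, rfl⟩
    have hvb : τ v ∈ Subgroup.closure (Set.range b) := hmapB.le ⟨v, hv, rfl⟩
    have hu1 : τ u = 1 := hdisj _ hua (by rw [eq_inv_of_mul_eq_one_right h1]; exact inv_mem hvb)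
    rw [hu1, mul_one] at h1
    have z1 : ∀ {z K : E}, τ z = 1 → K * z * K⁻¹ = z⁻¹ → z = 1 := fun {z K} hz he =>
      ksq (MonoidHom.mem_ker.mpr hz) (by
        rw [kc (MonoidHom.mem_ker.mpr hz) K, mul_inv_cancel_right] at he
        nth_rw 2 [he]; exact mul_inv_cancel z)
    rw [z1 hu1 (hSAinv u hu), z1 h1 (hSBinv v hv), one_mul]
  set U := K.map τ with hU
  refine no_stem_of_local hℓ hτ hk U ?_ ?_
  · intro hdvd
    have hUeq : U = Subgroup.closure (Set.range b) ⊔ Subgroup.closure (Set.range a) := by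
      rw [hU, hK, Subgroup.map_sup, hmapA, hmapB]
    -- the product map is injective
    let f : Subgroup.closure (Set.range b) × Subgroup.closure (Set.range a) → U := fun p =>
      ⟨p.1 * p.2, hUeq.ge (mul_mem (Subgroup.mem_sup_left p.1.2) (Subgroup.mem_sup_right p.2.2))⟩
    have hf : Function.Injective f := by
      rintro ⟨⟨x, hx⟩, ⟨y, hy⟩⟩ ⟨⟨x', hx'⟩, ⟨y', hy'⟩⟩ he
      have he' : x * y = x' * y' := congrArg Subtype.val he
      have e2 : x'⁻¹ * x = y' * y⁻¹ := by
        rw [eq_mul_inv_iff_mul_eq, mul_assoc, inv_mul_eq_iff_eq_mul, he']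
      have := hdisj _ (mul_mem hy' (inv_mem hy)) (e2 ▸ mul_mem (inv_mem hx') hx)
      rw [mul_inv_eq_one] at this
      subst this
      rw [mul_right_cancel_iff] at he'
      subst he'
      rfl
    have hle := Nat.card_le_card_of_injective f hf
    rw [Nat.card_prod] at hle
    have hpU : IsPGroup ℓ U := by
      rintro ⟨x, hx⟩
      refine ⟨2, Subtype.ext ?_⟩
      show x ^ ℓ ^ 2 = 1
      have hn : Subgroup.closure (Set.range b) ≤
          Subgroup.normalizer (Subgroup.closure (Set.range a) : Set G) := by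
        rw [← hmapA, ← hmapB]
        exact (Subgroup.map_mono hBnorm).trans (Subgroup.le_normalizer_map τ)
      rw [hUeq] at hx
      rw [← SetLike.mem_coe, Subgroup.coe_mul_of_left_le_normalizer_right _ _ hn] at hx
      obtain ⟨v, hv, u, hu, rfl⟩ := hx
      have key : ∀ n : ℕ, ∃ u' ∈ Subgroup.closure (Set.range a), (v * u) ^ n = v ^ n * u' := by
        intro n
        induction n with
        | zero => exact ⟨1, one_mem _, by simp⟩
        | succ n ih =>
          obtain ⟨u', hu', e⟩ := ih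
          refine ⟨v⁻¹ * u' * v * u, mul_mem ?_ hu, by rw [pow_succ, e, pow_succ]; group⟩
          have h' := (Subgroup.mem_normalizer_iff.mp (inv_mem (hn hv)) u').mp hu'
          rwa [inv_inv] at h'
      obtain ⟨u', hu', e⟩ := key ℓ
      rw [sq, pow_mul, e, (hBab v hv).1, one_mul, (hAab u' hu').1]
    obtain ⟨n, hn⟩ := (IsPGroup.iff_card).mp hpU
    have hn' : k + l ≤ n := by
      have : ℓ ^ (k + l) ≤ ℓ ^ n := by
        rw [pow_add, ← hn, mul_comm]
        exact (Nat.mul_le_mul hB hA).trans hle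
      exact (Nat.pow_le_pow_iff_right hℓ.one_lt).mp this
    apply hG
    rw [← Subgroup.card_mul_index U, hn, pow_succ]
    exact mul_dvd_mul (pow_dvd_pow ℓ hn') hdvd
  · intro z hz hzd _
    have hle' : ⁅U.comap τ, U.comap τ⁆ ≤ K := by
      rw [Subgroup.commutator_le]
      intro x hx y hy
      rw [Subgroup.mem_comap, hU] at hx hy
      obtain ⟨p, hp, hpx⟩ := hx
      obtain ⟨q, hq, hqy⟩ := hy
      rw [commutatorElement_congr τ hτ.2.1 hpx.symm hqy.symm, commutatorElement_def]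
      exact mul_mem (mul_mem (mul_mem hp hq) (inv_mem hp)) (inv_mem hq)
    exact hinter z (hle' hzd) (MonoidHom.mem_ker.mp hz)

end CfsgLib.Schur
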