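import Cfsg.Agent.Lib.OmegaSevenMult.Combine

/-!
# Multipliers from a cover and a bound on the order of perfect central extensions

A cover at least as large as every perfect central extension maps onto each stem extension.
-/

set_option autoImplicit false

namespace CfsgLib.Schur.CoverOfBound

universe u v

variable {G : Type u} [Group G]

/-- A stem extension of a perfect group is perfect. -/
theorem stem_perfect (hG : commutator G = ⊤) {Δ : Type u} [Group Δ] {τ : Δ →* G}
    (hτ : Cfsg.IsStemExtension τ) : commutator Δ = ⊤ := by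
  obtain ⟨hs, -, hk⟩ := hτ
  rw [← sup_of_le_left hk, ← Subgroup.comap_map_eq, commutator_def, Subgroup.map_commutator,
    Subgroup.map_top_of_surjective τ hs, ← commutator_def, hG, Subgroup.comap_top]

/-- Two central extensions are covered by a perfect one inside their fibre product. -/
theorem exists_common (hG : commutator G = ⊤) {Γ Δ : Type u} [Group Γ] [Finite Γ] [Group Δ] [Finite Δ]
    (σ : Γ →* G) (τ : Δ →* G) (hσ : Function.Surjective σ) (hσc : σ.ker ≤ Subgroup.center Γ)
    (hΓ : commutator Γ = ⊤) (hτ : Function.Surjective τ) (hτc : τ.ker ≤ Subgroup.center Δ)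
    (hΔ : commutator Δ = ⊤) :
    ∃ (D : Type u) (_ : Group D) (_ : Finite D) (p : D →* Γ) (q : D →* Δ),
      Function.Surjective p ∧ Function.Surjective q ∧ commutator D = ⊤ ∧
      σ.comp p = τ.comp q ∧ (σ.comp p).ker ≤ Subgroup.center D ∧ p.ker ≤ Subgroup.center D := by
  let P : Subgroup (Γ × Δ) :=
    { carrier := {x | σ x.1 = τ x.2}
      one_mem' := by simp
      mul_mem' := fun {x y} (a : σ x.1 = τ x.2) (b : σ y.1 = τ y.2) => by
        show σ (x.1 * y.1) = τ (x.2 * y.2)
        rw [map_mul, map_mul, a, b]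
      inv_mem' := fun {x} (a : σ x.1 = τ x.2) => by
        show σ x.1⁻¹ = τ x.2⁻¹
        rw [map_inv, map_inv, a] }
  let p : P →* Γ := (MonoidHom.fst Γ Δ).comp P.subtype
  let q : P →* Δ := (MonoidHom.snd Γ Δ).comp P.subtype
  have hp : Function.Surjective p := fun a => by
    obtain ⟨b, hb⟩ := hτ (σ a)
    exact ⟨⟨(a, b), hb.symm⟩, rfl⟩
  have hq : Function.Surjective q := fun b => by
    obtain ⟨a, ha⟩ := hσ (τ b)
    exact ⟨⟨(a, b), ha⟩, rfl⟩
  have hc : (σ.comp p).ker ≤ Subgroup.center P := fun x hx => by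
    have a : x.1.1 ∈ σ.ker := hx
    have b : x.1.2 ∈ τ.ker := by
      show τ x.1.2 = 1
      rw [← x.2]; exact hx
    exact Subgroup.mem_center_iff.2 fun y => Subtype.ext (Prod.ext
      (Subgroup.mem_center_iff.1 (hσc a) _) (Subgroup.mem_center_iff.1 (hτc b) _))
  obtain ⟨hD, -⟩ := OmegaSevenMult.derived_perfect (τ := σ.comp p) (hσ.comp hp) hc hG
  have hres : ∀ {H : Type u} [Group H] (r : P →* H), Function.Surjective r → commutator H = ⊤ →
      Function.Surjective (r.comp (commutator P).subtype) := by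
    intro H _ r hr hH h
    have e : (commutator P).map r = ⊤ := by
      rw [commutator_def, Subgroup.map_commutator, Subgroup.map_top_of_surjective r hr,
        ← commutator_def, hH]
    obtain ⟨d, hd, ed⟩ := Subgroup.mem_map.1 (e ▸ Subgroup.mem_top h)
    exact ⟨⟨d, hd⟩, ed⟩
  have hc' : (σ.comp (p.comp (commutator P).subtype)).ker ≤ Subgroup.center (commutator P) :=
    fun x hx => Subgroup.mem_center_iff.2 fun y => Subtype.ext (Subgroup.mem_center_iff.1 (hc hx) y.1)
  refine ⟨commutator P, inferInstance, inferInstance, p.comp (commutator P).subtype,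
    q.comp (commutator P).subtype, hres p hp hΓ, hres q hq hΔ, hD,
    MonoidHom.ext fun x => x.1.2, hc', fun x hx => hc' ?_⟩
  show σ (p x.1) = 1
  rw [show p x.1 = 1 from hx, map_one]

/-- A cover which is as large as every perfect central extension. -/
theorem hasSchurMultiplier (hG : commutator G = ⊤) {A : Type v} [CommGroup A] {Γ : Type u} [Group Γ]
    [Finite Γ] {σ : Γ →* G} (hσ : Cfsg.IsStemExtension σ) (k : σ.ker ≃* A)
    (bound : ∀ {Δ : Type u} [Group Δ] [Finite Δ] (τ : Δ →* G), Function.Surjective τ →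
      τ.ker ≤ Subgroup.center Δ → commutator Δ = ⊤ → Nat.card Δ ≤ Nat.card Γ) :
    Cfsg.HasSchurMultiplier G A := by
  refine ⟨⟨Γ, inferInstance, inferInstance, σ, hσ, ⟨k⟩⟩, fun Δ _ _ τ hτ => ?_⟩
  obtain ⟨D, _, _, p, q, hp, hq, hD, he, hc, -⟩ := exists_common hG σ τ hσ.1 hσ.2.1
    (stem_perfect hG hσ) hτ.1 hτ.2.1 (stem_perfect hG hτ)
  have hb : Function.Bijective p :=
    (Nat.bijective_iff_surjective_and_card p).2 ⟨hp, le_antisymm (bound (σ.comp p) (hσ.1.comp hp) hc hD)
      (Nat.card_le_card_of_surjective p hp)⟩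
  let e := MulEquiv.ofBijective p hb
  have hf : ∀ x, τ (q (e.symm x)) = σ x := fun x => by
    rw [← MonoidHom.comp_apply, ← he]
    exact congrArg σ (e.apply_symm_apply x)
  let r : σ.ker →* τ.ker := ((q.comp e.symm.toMonoidHom).comp σ.ker.subtype).codRestrict τ.ker
    fun x => by
      show τ (q (e.symm x.1)) = 1
      rw [hf]; exact x.2
  have hr : Function.Surjective r := fun y => by
    obtain ⟨d, hd⟩ := hq y.1
    refine ⟨⟨e d, ?_⟩, Subtype.ext ?_⟩
    · rw [MonoidHom.mem_ker, ← hf, e.symm_apply_apply, hd]; exact y.2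
    · show q (e.symm (e d)) = y.1
      rw [e.symm_apply_apply, hd]
  exact ⟨r.comp k.symm.toMonoidHom, hr.comp k.symm.surjective⟩

end CfsgLib.Schur.CoverOfBound
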