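import Cfsg.Agent.Lib.Schur.OmegaGraph

/-!
# Central extensions of `Ω` in odd characteristic, from a hyperbolic six-space

A perfect central extension of `Ω(Q)` that splits over `Ω` of a hyperbolic six-space is trivial.
-/

set_option autoImplicit false
set_option linter.unusedSectionVars false

namespace CfsgLib.Schur.OmegaOdd

open CfsgLib.Orth CfsgLib.Schur.OmegaGraph CfsgLib.Schur.CoverLocal

variable {F : Type*} [Field F] [Finite F] {ι : Type} [Fintype ι] [DecidableEq ι]
variable {Q : QuadraticForm F (ι → F)} {c : F}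

theorem finrank_span_pair_le (x y : ι → F) :
    Module.finrank F (Submodule.span F ({x, y} : Set (ι → F))) ≤ 2 := by
  classical
  have h := finrank_span_finset_le_card (R := F) ({x, y} : Finset (ι → F))
  rw [Set.finrank, Finset.coe_pair] at h
  exact h.trans Finset.card_le_two

theorem exists_common (hB : Nondeg Q) (hn : 6 ≤ Module.finrank F (ι → F)) (hc : c ≠ 0)
    (v x : Vtx Q c) : ∃ z, Adj 0 v z ∧ Adj 0 z x := by
  set P := Submodule.span F ({v.vec, x.vec} : Set (ι → F)) with hP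
  have h1 := finrank_orth hB P
  have h2 : Module.finrank F P ≤ 2 := finrank_span_pair_le _ _
  have h3 := Submodule.finrank_mono (inf_le_right : orth Q P ⊓ orth Q (orth Q P) ≤ _)
  rw [orth_orth hB] at h3
  have hu : Univ Q (orth Q P) := univ_of_dim (by rw [orth_orth hB]; omega)
  obtain ⟨z, hz, hzc⟩ := hu c hc
  refine ⟨⟨z, hzc⟩, ?_, ?_⟩
  · exact mem_orth.1 hz _ (Submodule.subset_span (by simp))
  · show QuadraticMap.polar (⇑Q) z x.vec = 0
    rw [b_comm]
    exact mem_orth.1 hz _ (Submodule.subset_span (by simp))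

theorem hD (h2 : (2 : F) ≠ 0) (hc : c ≠ 0) : 4 * c * c - (0 : F) * 0 ≠ 0 := by
  rw [mul_zero, sub_zero, show (4 : F) = 2 * 2 by norm_num]
  exact mul_ne_zero (mul_ne_zero (mul_ne_zero h2 h2) hc) hc

theorem three (h2 : (2 : F) ≠ 0) (hB : Nondeg Q) (hn : 7 ≤ Module.finrank F (ι → F)) (hc : c ≠ 0)
    (v : Vtx Q c) : CoverGraph.Three (Adj (0 : F)) v := by
  classical
  intro x y h
  obtain ⟨z, hz⟩ := exists_perp_vtx (hD h2 hc) hB hn hc h {v.vec, x.vec, y.vec} (by simp) (by simp)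
    Finset.card_le_three
  left
  refine ⟨z, ?_, hz _ (by simp), hz _ (by simp)⟩
  show QuadraticMap.polar (⇑Q) v.vec z.vec = 0
  rw [b_comm]
  exact hz _ (by simp)

theorem finrank_rad_le_triple (hB : Nondeg Q) (h2 : (2 : F) ≠ 0) (hc : c ≠ 0) {v w z : Vtx Q c}
    {t : F} (hvw : Adj 0 v w) (hvz : Adj 0 v z) (hwz : Adj t w z) (ht : 4 * c * c - t * t ≠ 0)
    {P : Submodule F (ι → F)} (hv : v.vec ∈ P) (hw : w.vec ∈ P) (hz : z.vec ∈ P) :
    Module.finrank F ↥(P ⊓ orth Q P) + 3 ≤ Module.finrank F P := by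
  have hcoef : ∀ a b d : F, (∀ q ∈ ({v.vec, w.vec, z.vec} : Set (ι → F)),
      QuadraticMap.polar (⇑Q) q (a • v.vec + b • w.vec + d • z.vec) = 0) → a = 0 ∧ b = 0 ∧ d = 0 := by
    intro a b d h
    have e1 := h v.vec (by simp)
    have e2 := h w.vec (by simp)
    have e3 := h z.vec (by simp)
    have k1 : QuadraticMap.polar (⇑Q) v.vec w.vec = 0 := hvw
    have k2 : QuadraticMap.polar (⇑Q) v.vec z.vec = 0 := hvz
    have k3 : QuadraticMap.polar (⇑Q) w.vec z.vec = t := hwz
    simp only [b_add_right, b_smul_right, k1, k2, mul_zero, add_zero, polar_self_vtx] at e1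
    simp only [b_add_right, b_smul_right, b_comm w.vec v.vec, k1, k3, mul_zero, zero_add,
      polar_self_vtx] at e2
    simp only [b_add_right, b_smul_right, b_comm z.vec v.vec, b_comm z.vec w.vec, k2, k3, mul_zero,
      zero_add, polar_self_vtx] at e3
    obtain ⟨hb, hd⟩ := plane_coeff (isPlane ht hwz) (α := b) (β := d)
      (by rw [polar_self_vtx, k3]; linear_combination e2) (by rw [polar_self_vtx, k3]; linear_combination e3)
    exact ⟨(mul_eq_zero.1 e1).resolve_right (mul_ne_zero h2 hc), hb, hd⟩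
  have hli : LinearIndependent F ![v.vec, w.vec, z.vec] := by
    rw [Fintype.linearIndependent_iff]
    intro g hg
    simp only [Fin.sum_univ_three, Matrix.cons_val_zero, Matrix.cons_val_one, Matrix.cons_val_two,
      Matrix.tail_cons, Matrix.head_cons] at hg
    obtain ⟨h0, h1, h2⟩ := hcoef (g 0) (g 1) (g 2) (fun q _ => by rw [hg, b_zero_right])
    intro i
    fin_cases i <;> assumption
  set T := Submodule.span F (Set.range ![v.vec, w.vec, z.vec]) with hT
  have hle : T ≤ P := Submodule.span_le.2 (by rintro _ ⟨i, rfl⟩; fin_cases i <;> assumption)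
  have hdis : (P ⊓ orth Q P) ⊓ T = ⊥ := by
    rw [Submodule.eq_bot_iff]
    rintro x ⟨⟨-, hx⟩, hxs⟩
    rw [SetLike.mem_coe, hT, Submodule.mem_span_range_iff_exists_fun] at hxs
    obtain ⟨a, rfl⟩ := hxs
    simp only [Fin.sum_univ_three, Matrix.cons_val_zero, Matrix.cons_val_one, Matrix.cons_val_two,
      Matrix.tail_cons, Matrix.head_cons] at hx ⊢
    obtain ⟨h0, h1, h2⟩ := hcoef (a 0) (a 1) (a 2) (by
      intro q hq
      refine mem_orth.1 hx q ?_
      rcases hq with rfl | rfl | rfl <;> assumption)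
    rw [h0, h1, h2, zero_smul, zero_smul, zero_smul, add_zero, add_zero]
  have h3 := Submodule.finrank_sup_add_finrank_inf_eq (P ⊓ orth Q P) T
  have hT3 : Module.finrank F T = 3 := by rw [hT, finrank_span_eq_card hli, Fintype.card_fin]
  rw [hdis, finrank_bot, hT3] at h3
  have h5 := Submodule.finrank_mono (sup_le (inf_le_left : P ⊓ orth Q P ≤ P) hle)
  omega

theorem path_mid {v x z z' : Vtx Q c} (hvz' : Adj 0 v z') (hz'x : Adj 0 z' x)
    (h : ∃ w ∈ orth Q (Submodule.span F ({v.vec, x.vec, z.vec, z'.vec} : Set (ι → F))), Q w = c) :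
    Relation.ReflTransGen (fun a b => Adj 0 a b ∧ Adj 0 v b ∧ Adj 0 b x) z z' := by
  have hsymm : ∀ {a b : Vtx Q c}, Adj 0 a b → Adj 0 b a := fun h => by
    unfold Adj at h ⊢; rwa [b_comm]
  obtain ⟨w, hw, hwc⟩ := h
  let W : Vtx Q c := ⟨w, hwc⟩
  have hw' : ∀ q ∈ ({v.vec, x.vec, z.vec, z'.vec} : Set (ι → F)),
      QuadraticMap.polar (⇑Q) q w = 0 := fun q hq => mem_orth.1 hw q (Submodule.subset_span hq)
  have e1 : Adj 0 z W := hw' z.vec (by simp)
  have e2 : Adj 0 v W := hw' v.vec (by simp)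
  have e3 : Adj 0 x W := hw' x.vec (by simp)
  have e4 : Adj 0 z' W := hw' z'.vec (by simp)
  exact .tail (.single (b := W) ⟨e1, e2, hsymm e3⟩) ⟨hsymm e4, hvz', hz'x⟩

/-- Without a common neighbour the span of the four vertices has a radical of dimension two. -/
theorem rad_two_of_no_mid (hB : Nondeg Q) (hn : 7 ≤ Module.finrank F (ι → F)) (hc : c ≠ 0)
    {S : Finset (ι → F)} (hS : S.card ≤ 4)
    (hex : ¬ ∃ w ∈ orth Q (Submodule.span F (S : Set (ι → F))), Q w = c) :
    2 ≤ Module.finrank F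
      ↥(Submodule.span F (S : Set (ι → F)) ⊓ orth Q (Submodule.span F (S : Set (ι → F)))) := by
  by_contra hlt
  push Not at hlt
  refine hex (univ_of_dim ?_ c hc)
  rw [orth_orth hB, inf_comm]
  have h1 := finrank_orth hB (Submodule.span F (S : Set (ι → F)))
  have h3 := finrank_span_finset_le_card (R := F) S
  rw [Set.finrank] at h3
  change Module.finrank F (Submodule.span F (S : Set (ι → F))) ≤ S.card at h3
  omega

theorem chain (h2 : (2 : F) ≠ 0) (hB : Nondeg Q) (hn : 7 ≤ Module.finrank F (ι → F)) (hc : c ≠ 0)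
    (hq : 8 ≤ Module.finrank F (ι → F) ∨ ∃ t : F, t ≠ 0 ∧ 4 * c * c - t * t ≠ 0) (v : Vtx Q c) :
    ∀ x z z' : Vtx Q c, Adj 0 v z → Adj 0 z x → Adj 0 v z' → Adj 0 z' x → ¬ Adj 0 v x →
      Relation.ReflTransGen (fun a b => Adj 0 a b ∧ Adj 0 v b ∧ Adj 0 b x) z z' := by
  classical
  intro x z z' hvz hzx hvz' hz'x _
  have hsymm : ∀ {a b : Vtx Q c}, Adj 0 a b → Adj 0 b a := fun h => by
    unfold Adj at h ⊢; rwa [b_comm]
  have mid : ∀ z z' : Vtx Q c, Adj 0 v z' → Adj 0 z' x →
      (∃ w ∈ orth Q (Submodule.span F (({v.vec, x.vec, z.vec, z'.vec} : Finset (ι → F)) : Set _)),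
        Q w = c) →
      Relation.ReflTransGen (fun a b => Adj 0 a b ∧ Adj 0 v b ∧ Adj 0 b x) z z' :=
    fun z z' h h' hw => path_mid h h' (by
      simpa only [Finset.coe_insert, Finset.coe_singleton] using hw)
  have hcard : ∀ a b d e : ι → F, ({a, b, d, e} : Finset (ι → F)).card ≤ 4 := fun _ _ _ _ =>
    Finset.card_le_four
  set S : Finset (ι → F) := {v.vec, x.vec, z.vec, z'.vec} with hS
  set P := Submodule.span F (S : Set (ι → F)) with hP
  by_cases hex : ∃ w ∈ orth Q P, Q w = c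
  · exact mid z z' hvz' hz'x hex
  have hpl : IsPlane Q v.vec z.vec := isPlane (hD h2 hc) hvz
  have h8 : ¬ 8 ≤ Module.finrank F (ι → F) := fun h8 => hex
    (univ_orth hB hpl S (by simp [hS]) (by simp [hS]) (hcard _ _ _ _) h8 c hc)
  obtain ⟨t, ht0, ht⟩ := hq.resolve_left h8
  -- the radical is too large, so it contains a vector outside the span of the first three
  have hrad : 2 ≤ Module.finrank F ↥(P ⊓ orth Q P) :=
    rad_two_of_no_mid hB hn hc (hcard _ _ _ _) hex
  set P3 := Submodule.span F (({v.vec, x.vec, z.vec} : Finset (ι → F)) : Set (ι → F)) with hP3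
  have h3P : P3 ≤ P := Submodule.span_mono (by simp [hS, Set.insert_subset_iff])
  obtain ⟨r, hr, hr3⟩ : ∃ r ∈ P ⊓ orth Q P, r ∉ P3 := by
    refine SetLike.not_le_iff_exists.1 fun hle => ?_
    have hle' : P ⊓ orth Q P ≤ P3 ⊓ orth Q P3 :=
      le_inf hle (inf_le_right.trans (orth_le h3P))
    have h1 := Submodule.finrank_mono hle'
    have h4 := finrank_rad_le hB hpl (P := P3) (Submodule.subset_span (by simp))
      (Submodule.subset_span (by simp))
    have h5 := finrank_span_finset_le_card (R := F) ({v.vec, x.vec, z.vec} : Finset (ι → F))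
    rw [Set.finrank] at h5
    change Module.finrank F P3 ≤ _ at h5
    have h6 : ({v.vec, x.vec, z.vec} : Finset (ι → F)).card ≤ 3 := Finset.card_le_three
    omega
  obtain ⟨w₀, hw₀, hrw⟩ := exists_orth_one hB hr3
  obtain ⟨ε, hε⟩ : ∃ ε : F, QuadraticMap.polar (⇑Q) z'.vec w₀ = ε ∧ ε ≠ 0 := by
    refine ⟨_, rfl, fun h0 => ?_⟩
    have hmem : w₀ ∈ orth Q P := mem_orth_span.2 fun q hq => by
      simp only [hS, Finset.coe_insert, Finset.coe_singleton, Set.mem_insert_iff,
        Set.mem_singleton_iff] at hq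
      rcases hq with rfl | rfl | rfl | rfl
      · exact mem_orth.1 hw₀ _ (Submodule.subset_span (by simp))
      · exact mem_orth.1 hw₀ _ (Submodule.subset_span (by simp))
      · exact mem_orth.1 hw₀ _ (Submodule.subset_span (by simp))
      · exact h0
    have := mem_orth.1 hmem r hr.1
    rw [hrw] at this
    exact one_ne_zero this
  have hQr : Q r = 0 := by
    have h := mem_orth.1 hr.2 r hr.1
    rw [b_self] at h
    exact (mul_eq_zero.1 h).resolve_left h2
  set s := t * ε⁻¹ with hs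
  have hs0 : s ≠ 0 := mul_ne_zero ht0 (inv_ne_zero hε.2)
  set w := s • w₀ + ((c - Q (s • w₀)) / s) • r with hw
  have hwc : Q w = c := by
    rw [hw, q_add, b_smul_left, b_smul_right, q_smul _ r, hQr, b_comm w₀ r, hrw]
    field_simp
    ring
  have hwP : ∀ q ∈ S, QuadraticMap.polar (⇑Q) q w = s * QuadraticMap.polar (⇑Q) q w₀ := fun q hq => by
    rw [hw, b_add_right, b_smul_right, b_smul_right,
      mem_orth.1 hr.2 q (Submodule.subset_span hq), mul_zero, add_zero]
  have hw3 : ∀ q ∈ ({v.vec, x.vec, z.vec} : Finset (ι → F)), QuadraticMap.polar (⇑Q) q w = 0 :=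
    fun q hq => by
      rw [hwP q (by simp [hS] at hq ⊢; tauto), mem_orth.1 hw₀ q (Submodule.subset_span hq),
        mul_zero]
  let W : Vtx Q c := ⟨w, hwc⟩
  have hWz' : Adj t W z' := by
    show QuadraticMap.polar (⇑Q) w z'.vec = t
    rw [b_comm, hwP _ (by simp [hS]), hε.1, hs, mul_assoc, inv_mul_cancel₀ hε.2, mul_one]
  have hvW : Adj 0 v W := hw3 _ (by simp)
  have hWx : Adj 0 W x := hsymm (hw3 x.vec (by simp))
  refine .trans (.single ⟨?_, hvW, hWx⟩) (mid W z' hvz' hz'x ?_)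
  · exact hw3 z.vec (by simp)
  set P' := Submodule.span F (({v.vec, x.vec, W.vec, z'.vec} : Finset (ι → F)) : Set (ι → F)) with hP'
  refine univ_of_dim ?_ c hc
  rw [orth_orth hB, inf_comm]
  have h1 := finrank_orth hB P'
  have h3 := finrank_span_finset_le_card (R := F) ({v.vec, x.vec, W.vec, z'.vec} : Finset (ι → F))
  rw [Set.finrank] at h3
  change Module.finrank F P' ≤ _ at h3
  have := hcard v.vec x.vec W.vec z'.vec
  have h4 := finrank_rad_le_triple hB h2 hc hvW hvz' hWz' ht (P := P')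
    (Submodule.subset_span (by simp)) (Submodule.subset_span (by simp))
    (Submodule.subset_span (by simp))
  omega

theorem stab_perfect (h2 : (2 : F) ≠ 0) (hB : Nondeg Q) (hn : 7 ≤ Module.finrank F (ι → F))
    (hc : c ≠ 0) (v : Vtx Q c) :
    ⁅MulAction.stabilizer (Cfsg.Omega F ⇑Q) v, MulAction.stabilizer (Cfsg.Omega F ⇑Q) v⁆ =
      MulAction.stabilizer (Cfsg.Omega F ⇑Q) v := by
  have hvv : QuadraticMap.polar (⇑Q) v.vec v.vec ≠ 0 := by
    rw [polar_self_vtx]; exact mul_ne_zero h2 hc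
  refine fix_perfect (hD h2 hc) hB hn (P := Submodule.span F {v.vec}) ?_ ?_ fun G => ?_
  · intro w hw h
    obtain ⟨a, rfl⟩ := Submodule.mem_span_singleton.1 hw
    have := h v.vec (Submodule.mem_span_singleton_self _)
    rw [b_smul_left] at this
    rw [(mul_eq_zero.1 this).resolve_right hvv, zero_smul]
  · rw [finrank_span_singleton (ne_zero_of_b hvv)]; omega
  · rw [MulAction.mem_stabilizer_iff, smul_eq_iff]
    refine ⟨fun h w hw => ?_, fun h => h _ (Submodule.mem_span_singleton_self _)⟩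
    obtain ⟨a, rfl⟩ := Submodule.mem_span_singleton.1 hw
    rw [ap_smul, h]

/-- The induction step. -/
theorem step (h2 : (2 : F) ≠ 0) (hB : Nondeg Q) (hn : 7 ≤ Module.finrank F (ι → F)) (hc : c ≠ 0)
    (hq : 8 ≤ Module.finrank F (ι → F) ∨ ∃ t : F, t ≠ 0 ∧ 4 * c * c - t * t ≠ 0) (v : Vtx Q c)
    {Γ : Type*} [Group Γ] {σ : Γ →* Cfsg.Omega F ⇑Q} (hs : Function.Surjective σ)
    (hcen : σ.ker ≤ Subgroup.center Γ) (hΓ : commutator Γ = ⊤)
    (hinj : ∀ k ∈ L σ (MulAction.stabilizer _ v), σ k = 1 → k = 1) : Function.Injective σ := by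
  have hedge : ∃ u, Adj 0 v u := by
    obtain ⟨z, hz, -⟩ := exists_common hB (by omega) hc v v
    exact ⟨z, hz⟩
  have hsymm : ∀ {a b : Vtx Q c}, Adj 0 a b → Adj 0 b a := fun h => by
    unfold Adj at h ⊢; rwa [b_comm]
  have H := loc (hD h2 hc) hB hn hc v hedge hs (stab_perfect h2 hB hn hc v)
    (fun u z hz => (edge_perfect (hD h2 hc) hB hn (x := v) (y := z) (hsymm hz.2.1)).ge) hinj
  exact CoverLocal.injective H hcen hΓ
    (fun n hn' _ _ => CoverGraph.quad_of_chain hn' (chain h2 hB hn hc hq v))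
    (three h2 hB hn hc v) (exists_common hB (by omega) hc v)

/-! ### Descent to the orthogonal of the vertex -/

theorem L_perfect {G Γ : Type*} [Group G] [Group Γ] {σ : Γ →* G} (hs : Function.Surjective σ)
    (hc : σ.ker ≤ Subgroup.center Γ) {S : Subgroup G} (hS : ⁅S, S⁆ = S) :
    commutator (L σ S) = ⊤ := by
  refine Subgroup.map_injective (Subgroup.subtype_injective _) ?_
  rw [Subgroup.map_subtype_commutator, ← MonoidHom.range_eq_map, Subgroup.range_subtype]
  refine le_antisymm (Subgroup.commutator_le.2 fun a ha b hb => ?_) ?_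
  · rw [commutatorElement_def]
    exact mul_mem (mul_mem (mul_mem ha hb) (inv_mem ha)) (inv_mem hb)
  · rw [L, Subgroup.commutator_le]
    intro a ha b hb
    have hmem : ∀ g ∈ S, ∃ k ∈ L σ S, σ k = g := fun g hg =>
      Subgroup.mem_map.1 ((map_L hs S).symm ▸ hS.symm ▸ hg)
    obtain ⟨a', ha', ea⟩ := hmem _ ha
    obtain ⟨b', hb', eb⟩ := hmem _ hb
    rw [commutatorElement_congr σ hc ea.symm eb.symm]
    exact Subgroup.commutator_mem_commutator ha' hb'

/-- The fixer in `Ω` of the orthogonal of a subspace. -/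
def fixOrth (Q : QuadraticForm F (ι → F)) (U : Submodule F (ι → F)) :
    Subgroup (Cfsg.Omega F ⇑Q) where
  carrier := {G | ∀ x ∈ orth Q U, ap (G : Grp Q) x = x}
  one_mem' := fun x _ => ap_one x
  mul_mem' := fun {a b} ha hb x hx => by
    show ap ((a : Grp Q) * (b : Grp Q)) x = x
    rw [ap_mul, hb x hx, ha x hx]
  inv_mem' := fun {a} ha x hx => by
    show ap (a : Grp Q)⁻¹ x = x
    conv_lhs => rw [← ha x hx]
    rw [ap_inv_ap]

theorem mem_fixOrth {U : Submodule F (ι → F)} {G : Cfsg.Omega F ⇑Q} :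
    G ∈ fixOrth Q U ↔ ∀ x ∈ orth Q U, ap (G : Grp Q) x = x := Iff.rfl

/-- A perfect central extension of `Ω(Q)` restricts to one of `Ω` of the orthogonal of `v`. -/
theorem descend (h2 : (2 : F) ≠ 0) (hB : Nondeg Q) (hn : 7 ≤ Module.finrank F (ι → F))
    (hc : c ≠ 0) (v : Vtx Q c) {U : Submodule F (ι → F)} (hvU : v.vec ∈ orth Q U)
    {Γ : Type*} [Group Γ] {σ : Γ →* Cfsg.Omega F ⇑Q} (hs : Function.Surjective σ)
    (hcen : σ.ker ≤ Subgroup.center Γ)
    (hinj : ∀ k ∈ L σ (fixOrth Q U), σ k = 1 → k = 1) :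
    ∃ (m : ℕ) (e : (Fin m → F) →ₗ[F] ι → F)
      (σ' : L σ (MulAction.stabilizer _ v) →* Cfsg.Omega F ⇑(Q.comp e)),
      m + 1 = Module.finrank F (ι → F) ∧ Nondeg (Q.comp e) ∧ Function.Injective e ∧
      LinearMap.range e = orth Q (Submodule.span F {v.vec}) ∧ U ≤ LinearMap.range e ∧
      Function.Surjective σ' ∧ σ'.ker ≤ Subgroup.center _ ∧
      commutator (L σ (MulAction.stabilizer _ v)) = ⊤ ∧
      (∀ k, σ' k = 1 ↔ σ k.1 = 1) ∧
      (∀ k y, ap (σ k.1 : Grp Q) (e y) = e (ap (σ' k : Grp (Q.comp e)) y)) ∧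
      ∀ k ∈ L σ' (fixOrth (Q.comp e) (U.comap e)), σ' k = 1 → k = 1 := by
  have hvv : QuadraticMap.polar (⇑Q) v.vec v.vec ≠ 0 := by
    rw [polar_self_vtx]; exact mul_ne_zero h2 hc
  have hv0 := finrank_span_singleton (K := F) (ne_zero_of_b hvv)
  have hP : NondegOn Q (Submodule.span F {v.vec}) := by
    intro w hw h
    obtain ⟨a, rfl⟩ := Submodule.mem_span_singleton.1 hw
    have := h v.vec (Submodule.mem_span_singleton_self _)
    rw [b_smul_left] at this
    rw [(mul_eq_zero.1 this).resolve_right hvv, zero_smul]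
  obtain ⟨m, e, f, hm, hB', he, hr, hf, h1, hrange, hperf'⟩ :=
    exists_omega_orth hB (by omega) hP (by rw [hv0]; omega)
  set S := MulAction.stabilizer (Cfsg.Omega F ⇑Q) v with hS
  have hSr : S = f.range := by
    ext G
    rw [hS, MulAction.mem_stabilizer_iff, smul_eq_iff, hrange]
    refine ⟨fun h w hw => ?_, fun h => h _ (Submodule.mem_span_singleton_self _)⟩
    obtain ⟨a, rfl⟩ := Submodule.mem_span_singleton.1 hw
    rw [ap_smul, h]
  have hSperf : ⁅S, S⁆ = S := stab_perfect h2 hB hn hc v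
  have hmem : ∀ k : L σ S, σ k.1 ∈ f.range := fun k => hSr ▸ L_sigma k.2
  let σ' : L σ S →* Cfsg.Omega F ⇑(Q.comp e) :=
    (MonoidHom.ofInjective hf).symm.toMonoidHom.comp
      ((σ.comp (L σ S).subtype).codRestrict f.range hmem)
  have hfσ : ∀ k, f (σ' k) = σ k.1 := fun k =>
    congrArg Subtype.val ((MonoidHom.ofInjective hf).apply_symm_apply ⟨σ k.1, hmem k⟩)
  have hker : ∀ k, σ' k = 1 ↔ σ k.1 = 1 := fun k => by
    rw [← hfσ, map_eq_one_iff f hf]
  have hUr : U ≤ LinearMap.range e := by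
    rw [hr]
    intro u hu
    rw [mem_orth_span]
    rintro _ rfl
    rw [b_comm]
    exact mem_orth.1 hvU u hu
  refine ⟨m, e, σ', by rw [hv0] at hm; exact hm, hB', he, hr, hUr, fun g => ?_, fun k hk => ?_,
    L_perfect hs hcen hSperf, hker, fun k y => by rw [← hfσ, h1], fun k hk hk1 => ?_⟩
  · obtain ⟨k, hk, ek⟩ := Subgroup.mem_map.1 (show f g ∈ (L σ S).map σ by
      rw [map_L hs, hSperf, hSr]; exact ⟨g, rfl⟩)
    exact ⟨⟨k, hk⟩, hf (by rw [hfσ, ← ek])⟩
  · rw [MonoidHom.mem_ker, hker] at hk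
    rw [Subgroup.mem_center_iff]
    exact fun x => Subtype.ext (Subgroup.mem_center_iff.1 (hcen hk) x.1)
  · have hsub : ((fixOrth (Q.comp e) (U.comap e)).comap σ').map (L σ S).subtype ≤
        (fixOrth Q U).comap σ := by
      rintro _ ⟨a, ha, rfl⟩
      show σ a.1 ∈ fixOrth Q U
      rw [← hfσ, mem_fixOrth]
      intro x hx
      have hd := exists_decomp hB (W := LinearMap.range e) (by rw [hr]; exact nondegOn_orth hB hP) x
      obtain ⟨w, hw, z, hz, rfl⟩ := hd
      obtain ⟨y, rfl⟩ := hw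
      rw [hr, orth_orth hB] at hz
      have hy : y ∈ orth (Q.comp e) (U.comap e) := mem_orth.2 fun y' hy' => by
        have hz' : z ∈ orth Q (LinearMap.range e) := by rw [hr, orth_orth hB]; exact hz
        have e1 := mem_orth.1 hx _ hy'
        rw [b_add_right, mem_orth.1 hz' _ ⟨y', rfl⟩, add_zero] at e1
        simpa [QuadraticMap.polar] using e1
      rw [ap_add, h1, (hrange (f (σ' a))).1 ⟨_, rfl⟩ z hz, mem_fixOrth.1 ha y hy]
    have hm' : k.1 ∈ (L σ' (fixOrth (Q.comp e) (U.comap e))).map (L σ S).subtype := ⟨k, hk, rfl⟩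
    unfold CoverLocal.L at hm'
    rw [Subgroup.map_commutator] at hm'
    exact Subtype.ext (hinj k.1 (Subgroup.commutator_mono hsub hsub hm') ((hker k).1 hk1))

end CfsgLib.Schur.OmegaOdd
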