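import Cfsg.Agent.Lib.Schur.OmegaEven

/-!
# Central extensions of `Ω₈⁻(2)`

The stabiliser of a vector of norm one is `Sp₆(2)`, which has a double cover. In an extension of
`Ω₈⁻(2)` the lifts of commuting transvections commute, and the lifts of reflection pairs satisfy
the triangle relation, because a plane without singular vectors is orthogonal to a totally singular
three-space.
-/

set_option autoImplicit false
set_option linter.unusedSectionVars false

namespace CfsgLib.Schur.OmegaMinusTwo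

open CfsgLib.Orth CfsgLib.Schur.OmegaGraph CfsgLib.Schur.CoverLocal CfsgLib.Schur.OmegaEven
open Matrix CfsgLib.Classical.SympTrans
open scoped commutatorElement

/-! ### Commutators of lifts -/

section Comm

variable {G Γ : Type*} [Group G] [Group Γ] (σ : Γ →* G) (hs : Function.Surjective σ)

/-- The commutator of two lifts. -/
noncomputable def C (g h : G) : Γ := ⁅Function.surjInv hs g, Function.surjInv hs h⁆

variable {σ} {hs}
variable (hc : σ.ker ≤ Subgroup.center Γ)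
include hc

theorem C_eq {γ δ : Γ} {g h : G} (hγ : σ γ = g) (hδ : σ δ = h) : C σ hs g h = ⁅γ, δ⁆ :=
  commutatorElement_congr σ hc (by rw [Function.surjInv_eq hs, hγ])
    (by rw [Function.surjInv_eq hs, hδ])

theorem C_central {g h : G} (e : Commute g h) : C σ hs g h ∈ Subgroup.center Γ := hc (by
  rw [MonoidHom.mem_ker, C, map_commutatorElement, Function.surjInv_eq hs,
    Function.surjInv_eq hs, commutatorElement_eq_one_iff_commute]
  exact e)

theorem C_mul_right {g h k : G} (e2 : Commute g k) :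
    C σ hs g (h * k) = C σ hs g h * C σ hs g k := by
  obtain ⟨x, rfl⟩ := hs g
  obtain ⟨y, rfl⟩ := hs h
  obtain ⟨z, rfl⟩ := hs k
  rw [C_eq hc (γ := x) (δ := y * z) rfl (map_mul σ y z), C_eq hc (γ := x) (δ := y) rfl rfl]
  have hz := C_central hc e2 (hs := hs)
  rw [C_eq hc (γ := x) (δ := z) rfl rfl] at hz ⊢
  have e := Subgroup.mem_center_iff.1 hz y
  calc ⁅x, y * z⁆ = ⁅x, y⁆ * (y * ⁅x, z⁆ * y⁻¹) := by simp only [commutatorElement_def]; group
    _ = _ := by rw [e, mul_inv_cancel_right]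

theorem C_mul_left {g h k : G} (e1 : Commute g k) (e2 : Commute h k) :
    C σ hs (g * h) k = C σ hs g k * C σ hs h k := by
  obtain ⟨x, rfl⟩ := hs g
  obtain ⟨y, rfl⟩ := hs h
  obtain ⟨z, rfl⟩ := hs k
  rw [C_eq hc (γ := x * y) (δ := z) (map_mul σ x y) rfl, C_eq hc (γ := x) (δ := z) rfl rfl,
    C_eq hc (γ := y) (δ := z) rfl rfl]
  have hx := C_central hc e1 (hs := hs)
  have hy := C_central hc e2 (hs := hs)
  rw [C_eq hc (γ := x) (δ := z) rfl rfl] at hx
  rw [C_eq hc (γ := y) (δ := z) rfl rfl] at hy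
  have e := Subgroup.mem_center_iff.1 hy x
  calc ⁅x * y, z⁆ = x * ⁅y, z⁆ * x⁻¹ * ⁅x, z⁆ := by simp only [commutatorElement_def]; group
    _ = ⁅y, z⁆ * ⁅x, z⁆ := by rw [e, mul_inv_cancel_right]
    _ = _ := Subgroup.mem_center_iff.1 hx _

theorem C_swap (g h : G) : C σ hs h g = (C σ hs g h)⁻¹ := by
  rw [C, C, commutatorElement_inv]

theorem C_conj (g h k : G) (e : Commute h k) :
    C σ hs (g * h * g⁻¹) (g * k * g⁻¹) = C σ hs h k := by
  obtain ⟨x, rfl⟩ := hs g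
  obtain ⟨y, rfl⟩ := hs h
  obtain ⟨z, rfl⟩ := hs k
  have hz := C_central hc e (hs := hs)
  rw [C_eq hc (γ := y) (δ := z) rfl rfl] at hz ⊢
  rw [C_eq hc (γ := x * y * x⁻¹) (δ := x * z * x⁻¹) (by simp) (by simp),
    show ⁅x * y * x⁻¹, x * z * x⁻¹⁆ = x * ⁅y, z⁆ * x⁻¹ by simp only [commutatorElement_def]; group,
    Subgroup.mem_center_iff.1 hz x, mul_inv_cancel_right]

theorem C_self (g : G) : C σ hs g g = 1 := commutatorElement_self _

theorem C_one_left (g : G) : C σ hs 1 g = 1 := by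
  rw [C_eq hc (γ := 1) (map_one σ) (Function.surjInv_eq hs g), commutatorElement_one_left]

theorem C_one_right (g : G) : C σ hs g 1 = 1 := by rw [C_swap hc, C_one_left hc, inv_one]

end Comm

/-! ### Pairs of reflections -/

universe uF uG

variable {F : Type uF} [Field F] [Finite F] {ι : Type} [Fintype ι] [DecidableEq ι]
variable {Q : QuadraticForm F (ι → F)}

local notation "B" => QuadraticMap.polar (DFunLike.coe Q)

/-- The product of the reflections in two orthogonal vertices. -/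
noncomputable def t (x y : Vtx Q (1 : F)) : Cfsg.Omega F ⇑Q := by
  classical
  exact if h : ∃ g : Cfsg.Omega F ⇑Q, ∀ w,
      ap (g : Grp Q) w = w + B x.vec w • x.vec + B y.vec w • y.vec then h.choose else 1

/-- The lifts in the stabilisers satisfy the triangle relation up to `ε`. -/
def Defect {Γ : Type*} [Group Γ] (σ : Γ →* Cfsg.Omega F ⇑Q) (ε : Γ) : Prop :=
  ∀ {v z a : Vtx Q (1 : F)}, (B v.vec z.vec = 0 ∧ B v.vec a.vec = 0 ∧ B z.vec a.vec = 0 ∧
      v ≠ z ∧ v ≠ a ∧ z ≠ a) →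
    ∀ k ∈ L σ (MulAction.stabilizer (Cfsg.Omega F ⇑Q) z),
    ∀ k' ∈ L σ (MulAction.stabilizer (Cfsg.Omega F ⇑Q) z),
    ∀ k'' ∈ L σ (MulAction.stabilizer (Cfsg.Omega F ⇑Q) v),
    σ k = t z v → σ k' = t z a → σ k'' = t v a → k * k' = k'' * ε

/-- Three vertices, pairwise orthogonal and distinct. -/
def Tri (x y z : Vtx Q (1 : F)) : Prop :=
  B x.vec y.vec = 0 ∧ B x.vec z.vec = 0 ∧ B y.vec z.vec = 0 ∧ x ≠ y ∧ x ≠ z ∧ y ≠ z

variable (h2 : (2 : F) = 0) (hB : Nondeg Q) (hn : 8 ≤ Module.finrank F (ι → F))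
include h2 hB hn

theorem t_spec {x y : Vtx Q (1 : F)} (h : B x.vec y.vec = 0) (w : ι → F) :
    ap (t x y : Grp Q) w = w + B x.vec w • x.vec + B y.vec w • y.vec := by
  have hex : ∃ g : Cfsg.Omega F ⇑Q, ∀ w,
      ap (g : Grp Q) w = w + B x.vec w • x.vec + B y.vec w • y.vec := by
    obtain ⟨r, hr⟩ := exists_refl hB (v := x.vec) (by rw [x.norm]; exact one_ne_zero)
    obtain ⟨s, hs⟩ := exists_refl hB (v := y.vec) (by rw [y.norm]; exact one_ne_zero)
    have hmem : r * s ∈ Cfsg.Omega F ⇑Q := by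
      rw [omega_eq_ker_dickson hB h2 (by omega) (by omega), MonoidHom.mem_ker, map_mul,
        dickson_refl hB hr, dickson_refl hB hs]
      rfl
    refine ⟨⟨r * s, hmem⟩, fun w => ?_⟩
    rw [ap_mul, hr.2, hs.2, x.norm, y.norm, inv_one, one_mul, one_mul, b_sub_right, b_smul_right, h,
      mul_zero, sub_zero, sub_sub]
    refine sub_eq_iff_eq_add.2 ?_
    match_scalars <;> first | ring1 | linear_combination (-(B y.vec w)) * h2 |
      linear_combination (-(B x.vec w)) * h2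
  rw [t, dif_pos hex]
  exact hex.choose_spec w

theorem t_ext {x y : Vtx Q (1 : F)} (h : B x.vec y.vec = 0) {g : Cfsg.Omega F ⇑Q}
    (hg : ∀ w, ap (g : Grp Q) w = w + B x.vec w • x.vec + B y.vec w • y.vec) : g = t x y :=
  Subtype.ext (ext_ap fun w => by rw [hg, t_spec h2 hB hn h])

theorem smul_self_add (a : F) (x : ι → F) : a • x + a • x = 0 := by
  rw [← add_smul, ← two_mul, h2, zero_mul, zero_smul]

theorem t_self (x : Vtx Q (1 : F)) : t x x = 1 :=
  (t_ext h2 hB hn (self_zero h2 _) fun w => by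
    rw [add_assoc, smul_self_add h2 hB hn, add_zero]; exact ap_one w).symm

theorem t_comm {x y : Vtx Q (1 : F)} (h : B x.vec y.vec = 0) : t x y = t y x :=
  t_ext h2 hB hn (by rwa [b_comm]) fun w => by rw [t_spec h2 hB hn h]; abel

theorem t_conj (g : Cfsg.Omega F ⇑Q) {x y : Vtx Q (1 : F)} (h : B x.vec y.vec = 0) :
    g * t x y * g⁻¹ = t (g • x) (g • y) := by
  refine t_ext h2 hB hn (by rw [smul_vec, smul_vec, ap_b, h]) fun w => ?_
  show ap ((g : Grp Q) * (t x y : Grp Q) * (g : Grp Q)⁻¹) w = _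
  rw [ap_mul, ap_mul, t_spec h2 hB hn h, ap_add, ap_add, ap_smul, ap_smul, ap_ap_inv, smul_vec,
    smul_vec, ap_b_left, ap_b_left]

theorem t_mul {x y z : Vtx Q (1 : F)} (hxy : B x.vec y.vec = 0) (hxz : B x.vec z.vec = 0)
    (hyz : B y.vec z.vec = 0) : t x y * t x z = t y z := by
  refine t_ext h2 hB hn hyz fun w => ?_
  show ap ((t x y : Grp Q) * (t x z : Grp Q)) w = _
  rw [ap_mul, t_spec h2 hB hn hxz, t_spec h2 hB hn hxy]
  simp only [b_add_right, b_smul_right, self_zero h2, hxz, hyz, b_comm y.vec x.vec, hxy, mul_zero,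
    add_zero]
  have := smul_self_add h2 hB hn (B x.vec w) x.vec
  linear_combination (norm := module) this

theorem t_fix {x y z : Vtx Q (1 : F)} (hxy : B x.vec y.vec = 0) (hx : B x.vec z.vec = 0)
    (hy : B y.vec z.vec = 0) : t x y • z = z := by
  rw [smul_eq_iff, t_spec h2 hB hn hxy, hx, hy, zero_smul, zero_smul, add_zero, add_zero]

theorem t_sq {x y : Vtx Q (1 : F)} (h : B x.vec y.vec = 0) : t x y * t x y = 1 := by
  rw [t_mul h2 hB hn h h (self_zero h2 _), t_self h2 hB hn]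

theorem t_commute {a b c d : Vtx Q (1 : F)} (hab : B a.vec b.vec = 0) (hcd : B c.vec d.vec = 0)
    (h1 : B a.vec c.vec = 0) (h3 : B a.vec d.vec = 0) (h4 : B b.vec c.vec = 0)
    (h5 : B b.vec d.vec = 0) : Commute (t a b) (t c d) := by
  refine Subtype.ext (ext_ap fun w => ?_)
  show ap ((t a b : Grp Q) * (t c d : Grp Q)) w = ap ((t c d : Grp Q) * (t a b : Grp Q)) w
  rw [ap_mul, ap_mul]
  simp only [t_spec h2 hB hn hab, t_spec h2 hB hn hcd, b_add_right, b_smul_right, h1, h3, h4, h5,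
    b_comm c.vec a.vec, b_comm c.vec b.vec, b_comm d.vec a.vec, b_comm d.vec b.vec, mul_zero,
    add_zero]
  abel

variable (hF : ∀ c : F, c = 0 ∨ c = 1)
include hF

theorem tri_indep {x y z : Vtx Q (1 : F)} (h : Tri x y z) :
    LinearIndependent F ![z.vec, x.vec, y.vec] := by
  obtain ⟨hxy, -, -, nxy, nxz, nyz⟩ := h
  refine indep_three h2 nxy fun hmem => ?_
  obtain ⟨s, r, e⟩ := Submodule.mem_span_pair.1 hmem
  have hQ := congrArg Q e
  rw [q_add, q_smul, q_smul, b_smul_left, b_smul_right, hxy, x.norm, y.norm, z.norm] at hQ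
  rcases hF s with rfl | rfl <;> rcases hF r with rfl | rfl
  · exact one_ne_zero (α := F) (by linear_combination -hQ)
  · exact nyz (Vtx.ext (by rw [← e, zero_smul, one_smul, zero_add]))
  · exact nxz (Vtx.ext (by rw [← e, zero_smul, one_smul, add_zero]))
  · exact one_ne_zero (α := F) (by linear_combination -hQ + h2)

theorem tri_trans {x y z x' y' z' : Vtx Q (1 : F)} (h : Tri x y z) (h' : Tri x' y' z') :
    ∃ g : Cfsg.Omega F ⇑Q, g • x = x' ∧ g • y = y' ∧ g • z = z' := by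
  have hu : Univ Q (orth Q (Submodule.span F (Set.range ![z.vec, x.vec, y.vec]))) := by
    refine univ_of_dim ?_
    set P := Submodule.span F (Set.range ![z.vec, x.vec, y.vec]) with hP
    rw [orth_orth hB, inf_comm]
    have h3 : Module.finrank F P = 3 := by
      rw [hP, finrank_span_eq_card (tri_indep h2 hB hn hF h), Fintype.card_fin]
    have h1 := finrank_orth hB P
    have h4 := Submodule.finrank_mono (inf_le_left : P ⊓ orth Q P ≤ P)
    omega
  obtain ⟨g, hg⟩ := exists_omega_config hB (by omega) (tri_indep h2 hB hn hF h)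
    (tri_indep h2 hB hn hF h') (fun i => by fin_cases i <;> simp [x.norm, y.norm, z.norm, x'.norm,
      y'.norm, z'.norm]) (fun i j => by
      obtain ⟨a1, a2, a3, -⟩ := h
      obtain ⟨b1, b2, b3, -⟩ := h'
      fin_cases i <;> fin_cases j <;>
        simp [self_zero h2, a1, a2, a3, b1, b2, b3, b_comm z.vec x.vec, b_comm z.vec y.vec,
          b_comm y.vec x.vec, b_comm z'.vec x'.vec, b_comm z'.vec y'.vec, b_comm y'.vec x'.vec]) hu
  exact ⟨g, (smul_eq_iff _ _ _).2 (hg 1), (smul_eq_iff _ _ _).2 (hg 2), (smul_eq_iff _ _ _).2 (hg 0)⟩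

theorem exists_third {u₀ u₁ u₂ : Vtx Q (1 : F)} (h₀ : Tri u₀ u₁ u₂) {x y : Vtx Q (1 : F)}
    (hxy : B x.vec y.vec = 0) (hne : x ≠ y) : ∃ z, Tri x y z := by
  have hu : Univ Q (orth Q (Submodule.span F (Set.range ![u₀.vec, u₁.vec]))) := by
    refine univ_of_dim ?_
    set P := Submodule.span F (Set.range ![u₀.vec, u₁.vec]) with hP
    rw [orth_orth hB, inf_comm]
    have h3 : Module.finrank F P = 2 := by
      rw [hP, finrank_span_eq_card (indep_two h2 h₀.2.2.2.1), Fintype.card_fin]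
    have h1 := finrank_orth hB P
    have h4 := Submodule.finrank_mono (inf_le_left : P ⊓ orth Q P ≤ P)
    omega
  obtain ⟨g, hg⟩ := exists_omega_config hB (by omega) (indep_two h2 h₀.2.2.2.1)
    (indep_two h2 hne) (fun i => by fin_cases i <;> simp [x.norm, y.norm, u₀.norm, u₁.norm])
    (fun i j => by
      fin_cases i <;> fin_cases j <;>
        simp [self_zero h2, hxy, h₀.1, b_comm y.vec x.vec, b_comm u₁.vec u₀.vec]) hu
  obtain ⟨e0, e1⟩ : g • u₀ = x ∧ g • u₁ = y :=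
    ⟨(smul_eq_iff _ _ _).2 (hg 0), (smul_eq_iff _ _ _).2 (hg 1)⟩
  refine ⟨g • u₂, ?_⟩
  rw [← e0, ← e1]
  obtain ⟨a1, a2, a3, n1, n2, n3⟩ := h₀
  exact ⟨by rw [smul_vec, smul_vec, ap_b, a1], by rw [smul_vec, smul_vec, ap_b, a2],
    by rw [smul_vec, smul_vec, ap_b, a3], fun e => n1 (smul_left_cancel g e),
    fun e => n2 (smul_left_cancel g e), fun e => n3 (smul_left_cancel g e)⟩

omit hF

variable (Q) in
/-- Two planes of norm one orthogonal to a totally singular space. -/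
structure Config where
  u₁ : ι → F
  u₂ : ι → F
  u₃ : ι → F
  p : Vtx Q (1 : F)
  p' : Vtx Q (1 : F)
  x : Vtx Q (1 : F)
  w : Vtx Q (1 : F)
  q1 : Q u₁ = 0
  q2 : Q u₂ = 0
  q3 : Q u₃ = 0
  b12 : B u₁ u₂ = 0
  b13 : B u₁ u₃ = 0
  b23 : B u₂ u₃ = 0
  p1 : B p.vec u₁ = 0
  p2 : B p.vec u₂ = 0
  p3 : B p.vec u₃ = 0
  p'1 : B p'.vec u₁ = 0
  p'2 : B p'.vec u₂ = 0
  p'3 : B p'.vec u₃ = 0
  pp' : B p.vec p'.vec = 1
  n1 : u₁ ≠ 0
  n2 : u₂ ≠ 0
  n12 : u₁ ≠ u₂
  n3 : u₃ ≠ 0 ∧ u₃ ≠ u₁ ∧ u₃ ≠ u₂ ∧ u₃ ≠ u₁ + u₂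
  x1 : B x.vec u₁ = 0
  x2 : B x.vec u₂ = 0
  xp : B x.vec p.vec = 0
  w1 : B w.vec u₁ = 0
  w2 : B w.vec u₂ = 0
  wp : B w.vec p.vec = 1
  wx : B w.vec x.vec = 1
  nx0 : x.vec ≠ p.vec
  nx1 : x.vec ≠ p.vec + u₁
  nx2 : x.vec ≠ p.vec + u₂
  nx12 : x.vec ≠ p.vec + (u₁ + u₂)

omit h2 hB hn in
/-- The vertex `p + u`. -/
theorem exists_shift {p : Vtx Q (1 : F)} {u : ι → F} (hu : Q u = 0) (hpu : B p.vec u = 0) :
    ∃ a : Vtx Q (1 : F), a.vec = p.vec + u :=
  ⟨⟨p.vec + u, by rw [q_add, p.norm, hu, hpu, add_zero, add_zero]⟩, rfl⟩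

include hF

omit h2 hB hn hF in
theorem shift_zero {p : Vtx Q (1 : F)} {u u' : ι → F} (hu : B p.vec u = 0) (hu' : B p.vec u' = 0)
    (hp : B p.vec p.vec = 0) (huu : B u u' = 0) : B (p.vec + u) (p.vec + u') = 0 := by
  rw [b_add_left, b_add_right, b_add_right, b_comm u p.vec, hu, hu', hp, huu]
  ring

section Kappa

variable {Γ : Type uG} [Group Γ] {σ : Γ →* Cfsg.Omega F ⇑Q} (hs : Function.Surjective σ)
variable (hc : σ.ker ≤ Subgroup.center Γ)
include hc

theorem kappa_eq {x y z x' y' z' : Vtx Q (1 : F)} (h : Tri x y z) (h' : Tri x' y' z') :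
    C σ hs (t x y) (t x z) = C σ hs (t x' y') (t x' z') := by
  obtain ⟨g, rfl, rfl, rfl⟩ := tri_trans h2 hB hn hF h h'
  rw [← t_conj h2 hB hn g h.1, ← t_conj h2 hB hn g h.2.1,
    C_conj hc g _ _ (t_commute h2 hB hn h.1 h.2.1 (self_zero h2 _) h.2.1
      (by rw [b_comm]; exact h.1) h.2.2.1)]

/-- The commutator of two commuting lifts has order two. -/
theorem kappa_sq {x y z : Vtx Q (1 : F)} (h : Tri x y z) :
    C σ hs (t x y) (t x z) * C σ hs (t x y) (t x z) = 1 := by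
  set κ := C σ hs (t x y) (t x z) with hκ
  obtain ⟨h1, h3, h4, n1, n2, n3⟩ := h
  have e := kappa_eq h2 hB hn hF hs hc (x := x) (y := z) (z := y)
    ⟨h3, h1, by rw [b_comm]; exact h4, n2, n1, n3.symm⟩ ⟨h1, h3, h4, n1, n2, n3⟩
  rw [C_swap hc, ← hκ] at e
  exact (inv_eq_iff_mul_eq_one).1 e

/-- Lifts of commuting transvections commute. -/
theorem kappa_one (K : Config Q) {x y z : Vtx Q (1 : F)} (h : Tri x y z) :
    C σ hs (t x y) (t x z) = 1 := by
  set κ := C σ hs (t x y) (t x z) with hκ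
  have hall : ∀ {a b c}, Tri a b c → C σ hs (t a b) (t a c) = κ := fun h' =>
    kappa_eq h2 hB hn hF hs hc h' h
  have hsq : κ * κ = 1 := kappa_sq h2 hB hn hF hs hc h
  -- disjoint pairs
  have hdis : ∀ {a b c d : Vtx Q (1 : F)}, Tri a b c → Tri a b d → B c.vec d.vec = 0 →
      C σ hs (t a b) (t c d) = 1 := by
    intro a b c d hc' hd' hcd
    rw [← t_mul h2 hB hn hc'.2.1 hd'.2.1 hcd, C_mul_right hc (t_commute h2 hB hn hd'.1 hd'.2.1
      (self_zero h2 _) hd'.2.1 (by rw [b_comm]; exact hd'.1) hd'.2.2.1), hall hc', hall hd', hsq]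
  -- the element of the centre of the radical, and a Siegel element
  have hroot : ∀ p : Vtx Q (1 : F), B p.vec K.u₁ = 0 → B p.vec K.u₂ = 0 → B p.vec K.u₃ = 0 →
      ∃ R S : Cfsg.Omega F ⇑Q, C σ hs R S = κ ∧ Commute R S ∧
        (∀ w, ap (R : Grp Q) w = w + B K.u₁ w • K.u₂ + B K.u₂ w • K.u₁) ∧
        (∀ w, ap (S : Grp Q) w = w + B K.u₃ w • p.vec + B p.vec w • K.u₃ + B K.u₃ w • K.u₃) := by
    intro p h1 h3 h4
    obtain ⟨A, hA⟩ := exists_shift (p := p) K.q1 h1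
    obtain ⟨D, hD'⟩ := exists_shift (p := p) K.q2 h3
    obtain ⟨E, hE⟩ := exists_shift (p := p) (u := K.u₁ + K.u₂)
      (by rw [q_add, K.q1, K.q2, K.b12, add_zero, add_zero]) (by rw [b_add_right, h1, h3, add_zero])
    obtain ⟨S, hS⟩ := exists_shift (p := p) K.q3 h4
    have hpp := self_zero h2 p.vec (Q := Q)
    have hu := self_zero h2 (Q := Q)
    have pA : B p.vec A.vec = 0 := by rw [hA, b_add_right, hpp, h1, add_zero]
    have pD : B p.vec D.vec = 0 := by rw [hD', b_add_right, hpp, h3, add_zero]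
    have pE : B p.vec E.vec = 0 := by rw [hE, b_add_right, b_add_right, hpp, h1, h3, add_zero, add_zero]
    have pS : B p.vec S.vec = 0 := by rw [hS, b_add_right, hpp, h4, add_zero]
    have AD : B A.vec D.vec = 0 := by rw [hA, hD']; exact shift_zero h1 h3 hpp K.b12
    have AE : B A.vec E.vec = 0 := by
      rw [hA, hE]
      exact shift_zero h1 (by rw [b_add_right, h1, h3, add_zero]) hpp
        (by rw [b_add_right, hu, K.b12, add_zero])
    have DE : B D.vec E.vec = 0 := by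
      rw [hD', hE]
      exact shift_zero h3 (by rw [b_add_right, h1, h3, add_zero]) hpp
        (by rw [b_add_right, hu, b_comm, K.b12, add_zero])
    have AS : B A.vec S.vec = 0 := by rw [hA, hS]; exact shift_zero h1 h4 hpp K.b13
    have DS : B D.vec S.vec = 0 := by rw [hD', hS]; exact shift_zero h3 h4 hpp K.b23
    have ES : B E.vec S.vec = 0 := by
      rw [hE, hS]
      exact shift_zero (by rw [b_add_right, h1, h3, add_zero]) h4 hpp
        (by rw [b_add_left, K.b13, K.b23, add_zero])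
    have hne : ∀ {a b : Vtx Q (1 : F)} {u u' : ι → F}, a.vec = p.vec + u → b.vec = p.vec + u' →
        u ≠ u' → a ≠ b := fun ha hb huu e => huu (add_left_cancel (ha.symm.trans (e ▸ hb)))
    have hp0 : p.vec = p.vec + 0 := (add_zero _).symm
    have n12' : K.u₁ + K.u₂ ≠ 0 := fun e => K.n12 (by
      rw [eq_neg_of_add_eq_zero_left e]
      exact funext fun i => neg_self h2 _)
    have nAp := hne hp0 hA K.n1.symm
    have nDp := hne hp0 hD' K.n2.symm
    have nEp := hne hp0 hE n12'.symm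
    have nSp := hne hp0 hS K.n3.1.symm
    have nAS := hne hA hS K.n3.2.1.symm
    have nDS := hne hD' hS K.n3.2.2.1.symm
    have nES := hne hE hS K.n3.2.2.2.symm
    have nDE := hne hD' hE (fun e => K.n1 (by simpa using e.symm))
    refine ⟨t p A * t D E, t p S, ?_, (t_commute h2 hB hn pA pS hpp pS (by rwa [b_comm]) AS).mul_left
      (t_commute h2 hB hn DE pS (by rwa [b_comm]) DS (by rwa [b_comm]) ES), fun w => ?_, fun w => ?_⟩
    · rw [C_mul_left hc (t_commute h2 hB hn pA pS hpp pS (by rwa [b_comm]) AS)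
        (t_commute h2 hB hn DE pS (by rwa [b_comm]) DS (by rwa [b_comm]) ES),
        hall ⟨pA, pS, AS, nAp, nSp, nAS⟩, C_swap hc,
        hdis ⟨pS, pD, by rwa [b_comm], nSp, nDp, nDS.symm⟩ ⟨pS, pE, by rwa [b_comm], nSp, nEp, nES.symm⟩ DE,
        inv_one, mul_one]
    · show ap ((t p A : Grp Q) * (t D E : Grp Q)) w = _
      rw [ap_mul, t_spec h2 hB hn DE, t_spec h2 hB hn pA]
      simp only [b_add_right, b_smul_right, pD, pE, AD, AE, mul_zero, add_zero]
      simp only [hA, hD', hE, b_add_left]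
      match_scalars <;> first | ring1 | linear_combination (2 * B p.vec w + B K.u₁ w + B K.u₂ w) * h2 |
        linear_combination (B p.vec w + B K.u₁ w) * h2 | linear_combination (B p.vec w + B K.u₂ w) * h2
    · rw [t_spec h2 hB hn pS, hS, b_add_left]
      match_scalars <;> first | ring1 | linear_combination (B p.vec w) * h2
  obtain ⟨P'', hP''⟩ : ∃ a : Vtx Q (1 : F), a.vec = K.p.vec + K.p'.vec :=
    ⟨⟨K.p.vec + K.p'.vec, by rw [q_add, K.p.norm, K.p'.norm, K.pp']; linear_combination h2⟩, rfl⟩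
  obtain ⟨R, S, hC, hcom, hR, hS⟩ := hroot K.p K.p1 K.p2 K.p3
  obtain ⟨R', S', hC', hcom', hR', hS'⟩ := hroot K.p' K.p'1 K.p'2 K.p'3
  obtain ⟨R'', S'', hC'', -, hR'', hS''⟩ := hroot P'' (by rw [hP'', b_add_left, K.p1, K.p'1, add_zero])
    (by rw [hP'', b_add_left, K.p2, K.p'2, add_zero]) (by rw [hP'', b_add_left, K.p3, K.p'3, add_zero])
  obtain rfl : R' = R := Subtype.ext (ext_ap fun w => by rw [hR, hR'])
  obtain rfl : R'' = R' := Subtype.ext (ext_ap fun w => by rw [hR'', hR'])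
  have hmul : S'' = S' * S := Subtype.ext (ext_ap fun w => by
    show ap (S'' : Grp Q) w = ap ((S' : Grp Q) * (S : Grp Q)) w
    rw [ap_mul, hS, hS', hS'', hP'']
    simp only [b_add_right, b_smul_right, b_add_left, K.p'3, b_comm K.u₃ K.p.vec, K.p3,
      b_comm K.p'.vec K.p.vec, K.pp', self_zero h2, mul_zero, add_zero]
    match_scalars <;> first | ring1 | linear_combination (-(B K.u₃ w)) * h2)
  rw [hmul, C_mul_right hc hcom, hC, hC', hsq] at hC''
  exact hC''.symm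

end Kappa

section Split

variable (h8 : Module.finrank F (ι → F) = 8)
include h8

theorem stab_perfect (v : Vtx Q (1 : F)) :
    ⁅MulAction.stabilizer (Cfsg.Omega F ⇑Q) v, MulAction.stabilizer (Cfsg.Omega F ⇑Q) v⁆ =
      MulAction.stabilizer (Cfsg.Omega F ⇑Q) v := by
  obtain ⟨u, hu⟩ := exists_edge_vtx h2 hB hn v
  obtain ⟨m, Φ, hm, -⟩ := exists_stab_equiv h2 hB hn v u hu
  have hperf : commutator (symplecticGroup (Fin m) F) = ⊤ :=
    commutator_of_card (Or.inl (by omega))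
  have h : commutator (MulAction.stabilizer (Cfsg.Omega F ⇑Q) v) = ⊤ := by
    rw [commutator_def, ← Subgroup.map_top_of_surjective Φ.symm.toMonoidHom Φ.symm.surjective,
      ← Subgroup.map_commutator, ← commutator_def, hperf]
  rw [← Subgroup.map_subtype_commutator, h, ← MonoidHom.range_eq_map, Subgroup.range_subtype]

theorem mem_stab {v a : Vtx Q (1 : F)} (h : B v.vec a.vec = 0) :
    t v a ∈ MulAction.stabilizer (Cfsg.Omega F ⇑Q) v :=
  t_fix h2 hB hn h (self_zero h2 _) (by rwa [b_comm])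

variable {Γ : Type uG} [Group Γ] {σ : Γ →* Cfsg.Omega F ⇑Q} (hs : Function.Surjective σ)
variable (hc : σ.ker ≤ Subgroup.center Γ)
variable (hκ : ∀ {x y z : Vtx Q (1 : F)}, Tri x y z → C σ hs (t x y) (t x z) = 1)
include hs hc hκ

theorem inj_stab (v : Vtx Q (1 : F)) :
    ∀ k ∈ L σ (MulAction.stabilizer (Cfsg.Omega F ⇑Q) v), σ k = 1 → k = 1 := by
  intro k hk hk1
  obtain ⟨u, hu⟩ := exists_edge_vtx h2 hB hn v
  set S := MulAction.stabilizer (Cfsg.Omega F ⇑Q) v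
  obtain ⟨m, Φ, a, hm, hva, hform, -, -, hT⟩ := exists_stab_equiv_vtx h2 hB hn v u hu
  obtain rfl : m = 1 + 2 := by omega
  have hSp : ⁅S, S⁆ = S := stab_perfect h2 hB hn hF h8 v
  let σ' : L σ S →* symplecticGroup (Fin (1 + 2)) F := Φ.toMonoidHom.comp
    ((σ.comp (L σ S).subtype).codRestrict S fun k => L_sigma (σ := σ) k.2)
  have hker : ∀ b, σ' b = 1 ↔ σ b.1 = 1 := fun b => by
    show Φ _ = 1 ↔ _
    rw [map_eq_one_iff _ Φ.injective, Subtype.ext_iff]
    rfl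
  have hs' : Function.Surjective σ' := fun g => by
    obtain ⟨b, hb, eb⟩ := Subgroup.mem_map.1 (show (Φ.symm g).1 ∈ (L σ S).map σ by
      rw [map_L hs, hSp]; exact (Φ.symm g).2)
    refine ⟨⟨b, hb⟩, ?_⟩
    show Φ _ = g
    rw [← Φ.eq_symm_apply]
    exact Subtype.ext eb
  have hc' : σ'.ker ≤ Subgroup.center (L σ S) := fun b hb => by
    rw [MonoidHom.mem_ker, hker] at hb
    rw [Subgroup.mem_center_iff]
    exact fun x => Subtype.ext (Subgroup.mem_center_iff.1 (hc hb) x.1)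
  have hpre : ∀ y (γ : L σ S), σ' γ = T y (1 : F) → σ γ.1 = t v (a y) := fun y γ hγ => by
    have e := hT y ⟨t v (a y), mem_stab h2 hB hn hF h8 (hva y)⟩ (t_spec h2 hB hn (hva y))
    exact congrArg Subtype.val (Φ.injective (hγ.trans e.symm))
  have hcomm : ∀ y z : Fin (1 + 2) ⊕ Fin (1 + 2) → F, Cfsg.sympForm (1 + 2) F y z = 0 →
      ∀ γ δ : L σ S, σ' γ = T y (1 : F) → σ' δ = T z (1 : F) → Commute γ δ := by
    intro y z hyz γ δ hγ hδ
    suffices h : C σ hs (t v (a y)) (t v (a z)) = 1 by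
      rw [C_eq hc (hpre y γ hγ) (hpre z δ hδ), commutatorElement_eq_one_iff_mul_comm] at h
      exact Subtype.ext h
    by_cases h1 : a y = v
    · rw [h1, t_self h2 hB hn, C_one_left hc]
    by_cases h3 : a z = v
    · rw [h3, t_self h2 hB hn, C_one_right hc]
    by_cases h4 : a y = a z
    · rw [h4, C_self hc]
    exact hκ
      ⟨hva y, hva z, by rw [hform, hyz], Ne.symm h1, Ne.symm h3, h4⟩
  have := CfsgLib.Schur.SpFam.injective_two_of_comm hF le_rfl σ' hs' hc'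
    (OmegaOdd.L_perfect hs hc hSp) hcomm (a₁ := ⟨k, hk⟩) (a₂ := 1)
    (by rw [map_one, hker]; exact hk1)
  exact congrArg Subtype.val this

theorem exists_X {v a : Vtx Q (1 : F)} (h : B v.vec a.vec = 0) :
    ∃ k ∈ L σ (MulAction.stabilizer (Cfsg.Omega F ⇑Q) v), σ k = t v a :=
  Subgroup.mem_map.1 (by rw [map_L hs, stab_perfect h2 hB hn hF h8 v]; exact mem_stab h2 hB hn hF h8 h)

theorem X_unique {v : Vtx Q (1 : F)} {k k' : Γ}
    (hk : k ∈ L σ (MulAction.stabilizer (Cfsg.Omega F ⇑Q) v))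
    (hk' : k' ∈ L σ (MulAction.stabilizer (Cfsg.Omega F ⇑Q) v)) (e : σ k = σ k') : k = k' :=
  inv_mul_eq_one.1 (inj_stab h2 hB hn hF h8 hs hc hκ v _ (mul_mem (inv_mem hk) hk') (by simp [e]))

/-- The defect of the triangle relation is a central involution. -/
theorem exists_defect {u₀ u₁ u₂ : Vtx Q (1 : F)} (h₀ : Tri u₀ u₁ u₂) :
    ∃ ε : Γ, ε ∈ Subgroup.center Γ ∧ σ ε = 1 ∧ ε * ε = 1 ∧ Defect σ ε := by
  classical
  choose X hX hXs using fun (v : Vtx Q (1 : F)) (a : {a : Vtx Q (1 : F) // B v.vec a.vec = 0}) =>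
    exists_X h2 hB hn hF h8 hs hc hκ a.2
  let Y : Vtx Q (1 : F) → Vtx Q (1 : F) → Γ := fun v a =>
    if h : B v.vec a.vec = 0 then X v ⟨a, h⟩ else 1
  have hY : ∀ {v a : Vtx Q (1 : F)}, B v.vec a.vec = 0 →
      Y v a ∈ L σ (MulAction.stabilizer (Cfsg.Omega F ⇑Q) v) ∧ σ (Y v a) = t v a := fun {v a} h => by
    simp only [Y, dif_pos h]
    exact ⟨hX v ⟨a, h⟩, hXs v ⟨a, h⟩⟩
  have huniq : ∀ {v : Vtx Q (1 : F)} {k k' : Γ},
      k ∈ L σ (MulAction.stabilizer (Cfsg.Omega F ⇑Q) v) →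
      k' ∈ L σ (MulAction.stabilizer (Cfsg.Omega F ⇑Q) v) → σ k = σ k' → k = k' :=
    fun hk hk' e => X_unique h2 hB hn hF h8 hs hc hκ hk hk' e
  have hconj : ∀ (γ : Γ) {v a : Vtx Q (1 : F)}, B v.vec a.vec = 0 →
      γ * Y v a * γ⁻¹ = Y (σ γ • v) (σ γ • a) := fun γ {v a} h => by
    have h' : B (σ γ • v).vec (σ γ • a).vec = 0 := by rw [smul_vec, smul_vec, ap_b, h]
    refine huniq (L_conj_stab γ (hY h).1) (hY h').1 ?_
    rw [map_mul, map_mul, map_inv, (hY h).2, (hY h').2, t_conj h2 hB hn _ h]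
  -- the defect of the triangle relation
  let E : Vtx Q (1 : F) → Vtx Q (1 : F) → Vtx Q (1 : F) → Γ := fun v z a =>
    (Y v a)⁻¹ * (Y z v * Y z a)
  have hEc : ∀ {v z a}, Tri v z a → E v z a ∈ Subgroup.center Γ := fun {v z a} h => hc (by
    obtain ⟨h1, h3, h4, -⟩ := h
    show σ ((Y v a)⁻¹ * (Y z v * Y z a)) = 1
    rw [map_mul, map_inv, map_mul, (hY h3).2, (hY (show B z.vec v.vec = 0 by rwa [b_comm])).2,
      (hY h4).2, t_mul h2 hB hn (by rwa [b_comm]) h4 h3, inv_mul_cancel])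
  have hEconst : ∀ {v z a v' z' a'}, Tri v z a → Tri v' z' a' → E v z a = E v' z' a' := by
    intro v z a v' z' a' h h'
    obtain ⟨g, rfl, rfl, rfl⟩ := tri_trans h2 hB hn hF h h'
    obtain ⟨γ, rfl⟩ := hs g
    have e := Subgroup.mem_center_iff.1 (hEc h) γ
    obtain ⟨h1, h3, h4, -⟩ := h
    show _ = (Y _ _)⁻¹ * (Y _ _ * Y _ _)
    rw [← hconj γ h3, ← hconj γ h4, ← hconj γ (show B z.vec v.vec = 0 by rwa [b_comm]),
      show (γ * Y v a * γ⁻¹)⁻¹ * (γ * Y z v * γ⁻¹ * (γ * Y z a * γ⁻¹)) = γ * E v z a * γ⁻¹ by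
        simp only [E]; group, e, mul_inv_cancel_right]
  have hcommY : ∀ {z v a}, B z.vec v.vec = 0 → B z.vec a.vec = 0 → B v.vec a.vec = 0 →
      Y z v * Y z a = Y z a * Y z v := fun {z v a} h h' h'' => by
    refine huniq (mul_mem (hY h).1 (hY h').1) (mul_mem (hY h').1 (hY h).1) ?_
    rw [map_mul, map_mul, (hY h).2, (hY h').2]
    exact t_commute h2 hB hn h h' (self_zero h2 _) h' (by rwa [b_comm]) h''
  have hTA := h₀
  set ε := E u₀ u₁ u₂ with hε
  have hεc : ε ∈ Subgroup.center Γ := hEc hTA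
  have hall : ∀ {v z a}, Tri v z a → E v z a = ε := fun h => hEconst h hTA
  have hperm : ∀ {v z a : Vtx Q (1 : F)}, Tri v z a → Tri a z v ∧ Tri z v a := fun {v z a} h => by
    obtain ⟨h1, h3, h4, n1, n2, n3⟩ := h
    exact ⟨⟨by rwa [b_comm], by rwa [b_comm], by rwa [b_comm], n3.symm, n2.symm, n1.symm⟩,
      ⟨by rwa [b_comm], h4, h3, n1.symm, n3, n2⟩⟩
  have hrel : ∀ {v z a : Vtx Q (1 : F)}, Tri v z a → Y z v * Y z a = Y v a * ε := fun {v z a} h => by
    rw [← hall h]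
    show _ = Y v a * ((Y v a)⁻¹ * _)
    rw [mul_inv_cancel_left]
  -- symmetry
  have hsym : ∀ {v a}, B v.vec a.vec = 0 → v ≠ a → Y v a = Y a v := fun {v a} h hn' => by
    obtain ⟨z, hz⟩ := exists_third h2 hB hn hF hTA h hn'
    have h1 : Tri v z a := ⟨hz.2.1, hz.1, by rw [b_comm]; exact hz.2.2.1, hz.2.2.2.2.1,
      hz.2.2.2.1, hz.2.2.2.2.2.symm⟩
    have e1 := hrel h1
    have e2 := hrel (hperm h1).1
    rw [hcommY (by rw [b_comm]; exact h1.1) h1.2.2.1 h1.2.1, e2] at e1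
    exact (mul_right_cancel e1).symm
  -- the defect has order two
  have hε2 : ε * ε = 1 := by
    have e1 := hrel hTA
    have e2 := hrel (hperm hTA).2
    have hb : B u₁.vec u₀.vec = 0 := by rw [b_comm]; exact hTA.1
    have hx : Y u₁ u₀ * Y u₁ u₀ = 1 := by
      refine huniq (mul_mem (hY hb).1 (hY hb).1) (one_mem _) ?_
      rw [map_mul, map_one, (hY hb).2, t_sq h2 hB hn hb]
    rw [hsym hTA.1 hTA.2.2.2.1] at e2
    calc ε * ε = (Y u₁ u₂)⁻¹ * (Y u₁ u₂ * ε) * ε := by group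
      _ = (Y u₁ u₂)⁻¹ * (Y u₁ u₀ * (Y u₀ u₂ * ε)) := by rw [← e2]; simp only [mul_assoc]
      _ = (Y u₁ u₂)⁻¹ * ((Y u₁ u₀ * Y u₁ u₀) * Y u₁ u₂) := by rw [← e1]; simp only [mul_assoc]
      _ = 1 := by rw [hx, one_mul, inv_mul_cancel]
  have hσε : σ ε = 1 := by
    show σ ((Y u₀ u₂)⁻¹ * (Y u₁ u₀ * Y u₁ u₂)) = 1
    obtain ⟨a1, a2, a3, -⟩ := hTA
    have hb : B u₁.vec u₀.vec = 0 := by rw [b_comm]; exact a1
    rw [map_mul, map_inv, map_mul, (hY a2).2, (hY hb).2, (hY a3).2,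
      t_mul h2 hB hn hb a3 a2, inv_mul_cancel]
  refine ⟨ε, hεc, hσε, hε2, fun {v z a} hT k hk k' hk' k'' hk'' e e' e'' => ?_⟩
  have h1 := hT.1
  have h3 := hT.2.1
  have h4 := hT.2.2.1
  have hzv : B z.vec v.vec = 0 := by rw [b_comm]; exact h1
  rw [huniq hk (hY hzv).1 (e.trans (hY hzv).2.symm), huniq hk' (hY h4).1 (e'.trans (hY h4).2.symm),
    huniq hk'' (hY h3).1 (e''.trans (hY h3).2.symm)]
  exact hrel hT

/-- The defect vanishes in the presence of a configuration. -/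
theorem defect_one (K : Config Q) : Defect σ (1 : Γ) := by
  classical
  obtain ⟨A, hA⟩ := exists_shift (p := K.p) K.q1 K.p1
  obtain ⟨D, hD'⟩ := exists_shift (p := K.p) K.q2 K.p2
  obtain ⟨G, hG⟩ := exists_shift (p := K.p) (u := K.u₁ + K.u₂)
    (by rw [q_add, K.q1, K.q2, K.b12, add_zero, add_zero]) (by rw [b_add_right, K.p1, K.p2, add_zero])
  have hpp := self_zero h2 K.p.vec (Q := Q)
  have hu := self_zero h2 (Q := Q)
  have pA : B K.p.vec A.vec = 0 := by rw [hA, b_add_right, hpp, K.p1, add_zero]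
  have pD : B K.p.vec D.vec = 0 := by rw [hD', b_add_right, hpp, K.p2, add_zero]
  have pG : B K.p.vec G.vec = 0 := by
    rw [hG, b_add_right, b_add_right, hpp, K.p1, K.p2, add_zero, add_zero]
  have xA : B K.x.vec A.vec = 0 := by rw [hA, b_add_right, K.xp, K.x1, add_zero]
  have xD : B K.x.vec D.vec = 0 := by rw [hD', b_add_right, K.xp, K.x2, add_zero]
  have xG : B K.x.vec G.vec = 0 := by
    rw [hG, b_add_right, b_add_right, K.xp, K.x1, K.x2, add_zero, add_zero]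
  have hne : ∀ {b : Vtx Q (1 : F)} {u : ι → F}, b.vec = K.p.vec + u → u ≠ 0 → K.p ≠ b :=
    fun hb hu0 e => hu0 (by rw [← e] at hb; simpa using hb.symm)
  have n12' : K.u₁ + K.u₂ ≠ 0 := fun e => K.n12 (by
    rw [eq_neg_of_add_eq_zero_left e]
    exact funext fun i => neg_self h2 _)
  have nxp : K.x ≠ K.p := fun e => K.nx0 (by rw [e])
  have nxA : K.x ≠ A := fun e => K.nx1 (by rw [e, hA])
  have nxD : K.x ≠ D := fun e => K.nx2 (by rw [e, hD'])
  have nxG : K.x ≠ G := fun e => K.nx12 (by rw [e, hG])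
  have hTA : Tri K.p K.x A := ⟨by rw [b_comm]; exact K.xp, pA, xA, nxp.symm, hne hA K.n1, nxA⟩
  have hTD : Tri K.p K.x D := ⟨by rw [b_comm]; exact K.xp, pD, xD, nxp.symm, hne hD' K.n2, nxD⟩
  have hTG : Tri K.p K.x G := ⟨by rw [b_comm]; exact K.xp, pG, xG, nxp.symm, hne hG n12', nxG⟩
  obtain ⟨ε, hεc, hσε, hε2, hE⟩ := exists_defect h2 hB hn hF h8 hs hc hκ hTA
  suffices hε1 : ε = 1 by exact hε1 ▸ @hE
  have hb : B K.x.vec K.p.vec = 0 := K.xp
  obtain ⟨Yxp, mxp, sxp⟩ := exists_X h2 hB hn hF h8 hs hc hκ hb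
  obtain ⟨YxA, mxA, sxA⟩ := exists_X h2 hB hn hF h8 hs hc hκ xA
  obtain ⟨YxD, mxD, sxD⟩ := exists_X h2 hB hn hF h8 hs hc hκ xD
  obtain ⟨YxG, mxG, sxG⟩ := exists_X h2 hB hn hF h8 hs hc hκ xG
  obtain ⟨YpA, mpA, spA⟩ := exists_X h2 hB hn hF h8 hs hc hκ pA
  obtain ⟨YpD, mpD, spD⟩ := exists_X h2 hB hn hF h8 hs hc hκ pD
  obtain ⟨YpG, mpG, spG⟩ := exists_X h2 hB hn hF h8 hs hc hκ pG
  have huniq : ∀ {v : Vtx Q (1 : F)} {k k' : Γ},
      k ∈ L σ (MulAction.stabilizer (Cfsg.Omega F ⇑Q) v) →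
      k' ∈ L σ (MulAction.stabilizer (Cfsg.Omega F ⇑Q) v) → σ k = σ k' → k = k' :=
    fun hk hk' e => X_unique h2 hB hn hF h8 hs hc hκ hk hk' e
  set Rp := YpA * YpD * YpG with hRp
  set Rx := Yxp * YxA * (Yxp * YxD) * (Yxp * YxG) with hRx
  have hmemp : Rp ∈ L σ (MulAction.stabilizer (Cfsg.Omega F ⇑Q) K.p) :=
    mul_mem (mul_mem mpA mpD) mpG
  have hmemx : Rx ∈ L σ (MulAction.stabilizer (Cfsg.Omega F ⇑Q) K.x) :=
    mul_mem (mul_mem (mul_mem mxp mxA) (mul_mem mxp mxD))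
      (mul_mem mxp mxG)
  have hxp : Rx = Rp * ε := by
    rw [hRx, hE hTA _ mxp _ mxA _ mpA sxp sxA spA, hE hTD _ mxp _ mxD _ mpD sxp sxD spD,
      hE hTG _ mxp _ mxG _ mpG sxp sxG spG, hRp]
    have c := Subgroup.mem_center_iff.1 hεc
    calc YpA * ε * (YpD * ε) * (YpG * ε)
        = YpA * YpD * (ε * ε) * YpG * ε := by
          rw [mul_assoc (YpA) ε, ← mul_assoc ε (YpD), ← c (YpD)]
          simp only [mul_assoc]
      _ = _ := by rw [hε2, mul_one]
  have hσ : σ Rx = σ Rp := by rw [hxp, map_mul, hσε, mul_one]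
  -- the common neighbour is fixed
  have hfw : σ Rp • K.w = K.w := by
    have e1 : B A.vec K.w.vec = 1 := by rw [b_comm, hA, b_add_right, K.wp, K.w1, add_zero]
    have e2 : B D.vec K.w.vec = 1 := by rw [b_comm, hD', b_add_right, K.wp, K.w2, add_zero]
    have e3 : B G.vec K.w.vec = 1 := by
      rw [b_comm, hG, b_add_right, b_add_right, K.wp, K.w1, K.w2, add_zero, add_zero]
    have ep : B K.p.vec K.w.vec = 1 := by rw [b_comm]; exact K.wp
    have AD : B A.vec D.vec = 0 := by rw [hA, hD']; exact shift_zero K.p1 K.p2 hpp K.b12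
    have AG : B A.vec G.vec = 0 := by
      rw [hA, hG]
      exact shift_zero K.p1 (by rw [b_add_right, K.p1, K.p2, add_zero]) hpp
        (by rw [b_add_right, hu, K.b12, add_zero])
    have DG : B D.vec G.vec = 0 := by
      rw [hD', hG]
      exact shift_zero K.p2 (by rw [b_add_right, K.p1, K.p2, add_zero]) hpp
        (by rw [b_add_right, hu, b_comm, K.b12, add_zero])
    rw [smul_eq_iff, hRp, map_mul, map_mul, spA, spD, spG]
    show ap ((t K.p A : Grp Q) * (t K.p D : Grp Q) * (t K.p G : Grp Q)) K.w.vec = _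
    rw [ap_mul, ap_mul]
    simp only [t_spec h2 hB hn pA, t_spec h2 hB hn pD, t_spec h2 hB hn pG, b_add_right,
      b_smul_right, hpp, pA, pD, pG, AD, AG, DG, b_comm A.vec K.p.vec, b_comm D.vec K.p.vec,
      b_comm G.vec K.p.vec, b_comm D.vec A.vec, b_comm G.vec A.vec, b_comm G.vec D.vec,
      e1, e2, e3, ep, mul_zero, add_zero, one_smul]
    rw [hA, hD', hG]
    linear_combination (norm := module)
      smul_self_add h2 hB hn (1 : F) ((3 : F) • K.p.vec + K.u₁ + K.u₂)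
  have hadj1 : Adj 1 K.p K.w := by
    show B K.p.vec K.w.vec = 1
    rw [b_comm]; exact K.wp
  have hadj2 : Adj 1 K.x K.w := by
    show B K.x.vec K.w.vec = 1
    rw [b_comm]; exact K.wx
  obtain ⟨k₀, hk₀, ek₀⟩ := Subgroup.mem_map.1 (show σ Rp ∈
      (L σ (MulAction.stabilizer (Cfsg.Omega F ⇑Q) K.w)).map σ by
    rw [map_L hs, stab_perfect h2 hB hn hF h8 K.w]; exact hfw)
  have hinjw := inj_stab h2 hB hn hF h8 hs hc hκ K.w
  have m1 := mem_of_perfect_inf hs hinjw (edge_perfect (hD h2) hB (by omega) hadj1).ge hk₀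
    (by rw [ek₀]; exact L_sigma hmemp)
  have m2 := mem_of_perfect_inf hs hinjw (edge_perfect (hD h2) hB (by omega) hadj2).ge hk₀
    (by rw [ek₀, ← hσ]; exact L_sigma hmemx)
  have e1 := huniq m1 hmemp ek₀
  have e2 := huniq m2 hmemx (ek₀.trans hσ.symm)
  rw [e1, hxp] at e2
  exact left_eq_mul.1 e2
/-- The lift of a reflection pair in the stabiliser of its first vertex lies in the stabiliser of
every vertex orthogonal to both. -/
theorem lift_mem {u₀ u₁ u₂ : Vtx Q (1 : F)} (h₀ : Tri u₀ u₁ u₂) (hE : Defect σ (1 : Γ))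
    {v z a : Vtx Q (1 : F)} {k : Γ}
    (hk : k ∈ L σ (MulAction.stabilizer (Cfsg.Omega F ⇑Q) v)) (hka : σ k = t v a)
    (hva : B v.vec a.vec = 0) (hvz : B v.vec z.vec = 0) (haz : B a.vec z.vec = 0) :
    k ∈ L σ (MulAction.stabilizer (Cfsg.Omega F ⇑Q) z) := by
  classical
  by_cases hav : a = v
  · rw [hav, t_self h2 hB hn] at hka
    rw [inj_stab h2 hB hn hF h8 hs hc hκ v k hk hka]
    exact one_mem _
  by_cases hzv : z = v
  · rw [hzv]; exact hk
  by_cases hza : z = a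
  · obtain ⟨w, hw⟩ := exists_third h2 hB hn hF h₀ hva (Ne.symm hav)
    obtain ⟨a1, a2, a3, n1, n2, n3⟩ := hw
    have hwv : B w.vec v.vec = 0 := by rw [b_comm]; exact a2
    have hwa : B w.vec a.vec = 0 := by rw [b_comm]; exact a3
    have hav' : B a.vec v.vec = 0 := by rw [b_comm]; exact hva
    obtain ⟨X₁, m₁, s₁⟩ := exists_X h2 hB hn hF h8 hs hc hκ hwv
    obtain ⟨X₂, m₂, s₂⟩ := exists_X h2 hB hn hF h8 hs hc hκ hwa
    obtain ⟨X₃, m₃, s₃⟩ := exists_X h2 hB hn hF h8 hs hc hκ hav'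
    have e1 := hE ⟨a2, a1, hwa, n2, n1, n3.symm⟩ _ m₁ _ m₂ _ hk s₁ s₂ hka
    have e2 := hE ⟨a3, hav', hwv, n3, n1.symm, n2.symm⟩ _ m₂ _ m₁ _ m₃ s₂ s₁ s₃
    have e3 : X₁ * X₂ = X₂ * X₁ := X_unique h2 hB hn hF h8 hs hc hκ (mul_mem m₁ m₂) (mul_mem m₂ m₁) (by
      rw [map_mul, map_mul, s₁, s₂]
      exact t_commute h2 hB hn hwv hwa (self_zero h2 _) hwa a2 hva)
    rw [mul_one] at e1 e2
    rw [hza, ← e1, e3, e2]
    exact m₃
  have hT : Tri v z a := ⟨hvz, hva, by rwa [b_comm], Ne.symm hzv, Ne.symm hav, hza⟩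
  obtain ⟨X₁, m₁, s₁⟩ := exists_X h2 hB hn hF h8 hs hc hκ (show B z.vec v.vec = 0 by rwa [b_comm])
  obtain ⟨X₂, m₂, s₂⟩ := exists_X h2 hB hn hF h8 hs hc hκ hT.2.2.1
  have e := hE hT _ m₁ _ m₂ _ hk s₁ s₂ hka
  rw [mul_one] at e
  rw [← e]
  exact mul_mem m₁ m₂

end Split

omit hF h2 hB hn in
/-- The transvections fixing a vector generate its fixer over two elements. -/
theorem fixer_le {m : ℕ} (hF : ∀ c : F, c = 0 ∨ c = 1) {f : Fin m ⊕ Fin m → F} (hf : f ≠ 0)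
    (hm : 0 < m) {N : Subgroup (symplecticGroup (Fin m) F)}
    (hN : ∀ y, Cfsg.sympForm m F f y = 0 → T y (1 : F) ∈ N) : SpStab.fixer f ≤ N := by
  classical
  intro g hg
  let i₀ : Fin m := ⟨0, hm⟩
  set e : Fin m ⊕ Fin m → F := Pi.single (.inr i₀) 1 with he
  obtain ⟨g₀, hg₀⟩ := exists_app_eq (v := e) (by simp [he]) hf
  have h := CfsgLib.Schur.SpFam.stab_mem i₀ rfl (N.comap (MulAut.conj g₀).toMonoidHom)
    (fun z hz d => by
      show g₀ * T z d * g₀⁻¹ ∈ N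
      rw [conj_T]
      rcases hF d with rfl | rfl
      · rw [T_zero]; exact one_mem N
      · refine hN _ ?_
        rw [← hg₀, f_app]
        exact hz)
    (g₀⁻¹ * g * g₀) (by rw [app_mul, app_mul, ← he, hg₀, SpStab.mem_fixer.1 hg, ← hg₀, app_inv])
  simpa [mul_assoc] using h

/-- Perfect central extensions are trivial once the commutators and the defect vanish. -/
theorem injective_of (h8 : Module.finrank F (ι → F) = 8) {u₀ u₁ u₂ : Vtx Q (1 : F)}
    (h₀ : Tri u₀ u₁ u₂) {Γ : Type uG} [Group Γ]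
    (σ : Γ →* Cfsg.Omega F ⇑Q) (hs : Function.Surjective σ)
    (hc : σ.ker ≤ Subgroup.center Γ) (hΓ : commutator Γ = ⊤)
    (hκ : ∀ {x y z : Vtx Q (1 : F)}, Tri x y z → C σ hs (t x y) (t x z) = 1)
    (hE : Defect σ (1 : Γ)) : Function.Injective σ := by
  classical
  set v := u₀
  obtain ⟨w₀, hw₀⟩ := exists_edge_vtx h2 hB hn v
  set S := MulAction.stabilizer (Cfsg.Omega F ⇑Q) v with hS
  have hinj := inj_stab h2 hB hn hF h8 hs hc hκ
  have hthird : ∀ u z, Third 1 v u z → ∀ k ∈ L σ (MulAction.stabilizer (Cfsg.Omega F ⇑Q) z),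
      σ k • v = v → k ∈ L σ S := by
    rintro u z ⟨huv, hzv, hzu⟩ k hk hkv
    obtain ⟨m, Φ, a, hm, hva, hform, hsur, hfix, hT⟩ := exists_stab_equiv_vtx h2 hB hn v u huv
    obtain ⟨y₀, hy₀, hne⟩ := hsur z (by rw [b_comm]; exact hzv)
    let ψ : symplecticGroup (Fin m) F →* Cfsg.Omega F ⇑Q := S.subtype.comp Φ.symm.toMonoidHom
    let N := ((L σ S ⊓ L σ (MulAction.stabilizer (Cfsg.Omega F ⇑Q) z)).map σ).comap ψ
    have hle : SpStab.fixer y₀ ≤ N := by
      refine fixer_le hF (hne hzu) (by omega) fun y hy => ?_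
      have e := hT y ⟨t v (a y), mem_stab h2 hB hn hF h8 (hva y)⟩ (t_spec h2 hB hn (hva y))
      obtain ⟨k', hk', ek⟩ := exists_X h2 hB hn hF h8 hs hc hκ (hva y)
      refine ⟨k', ⟨hk', lift_mem h2 hB hn hF h8 hs hc hκ h₀ hE hk' ek (hva y) (by rw [b_comm]; exact hzv)
        (by rw [hy₀, b_comm, hform, hy])⟩, ?_⟩
      show σ k' = (Φ.symm (T y (1 : F))).1
      rw [← e, Φ.symm_apply_apply, ek]
    have hmem : Φ ⟨σ k, hkv⟩ ∈ SpStab.fixer y₀ :=
      (hfix y₀ ⟨σ k, hkv⟩).1 (by rw [← hy₀]; exact L_sigma hk)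
    obtain ⟨k', ⟨hk'v, hk'z⟩, ek⟩ := hle hmem
    have ek' : σ k' = σ k := by
      rw [ek]
      show (Φ.symm (Φ ⟨σ k, hkv⟩)).1 = σ k
      rw [Φ.symm_apply_apply]
    rwa [X_unique h2 hB hn hF h8 hs hc hκ hk hk'z ek'.symm]
  have H := loc_of_lift (hD h2) hB (by omega) one_ne_zero v ⟨w₀, hw₀⟩ hs
    (stab_perfect h2 hB hn hF h8 v) hthird (hinj v)
  exact CoverLocal.injective H hc hΓ
    (fun n hn' _ _ => CoverGraph.quad_of_chain hn' (chain h2 hB hn v))
    (three h2 hB hn v) (exists_common h2 hB hn v)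

/-- Perfect central extensions of `Ω₈⁻(2)` are trivial. -/
theorem injective (h8 : Module.finrank F (ι → F) = 8) (K : Config Q) {Γ : Type uG} [Group Γ]
    (σ : Γ →* Cfsg.Omega F ⇑Q) (hs : Function.Surjective σ)
    (hc : σ.ker ≤ Subgroup.center Γ) (hΓ : commutator Γ = ⊤) : Function.Injective σ := by
  obtain ⟨A, hA⟩ := exists_shift (p := K.p) K.q1 K.p1
  have pA : B K.p.vec A.vec = 0 := by rw [hA, b_add_right, self_zero h2, K.p1, add_zero]
  have xA : B K.x.vec A.vec = 0 := by rw [hA, b_add_right, K.xp, K.x1, add_zero]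
  have hT : Tri K.p K.x A := ⟨by rw [b_comm]; exact K.xp, pA, xA, fun e => K.nx0 (by rw [e]),
    fun e => K.n1 (by rw [← e] at hA; simpa using hA.symm), fun e => K.nx1 (by rw [e, hA])⟩
  have hκ : ∀ {x y z : Vtx Q (1 : F)}, Tri x y z → C σ hs (t x y) (t x z) = 1 :=
    fun h => kappa_one h2 hB hn hF hs hc K h
  exact injective_of h2 hB hn hF h8 hT σ hs hc hΓ @hκ
    (defect_one h2 hB hn hF h8 hs hc @hκ K)

omit h2 hB hn hF
open Matrix

/-- The configuration in the standard form. -/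
theorem exists_config {Q : QuadraticForm F ((Fin 3 ⊕ Fin 3) ⊕ Fin 2 → F)}
    (hQ : ⇑Q = Cfsg.quadFormMinus 3 F (1 : F) 1) (h2 : (2 : F) = 0) : Nonempty (Config Q) := by
  let s : (Fin 3 ⊕ Fin 3) ⊕ Fin 2 → ((Fin 3 ⊕ Fin 3) ⊕ Fin 2 → F) := fun i => Pi.single i 1
  have hq : ∀ v, Q v = Cfsg.quadFormMinus 3 F (1 : F) 1 v := fun v => by rw [hQ]
  have hb : ∀ v w, QuadraticMap.polar ⇑Q v w =
      QuadraticMap.polar (Cfsg.quadFormMinus 3 F (1 : F) 1) v w := fun v w => by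
    rw [hQ]
  let V : ∀ w : (Fin 3 ⊕ Fin 3) ⊕ Fin 2 → F, Q w = 1 → Vtx Q (1 : F) := fun w h => ⟨w, h⟩
  refine ⟨{ u₁ := s (.inl (.inl 0)), u₂ := s (.inl (.inl 1)), u₃ := s (.inl (.inl 2)),
            p := V (s (.inr 0)) ?_, p' := V (s (.inr 1)) ?_,
            x := V (s (.inl (.inl 2)) + s (.inl (.inr 2))) ?_,
            w := V (s (.inr 1) + s (.inl (.inl 2))) ?_,
            q1 := ?_, q2 := ?_, q3 := ?_, b12 := ?_, b13 := ?_, b23 := ?_, p1 := ?_, p2 := ?_,
            p3 := ?_, p'1 := ?_, p'2 := ?_, p'3 := ?_, pp' := ?_, n1 := ?_, n2 := ?_, n12 := ?_,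
            n3 := ?_, x1 := ?_, x2 := ?_, xp := ?_, w1 := ?_, w2 := ?_, wp := ?_, wx := ?_,
            nx0 := ?_, nx1 := ?_, nx2 := ?_, nx12 := ?_ }⟩
  all_goals first
    | simp [V, s, hq, hb, polar_minus, Cfsg.quadFormMinus, Fin.sum_univ_three, Pi.single_apply,
        funext_iff, Fin.exists_fin_succ]
    | skip

end CfsgLib.Schur.OmegaMinusTwo
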