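import Mathlib
import Cfsg.Prelude.Def_KGroupFacts

/-!
Isomorphic groups have the same multiplier.
-/

set_option autoImplicit false

namespace CfsgLib.Schur

universe u v

/-- Stem extensions are carried along an isomorphism. -/
theorem isStemExtension_trans {G G' Γ : Type u} [Group G] [Group G'] [Group Γ] (e : G ≃* G') {σ : Γ →* G}
    (hσ : Cfsg.IsStemExtension σ) :
    Cfsg.IsStemExtension (e.toMonoidHom.comp σ) ∧ (e.toMonoidHom.comp σ).ker = σ.ker := by
  have hk : (e.toMonoidHom.comp σ).ker = σ.ker := by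
    ext x
    simp only [MonoidHom.mem_ker, MonoidHom.comp_apply, MulEquiv.coe_toMonoidHom]
    exact e.map_eq_one_iff
  exact ⟨⟨e.surjective.comp hσ.1, hk.symm ▸ hσ.2.1, hk.symm ▸ hσ.2.2⟩, hk⟩

/-- The multiplier of an isomorphic group. -/
theorem hasSchurMultiplier_of_mulEquiv {G G' : Type u} [Group G] [Group G'] (e : G ≃* G') {A : Type v}
    [CommGroup A] (h : Cfsg.HasSchurMultiplier G A) : Cfsg.HasSchurMultiplier G' A := by
  obtain ⟨⟨Γ, iG, iF, σ, hσ, ⟨k⟩⟩, hb⟩ := h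
  obtain ⟨h1, hk⟩ := isStemExtension_trans e hσ
  refine ⟨⟨Γ, iG, iF, e.toMonoidHom.comp σ, h1, ⟨(MulEquiv.subgroupCongr hk).trans k⟩⟩,
    fun Δ _ _ τ hτ => ?_⟩
  obtain ⟨h2, hk2⟩ := isStemExtension_trans e.symm hτ
  obtain ⟨π, hπ⟩ := hb Δ _ h2
  exact ⟨(MulEquiv.subgroupCongr hk2).toMonoidHom.comp π,
    (MulEquiv.subgroupCongr hk2).surjective.comp hπ⟩

end CfsgLib.Schur
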