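import Mathlib
import Cfsg.Prelude.Def_KGroupFacts
import Cfsg.Agent.Lib.Suzuki.LieEquiv
import Cfsg.Agent.Lib.Suzuki.Aut
import Cfsg.Agent.Lib.Suzuki.Tori
import Cfsg.Agent.Lib.Schur.SLTwo

/-!
The Schur multiplier of `Sz(q)` is trivial for `q > 8`.
-/

set_option autoImplicit false
set_option linter.style.haveILetI false
set_option linter.unusedSectionVars false

open scoped commutatorElement

namespace CfsgLib.Schur

universe u

/-- Transport of a trivial multiplier along an isomorphism. -/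
theorem trivial_multiplier_congr {G G' : Type u} [Group G] [Finite G] [Group G'] (e : G ≃* G')
    (h : Cfsg.HasCyclicSchurMultiplier G 1) : Cfsg.HasCyclicSchurMultiplier G' 1 := by
  haveI : Finite G' := Finite.of_equiv G e.toEquiv
  refine CfsgLib.StemExt.hasCyclicSchurMultiplier_one fun Δ _ _ σ hσ => ?_
  have hk : (e.symm.toMonoidHom.comp σ).ker = σ.ker := by
    ext x
    simp [MonoidHom.mem_ker]
  rw [← hk]
  exact CfsgLib.StemExt.ker_eq_bot_of_hasCyclicSchurMultiplier_one h _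
    ⟨e.symm.surjective.comp hσ.1, hk ▸ hσ.2.1, hk ▸ hσ.2.2⟩

theorem comm_mul_left {Γ : Type*} [Group Γ] {x x' y : Γ} (h : Commute x ⁅x', y⁆) :
    ⁅x * x', y⁆ = ⁅x', y⁆ * ⁅x, y⁆ := by
  rw [show ⁅x * x', y⁆ = x * ⁅x', y⁆ * x⁻¹ * ⁅x, y⁆ by simp only [commutatorElement_def]; group,
    h.eq, mul_inv_cancel_right]

theorem comm_mul_right {Γ : Type*} [Group Γ] {x y y' : Γ} (h : Commute y ⁅x, y'⁆) :
    ⁅x, y * y'⁆ = ⁅x, y⁆ * ⁅x, y'⁆ := by
  rw [show ⁅x, y * y'⁆ = ⁅x, y⁆ * (y * ⁅x, y'⁆ * y⁻¹) by simp only [commutatorElement_def]; group,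
    h.eq, mul_inv_cancel_right]

/-- A biadditive map with `c (lam * a) b = c a (mu * b)` is zero, unless `mu` is conjugate to
`lam`. -/
theorem form_eq_zero_of_adjoint {F : Type*} [Field F] {K : Type*} [AddCommGroup K] (p : ℕ)
    [Algebra (ZMod p) F] [Fact p.Prime] (c : F →+ F →+ K) (lam mu : F)
    (hadj : ∀ a b, c (lam * a) b = c a (mu * b))
    (hroot : Polynomial.aeval mu (minpoly (ZMod p) lam) ≠ 0) : c = 0 := by
  have hmove : ∀ (P : Polynomial ℤ) (a b : F),
      c (Polynomial.aeval lam P * a) b = c a (Polynomial.aeval mu P * b) := by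
    intro P
    induction P using Polynomial.induction_on' with
    | add P R hP hR =>
      intro a b
      rw [map_add, map_add, add_mul, add_mul, map_add, AddMonoidHom.add_apply, hP, hR, map_add]
    | monomial m z =>
      have hpow : ∀ (m : ℕ) (a b : F), c (lam ^ m * a) b = c a (mu ^ m * b) := by
        intro m
        induction m with
        | zero => simp
        | succ m ih =>
          intro a b
          rw [pow_succ, mul_assoc (lam ^ m) lam a, ih, hadj, pow_succ' mu m,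
            mul_assoc mu (mu ^ m) b]
      intro a b
      rw [Polynomial.aeval_monomial, Polynomial.aeval_monomial, eq_intCast, mul_assoc, mul_assoc,
        ← zsmul_eq_mul, ← zsmul_eq_mul, map_zsmul, AddMonoidHom.zsmul_apply, hpow, map_zsmul]
  obtain ⟨P, hP⟩ := Polynomial.map_surjective (Int.castRingHom (ZMod p))
    (ZMod.ringHom_surjective (Int.castRingHom (ZMod p))) (minpoly (ZMod p) lam)
  have haev : ∀ x : F, Polynomial.aeval x P = Polynomial.aeval x (minpoly (ZMod p) lam) := fun x => by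
    rw [← hP, ← Polynomial.aeval_map_algebraMap (ZMod p) x P]
    congr 2
  refine AddMonoidHom.ext fun a => AddMonoidHom.ext fun b => ?_
  have h := hmove P a ((Polynomial.aeval mu P)⁻¹ * b)
  rw [haev lam, minpoly.aeval, zero_mul, map_zero, AddMonoidHom.zero_apply,
    mul_inv_cancel_left₀ (by rw [haev]; exact hroot)] at h
  exact h.symm

section

open CfsgLib.Suzuki

variable {F : Type u} [Field F] [Fintype F] [CharP F 2] {m : ℕ} [hP : Param F m]

include hP

theorem suzuki_card_ne : Fintype.card F ≠ 4 ∧ Fintype.card F ≠ 9 := by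
  have h := hP.card
  have h1 := hP.one_le
  have h8 : 8 ≤ Fintype.card F := eight_le_card (m := m)
  refine ⟨by omega, fun e => ?_⟩
  have : Even (Fintype.card F) := by
    rw [h]; exact Nat.even_pow.mpr ⟨even_two, by omega⟩
  rw [e] at this
  exact absurd this (by decide)

/-- The mixed pairing between the two layers of `U` is zero. -/
theorem mixed_form_eq_zero (hm : 2 ≤ m) {K : Type*} [AddCommGroup K] (c : F →+ F →+ K)
    (hinv : ∀ s : F, s ≠ 0 → ∀ a b, c (s * a) (s * sg F m s * b) = c a b) : c = 0 := by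
  classical
  obtain ⟨t, ht⟩ := IsCyclic.exists_generator (α := Fˣ)
  haveI : Fact (Nat.Prime 2) := ⟨Nat.prime_two⟩
  letI : Algebra (ZMod 2) F := ZMod.algebra F 2
  set lam : F := (t : F) with hlam
  have hlam0 : lam ≠ 0 := t.ne_zero
  have hw0 : lam * sg F m lam ≠ 0 := mul_ne_zero hlam0 ((map_ne_zero (sg F m)).2 hlam0)
  refine form_eq_zero_of_adjoint 2 c lam (lam * sg F m lam)⁻¹ (fun a b => ?_) fun hroot => ?_
  · have := hinv lam hlam0 a ((lam * sg F m lam)⁻¹ * b)
    rwa [mul_inv_cancel_left₀ hw0] at this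
  have hint : IsIntegral (ZMod 2) lam := IsIntegral.of_finite _ _
  obtain ⟨σ, hσ⟩ := minpoly.exists_algEquiv_of_root' (hint.isAlgebraic) hroot
  obtain ⟨i, rfl⟩ := (FiniteField.bijective_frobeniusAlgEquivOfAlgebraic_pow (ZMod 2) F).2 σ
  have hfr : Module.finrank (ZMod 2) F = 2 * m + 1 := by
    have h1 := Module.card_eq_pow_finrank (K := ZMod 2) (V := F)
    rw [ZMod.card, hP.card] at h1
    exact (Nat.pow_right_injective (le_refl 2) h1).symm
  have hi : (i : ℕ) < 2 * m + 1 := hfr ▸ i.2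
  have hval : lam ^ 2 ^ (i : ℕ) = (lam * sg F m lam)⁻¹ := by
    rw [← hσ]
    simp only [AlgEquiv.coe_pow, FiniteField.coe_frobeniusAlgEquivOfAlgebraic_iterate, ZMod.card]
  have h1 : t ^ (2 ^ (i : ℕ) + (2 ^ (m + 1) + 1)) = 1 := by
    refine Units.ext ?_
    rw [Units.val_pow_eq_pow_val, Units.val_one, ← hlam, pow_add, hval, pow_succ, ← sg_def,
      mul_comm (sg F m lam) lam, inv_mul_cancel₀ hw0]
  have hord : orderOf t = 2 ^ (2 * m + 1) - 1 := by
    rw [orderOf_eq_card_of_forall_mem_zpowers ht, Nat.card_units, Nat.card_eq_fintype_card, hP.card]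
  have hdvd := orderOf_dvd_of_pow_eq_one h1
  rw [hord] at hdvd
  have hle := Nat.le_of_dvd (by positivity) hdvd
  have hik : 2 ^ (i : ℕ) ≤ 2 ^ (2 * m) := Nat.pow_le_pow_right (by omega) (by omega)
  have hmk : 2 ^ (m + 2) ≤ 2 ^ (2 * m) := Nat.pow_le_pow_right (by omega) (by omega)
  have hm4 : 2 ^ (m + 2) = 2 * 2 ^ (m + 1) := by ring
  have hn4 : 2 ^ (2 * m + 1) = 2 * 2 ^ (2 * m) := by ring
  have : 8 ≤ 2 ^ (m + 1) := le_trans (by norm_num : 8 ≤ 2 ^ 3) (Nat.pow_le_pow_right (by omega) (by omega))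
  omega

variable {Γ : Type*} [Group Γ] (σ : Γ →* Gp F m)

/-- The preimage of the root group contributes nothing to the two-part of the multiplier. -/
theorem suzuki_preimage_commutator (hm : 2 ≤ m) (hσ : Function.Surjective σ)
    (hc : σ.ker ≤ Subgroup.center Γ) {z : Γ} (hz : z ∈ σ.ker)
    (hzd : z ∈ ⁅(grpU F m).comap σ, (grpU F m).comap σ⁆) (hz2 : z ^ 2 = 1) : z = 1 := by
  classical
  obtain ⟨h4, h9⟩ := suzuki_card_ne (F := F) (m := m)
  letI : CommGroup σ.ker :=
    { (inferInstance : Group σ.ker) with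
      mul_comm := fun a b => Subtype.ext (Subgroup.mem_center_iff.mp (hc b.2) a) }
  choose sA hsA using fun a : F => hσ (gT a 0)
  choose sB hsB using fun b : F => hσ (gT 0 b)
  choose w hw using fun t : Fˣ => hσ (gH t)
  have cg := fun {a a' b b' : Γ} (ha : σ a = σ a') (hb : σ b = σ b') =>
    CfsgLib.Schur.commutatorElement_congr σ hc ha hb
  have kcent : ∀ {x y : Γ}, y ∈ σ.ker → Commute x y := fun {x y} hy =>
    Subgroup.mem_center_iff.mp (hc hy) x
  have hconj : ∀ (g x y : Γ), g * ⁅x, y⁆ * g⁻¹ = ⁅g * x * g⁻¹, g * y * g⁻¹⁆ := fun g x y => by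
    simp only [commutatorElement_def]; group
  have hwA : ∀ (t : Fˣ) (a : F), σ (w t * sA a * (w t)⁻¹) = σ (sA (sg F m t * a)) := fun t a => by
    rw [map_mul, map_mul, map_inv, hw, hsA, hsA, gH_conj_gT, mul_zero]
  have hwB : ∀ (t : Fˣ) (b : F),
      σ (w t * sB b * (w t)⁻¹) = σ (sB (sg F m t * (t : F) ^ 2 * b)) := fun t b => by
    rw [map_mul, map_mul, map_inv, hw, hsB, hsB, gH_conj_gT, mul_zero]
  -- step 1: the preimage of the centre is abelian
  have hBmem : ∀ a b, ⁅sB a, sB b⁆ ∈ σ.ker := fun a b => by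
    rw [MonoidHom.mem_ker, map_commutatorElement, hsB, hsB, commutatorElement_eq_one_iff_mul_comm,
      gT_mul, gT_mul, add_comm b a]
  have hBadd : ∀ a b, σ (sB (a + b)) = σ (sB a * sB b) := fun a b => by
    rw [map_mul, hsB, hsB, hsB, gT_mul]; simp
  let cB : F →+ F →+ Additive σ.ker :=
    AddMonoidHom.mk' (fun a => AddMonoidHom.mk' (fun b => Additive.ofMul ⟨⁅sB a, sB b⁆, hBmem a b⟩)
      (fun b b' => congrArg Additive.ofMul (Subtype.ext (by
        show ⁅sB a, sB (b + b')⁆ = ⁅sB a, sB b⁆ * ⁅sB a, sB b'⁆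
        rw [cg rfl (hBadd b b'), comm_mul_right (kcent (hBmem _ _))]))))
      (fun a a' => AddMonoidHom.ext fun b => congrArg Additive.ofMul (Subtype.ext (by
        show ⁅sB (a + a'), sB b⁆ = ⁅sB a, sB b⁆ * ⁅sB a', sB b⁆
        rw [cg (hBadd a a') rfl, comm_mul_left (kcent (hBmem _ _))]
        exact kcent (hBmem _ _))))
  have hcB : cB = 0 := invariant_form_eq_zero h4 h9 cB
    (fun a => congrArg Additive.ofMul (Subtype.ext (commutatorElement_self (sB a))))
    (fun u hu a b => by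
      obtain ⟨t, ht⟩ := norm_surjective (F := F) (m := m) (Units.mk0 (u * u) (mul_ne_zero hu hu))
      have ht' : sg F m t * (t : F) ^ 2 = u * u := congrArg Units.val ht
      refine congrArg Additive.ofMul (Subtype.ext ?_)
      show ⁅sB (u * u * a), sB (u * u * b)⁆ = ⁅sB a, sB b⁆
      rw [← ht', ← cg (hwB t a) (hwB t b), ← hconj, (kcent (hBmem a b)).eq, mul_inv_cancel_right])
  have hBB : ∀ a b, ⁅sB a, sB b⁆ = 1 := fun a b => congrArg (fun x : Additive σ.ker => (x.toMul : Γ))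
    (DFunLike.congr_fun (DFunLike.congr_fun hcB a) b)
  -- step 2: it is central in the preimage of `U`
  have hABmem : ∀ a b, ⁅sA a, sB b⁆ ∈ σ.ker := fun a b => by
    rw [MonoidHom.mem_ker, map_commutatorElement, hsA, hsB, commutatorElement_eq_one_iff_mul_comm,
      gT_mul, gT_mul]
    simp
  have hAadd : ∀ a b, σ (sA a * sA b) = σ (sA (a + b) * sB (sg F m a * b)) := fun a b => by
    rw [map_mul, map_mul, hsA, hsA, hsA, hsB, gT_mul, gT_mul]; simp
  let cAB : F →+ F →+ Additive σ.ker :=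
    AddMonoidHom.mk' (fun a => AddMonoidHom.mk' (fun b => Additive.ofMul ⟨⁅sA a, sB b⁆, hABmem a b⟩)
      (fun b b' => congrArg Additive.ofMul (Subtype.ext (by
        show ⁅sA a, sB (b + b')⁆ = ⁅sA a, sB b⁆ * ⁅sA a, sB b'⁆
        rw [cg rfl (hBadd b b'), comm_mul_right (kcent (hABmem _ _))]))))
      (fun a a' => AddMonoidHom.ext fun b => congrArg Additive.ofMul (Subtype.ext (by
        show ⁅sA (a + a'), sB b⁆ = ⁅sA a, sB b⁆ * ⁅sA a', sB b⁆
        have h2 := cg (b := sB b) (hAadd a a') rfl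
        rw [comm_mul_left (kcent (hABmem _ _)), comm_mul_left (kcent (hBmem _ _)), hBB, one_mul] at h2
        rw [← h2]
        exact kcent (hABmem _ _))))
  have hcAB : cAB = 0 := mixed_form_eq_zero hm cAB fun s hs a b => by
    obtain ⟨x, hx⟩ := sg_surjective (F := F) (m := m) hP.card s
    have hx0 : x ≠ 0 := fun e => hs (by rw [← hx, e, map_zero])
    have hwt : sg F m x * x ^ 2 = s * sg F m s := by rw [← hx, sg_sg hP.card]
    obtain ⟨t, rfl⟩ : ∃ t : Fˣ, (t : F) = x := ⟨Units.mk0 x hx0, rfl⟩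
    refine congrArg Additive.ofMul (Subtype.ext ?_)
    show ⁅sA (s * a), sB (s * sg F m s * b)⁆ = ⁅sA a, sB b⁆
    rw [← hwt, ← hx, ← cg (hwA t a) (hwB t b), ← hconj,
      (kcent (hABmem a b)).eq, mul_inv_cancel_right]
  have hAB : ∀ a b, ⁅sA a, sB b⁆ = 1 := fun a b => congrArg (fun x : Additive σ.ker => (x.toMul : Γ))
    (DFunLike.congr_fun (DFunLike.congr_fun hcAB a) b)
  set V := (grpU F m).comap σ with hV
  set C := (grpZ F m).comap σ with hC
  have hdec : ∀ x ∈ V, ∃ a b, σ x = σ (sA a * sB b) := fun x hx => by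
    obtain ⟨a, b, hab⟩ := hx
    exact ⟨a, b, by rw [map_mul, hsA, hsB, gT_mul, hab]; simp⟩
  have hCV : C ≤ V := fun x ⟨b, hb⟩ => ⟨0, b, hb⟩
  have hcen : ∀ x ∈ V, ∀ y ∈ C, Commute x y := by
    intro x hx y hy
    obtain ⟨a, b, hab⟩ := hdec x hx
    obtain ⟨c, hy'⟩ := hy
    refine commutatorElement_eq_one_iff_mul_comm.mp ?_
    rw [cg hab (show σ y = σ (sB c) by rw [hsB]; exact hy'),
      comm_mul_left (kcent (hBmem b c)), hBB, hAB, mul_one]
  have hcomm : ∀ x ∈ V, ∀ y ∈ V, ⁅x, y⁆ ∈ C := fun x hx y hy => by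
    show σ ⁅x, y⁆ ∈ grpZ F m
    rw [map_commutatorElement, ← grpZ_eq_commutator]
    exact Subgroup.commutator_mem_commutator hx hy
  letI : CommGroup C :=
    { (inferInstance : Group C) with
      mul_comm := fun a b => Subtype.ext (hcen a (hCV a.2) b b.2).eq }
  -- step 3: averaging over the torus
  have hwC : ∀ (t : Fˣ) (x : C), w t * (x : Γ) * (w t)⁻¹ ∈ C := fun t x => by
    obtain ⟨b, hb⟩ := x.2
    exact ⟨sg F m t * (t : F) ^ 2 * b, by
      rw [map_mul, map_mul, map_inv, hw, hb, gH_conj_gT, mul_zero]⟩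
  let P : C →* C :=
    MonoidHom.mk' (fun x => ∏ t : Fˣ, (⟨w t * (x : Γ) * (w t)⁻¹, hwC t x⟩ : C)) fun x y => by
      rw [← Finset.prod_mul_distrib]
      exact Finset.prod_congr rfl fun t _ => Subtype.ext (by
        show w t * ((x : Γ) * y) * (w t)⁻¹ = w t * x * (w t)⁻¹ * (w t * y * (w t)⁻¹)
        group)
  have hPinv : ∀ (u : Fˣ) (x y : C), (y : Γ) = w u * x * (w u)⁻¹ → P y = P x := by
    intro u x y hy
    refine Fintype.prod_equiv (Equiv.mulRight u) _ _ fun t => Subtype.ext ?_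
    show w t * (y : Γ) * (w t)⁻¹ = w (t * u) * x * (w (t * u))⁻¹
    have hk : (w (t * u))⁻¹ * (w t * w u) ∈ σ.ker := by
      rw [MonoidHom.mem_ker, map_mul, map_inv, map_mul, hw, hw, hw, map_mul, inv_mul_cancel]
    obtain ⟨k, hk', e⟩ : ∃ k ∈ σ.ker, w t * w u = w (t * u) * k :=
      ⟨_, hk, (mul_inv_cancel_left _ _).symm⟩
    calc w t * (y : Γ) * (w t)⁻¹ = (w t * w u) * x * (w t * w u)⁻¹ := by rw [hy]; group
      _ = w (t * u) * (k * x * k⁻¹) * (w (t * u))⁻¹ := by rw [e]; group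
      _ = _ := by rw [← (kcent hk' : Commute (x : Γ) k).eq, mul_inv_cancel_right]
  have hA : ∀ a, sA a ∈ V := fun a => ⟨a, 0, hsA a⟩
  have hCl : ∀ {x y v : Γ}, x ∈ V → y ∈ V → v ∈ V → Commute x ⁅y, v⁆ := fun hx hy hv =>
    hcen _ hx _ (hcomm _ hy _ hv)
  have hBl : ∀ (b : F) (y : Γ), y ∈ V → ⁅sB b, y⁆ = 1 := fun b y hy =>
    commutatorElement_eq_one_iff_mul_comm.mpr (hcen y hy _ ⟨b, hsB b⟩).eq.symm
  have hBV : ∀ b, sB b ∈ V := fun b => ⟨0, b, hsB b⟩
  let d : F → F → C := fun a b => ⟨⁅sA a, sA b⁆, hcomm _ (hA a) _ (hA b)⟩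
  have hdl : ∀ a a' b, d (a + a') b = d a b * d a' b := fun a a' b => Subtype.ext (by
    show ⁅sA (a + a'), sA b⁆ = ⁅sA a, sA b⁆ * ⁅sA a', sA b⁆
    have h2 := cg (b := sA b) (hAadd a a') rfl
    rw [comm_mul_left (hCl (hA a) (hA a') (hA b)), comm_mul_left (hCl (hA _) (hBV _) (hA b)),
      hBl _ _ (hA b), one_mul] at h2
    rw [← h2]
    exact (hCl ((Subgroup.commutator_le_self V) (Subgroup.commutator_mem_commutator (hA a) (hA b)))
      (hA a') (hA b)).eq.symm)
  have hdswap : ∀ a b, d b a = (d a b)⁻¹ := fun a b => Subtype.ext (commutatorElement_inv _ _).symm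
  have hdr : ∀ a b b', d a (b + b') = d a b * d a b' := fun a b b' => by
    rw [hdswap (b + b') a, hdl, mul_inv, ← hdswap b a, ← hdswap b' a]
  let e : F →+ F →+ Additive C :=
    AddMonoidHom.mk' (fun a => AddMonoidHom.mk' (fun b => Additive.ofMul (P (d a b)))
      (fun b b' => congrArg Additive.ofMul (by rw [hdr, map_mul]; rfl)))
      (fun a a' => AddMonoidHom.ext fun b => congrArg Additive.ofMul (by rw [hdl, map_mul]; rfl))
  have hezero : e = 0 := invariant_form_eq_zero h4 h9 e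
    (fun a => congrArg Additive.ofMul (by
      rw [show d a a = 1 from Subtype.ext (commutatorElement_self (sA a)), map_one]))
    (fun v hv a b => by
      obtain ⟨x, hx⟩ := sg_surjective (F := F) (m := m) hP.card (v * v)
      have hx0 : x ≠ 0 := fun e => mul_ne_zero hv hv (by rw [← hx, e, map_zero])
      obtain ⟨t, rfl⟩ : ∃ t : Fˣ, (t : F) = x := ⟨Units.mk0 x hx0, rfl⟩
      refine congrArg Additive.ofMul (hPinv t (d a b) _ ?_)
      show ⁅sA (v * v * a), sA (v * v * b)⁆ = _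
      rw [← hx, ← cg (hwA t a) (hwA t b), ← hconj])
  have hle : ⁅V, V⁆ ≤ P.ker.map C.subtype := by
    rw [Subgroup.commutator_le]
    intro x hx y hy
    obtain ⟨a, b, hab⟩ := hdec x hx
    obtain ⟨a', b', hab'⟩ := hdec y hy
    refine ⟨d a a', ?_, ?_⟩
    · exact congrArg Additive.toMul (DFunLike.congr_fun (DFunLike.congr_fun hezero a) a')
    · show ⁅sA a, sA a'⁆ = ⁅x, y⁆
      have h1 : ⁅sA a * sB b, sA a'⁆ = ⁅sA a, sA a'⁆ := by
        rw [comm_mul_left (hCl (hA a) (hBV b) (hA a')), hBl _ _ (hA a'), one_mul]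
      have hm1 : sA a * sB b ∈ V := mul_mem (hA a) (hBV b)
      have h2 : ⁅sA a * sB b, sB b'⁆ = 1 :=
        commutatorElement_eq_one_iff_mul_comm.mpr (hcen _ hm1 _ ⟨b', hsB b'⟩).eq
      rw [cg hab hab', comm_mul_right (hCl (hA a') hm1 (hBV b')), h1, h2, mul_one]
  obtain ⟨zc, hzP, hzz⟩ := hle hzd
  have hz' : (zc : Γ) = z := hzz
  have hPz : P zc = zc ^ Fintype.card Fˣ := by
    show ∏ t : Fˣ, (⟨w t * (zc : Γ) * (w t)⁻¹, hwC t zc⟩ : C) = _
    rw [← Finset.card_univ, ← Finset.prod_const]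
    refine Finset.prod_congr rfl fun t _ => Subtype.ext ?_
    show w t * (zc : Γ) * (w t)⁻¹ = zc
    rw [hz', (kcent hz : Commute (w t) z).eq, mul_inv_cancel_right]
  have h1 : z ^ Fintype.card Fˣ = 1 := by
    have := congrArg Subtype.val (hPz.symm.trans hzP)
    rwa [Subgroup.coe_pow, hz', Subgroup.coe_one] at this
  obtain ⟨k, hk⟩ := odd_card_sub_one (F := F) (m := m)
  rwa [Fintype.card_units, hk, pow_succ, pow_mul, hz2, one_pow, one_mul] at h1

end

theorem hasTrivialMultiplier_suzuki {F : Type u} [Field F] [Fintype F] {m : ℕ} (hm : 2 ≤ m)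
    (hF : Fintype.card F = 2 ^ (2 * m + 1)) :
    Cfsg.HasCyclicSchurMultiplier ↥(Cfsg.Lie.Sz F (2 ^ (m + 1))) 1 := by
  haveI : CharP F 2 := CfsgLib.Suzuki.charP_two_of_card hF
  haveI : CfsgLib.Suzuki.Param F m := ⟨by omega, hF⟩
  refine trivial_multiplier_congr
    ((MonoidHom.ofInjective (CfsgLib.Suzuki.toGLEmb_injective (F := F) (m := m))).trans
      (MulEquiv.subgroupCongr (CfsgLib.Suzuki.range_toGLEmb (F := F) (m := m)))) ?_
  refine trivial_multiplier_of_local fun ℓ hℓ => ?_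
  haveI := Fact.mk hℓ
  by_cases h2 : ℓ = 2
  · subst h2
    refine ⟨CfsgLib.Suzuki.grpU F m, ?_, fun Γ _ _ σ hσ hc z hz hzd hz2 =>
      suzuki_preimage_commutator σ hm hσ hc hz hzd hz2⟩
    have h := (CfsgLib.Suzuki.sylowU F m).not_dvd_index
    rwa [CfsgLib.Suzuki.coe_sylowU] at h
  · refine ⟨(default : Sylow ℓ (CfsgLib.Suzuki.Gp F m)), Sylow.not_dvd_index _,
      fun Γ _ _ σ hσ hc z hz hzd _ => ?_⟩
    haveI := CfsgLib.Suzuki.sylow_cyclic h2 (default : Sylow ℓ (CfsgLib.Suzuki.Gp F m))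
    rw [preimage_commutator_eq_bot_of_isCyclic σ hc] at hzd
    exact Subgroup.mem_bot.mp hzd

end CfsgLib.Schur
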