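import Mathlib
import Cfsg.Prelude.Def_KGroupFacts
import Cfsg.Agent.Lib.Schur.Suzuki

/-!
An elementary abelian Sylow 2-subgroup of order eight with a normalizing element of order seven.
-/

set_option autoImplicit false
set_option linter.style.haveILetI false
set_option linter.unusedSectionVars false

open scoped commutatorElement

namespace CfsgLib.Schur

universe u

/-- An elementary abelian group of order eight with an automorphism of order seven acting without
fixed points has a trivial invariant alternating pairing into a group of exponent two. -/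
theorem form_eight_eq_one {S : Type*} [CommGroup S] [Fintype S] (hcard : Fintype.card S = 8)
    (hsq : ∀ x : S, x * x = 1) (g : S ≃* S) (hg : orderOf g = 7) {A : Type*} [CommGroup A]
    (f : S → S → A) (hl : ∀ a a' b, f (a * a') b = f a b * f a' b)
    (hr : ∀ a b b', f a (b * b') = f a b * f a b') (halt : ∀ a, f a a = 1)
    (hinv : ∀ a b, f (g a) (g b) = f a b) (a b : S) : f a b = 1 := by
  classical
  have h1l : ∀ b, f 1 b = 1 := fun b => by
    have := hl 1 1 b; rw [mul_one] at this; exact left_eq_mul.mp this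
  have hsym : ∀ a b, f b a = f a b := fun a b => by
    have h2 : f a b * f a b = 1 := by rw [← hl, hsq, h1l]
    have h3 := halt (a * b)
    rw [hl, hr, hr, halt, halt, one_mul, mul_one] at h3
    rw [eq_inv_of_mul_eq_one_right h3]
    exact inv_eq_of_mul_eq_one_right h2
  have hpow : ∀ (j : ℕ) a b, f ((g ^ j) a) ((g ^ j) b) = f a b := by
    intro j
    induction j with
    | zero => simp
    | succ j ih => intro a b; rw [pow_succ', MulAut.mul_apply, MulAut.mul_apply, hinv, ih]
  have h7 : g ^ 7 = 1 := by rw [← hg]; exact pow_orderOf_eq_one g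
  -- the orbit of a non-trivial element is everything non-trivial
  obtain ⟨x, hx1, hxg⟩ : ∃ x : S, x ≠ 1 ∧ g x ≠ x := by
    by_contra hne
    push Not at hne
    have : g = 1 := MulEquiv.ext fun x => by
      rcases eq_or_ne x 1 with rfl | hx
      · simp
      · exact hne x hx
    rw [this, orderOf_one] at hg; norm_num at hg
  have hfree : ∀ j, 0 < j → j < 7 → (g ^ j) x ≠ x := by
    intro j h0 hj h
    refine hxg ?_
    have hj' : Nat.Coprime j 7 := Nat.Coprime.symm (Nat.prime_seven.coprime_iff_not_dvd.mpr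
      (Nat.not_dvd_of_pos_of_lt h0 hj))
    obtain ⟨k, hk⟩ := exists_pow_eq_self_of_coprime (x := g) (n := j) (by rw [hg]; exact hj')
    have hpk : ∀ k : ℕ, ((g ^ j) ^ k) x = x := by
      intro k
      induction k with
      | zero => simp
      | succ k ih => rw [pow_succ, MulAut.mul_apply, h, ih]
    rw [← hk]; exact hpk k
  have horb : ∀ y : S, y ≠ 1 → ∃ j, j < 7 ∧ y = (g ^ j) x := by
    intro y hy
    have hinj : Set.InjOn (fun j => (g ^ j) x) (Finset.range 7 : Set ℕ) := by
      intro i hi j hj h
      simp only [Finset.coe_range, Set.mem_Iio] at hi hj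
      by_contra hne
      wlog hlt : i < j generalizing i j
      · exact this h.symm hj hi (Ne.symm hne) (by omega)
      refine hfree (j - i) (by omega) (by omega) ?_
      apply (g ^ i).injective
      rw [← MulAut.mul_apply, ← pow_add, show i + (j - i) = j by omega]
      exact h.symm
    have himg : (Finset.range 7).image (fun j => (g ^ j) x) = Finset.univ.erase (1 : S) := by
      refine Finset.eq_of_subset_of_card_le (fun y hy => ?_) ?_
      · obtain ⟨j, -, rfl⟩ := Finset.mem_image.mp hy
        refine Finset.mem_erase.mpr ⟨?_, Finset.mem_univ _⟩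
        exact fun h => hx1 ((g ^ j).injective (h.trans (map_one _).symm))
      · rw [Finset.card_image_of_injOn hinj, Finset.card_erase_of_mem (Finset.mem_univ _),
          Finset.card_univ, hcard, Finset.card_range]
    have : y ∈ Finset.univ.erase (1 : S) := Finset.mem_erase.mpr ⟨hy, Finset.mem_univ _⟩
    rw [← himg] at this
    obtain ⟨j, hj, rfl⟩ := Finset.mem_image.mp this
    exact ⟨j, Finset.mem_range.mp hj, rfl⟩
  let k : ℕ → A := fun j => f x ((g ^ j) x)
  have hk0 : k 0 = 1 := by simp [k, halt]
  have hkinv : ∀ i j : ℕ, i ≤ j → f ((g ^ i) x) ((g ^ j) x) = k (j - i) := fun i j hij => by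
    conv_lhs => rw [show j = i + (j - i) by omega, pow_add, MulAut.mul_apply, hpow]
  have hksym : ∀ j ≤ 7, k (7 - j) = k j := fun j hj => by
    rw [← hkinv j 7 hj, h7]; exact hsym _ _
  -- the line through `x` and `g x`
  have hx2 : x * g x ≠ 1 := fun h => hxg (by
    have : g x = x⁻¹ := eq_inv_of_mul_eq_one_right h
    rw [this]; exact (inv_eq_of_mul_eq_one_right (hsq x)))
  obtain ⟨a', ha7, ha⟩ := horb _ hx2
  have hmulx : ∀ j, (g ^ j) x * (g ^ (j + 1)) x = (g ^ (j + a')) x := fun j => by
    rw [pow_add g j a', MulAut.mul_apply, ← ha, map_mul, pow_succ, MulAut.mul_apply]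
  have hxsq : ∀ u v : S, u * v * v = u := fun u v => by rw [mul_assoc, hsq, mul_one]
  have ha0 : a' ≠ 0 := fun h => by
    rw [h] at ha; simp only [pow_zero, MulAut.one_apply] at ha
    exact hx1 (g.injective ((mul_eq_left.mp ha).trans (map_one g).symm))
  have ha1 : a' ≠ 1 := fun h => by
    rw [h, pow_one] at ha; exact hx1 (mul_eq_right.mp ha)
  have ha2 : a' ≠ 2 := fun h => by
    have e1 : (g ^ 3) x = g x * (g ^ 2) x := by
      have := hmulx 1; rw [h, pow_one] at this; exact this.symm
    rw [h] at ha
    rw [← ha] at e1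
    refine hfree 3 (by norm_num) (by norm_num) (e1.trans ?_)
    rw [mul_comm x, ← mul_assoc, hsq, one_mul]
  have ha4 : a' ≠ 4 := fun h => by
    have e1 : x = (g ^ 3) x * (g ^ 4) x := by
      have := hmulx 3; rw [h, h7, MulAut.one_apply] at this; exact this.symm
    rw [h] at ha
    rw [← ha] at e1
    have e2 : (g ^ 3) x = g x := by
      calc (g ^ 3) x = (g ^ 3) x * (x * g x) * (x * g x) := (hxsq _ _).symm
        _ = x * (x * g x) := by rw [← e1]
        _ = g x := by rw [← mul_assoc, hsq, one_mul]
    refine hfree 2 (by norm_num) (by norm_num) (g.injective ?_)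
    rw [← MulAut.mul_apply, ← pow_succ']
    exact e2
  have ha6 : a' ≠ 6 := fun h => by
    have e1 : x = g x * (g ^ 2) x := by
      have := hmulx 1; rw [h, h7, MulAut.one_apply, pow_one] at this; exact this.symm
    have e2 : (g ^ 2) x = x * g x := by
      calc (g ^ 2) x = g x * (g ^ 2) x * g x := by rw [mul_comm (g x), hxsq]
        _ = x * g x := by rw [← e1]
    rw [ha] at e2
    refine hfree 4 (by norm_num) (by norm_num) ((g ^ 2).injective ?_)
    rw [← MulAut.mul_apply, ← pow_add, e2, h]
  have hka : k a' = k 1 := by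
    show f x ((g ^ a') x) = f x ((g ^ 1) x)
    rw [← ha, hr, halt, one_mul, pow_one]
  have hkd : k (a' - 1) = k 1 := by
    rw [← hkinv 1 a' (by omega), pow_one, ← ha, hr, halt, mul_one]
    exact (hsym _ _).trans rfl
  have hkb : k (a' + 1) = k 1 * k 2 := by
    show f x ((g ^ (a' + 1)) x) = f x ((g ^ 1) x) * f x ((g ^ 2) x)
    rw [add_comm, ← hmulx 1, hr, pow_one]
  have hsq1 : k 1 * k 1 = 1 := by show f x _ * f x _ = 1; rw [← hl, hsq, h1l]
  have hall : ∀ j ≤ 7, k j = 1 := by
    have hk1 : k 1 = 1 ∧ k 2 = 1 ∧ k 3 = 1 := by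
      have hk5 : k 5 = k 2 := hksym 2 (by norm_num)
      have hk4 : k 4 = k 3 := hksym 3 (by norm_num)
      have hk6 : k 6 = k 1 := hksym 1 (by norm_num)
      obtain rfl | rfl : a' = 3 ∨ a' = 5 := by omega
      · norm_num at hka hkd hkb
        rw [hk4, hka, hkd, hsq1] at hkb
        exact ⟨hkb, hkd.trans hkb, hka.trans hkb⟩
      · norm_num at hka hkd hkb
        rw [hk5] at hka
        rw [hk4] at hkd
        rw [hk6, hka, hsq1] at hkb
        exact ⟨hkb, hka.trans hkb, hkd.trans hkb⟩
    obtain ⟨e1, e2, e3⟩ := hk1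
    intro j hj
    interval_cases j
    · exact hk0
    · exact e1
    · exact e2
    · exact e3
    · exact (hksym 3 (by norm_num)).trans e3
    · exact (hksym 2 (by norm_num)).trans e2
    · exact (hksym 1 (by norm_num)).trans e1
    · show f x ((g ^ 7) x) = 1; rw [h7]; exact halt x
  rcases eq_or_ne a 1 with rfl | ha'
  · exact h1l b
  rcases eq_or_ne b 1 with rfl | hb'
  · rw [hsym]; exact h1l a
  obtain ⟨i, hi, rfl⟩ := horb a ha'
  obtain ⟨j, hj, rfl⟩ := horb b hb'
  rcases le_total i j with hij | hij
  · rw [hkinv i j hij]; exact hall _ (by omega)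
  · rw [hsym, hkinv j i hij]; exact hall _ (by omega)

/-- An elementary abelian Sylow 2-subgroup of order eight with a normalizing element of order
seven contributes nothing. -/
theorem preimage_commutator_eight {Γ G : Type*} [Group Γ] [Group G] [Finite G] (σ : Γ →* G)
    (hσ : Function.Surjective σ) (hc : σ.ker ≤ Subgroup.center Γ) (S : Subgroup G)
    (hS : Nat.card S = 8) (hsq : ∀ x ∈ S, x * x = 1) (hcent : Subgroup.centralizer (S : Set G) = S)
    (hN : 7 ∣ Nat.card (Subgroup.normalizer (S : Set G))) :
    ⁅S.comap σ, S.comap σ⁆ = ⊥ := by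
  classical
  haveI : Fintype S := Fintype.ofFinite _
  letI : CommGroup S :=
    { (inferInstance : Group S) with
      mul_comm := fun a b => Subtype.ext (by
        have h1 := hsq _ (mul_mem a.2 b.2)
        calc (a : G) * b = (a : G) * b * ((b : G) * b) := by rw [hsq _ b.2, mul_one]
          _ = ((a : G) * a) * ((a : G) * b * ((b : G) * b)) := by rw [hsq _ a.2, one_mul]
          _ = (b : G) * a := by
            have h2 : (a : G)⁻¹ = a := inv_eq_of_mul_eq_one_right (hsq _ a.2)
            have h3 : (b : G)⁻¹ = b := inv_eq_of_mul_eq_one_right (hsq _ b.2)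
            have h4 : ((a : G) * b)⁻¹ = a * b := inv_eq_of_mul_eq_one_right h1
            rw [mul_inv_rev, h2, h3] at h4
            rw [hsq _ a.2, hsq _ b.2, one_mul, mul_one, h4]) }
  letI : CommGroup σ.ker :=
    { (inferInstance : Group σ.ker) with
      mul_comm := fun a b => Subtype.ext (Subgroup.mem_center_iff.mp (hc b.2) a) }
  haveI : Fact (Nat.Prime 7) := ⟨Nat.prime_seven⟩
  obtain ⟨y, hy⟩ := exists_prime_orderOf_dvd_card' 7 hN
  let g : MulAut S := S.normalizerMonoidHom y
  have hgval : ∀ x : S, ((g x : S) : G) = (y : G) * x * (y : G)⁻¹ := fun x => rfl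
  have hg : orderOf g = 7 := by
    refine orderOf_eq_prime (by
      rw [← map_pow, show y ^ 7 = 1 by rw [← hy]; exact pow_orderOf_eq_one y, map_one]) fun h => ?_
    have hyS : (y : G) ∈ S := by
      refine hcent.le ?_
      rw [Subgroup.mem_centralizer_iff]
      intro x hx
      have h1 := congrArg Subtype.val (DFunLike.congr_fun h ⟨x, hx⟩)
      rw [hgval] at h1
      exact (mul_inv_eq_iff_eq_mul.mp h1).symm
    have h2 : orderOf (y : G) ∣ 8 := by
      have := orderOf_dvd_natCard (G := S) ⟨(y : G), hyS⟩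
      rwa [Subgroup.orderOf_mk, hS] at this
    rw [Subgroup.orderOf_coe, hy] at h2
    norm_num at h2
  choose s hs using fun x : S => hσ x
  obtain ⟨w, hw⟩ := hσ (y : G)
  have cg := fun {a a' b b' : Γ} (ha : σ a = σ a') (hb : σ b = σ b') =>
    CfsgLib.Schur.commutatorElement_congr σ hc ha hb
  have hmem : ∀ a b, ⁅s a, s b⁆ ∈ σ.ker := fun a b => by
    rw [MonoidHom.mem_ker, map_commutatorElement, hs, hs, commutatorElement_eq_one_iff_mul_comm,
      ← Subgroup.coe_mul, ← Subgroup.coe_mul, mul_comm]
  have hadd : ∀ a b, σ (s (a * b)) = σ (s a * s b) := fun a b => by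
    rw [map_mul, hs, hs, hs, Subgroup.coe_mul]
  have hf := form_eight_eq_one (by rw [← Nat.card_eq_fintype_card, hS])
    (fun x => Subtype.ext (hsq x x.2)) g hg (fun a b => (⟨_, hmem a b⟩ : σ.ker))
    (fun a a' b => Subtype.ext (by
      refine (cg (hadd a a') rfl).trans ?_; rw [comm_mul_left (Subgroup.mem_center_iff.mp (hc (hmem a' b)) _)]
      exact Subgroup.mem_center_iff.mp (hc (hmem a b)) _))
    (fun a b b' => Subtype.ext (by
      refine (cg rfl (hadd b b')).trans ?_; rw [comm_mul_right (Subgroup.mem_center_iff.mp (hc (hmem a b')) _)]; rfl))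
    (fun a => Subtype.ext (commutatorElement_self _))
    (fun a b => Subtype.ext (by
      show ⁅s (g a), s (g b)⁆ = ⁅s a, s b⁆
      rw [cg (a' := w * s a * w⁻¹) (b' := w * s b * w⁻¹)
        (by rw [map_mul, map_mul, map_inv, hw, hs, hs, hgval])
        (by rw [map_mul, map_mul, map_inv, hw, hs, hs, hgval]),
        show ⁅w * s a * w⁻¹, w * s b * w⁻¹⁆ = w * ⁅s a, s b⁆ * w⁻¹ by
          simp only [commutatorElement_def]; group,
        Subgroup.mem_center_iff.mp (hc (hmem a b)) w, mul_inv_cancel_right]))
  rw [eq_bot_iff, Subgroup.commutator_le]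
  intro x hx y' hy'
  rw [Subgroup.mem_bot, cg (a' := s ⟨σ x, hx⟩) (b' := s ⟨σ y', hy'⟩) (by rw [hs]) (by rw [hs])]
  exact congrArg Subtype.val (hf _ _)


end CfsgLib.Schur
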