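import Cfsg.Agent.Lib.Schur.InvolutionLift

/-!
A two-step criterion against stem double covers: a table of a subgroup and a table of the action on
its cosets, both closed by relators that hold in every choice of lifts.
-/

set_option autoImplicit false
set_option linter.style.haveILetI false

namespace CfsgLib.Schur.InvTable

namespace Tab

variable (T : Tab)

/-- the loops at the root given by the generators of the subgroup -/
def rootKnown : ℕ → ℕ → ℕ
  | 0, K => K
  | m + 1, K => T.learn (rootKnown m K) m 0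

/-- every edge becomes known, starting from the loops at the root -/
def okR (m : ℕ) : Bool :=
  decide (0 < T.N) && decide (T.k ≤ 8) && decide (m ≤ T.k) && decide (T.tree.length + 1 = T.N) &&
  (List.range m).all (fun j => T.tab j 0 == 0) &&
  match T.treeKnown T.tree 1 (T.rootKnown m 0) with
  | none => false
  | some K =>
    match T.run T.cert K with
    | none => false
    | some K' => (List.range T.k).all fun j => (List.range T.N).all fun i =>
        knows K' j i && decide (T.tab j i < T.N)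

variable {E : Type*} [Group E] (g : ℕ → E) (W : Subgroup E)

/-- the known edges are true on cosets -/
def GoodR (K : ℕ) : Prop :=
  ∀ j i, j < 8 → K.testBit (8 * i + j) = true → (T.phi g (T.tab j i))⁻¹ * g j * T.phi g i ∈ W

variable {T g W}

theorem goodR_learn {K j i : ℕ} (hK : T.GoodR g W K) (hj : j < 8) (hsq : g j * g j = 1)
    (hback : T.tab j (T.tab j i) = i) (he : (T.phi g (T.tab j i))⁻¹ * g j * T.phi g i ∈ W) :
    T.GoodR g W (T.learn K j i) := by
  intro j' i' hj' hb
  rw [learn, Nat.testBit_or, Nat.testBit_or, Nat.testBit_two_pow, Nat.testBit_two_pow,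
    Bool.or_eq_true, Bool.or_eq_true, decide_eq_true_eq, decide_eq_true_eq] at hb
  rcases hb with (hb | hb) | hb
  · exact hK j' i' hj' hb
  · obtain ⟨rfl, rfl⟩ : j = j' ∧ i = i' := by omega
    exact he
  · obtain ⟨rfl, rfl⟩ : j = j' ∧ T.tab j i = i' := by omega
    have h := W.inv_mem he
    rw [mul_inv_rev, mul_inv_rev, inv_inv, inv_eq_of_mul_eq_one_right hsq, ← mul_assoc] at h
    rwa [hback]

theorem walkR {K : ℕ} (hK : T.GoodR g W K) : ∀ (w : List ℕ) (x y : ℕ), T.walk K w x = some y →
    (T.phi g y)⁻¹ * (w.map g).prod * T.phi g x ∈ W := by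
  intro w
  induction w with
  | nil =>
    intro x y h
    rw [walk, Option.some.injEq] at h
    simp [h]
  | cons j w ih =>
    intro x y h
    rw [walk] at h
    rcases hw : T.walk K w x with _ | z
    · rw [hw] at h; simp at h
    · rw [hw] at h
      simp only [knows, Bool.and_eq_true, decide_eq_true_eq] at h
      split_ifs at h with hk
      · rw [Option.some.injEq] at h
        have := W.mul_mem (hK j z hk.1 hk.2) (ih x z hw)
        rw [h] at this
        simpa [List.map_cons, List.prod_cons, mul_assoc] using this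

theorem goodR_root {m : ℕ} (hm : m ≤ T.k) (hk : T.k ≤ 8) (hsq : ∀ j, j < T.k → g j * g j = 1)
    (h0 : ∀ j, j < m → T.tab j 0 = 0) (hW : ∀ j, j < m → g j ∈ W) : T.GoodR g W (T.rootKnown m 0) := by
  induction m with
  | zero => intro j i _ hb; simp [rootKnown] at hb
  | succ m ih =>
    refine goodR_learn (ih (by omega) (fun j hj => h0 j (by omega)) fun j hj => hW j (by omega))
      (by omega) (hsq m (by omega)) (by rw [h0 m (by omega), h0 m (by omega)]) ?_
    rw [h0 m (by omega), phi_zero, inv_one, one_mul, mul_one]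
    exact hW m (by omega)

theorem goodR_treeKnown (hsq : ∀ j, j < T.k → g j * g j = 1) :
    ∀ (l : List (ℕ × ℕ)) (t K K' : ℕ), 0 < t →
      (∀ s, s < l.length → T.tree.getD (t - 1 + s) (0, 0) = l.getD s (0, 0)) →
      T.GoodR g W K → T.treeKnown l t K = some K' → T.GoodR g W K' := by
  intro l
  induction l with
  | nil => intro t K K' _ _ hK h; rw [treeKnown, Option.some.injEq] at h; exact h ▸ hK
  | cons p l ih =>
    obtain ⟨j, i⟩ := p
    intro t K K' ht hl hK h
    rw [treeKnown] at h
    split_ifs at h with hc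
    · simp only [Bool.and_eq_true, decide_eq_true_eq, beq_iff_eq] at hc
      obtain ⟨⟨⟨⟨hjk, hj8⟩, hit⟩, he⟩, hb⟩ := hc
      refine ih (t + 1) _ K' (by omega) (fun s hs => ?_) ?_ h
      · have := hl (s + 1) (by simpa using hs)
        rw [List.getD_cons_succ] at this
        rwa [show t + 1 - 1 + s = t - 1 + (s + 1) by omega]
      · refine goodR_learn hK hj8 (hsq j hjk) (by rw [he, hb]) ?_
        have h0 := hl 0 (by simp)
        rw [List.getD_cons_zero, add_zero] at h0
        have e : T.phi g t = g j * T.phi g i := by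
          conv_lhs => rw [phi]
          rw [h0, if_pos ⟨ht, hit⟩]
        rw [he, e]
        simp

theorem goodR_step (hsq : ∀ j, j < T.k → g j * g j = 1) (hw : ∀ w ∈ T.words, (w.map g).prod = 1)
    {K K' : ℕ} {c : ℕ × ℕ × ℕ} (hK : T.GoodR g W K) (h : T.step K c = some K') :
    T.GoodR g W K' := by
  unfold step at h
  simp only at h
  set w := T.words.getD c.1 [] with hwdef
  rcases hx : T.walk K (w.drop (c.2.2 + 1)) c.2.1 with _ | x
  · rw [hx] at h; simp at h
  · rw [hx] at h
    simp only at h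
    split_ifs at h with hc
    · simp only [Bool.and_eq_true, decide_eq_true_eq, beq_iff_eq] at hc
      obtain ⟨⟨⟨⟨⟨hp, hlen⟩, hjk⟩, hj8⟩, hback⟩, hA⟩ := hc
      rw [Option.some.injEq] at h
      rw [← h]
      refine goodR_learn hK hj8 (hsq _ hjk) hback ?_
      have e1 := walkR hK _ _ _ hx
      have e2 := walkR hK _ _ _ hA
      have hmem : w ∈ T.words := by
        rw [hwdef, List.getD_eq_getElem?_getD, List.getElem?_eq_getElem hlen]
        exact List.getElem_mem hlen
      have h1 := hw w hmem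
      have hsplit : w = w.take c.2.2 ++ w.getD c.2.2 0 :: w.drop (c.2.2 + 1) := by
        rw [List.getD_eq_getElem?_getD, List.getElem?_eq_getElem hp, Option.getD_some,
          ← List.drop_eq_getElem_cons hp, List.take_append_drop]
      rw [hsplit, List.map_append, List.prod_append, List.map_cons, List.prod_cons] at h1
      set A := ((w.take c.2.2).map g).prod
      set B := ((w.drop (c.2.2 + 1)).map g).prod
      have hB : B = (A * g (w.getD c.2.2 0))⁻¹ :=
        eq_inv_of_mul_eq_one_right (by rw [mul_assoc]; exact h1)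
      rw [hB] at e1
      have h2 := W.mul_mem (W.inv_mem e2) (W.inv_mem e1)
      convert h2 using 1
      group

theorem goodR_run (hsq : ∀ j, j < T.k → g j * g j = 1) (hw : ∀ w ∈ T.words, (w.map g).prod = 1) :
    ∀ (cs : List (ℕ × ℕ × ℕ)) (K K' : ℕ), T.GoodR g W K → T.run cs K = some K' → T.GoodR g W K' := by
  intro cs
  induction cs with
  | nil => intro K K' hK h; rw [run, Option.some.injEq] at h; exact h ▸ hK
  | cons c cs ih =>
    intro K K' hK h
    rw [run] at h
    rcases hs : T.step K c with _ | K1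
    · rw [hs] at h; simp at h
    · rw [hs] at h; exact ih K1 K' (goodR_step hsq hw hK hs) h

variable {m : ℕ}

theorem mul_phiR (hok : T.okR m = true) (hsq : ∀ j, j < T.k → g j * g j = 1)
    (hw : ∀ w ∈ T.words, (w.map g).prod = 1) (hW : ∀ j, j < m → g j ∈ W) {j i : ℕ} (hj : j < T.k)
    (hi : i < T.N) :
    (T.phi g (T.tab j i))⁻¹ * g j * T.phi g i ∈ W ∧ T.tab j i < T.N := by
  simp only [okR, Bool.and_eq_true, decide_eq_true_eq] at hok
  obtain ⟨⟨⟨⟨⟨-, hk8⟩, hm⟩, -⟩, h0⟩, hok⟩ := hok
  simp only [List.all_eq_true, List.mem_range, beq_iff_eq] at h0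
  rcases hT : T.treeKnown T.tree 1 (T.rootKnown m 0) with _ | K
  · rw [hT] at hok; simp at hok
  · rw [hT] at hok
    simp only at hok
    rcases hR : T.run T.cert K with _ | K'
    · rw [hR] at hok; simp at hok
    · rw [hR] at hok
      simp only [List.all_eq_true, List.mem_range, Bool.and_eq_true, decide_eq_true_eq, knows] at hok
      obtain ⟨⟨hj8, hb⟩, hlt⟩ := hok j hj i hi
      have hgK := goodR_treeKnown hsq T.tree 1 _ K one_pos
        (fun s _ => by rw [show 1 - 1 + s = s by omega]) (goodR_root hm hk8 hsq h0 hW) hT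
      exact ⟨goodR_run hsq hw _ K K' hgK hR j i hj8 hb, hlt⟩

/-- The generated group is covered by the cosets of the points. -/
theorem exists_mem_coset (hok : T.okR m = true) (hsq : ∀ j, j < T.k → g j * g j = 1)
    (hw : ∀ w ∈ T.words, (w.map g).prod = 1) (hW : ∀ j, j < m → g j ∈ W) {x : E}
    (hx : x ∈ Subgroup.closure {e | ∃ j, j < T.k ∧ e = g j}) :
    ∃ i, i < T.N ∧ (T.phi g i)⁻¹ * x ∈ W := by
  have hN : 0 < T.N := by
    simp only [okR, Bool.and_eq_true, decide_eq_true_eq] at hok
    exact hok.1.1.1.1.1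
  induction hx using Subgroup.closure_induction_left with
  | one => exact ⟨0, hN, by simp [phi_zero]⟩
  | mul_left a ha y _ ih =>
    obtain ⟨j, hj, rfl⟩ := ha
    obtain ⟨i, hi, hy⟩ := ih
    obtain ⟨e, hlt⟩ := mul_phiR hok hsq hw hW hj hi
    refine ⟨_, hlt, ?_⟩
    have := W.mul_mem e hy
    simpa [mul_assoc] using this
  | inv_mul_cancel a ha y _ ih =>
    obtain ⟨j, hj, rfl⟩ := ha
    obtain ⟨i, hi, hy⟩ := ih
    obtain ⟨e, hlt⟩ := mul_phiR hok hsq hw hW hj hi
    refine ⟨_, hlt, ?_⟩
    rw [inv_eq_of_mul_eq_one_right (hsq j hj)]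
    have := W.mul_mem e hy
    simpa [mul_assoc] using this

theorem tree_lt : ∀ (l : List (ℕ × ℕ)) (t K : ℕ), T.treeKnown l t K ≠ none → ∀ p ∈ l, p.1 < T.k := by
  intro l
  induction l with
  | nil => simp
  | cons p l ih =>
    obtain ⟨a, b⟩ := p
    intro t K h q hq
    rw [treeKnown] at h
    split_ifs at h with hc
    · simp only [Bool.and_eq_true, decide_eq_true_eq] at hc
      rcases List.mem_cons.1 hq with rfl | hq
      · exact hc.1.1.1.1
      · exact ih _ _ h q hq
    · exact absurd rfl h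

theorem phi_mem {U : Subgroup E} {K : ℕ} (hlen : T.tree.length + 1 = T.N)
    (hT : T.treeKnown T.tree 1 K ≠ none) (hU : ∀ j, j < T.k → g j ∈ U) :
    ∀ i, i < T.N → T.phi g i ∈ U := by
  intro i
  induction i using Nat.strong_induction_on with
  | _ i ih =>
    intro hi
    rw [phi]
    split_ifs with h
    · refine mul_mem (hU _ (tree_lt _ _ _ hT _ ?_)) (ih _ h.2 (h.2.trans hi))
      rw [List.getD_eq_getElem?_getD, List.getElem?_eq_getElem (by omega)]
      exact List.getElem_mem _
    · exact one_mem U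

end Tab

end CfsgLib.Schur.InvTable

namespace CfsgLib.Schur.InvolLift

open scoped commutatorElement
open CfsgLib.Schur.InvTable

universe u

/-- Two certified tables split the preimage of a subgroup of odd index. -/
theorem no_double_of_cosets {G E : Type u} [Group G] [Group E] [Finite E] [Finite G] {τ : E →* G}
    (hτ : Cfsg.IsStemExtension τ) (h2 : Nat.card τ.ker = 2) (P T : Tab) (g : ℕ → G)
    (hP : P.ok = true) (hT : T.okR P.k = true) (hsq : ∀ j, j < T.k → g j * g j = 1)
    (hwG : ∀ w ∈ P.words ++ T.words, (w.map g).prod = 1)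
    (hlift : ∀ L : ℕ → E, (∀ j, τ (L j) = g j) →
      (∀ j, j < T.k → L j * L j = 1) ∧ ∀ w ∈ P.words ++ T.words, (w.map L).prod = 1)
    (hinjP : ∀ l l', l < P.N → l' < P.N → P.phi g l = P.phi g l' → l = l')
    (hinjT : ∀ i i' l, i < T.N → i' < T.N → l < P.N → T.phi g i = T.phi g i' * P.phi g l → i = i')
    (hodd : ∀ m, T.N * P.N * m = Nat.card G → ¬ 2 ∣ m) : False := by
  have D := double_of_card_two hτ h2
  choose L hL using fun j => D.surj (g j)
  obtain ⟨hsqE, hwE⟩ := hlift L hL
  have hR := hT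
  simp only [Tab.okR, Bool.and_eq_true, decide_eq_true_eq] at hR
  obtain ⟨⟨⟨⟨⟨hTN, -⟩, hPk⟩, hTlen⟩, -⟩, hTrest⟩ := hR
  have hTtree : T.treeKnown T.tree 1 (T.rootKnown P.k 0) ≠ none := fun e => by
    rw [e] at hTrest; simp at hTrest
  have hO := hP
  simp only [Tab.ok, Bool.and_eq_true, decide_eq_true_eq] at hO
  obtain ⟨⟨⟨hPN, -⟩, hPlen⟩, hPrest⟩ := hO
  have hPtree : P.treeKnown P.tree 1 0 ≠ none := fun e => by rw [e] at hPrest; simp at hPrest
  have hwPG : ∀ w ∈ P.words, (w.map g).prod = 1 := fun w hw => hwG w (List.mem_append_left _ hw)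
  have hwTG : ∀ w ∈ T.words, (w.map g).prod = 1 := fun w hw => hwG w (List.mem_append_right _ hw)
  have hwPE : ∀ w ∈ P.words, (w.map L).prod = 1 := fun w hw => hwE w (List.mem_append_left _ hw)
  have hwTE : ∀ w ∈ T.words, (w.map L).prod = 1 := fun w hw => hwE w (List.mem_append_right _ hw)
  set UP : Subgroup G := Subgroup.closure {e | ∃ j, j < P.k ∧ e = g j} with hUP
  set WP : Subgroup E := Subgroup.closure {e | ∃ j, j < P.k ∧ e = L j} with hWP
  set U : Subgroup G := Subgroup.closure {e | ∃ j, j < T.k ∧ e = g j} with hU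
  set W : Subgroup E := Subgroup.closure {e | ∃ j, j < T.k ∧ e = L j} with hW
  have hfun : (fun j => τ (L j)) = g := funext hL
  have hphiP : ∀ t, τ (P.phi L t) = P.phi g t := fun t => by rw [map_phi, hfun]
  have hphiT : ∀ t, τ (T.phi L t) = T.phi g t := fun t => by rw [map_phi, hfun]
  have hinter : ∀ z ∈ W, τ z = 1 → z = 1 := fun z hz h1 => by
    obtain ⟨i, hi, hzi⟩ := Tab.exists_mem_coset (W := WP) hT hsqE hwTE
      (fun j hj => Subgroup.subset_closure ⟨j, hj, rfl⟩) hz
    obtain ⟨l, hl, hzl⟩ := Tab.exists_eq_phi hP (fun j hj => hsqE j (by omega)) hwPE hzi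
    have hz' : z = T.phi L i * P.phi L l := by rw [← hzl, mul_inv_cancel_left]
    have h2' : T.phi g i * P.phi g l = 1 := by rw [← hphiT, ← hphiP, ← map_mul, ← hz', h1]
    have hi0 : i = 0 := (hinjT 0 i l hTN hi hl (by rw [Tab.phi_zero, h2'])).symm
    subst hi0
    rw [Tab.phi_zero, one_mul] at h2'
    rw [hinjP l 0 hl hPN (by rw [h2', Tab.phi_zero]), Tab.phi_zero, Tab.phi_zero, one_mul] at hz'
    exact hz'
  have hmap : W.map τ = U := by
    rw [hW, hU, MonoidHom.map_closure]
    congr 1
    ext e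
    constructor
    · rintro ⟨_, ⟨j, hj, rfl⟩, rfl⟩; exact ⟨j, hj, hL j⟩
    · rintro ⟨j, hj, rfl⟩; exact ⟨_, ⟨j, hj, rfl⟩, hL j⟩
  have hsqP : ∀ j, j < P.k → g j * g j = 1 := fun j hj => hsq j (by omega)
  have hgU : ∀ j, j < T.k → g j ∈ U := fun j hj => Subgroup.subset_closure ⟨j, hj, rfl⟩
  have hPU : ∀ l, l < P.N → P.phi g l ∈ U :=
    Tab.phi_mem hPlen hPtree fun j hj => hgU j (by omega)
  have hTU : ∀ i, i < T.N → T.phi g i ∈ U := Tab.phi_mem hTlen hTtree hgU
  have hcardU : Nat.card U = T.N * P.N := by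
    have hbij : Function.Bijective fun q : Fin T.N × Fin P.N =>
        (⟨T.phi g q.1 * P.phi g q.2, mul_mem (hTU _ q.1.2) (hPU _ q.2.2)⟩ : U) := by
      constructor
      · rintro ⟨i, l⟩ ⟨i', l'⟩ h
        have h' : T.phi g i * P.phi g l = T.phi g i' * P.phi g l' := congrArg Subtype.val h
        have hmemP : ∀ r, r < P.N → P.phi g r ∈ UP :=
          Tab.phi_mem hPlen hPtree fun j hj => Subgroup.subset_closure ⟨j, hj, rfl⟩
        obtain ⟨r, hr, he⟩ := Tab.exists_eq_phi hP hsqP hwPG
          (UP.mul_mem (hmemP _ l'.2) (UP.inv_mem (hmemP _ l.2)))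
        have hi : (i : ℕ) = i' := hinjT _ _ r i.2 i'.2 hr (by
          rw [← he, ← mul_assoc, ← h', mul_inv_cancel_right])
        rw [hi] at h'
        exact Prod.ext (Fin.ext hi) (Fin.ext (hinjP _ _ l.2 l'.2 (mul_left_cancel h')))
      · rintro ⟨x, hx⟩
        obtain ⟨i, hi, hxi⟩ := Tab.exists_mem_coset (W := UP) hT hsq hwTG
          (fun j hj => Subgroup.subset_closure ⟨j, hj, rfl⟩) hx
        obtain ⟨l, hl, hxl⟩ := Tab.exists_eq_phi hP hsqP hwPG hxi
        refine ⟨(⟨i, hi⟩, ⟨l, hl⟩), Subtype.ext ?_⟩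
        show T.phi g i * P.phi g l = x
        rw [← hxl, mul_inv_cancel_left]
    rw [← Nat.card_congr (Equiv.ofBijective _ hbij), Nat.card_prod, Nat.card_fin, Nat.card_fin]
  have hindex : ¬ 2 ∣ U.index := hodd _ (by rw [← hcardU, Subgroup.card_mul_index])
  obtain ⟨⟨z, hzk⟩, hz⟩ := exists_prime_orderOf_dvd_card' (p := 2) (G := τ.ker) (by rw [h2])
  rw [Subgroup.orderOf_mk] at hz
  have hmem := mem_commutator_preimage (a := 1) hτ.1 Nat.prime_two hzk (hτ.2.1 hzk) (hτ.2.2 hzk)
    (by rw [pow_one, ← hz, pow_orderOf_eq_one]) U hindex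
  have hle : ⁅U.comap τ, U.comap τ⁆ ≤ W := by
    rw [Subgroup.commutator_le]
    intro x hx y hy
    rw [Subgroup.mem_comap, ← hmap] at hx hy
    obtain ⟨a, ha, hax⟩ := hx
    obtain ⟨b, hb, hby⟩ := hy
    rw [commutatorElement_congr τ hτ.2.1 hax.symm hby.symm, commutatorElement_def]
    exact mul_mem (mul_mem (mul_mem ha hb) (inv_mem ha)) (inv_mem hb)
  rw [hinter z (hle hmem) (MonoidHom.mem_ker.mp hzk), orderOf_one] at hz
  exact absurd hz (by norm_num)

end CfsgLib.Schur.InvolLift
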