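import Cfsg.Agent.Lib.Schur.OddSplit
import Cfsg.Agent.Lib.Schur.CyclicBound

/-!
Towers of abelian pieces with inverting involutions: a subgroup of a stem extension meeting the
kernel trivially above a Sylow subgroup, for an odd prime.
-/

set_option autoImplicit false
set_option linter.style.haveILetI false

open scoped commutatorElement

namespace CfsgLib.Schur.OddTower

universe u

variable {G E : Type u} [Group G] [Group E] {τ : E →* G} {ℓ : ℕ}

/-- a subgroup above `U` meeting the kernel trivially, `U` being an `ℓ`-group -/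
structure Sec (τ : E →* G) (ℓ : ℕ) (U : Subgroup G) (K : Subgroup E) : Prop where
  disj : ∀ z ∈ K, τ z = 1 → z = 1
  map_eq : K.map τ = U
  card_pow : ∃ n, Nat.card U = ℓ ^ n

/-- a power of two is prime to the order of the kernel -/
theorem eq_one_of_mul_self {H : Type*} [Group H] (hℓ : ℓ.Prime) (h2 : ℓ ≠ 2) {z : H}
    (hz : z ^ ℓ = 1) (h : z * z = 1) : z = 1 := by
  obtain ⟨n, hn⟩ := hℓ.odd_of_ne_two h2
  rwa [hn, pow_succ, pow_mul, sq, h, one_pow, one_mul] at hz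

section

variable [Finite G] [Finite E] (hℓ : ℓ.Prime) (h2 : ℓ ≠ 2) (hτ : Cfsg.IsStemExtension τ)
  (hk : Nat.card τ.ker = ℓ)

include hk in
theorem ker_pow {z : E} (hz : z ∈ τ.ker) : z ^ ℓ = 1 := by
  have := pow_card_eq_one' (G := τ.ker) (x := ⟨z, hz⟩)
  rw [hk] at this
  exact congrArg Subtype.val this

include hℓ h2 hτ hk

/-- An abelian piece inverted by an element, with elements fixing and inverting each pair of generators. -/
theorem sec_abelian {ι : Type*} (a : ι → G) (t : G) (hta : ∀ i, t * a i * t⁻¹ = (a i)⁻¹)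
    (haℓ : ∀ i, a i ^ ℓ = 1) (haa : ∀ i i', a i * a i' = a i' * a i)
    (hpa : ∀ i i', i ≠ i' → FixInvert (a i) (a i') ∨ FixInvert (a i') (a i)) :
    ∃ K, Sec τ ℓ (Subgroup.closure (Set.range a)) K ∧
      ∃ T, τ T = t ∧ ∀ x ∈ K, T * x * T⁻¹ = x⁻¹ := by
  haveI := Fact.mk hℓ
  have kc : ∀ {z : E}, z ∈ τ.ker → ∀ x, x * z = z * x := fun hz x =>
    Subgroup.mem_center_iff.mp (hτ.2.1 hz) x
  have ksq : ∀ {z : E}, z ∈ τ.ker → z * z = 1 → z = 1 := fun hz h =>
    eq_one_of_mul_self hℓ h2 (ker_pow hk hz) h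
  obtain ⟨T, hT⟩ := hτ.1 t
  have canon : ∀ i, ∃ X, τ X = a i ∧ T * X * T⁻¹ = X⁻¹ := by
    intro i
    obtain ⟨X, hX⟩ := hτ.1 (a i)
    set c := T * X * T⁻¹ * X with hcdef
    have hc : c ∈ τ.ker := by
      rw [MonoidHom.mem_ker, map_mul, map_mul, map_mul, map_inv, hT, hX, hta, inv_mul_cancel]
    obtain ⟨n, hn⟩ := hℓ.odd_of_ne_two h2
    set w := c ^ (n + 1) with hwdef
    have hw : w ∈ τ.ker := pow_mem hc _
    have hww : w * w = c := by
      rw [hwdef, ← pow_add, show n + 1 + (n + 1) = ℓ + 1 by omega, pow_succ, ker_pow hk hc, one_mul]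
    refine ⟨X * w⁻¹, by rw [map_mul, map_inv, hX, MonoidHom.mem_ker.mp hw, inv_one, mul_one], ?_⟩
    have hwi := kc (inv_mem hw)
    rw [show T * (X * w⁻¹) * T⁻¹ = T * X * (w⁻¹ * T⁻¹) by group, ← hwi T⁻¹, mul_inv_rev, inv_inv,
      show T * X * (T⁻¹ * w⁻¹) = c * (X⁻¹ * w⁻¹) by rw [hcdef]; group, ← hww, hwi X⁻¹]
    group
  choose A hAτ hAT using canon
  have comm0 : ∀ i j, FixInvert (a i) (a j) → A i * A j = A j * A i := by
    intro i j ⟨g, hg1, hg2⟩
    obtain ⟨K, hK⟩ := hτ.1 g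
    set c := ⁅A i, A j⁆ with hc
    have hck : c ∈ τ.ker := by
      rw [MonoidHom.mem_ker, map_commutatorElement, hAτ, hAτ, commutatorElement_eq_one_iff_mul_comm, haa]
    have e1 : K * c * K⁻¹ = ⁅A i, (A j)⁻¹⁆ := by
      rw [show K * c * K⁻¹ = ⁅K * A i * K⁻¹, K * A j * K⁻¹⁆ by
        rw [hc]; simp only [commutatorElement_def]; group]
      exact commutatorElement_congr τ hτ.2.1
        (by rw [map_mul, map_mul, map_inv, hK, hAτ, hg1])
        (by rw [map_mul, map_mul, map_inv, map_inv, hK, hAτ, hg2])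
    have e2 : ⁅A i, (A j)⁻¹⁆ = (A j)⁻¹ * c⁻¹ * A j := by
      rw [hc]; simp only [commutatorElement_def]; group
    rw [e2, kc hck K, mul_inv_cancel_right, kc (inv_mem hck) (A j)⁻¹, inv_mul_cancel_right] at e1
    have : c = 1 := ksq hck (by nth_rw 2 [e1]; exact mul_inv_cancel c)
    exact commutatorElement_eq_one_iff_mul_comm.mp this
  have hAA : ∀ i i', A i * A i' = A i' * A i := fun i i' => by
    rcases eq_or_ne i i' with rfl | hne
    · rfl
    rcases hpa i i' hne with h | h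
    · exact comm0 i i' h
    · exact (comm0 i' i h).symm
  have hinv := inverted_closure A T hAA hAT
  have hmap : (Subgroup.closure (Set.range A)).map τ = Subgroup.closure (Set.range a) := by
    rw [MonoidHom.map_closure, ← Set.range_comp]
    congr 2
    exact funext hAτ
  refine ⟨_, ⟨fun z hz h1 => ksq h1 ?_, hmap, ?_⟩, T, hT, hinv⟩
  · have h := hinv z hz
    rw [kc h1 T, mul_inv_cancel_right] at h
    nth_rw 2 [h]
    exact mul_inv_cancel z
  · have hab := Subgroup.isMulCommutative_closure (k := Set.range a) (by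
      rintro _ ⟨m, rfl⟩ _ ⟨m', rfl⟩; exact haa m m')
    refine (IsPGroup.iff_card).1 fun ⟨x, hx⟩ => ⟨1, Subtype.ext ?_⟩
    show x ^ ℓ ^ 1 = 1
    rw [pow_one]
    induction hx using Subgroup.closure_induction with
    | mem x hx => obtain ⟨i, rfl⟩ := hx; exact haℓ i
    | one => simp
    | mul u v hu hv ihu ihv =>
      have hc : Commute u v := congrArg Subtype.val (hab.is_comm.comm ⟨u, hu⟩ ⟨v, hv⟩)
      rw [hc.mul_pow, ihu, ihv, one_mul]
    | inv u _ ihu => rw [inv_pow, ihu, inv_one]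

/-- A piece inverted by an element is extended by a piece centralised by it and normalising it. -/
theorem sec_extend {UA UB : Subgroup G} {SA SB : Subgroup E} {t : G} {T : E}
    (hA : Sec τ ℓ UA SA) (hB : Sec τ ℓ UB SB) (hT : τ T = t)
    (hinv : ∀ x ∈ SA, T * x * T⁻¹ = x⁻¹) (hcomm : ∀ x ∈ UB, t * x = x * t)
    (hnorm : ∀ x ∈ UB, ∀ y ∈ UA, x * y * x⁻¹ ∈ UA) :
    (∃ K, Sec τ ℓ (UB ⊔ UA) K) ∧
      Nat.card (UB ⊔ UA : Subgroup G) = Nat.card UB * Nat.card UA := by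
  have kc : ∀ {z : E}, z ∈ τ.ker → ∀ x, x * z = z * x := fun hz x =>
    Subgroup.mem_center_iff.mp (hτ.2.1 hz) x
  have ksq : ∀ {z : E}, z ∈ τ.ker → z * z = 1 → z = 1 := fun hz h =>
    eq_one_of_mul_self hℓ h2 (ker_pow hk hz) h
  have hconj : ∀ v ∈ SB, ∀ x ∈ SA, v * x * v⁻¹ ∈ SA := by
    intro v hv x hx
    have hvU : τ v ∈ UB := hB.map_eq.le ⟨v, hv, rfl⟩
    have hxU : τ x ∈ UA := hA.map_eq.le ⟨x, hx, rfl⟩
    obtain ⟨w, hw, hwe⟩ := hA.map_eq.ge (hnorm _ hvU _ hxU)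
    set y := v * x * v⁻¹ with hy
    have hc : ⁅T, v⁆ ∈ τ.ker := by
      rw [MonoidHom.mem_ker, map_commutatorElement, hT, commutatorElement_eq_one_iff_mul_comm]
      exact hcomm _ hvU
    have hTy : T * y * T⁻¹ = y⁻¹ := by
      have e : T * v = ⁅T, v⁆ * (v * T) := by simp only [commutatorElement_def]; group
      rw [hy, show T * (v * x * v⁻¹) * T⁻¹ = T * v * x * (T * v)⁻¹ by group, e,
        show ⁅T, v⁆ * (v * T) * x * (⁅T, v⁆ * (v * T))⁻¹ =
          ⁅T, v⁆ * (v * (T * x * T⁻¹) * v⁻¹) * ⁅T, v⁆⁻¹ by group, hinv x hx,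
        ← kc hc, mul_inv_cancel_right]
      group
    have hd : w⁻¹ * y ∈ τ.ker := by
      rw [MonoidHom.mem_ker, map_mul, map_inv, hwe, hy, map_mul, map_mul, map_inv, inv_mul_cancel]
    have hkk : (w⁻¹ * y) * (w⁻¹ * y) = 1 := by
      set z := w⁻¹ * y with hz
      have hyz : y = w * z := by rw [hz, mul_inv_cancel_left]
      have h1 := hTy
      rw [hyz, show T * (w * z) * T⁻¹ = T * w * (z * T⁻¹) by group, ← kc hd T⁻¹,
        show T * w * (T⁻¹ * z) = T * w * T⁻¹ * z by group, hinv w hw, mul_inv_rev,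
        kc (inv_mem hd) w⁻¹ |>.symm, mul_right_inj] at h1
      nth_rw 2 [h1]
      exact mul_inv_cancel z
    rwa [← mul_inv_cancel_left w y, ksq hd hkk, mul_one]
  have hBnorm : SB ≤ Subgroup.normalizer (SA : Set E) := fun v hv =>
    Subgroup.mem_normalizer_fintype (hconj v hv)
  have hmap : (SB ⊔ SA).map τ = UB ⊔ UA := by rw [Subgroup.map_sup, hA.map_eq, hB.map_eq]
  have hdisjU : ∀ x ∈ UA, x ∈ UB → x = 1 := by
    intro x hx hx'
    obtain ⟨u, hu, rfl⟩ := hA.map_eq.ge hx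
    obtain ⟨n, hn⟩ := hA.card_pow
    have h1 : τ u * τ u = 1 := by
      have h := congrArg τ (hinv u hu)
      rw [map_mul, map_mul, map_inv, map_inv, hT, hcomm _ hx', mul_inv_cancel_right] at h
      nth_rw 2 [h]
      exact mul_inv_cancel _
    have h3 : (τ u) ^ ℓ ^ n = 1 := by
      have := pow_card_eq_one' (G := UA) (x := ⟨τ u, hx⟩)
      rw [hn] at this
      exact congrArg Subtype.val this
    obtain ⟨m, hm⟩ := (hℓ.odd_of_ne_two h2).pow (n := n)
    rwa [hm, pow_succ, pow_mul, sq, h1, one_pow, one_mul] at h3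
  have hmem : ∀ x ∈ SB ⊔ SA, ∃ v ∈ SB, ∃ u ∈ SA, x = v * u := fun x hx => by
    rw [← SetLike.mem_coe, Subgroup.coe_mul_of_left_le_normalizer_right SB SA hBnorm] at hx
    obtain ⟨v, hv, u, hu, rfl⟩ := hx
    exact ⟨v, hv, u, hu, rfl⟩
  have hcard : Nat.card (UB ⊔ UA : Subgroup G) = Nat.card UB * Nat.card UA := by
    rw [← Nat.card_prod]
    refine (Nat.card_congr (Equiv.ofBijective (fun p : UB × UA => (⟨p.1 * p.2,
      mul_mem (Subgroup.mem_sup_left p.1.2) (Subgroup.mem_sup_right p.2.2)⟩ : (UB ⊔ UA : Subgroup G)))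
      ⟨?_, ?_⟩)).symm
    · rintro ⟨⟨x, hx⟩, ⟨y, hy⟩⟩ ⟨⟨x', hx'⟩, ⟨y', hy'⟩⟩ he
      have he' : x * y = x' * y' := congrArg Subtype.val he
      have e2 : x'⁻¹ * x = y' * y⁻¹ := by
        rw [eq_mul_inv_iff_mul_eq, mul_assoc, inv_mul_eq_iff_eq_mul, he']
      have := hdisjU _ (mul_mem hy' (inv_mem hy)) (e2 ▸ mul_mem (inv_mem hx') hx)
      rw [mul_inv_eq_one] at this
      subst this
      rw [mul_right_cancel_iff] at he'
      subst he'
      rfl
    · rintro ⟨z, hz⟩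
      obtain ⟨k, hkm, rfl⟩ := hmap.ge hz
      obtain ⟨v, hv, u, hu, rfl⟩ := hmem k hkm
      exact ⟨(⟨τ v, hB.map_eq.le ⟨v, hv, rfl⟩⟩, ⟨τ u, hA.map_eq.le ⟨u, hu, rfl⟩⟩),
        Subtype.ext (map_mul τ v u).symm⟩
  refine ⟨⟨SB ⊔ SA, fun z hz h1 => ?_, hmap, ?_⟩, hcard⟩
  · obtain ⟨v, hv, u, hu, rfl⟩ := hmem z hz
    rw [map_mul] at h1
    have hu1 : τ u = 1 := hdisjU _ (hA.map_eq.le ⟨u, hu, rfl⟩)
      (by rw [eq_inv_of_mul_eq_one_right h1]; exact inv_mem (hB.map_eq.le ⟨v, hv, rfl⟩))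
    rw [hu1, mul_one] at h1
    rw [hA.disj u hu hu1, hB.disj v hv h1, one_mul]
  · obtain ⟨n, hn⟩ := hA.card_pow
    obtain ⟨m, hm⟩ := hB.card_pow
    exact ⟨m + n, by rw [hcard, hn, hm, pow_add]⟩

/-- A section above a Sylow subgroup. -/
theorem no_stem_of_sec {U : Subgroup G} {K : Subgroup E} (h : Sec τ ℓ U K) {m : ℕ}
    (hm : ℓ ^ m ≤ Nat.card U) (hG : ¬ ℓ ^ (m + 1) ∣ Nat.card G) : False := by
  refine no_stem_of_local hℓ hτ hk U (fun hd => ?_) fun z hz hzd _ => ?_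
  · obtain ⟨n, hn⟩ := h.card_pow
    rw [hn] at hm
    have hmn : m ≤ n := (Nat.pow_le_pow_iff_right hℓ.one_lt).mp hm
    apply hG
    rw [← Subgroup.card_mul_index U, hn, pow_succ]
    exact mul_dvd_mul (pow_dvd_pow ℓ hmn) hd
  · have hle : ⁅U.comap τ, U.comap τ⁆ ≤ K := by
      rw [Subgroup.commutator_le]
      intro x hx y hy
      rw [Subgroup.mem_comap, ← h.map_eq] at hx hy
      obtain ⟨p, hp, hpx⟩ := hx
      obtain ⟨q, hq, hqy⟩ := hy
      rw [commutatorElement_congr τ hτ.2.1 hpx.symm hqy.symm, commutatorElement_def]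
      exact mul_mem (mul_mem (mul_mem hp hq) (inv_mem hp)) (inv_mem hq)
    exact h.disj z (hle hzd) (MonoidHom.mem_ker.mp hz)

omit h2 in
/-- Two commuting elements, an element fixing one and squaring the other. -/
theorem no_stem_of_fix_square (x y g : G) (hxy : x * y = y * x)
    (hgx : g * x * g⁻¹ = x) (hgy : g * y * g⁻¹ = y * y)
    (hU : ¬ ℓ ∣ (Subgroup.closure {x, y}).index) : False := by
  obtain ⟨X, rfl⟩ := hτ.1 x
  obtain ⟨Y, rfl⟩ := hτ.1 y
  obtain ⟨K, rfl⟩ := hτ.1 g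
  refine no_stem_of_local hℓ hτ hk _ hU fun z hz hzd _ => ?_
  have hc : ⁅X, Y⁆ ∈ τ.ker := by
    rw [MonoidHom.mem_ker, map_commutatorElement, commutatorElement_eq_one_iff_mul_comm, hxy]
  have kc := fun u => Subgroup.mem_center_iff.mp (hτ.2.1 hc) u
  have e : K * ⁅X, Y⁆ * K⁻¹ = ⁅X, Y⁆ * ⁅X, Y⁆ := by
    rw [show K * ⁅X, Y⁆ * K⁻¹ = ⁅K * X * K⁻¹, K * Y * K⁻¹⁆ by
      simp only [commutatorElement_def]; group]
    rw [commutatorElement_congr τ hτ.2.1 (a' := X) (b' := Y * Y)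
      (by rw [map_mul, map_mul, map_inv, hgx]) (by rw [map_mul, map_mul, map_inv, hgy, map_mul])]
    rw [show ⁅X, Y * Y⁆ = ⁅X, Y⁆ * (Y * ⁅X, Y⁆ * Y⁻¹) by simp only [commutatorElement_def]; group,
      kc Y, mul_inv_cancel_right]
  rw [kc K, mul_inv_cancel_right] at e
  have h1 : ⁅X, Y⁆ = 1 := mul_eq_left.mp e.symm
  have := CyclicBound.preimage_pair_commutator hτ.2.1 (A := X) (B := Y) hxy hzd
  rwa [h1, Subgroup.zpowers_one_eq_bot, Subgroup.mem_bot] at this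

end

end CfsgLib.Schur.OddTower
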