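import Cfsg.Agent.Lib.Schur.OmegaPlusTwoCover
import Cfsg.Agent.Lib.Schur.OmegaMinusTwo

/-!
# The multiplier of `Ω₈⁺(2)`

After factoring out the commutator of two commuting reflection pairs and the defect of the triangle
relation a perfect central extension is trivial, so the kernel has order at most four.
-/

set_option autoImplicit false
set_option linter.unusedSectionVars false

namespace CfsgLib.Schur.OmegaPlusTwo

open CfsgLib.Orth CfsgLib.Schur.OmegaGraph CfsgLib.Schur.CoverLocal CfsgLib.Schur.OmegaMinusTwo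
open scoped commutatorElement

/-! ### Quotients of central extensions -/

section Quot

variable {G Γ : Type*} [Group G] [Group Γ] (σ : Γ →* G) {n : Γ}

theorem map_L_comp {Γ' : Type*} [Group Γ'] {π : Γ →* Γ'} (hπ : Function.Surjective π)
    (σ' : Γ' →* G) (S : Subgroup G) : (L (σ'.comp π) S).map π = L σ' S := by
  rw [L, L, Subgroup.map_commutator, ← Subgroup.comap_comap,
    Subgroup.map_comap_eq_self_of_surjective hπ]

theorem zpowers_normal (hn : n ∈ Subgroup.center Γ) : (Subgroup.zpowers n).Normal :=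
  ⟨fun x hx g => by
    have hx' : x ∈ Subgroup.center Γ := (Subgroup.zpowers_le.2 hn) hx
    rwa [Subgroup.mem_center_iff.1 hx' g, mul_inv_cancel_right]⟩

theorem card_ker_le [Finite Γ] [(Subgroup.zpowers n).Normal] (h : Subgroup.zpowers n ≤ σ.ker)
    (hn2 : n * n = 1) {k : ℕ}
    (hk : Nat.card (QuotientGroup.lift (Subgroup.zpowers n) σ h).ker ≤ k) :
    Nat.card σ.ker ≤ 2 * k := by
  let f : σ.ker →* (QuotientGroup.lift (Subgroup.zpowers n) σ h).ker :=
    ((QuotientGroup.mk' (Subgroup.zpowers n)).comp σ.ker.subtype).codRestrict _ fun x =>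
      MonoidHom.mem_ker.2 (MonoidHom.mem_ker.1 x.2)
  have h1 : Nat.card f.ker ≤ 2 := by
    refine le_trans (Nat.card_le_card_of_injective (β := Subgroup.zpowers n) (fun x => ⟨x.1.1,
      (QuotientGroup.eq_one_iff _).1 (congrArg Subtype.val x.2)⟩) fun x y e => ?_) ?_
    · exact Subtype.ext (Subtype.ext (congrArg Subtype.val e :))
    · rw [Nat.card_zpowers]
      exact Nat.le_of_dvd (by norm_num) (orderOf_dvd_of_pow_eq_one (by rw [sq, hn2]))
  have h2 : Nat.card f.range ≤ k := le_trans (Subgroup.card_le_card_group _) hk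
  calc Nat.card σ.ker = Nat.card f.ker * Nat.card f.range := by
        rw [← Subgroup.index_ker, Subgroup.card_mul_index]
    _ ≤ 2 * k := Nat.mul_le_mul h1 h2

theorem lift_props (hs : Function.Surjective σ) (hc : σ.ker ≤ Subgroup.center Γ)
    (hΓ : commutator Γ = ⊤) [(Subgroup.zpowers n).Normal] (h : Subgroup.zpowers n ≤ σ.ker) :
    Function.Surjective (QuotientGroup.lift (Subgroup.zpowers n) σ h) ∧
      (QuotientGroup.lift (Subgroup.zpowers n) σ h).ker ≤ Subgroup.center _ ∧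
      commutator (Γ ⧸ Subgroup.zpowers n) = ⊤ := by
  refine ⟨fun g => ?_, fun x hx => ?_, ?_⟩
  · obtain ⟨x, rfl⟩ := hs g
    exact ⟨x, rfl⟩
  · obtain ⟨x, rfl⟩ := QuotientGroup.mk'_surjective _ x
    rw [Subgroup.mem_center_iff]
    intro y
    obtain ⟨y, rfl⟩ := QuotientGroup.mk'_surjective _ y
    rw [← map_mul, ← map_mul, Subgroup.mem_center_iff.1 (hc (show σ x = 1 from hx)) y]
  · rw [commutator_def, ← Subgroup.map_top_of_surjective (QuotientGroup.mk' (Subgroup.zpowers n))
      (QuotientGroup.mk'_surjective _), ← Subgroup.map_commutator, ← commutator_def, hΓ]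

end Quot

universe uF uG

section Upper

variable {F : Type uF} [Field F] [Finite F] {ι : Type} [Fintype ι] [DecidableEq ι]
variable {Q : QuadraticForm F (ι → F)} (h2 : (2 : F) = 0) (hB : Nondeg Q)
variable (hn : 8 ≤ Module.finrank F (ι → F)) (hF : ∀ c : F, c = 0 ∨ c = 1)
variable (h8 : Module.finrank F (ι → F) = 8) {u₀ u₁ u₂ : Vtx Q (1 : F)} (h₀ : Tri u₀ u₁ u₂)
include h2 hB hn hF h8 h₀

/-- Perfect central extensions with vanishing commutators have a kernel of order at most two. -/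
theorem card_ker_le_two {Γ : Type uG} [Group Γ] [Finite Γ] (σ : Γ →* Cfsg.Omega F ⇑Q)
    (hs : Function.Surjective σ) (hc : σ.ker ≤ Subgroup.center Γ) (hΓ : commutator Γ = ⊤)
    (hκ : ∀ {x y z : Vtx Q (1 : F)}, Tri x y z → C σ hs (t x y) (t x z) = 1) :
    Nat.card σ.ker ≤ 2 * 1 := by
  obtain ⟨ε, hεc, hσε, hε2, hE⟩ := exists_defect h2 hB hn hF h8 hs hc @hκ h₀
  haveI := zpowers_normal hεc
  have h : Subgroup.zpowers ε ≤ σ.ker := Subgroup.zpowers_le.2 hσε
  obtain ⟨hs', hc', hΓ'⟩ := lift_props σ hs hc hΓ h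
  refine card_ker_le σ h hε2 ?_
  set π := QuotientGroup.mk' (Subgroup.zpowers ε)
  set σ' := QuotientGroup.lift (Subgroup.zpowers ε) σ h
  have hcomp : σ'.comp π = σ := MonoidHom.ext fun _ => rfl
  have hmap := fun S => map_L_comp (QuotientGroup.mk'_surjective (Subgroup.zpowers ε)) σ' S
  rw [hcomp] at hmap
  have hinj : Function.Injective σ' := by
    refine injective_of h2 hB hn hF h8 h₀ σ' hs' hc' hΓ' (fun {x y z} hT => ?_)
      (fun {v z a} hT k hk k' hk' k'' hk'' e e' e'' => ?_)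
    · rw [C_eq hc' (γ := π (Function.surjInv hs (t x y))) (δ := π (Function.surjInv hs (t x z)))
        (Function.surjInv_eq hs (t x y)) (Function.surjInv_eq hs (t x z)), ← map_commutatorElement]
      show π (C σ hs (t x y) (t x z)) = 1
      rw [hκ hT, map_one]
    · rw [← hmap] at hk hk' hk''
      obtain ⟨l, hl, rfl⟩ := hk
      obtain ⟨l', hl', rfl⟩ := hk'
      obtain ⟨l'', hl'', rfl⟩ := hk''
      rw [← map_mul, hE hT l hl l' hl' l'' hl'' e e' e'', map_mul]
      congr 1
      exact (QuotientGroup.eq_one_iff _).2 (Subgroup.mem_zpowers ε)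
  haveI : Subsingleton σ'.ker := ⟨fun a b => Subtype.ext (hinj (a.2.trans b.2.symm))⟩
  exact Finite.card_le_one_iff_subsingleton.2 inferInstance

/-- Perfect central extensions have a kernel of order at most four. -/
theorem card_ker_le_four {Γ : Type uG} [Group Γ] [Finite Γ] (σ : Γ →* Cfsg.Omega F ⇑Q)
    (hs : Function.Surjective σ) (hc : σ.ker ≤ Subgroup.center Γ) (hΓ : commutator Γ = ⊤) :
    Nat.card σ.ker ≤ 2 * (2 * 1) := by
  set κ := C σ hs (t u₀ u₁) (t u₀ u₂) with hκdef
  have hcomm : Commute (t u₀ u₁) (t u₀ u₂) := t_commute h2 hB hn h₀.1 h₀.2.1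
    (OmegaEven.self_zero h2 _) h₀.2.1 (by rw [b_comm]; exact h₀.1) h₀.2.2.1
  have hσκ : σ κ = 1 := by
    rw [hκdef, C, map_commutatorElement, Function.surjInv_eq hs, Function.surjInv_eq hs,
      commutatorElement_eq_one_iff_commute]
    exact hcomm
  haveI := zpowers_normal (C_central hc hcomm (hs := hs))
  have h : Subgroup.zpowers κ ≤ σ.ker := Subgroup.zpowers_le.2 hσκ
  obtain ⟨hs', hc', hΓ'⟩ := lift_props σ hs hc hΓ h
  refine card_ker_le σ h (kappa_sq h2 hB hn hF hs hc h₀) ?_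
  refine card_ker_le_two h2 hB hn hF h8 h₀ _ hs' hc' hΓ' fun {x y z} hT => ?_
  rw [C_eq hc' (γ := QuotientGroup.mk' _ (Function.surjInv hs (t x y)))
    (δ := QuotientGroup.mk' _ (Function.surjInv hs (t x z))) (Function.surjInv_eq hs (t x y))
    (Function.surjInv_eq hs (t x z)), ← map_commutatorElement]
  show QuotientGroup.mk' _ (C σ hs (t x y) (t x z)) = 1
  rw [kappa_eq h2 hB hn hF hs hc hT h₀]
  exact (QuotientGroup.eq_one_iff _).2 (Subgroup.mem_zpowers κ)

end Upper

universe u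

variable {F : Type u} [Field F] [Finite F] (hF : ∀ c : F, c = 0 ∨ c = 1)
variable {Q : QuadraticForm F (CfsgLib.E8.Ix → F)} (hQ : ⇑Q = Cfsg.quadFormPlus 4 F) (hB : Nondeg Q)
include hF hQ

theorem exists_tri : ∃ u₀ u₁ u₂ : Vtx Q (1 : F), Tri u₀ u₁ u₂ := by
  have hb : ∀ v w, QuadraticMap.polar ⇑Q v w = QuadraticMap.polar (Cfsg.quadFormPlus 4 F) v w :=
    fun v w => by rw [hQ]
  let d : Fin 4 → CfsgLib.E8.Ix → F := fun i => Pi.single (.inl i) 1 + Pi.single (.inr i) 1
  let V : Fin 4 → Vtx Q (1 : F) := fun i => ⟨d i, by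
    rw [hQ]; fin_cases i <;> simp [d, Cfsg.quadFormPlus, Fin.sum_univ_four]⟩
  have hne : ∀ i j, i ≠ j → V i ≠ V j := fun i j h e => by
    have := congrFun (congrArg Vtx.vec e) (.inl i)
    simp [V, d, h] at this
  have ho : ∀ i j, i ≠ j → QuadraticMap.polar ⇑Q (V i).vec (V j).vec = 0 := fun i j h => by
    rw [hb, polar_plus]
    fin_cases i <;> fin_cases j <;> simp [V, d, Fin.sum_univ_four] at h ⊢
  exact ⟨V 0, V 1, V 2, ho _ _ (by decide), ho _ _ (by decide), ho _ _ (by decide),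
    hne _ _ (by decide), hne _ _ (by decide), hne _ _ (by decide)⟩

include hB

theorem hasSchurMultiplier :
    Cfsg.HasSchurMultiplier (Cfsg.POmega F ⇑Q) (Multiplicative (ZMod 2 × ZMod 2)) := by
  classical
  have h2 : (2 : F) = 0 := CfsgLib.E8.two_eq hF
  have h8 : Module.finrank F (CfsgLib.E8.Ix → F) = 8 := by simp
  obtain ⟨u₀, u₁, u₂, h₀⟩ := exists_tri hF hQ
  obtain ⟨S, _, _, p, hp, ⟨e⟩⟩ := exists_cover hF hQ hB
  have hZ : Subgroup.center (Cfsg.Omega F ⇑Q) = ⊥ := by
    refine Subgroup.eq_bot_of_card_eq _ ((card_center_omega hB (by omega)).1 fun g _ hg => ?_)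
    refine Subtype.ext (Units.ext ?_)
    rw [hg]
    exact Matrix.ext fun i j => by rw [Matrix.neg_apply, OmegaEven.neg_self h2]; rfl
  have hΩ : commutator (Cfsg.Omega F ⇑Q) = ⊤ :=
    Subgroup.map_injective (Subgroup.subtype_injective _) (by
      rw [Subgroup.map_subtype_commutator, omega_perfect hB (by omega), ← MonoidHom.range_eq_map,
        Subgroup.range_subtype])
  have hperf : commutator S = ⊤ := OmegaMult.perfect_of_stem hp hΩ
  set f := (QuotientGroup.mk' (Subgroup.center (Cfsg.Omega F ⇑Q))).comp p with hf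
  have hker : f.ker = p.ker := by
    ext x
    rw [hf, MonoidHom.mem_ker, MonoidHom.comp_apply, QuotientGroup.mk'_apply,
      QuotientGroup.eq_one_iff, hZ, Subgroup.mem_bot, MonoidHom.mem_ker]
  have hfs : Function.Surjective f := (QuotientGroup.mk'_surjective _).comp hp.1
  let e' : Multiplicative (ZMod 2 × ZMod 2) ≃* f.ker := e.trans (MulEquiv.subgroupCongr hker.symm)
  refine ⟨⟨S, inferInstance, inferInstance, f,
    ⟨hfs, hker ▸ hp.2.1, hker ▸ hp.2.2⟩, ⟨e'.symm⟩⟩, fun Γ _ _ τ hτ => ?_⟩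
  refine OmegaMult.hasSchurMultiplier_of_cover hperf f hfs (hker ▸ hp.2.1) ⟨e'⟩ (fun Δ hΔ => ?_) hτ
  set r := (MonoidHom.fst S Γ).comp Δ.subtype
  have hΔp : commutator Δ = ⊤ := OmegaMult.perfect_of_stem hΔ hperf
  let q := p.comp r
  have hqc : q.ker ≤ Subgroup.center Δ := by
    intro x hx
    refine CfsgLib.Chev.central_of_perfect hΔp fun y => hΔ.2.1 (MonoidHom.mem_ker.2 ?_)
    rw [map_commutatorElement, commutatorElement_eq_one_iff_mul_comm]
    exact (Subgroup.mem_center_iff.1 (hp.2.1 hx) _).symm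
  have hle := card_ker_le_four h2 hB (by omega) hF h8 h₀ q (hp.1.comp hΔ.1) hqc hΔp
  have h4 : Nat.card p.ker = 4 := by rw [← Nat.card_congr e.toEquiv]; simp
  let ψ : q.ker → p.ker := fun x => ⟨r x.1, x.2⟩
  have hψ : Function.Surjective ψ := fun k => by
    obtain ⟨x, hx⟩ := hΔ.1 k.1
    exact ⟨⟨x, by show p (r x) = 1; rw [hx]; exact k.2⟩, Subtype.ext hx⟩
  have hψi : Function.Injective ψ := (hψ.bijective_of_nat_card_le (by omega)).1
  rw [← MonoidHom.ker_eq_bot_iff, Subgroup.eq_bot_iff_forall]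
  intro x hx
  have h1 : x ∈ q.ker := by
    show p (r x) = 1
    rw [MonoidHom.mem_ker.1 hx, map_one]
  exact congrArg Subtype.val (hψi (a₁ := ⟨x, h1⟩) (a₂ := 1) (Subtype.ext (by
    show r x = r 1
    rw [map_one]; exact hx)))

end CfsgLib.Schur.OmegaPlusTwo
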