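import Cfsg.Agent.Lib.Schur.SzEightData

/-!
# Checks for the double cover of the Suzuki group over the field of order eight
-/

set_option autoImplicit false
set_option maxRecDepth 100000

namespace CfsgLib.Schur.SzEight

/-- The field of order eight. -/
structure K8 where
  /-- The code. -/
  v : Fin 8
deriving DecidableEq

instance : Fintype K8 :=
  Fintype.ofEquiv (Fin 8) ⟨fun v => ⟨v⟩, K8.v, fun _ => rfl, fun _ => rfl⟩

instance : Zero K8 := ⟨⟨0⟩⟩
instance : One K8 := ⟨⟨1⟩⟩
instance : Add K8 := ⟨fun a b => ⟨addTab a.v b.v⟩⟩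
instance : Mul K8 := ⟨fun a b => ⟨mulTab a.v b.v⟩⟩
instance : Neg K8 := ⟨fun a => a⟩
instance : Inv K8 := ⟨fun a => ⟨invTab a.v⟩⟩

instance : CommRing K8 :=
  CommRing.ofMinimalAxioms (by decide +kernel) (by decide +kernel) (by decide +kernel)
    (by decide +kernel) (by decide +kernel) (by decide +kernel) (by decide +kernel)

instance : Field K8 where
  exists_pair_ne := ⟨0, 1, by decide⟩
  mul_inv_cancel := by decide +kernel
  inv_zero := by decide +kernel
  zpow := zpowRec
  nnqsmul := _
  qsmul := _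

theorem card_K8 : Fintype.card K8 = 8 := by decide

instance : CharP K8 2 := CharTwo.of_one_ne_zero_of_two_eq_zero (by decide) (by decide)

/-- The twist. -/
def sg8 (x : K8) : K8 := (x * x) * (x * x)

/-- The generator of the multiplicative group. -/
def tau : K8ˣ := ⟨⟨2⟩, ⟨invTab 2⟩, by decide, by decide⟩

theorem tau_pow : tau ^ 7 = 1 := by decide +kernel

theorem tau_gen : ∀ t : K8ˣ, ∃ n : Fin 7, t = tau ^ (n : ℕ) := by
  intro t
  obtain ⟨n, hn⟩ := (by decide +kernel : ∀ x : K8, x ≠ 0 → ∃ n : Fin 7, x = (tau : K8) ^ (n : ℕ))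
    t t.ne_zero
  exact ⟨n, Units.ext (by rw [Units.val_pow_eq_pow_val]; exact hn)⟩

/-- The parameters of translations. -/
abbrev U8 : Type := K8 × K8

/-- The product of parameters. -/
def umul (x y : U8) : U8 := (x.1 + y.1, x.2 + y.2 + sg8 x.1 * y.1)

/-- The inverse of a parameter. -/
def uinv (x : U8) : U8 := (x.1, x.2 + sg8 x.1 * x.1)

/-- The action of the torus generator. -/
def uact (x : U8) : U8 := (sg8 tau * x.1, sg8 tau * ((tau : K8) * tau) * x.2)

/-- Monomial matrices: the image and the sign of each basis vector. -/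
abbrev Mon : Type := (Fin 8 → Fin 8) × (Fin 8 → Bool)

/-- Signs. -/
def sgn : Bool → ZMod 5
  | true => 4
  | false => 1

theorem sgn_xor : ∀ a b, sgn (a ^^ b) = sgn a * sgn b := by decide

theorem sgn_sq : ∀ a, sgn a * sgn a = 1 := by decide

theorem sgn_inj : ∀ a b, sgn a = sgn b → a = b := by decide

/-- The matrices. -/
abbrev M8 : Type := Matrix (Fin 8) (Fin 8) (ZMod 5)

/-- The matrix of a monomial. -/
def mat (m : Mon) : M8 := fun i j => if m.1 j = i then sgn (m.2 j) else 0

/-- The product of monomials. -/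
def mmul (m m' : Mon) : Mon := (fun j => m.1 (m'.1 j), fun j => m'.2 j ^^ m.2 (m'.1 j))

/-- Change of sign. -/
def flipM (e : Bool) (m : Mon) : Mon := (m.1, fun j => e ^^ m.2 j)

theorem mul_mat_apply (A : M8) (m : Mon) (i j : Fin 8) : (A * mat m) i j = A i (m.1 j) * sgn (m.2 j) := by
  rw [Matrix.mul_apply, Finset.sum_eq_single (m.1 j)]
  · simp [mat]
  · intro k _ hk
    simp [mat, Ne.symm hk]
  · simp

theorem mat_mul_mat (m m' : Mon) : mat m * mat m' = mat (mmul m m') := by
  ext i j
  rw [mul_mat_apply]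
  simp only [mat, mmul]
  by_cases h : m.1 (m'.1 j) = i <;> simp [h, sgn_xor, mul_comm]

theorem mat_flip (e : Bool) (m : Mon) : mat (flipM e m) = sgn e • mat m := by
  ext i j
  simp only [mat, flipM, Matrix.smul_apply, smul_eq_mul]
  by_cases h : m.1 j = i <;> simp [h, sgn_xor]

theorem mat_mul_apply (A : M8) {m : Mon} (h : Function.Injective m.1) (k j : Fin 8) :
    (mat m * A) (m.1 k) j = sgn (m.2 k) * A k j := by
  rw [Matrix.mul_apply, Finset.sum_eq_single k]
  · simp [mat]
  · intro l _ hl
    simp [mat, h.ne hl]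
  · simp

/-- The translations. -/
def umon (x : U8) : Mon :=
  (fun k => addTab k x.1.v, fun k => sTab x.1.v k ^^
    lTab (mulTab (mulTab (addTab k x.1.v) (addTab k x.1.v)) x.2.v))

/-- The torus generator. -/
def tmon : Mon := (fun k => mulTab 6 k, fun _ => false)

/-- Powers of the torus generator. -/
def tpow : ℕ → Mon
  | 0 => (id, fun _ => false)
  | n + 1 => mmul (tpow n) tmon

/-- The sign of a product of two translations. -/
def eps (x y : U8) : Bool := (mmul (umon x) (umon y)).2 0 ^^ (umon (umul x y)).2 0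

/-- The sign of the torus relation. -/
def epsT (x : U8) : Bool := (mmul tmon (umon x)).2 0 ^^ (mmul (umon (uact x)) tmon).2 0

theorem umon_mul : ∀ x y, mmul (umon x) (umon y) = flipM (eps x y) (umon (umul x y)) := by
  decide +kernel

theorem tmon_act : ∀ x, mmul tmon (umon x) = flipM (epsT x) (mmul (umon (uact x)) tmon) := by
  decide +kernel

theorem tpow_seven : tpow 7 = (id, fun _ => false) := by decide +kernel

theorem umon_zero : umon (0, 0) = (id, fun _ => false) := by decide +kernel

theorem umon_injective : ∀ x, Function.Injective (umon x).1 := by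
  unfold Function.Injective
  decide +kernel

theorem tmon_injective : Function.Injective tmon.1 := by
  unfold Function.Injective
  decide +kernel

theorem wTab_sq : ∃ e, wTab * wTab = sgn e • (1 : M8) := by decide +kernel

theorem wTab_torus : ∀ i j, sgn (tmon.2 j) * wTab i (tmon.1 j) =
    sgn ((tpow 6).2 ((tpow 1).1 i)) * wTab ((tpow 1).1 i) j := by
  decide +kernel

/-- The rules, as equations of entries. -/
def RuleOK (u : U8) : Prop :=
  let r := ruleTab u.1.v u.2.v
  let p : U8 := (⟨r.1.1⟩, ⟨r.1.2⟩)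
  let q : U8 := (⟨r.2.2.1⟩, ⟨r.2.2.2⟩)
  let L := mmul (umon p) (tpow r.2.1)
  ∃ e : Bool, ∀ k j, (∑ l, wTab (L.1 k) ((umon u).1 l) * sgn ((umon u).2 l) * wTab l j) =
    sgn e * (sgn (L.2 k) * (wTab k ((umon q).1 j) * sgn ((umon q).2 j)))

instance (u : U8) : Decidable (RuleOK u) := by unfold RuleOK; infer_instance

theorem rules_ok : ∀ u : U8, u ≠ (0, 0) → RuleOK u := by decide +kernel

end CfsgLib.Schur.SzEight
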