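import Mathlib
import Cfsg.Prelude.Def_KGroupFacts
import Cfsg.Agent.Lib.Suzuki.Aut
import Cfsg.Agent.Lib.Schur.SzEightCheck

/-!
# A cover of the Suzuki group over the field of order eight with kernel of order four
-/

set_option autoImplicit false
set_option maxRecDepth 100000
set_option linter.style.haveILetI false

namespace CfsgLib.Schur.SzEight

open CfsgLib.Suzuki
open scoped commutatorElement

instance : Param K8 1 := ⟨le_rfl, by rw [card_K8]; norm_num⟩

/-- The Suzuki group. -/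
abbrev G8 : Type := Gp K8 1

theorem sg_eq (x : K8) : sg K8 1 x = sg8 x := by
  rw [sg_def, sg8]; ring

/-- A translation. -/
def gu (x : U8) : G8 := gT x.1 x.2

theorem gu_mul (x y : U8) : gu x * gu y = gu (umul x y) := by
  rw [gu, gu, gu, gT_mul, sg_eq]; rfl

theorem gu_act (x : U8) : gH tau * gu x = gu (uact x) * gH tau := by
  have h := gH_conj_gT (m := 1) tau x.1 x.2
  rw [mul_inv_eq_iff_eq_mul, sg_eq, pow_two] at h
  exact h

/-- The matrices of translations, computably. -/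
def trM (x : U8) : Matrix (Fin 4) (Fin 4) K8 :=
  !![1, x.1, x.2 + x.1 * sg8 x.1, x.1 * x.2 + sg8 x.1 * (x.1 * x.1) + sg8 x.2;
     0, 1, sg8 x.1, x.2; 0, 0, 1, x.1; 0, 0, 0, 1]

/-- The matrices of the torus, computably. -/
def htM (n : Fin 7) : Matrix (Fin 4) (Fin 4) K8 :=
  let x : K8 := (tau : K8) ^ (n : ℕ)
  Matrix.diagonal ![sg8 x * x, x, x⁻¹, (sg8 x * x)⁻¹]

/-- The matrix of the inversion. -/
def wwM : Matrix (Fin 4) (Fin 4) K8 := !![0, 0, 0, 1; 0, 0, 1, 0; 0, 1, 0, 0; 1, 0, 0, 0]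

theorem trM_eq (x : U8) : trMat 1 x.1 x.2 = trM x := by
  simp only [trMat, trM, ov, sg_eq, pow_two]

theorem htM_eq (n : Fin 7) : htMat 1 (tau ^ (n : ℕ)) = htM n := by
  rw [htMat, htM]
  simp only [Units.val_inv_eq_inv_val, Units.val_pow_eq_pow_val, sg_eq]

/-- The first part of a rule. -/
def ruleP (u : U8) : U8 := (⟨(ruleTab u.1.v u.2.v).1.1⟩, ⟨(ruleTab u.1.v u.2.v).1.2⟩)

/-- The torus part of a rule. -/
def ruleN (u : U8) : Fin 7 := (ruleTab u.1.v u.2.v).2.1

/-- The last part of a rule. -/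
def ruleQ (u : U8) : U8 := (⟨(ruleTab u.1.v u.2.v).2.2.1⟩, ⟨(ruleTab u.1.v u.2.v).2.2.2⟩)

theorem rule_mat : ∀ u : U8, u ≠ (0, 0) →
    wwM * trM u * wwM = trM (ruleP u) * htM (ruleN u) * wwM * trM (ruleQ u) := by
  decide +kernel

theorem rule_gp (u : U8) (hu : u ≠ (0, 0)) :
    gW K8 1 * gu u * gW K8 1 = gu (ruleP u) * gH tau ^ (ruleN u : ℕ) * gW K8 1 * gu (ruleQ u) := by
  rw [← map_pow]
  refine Subtype.ext (Subtype.ext ?_)
  show Cfsg.suzukiForm K8 * trMat 1 u.1 u.2 * Cfsg.suzukiForm K8 =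
    trMat 1 (ruleP u).1 (ruleP u).2 * htMat 1 (tau ^ (ruleN u : ℕ)) * Cfsg.suzukiForm K8 *
      trMat 1 (ruleQ u).1 (ruleQ u).2
  rw [trM_eq, trM_eq, trM_eq, htM_eq]
  exact rule_mat u hu

/-- Units of the matrices. -/
abbrev G1 : Type := M8ˣ

/-- The scalar units. -/
def zs (e : Bool) : G1 where
  val := sgn e • 1
  inv := sgn e • 1
  val_inv := by rw [smul_mul_assoc, one_mul, smul_smul, sgn_sq, one_smul]
  inv_val := by rw [smul_mul_assoc, one_mul, smul_smul, sgn_sq, one_smul]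

theorem zs_mul (a b : Bool) : zs (a ^^ b) = zs a * zs b := Units.ext (by
  show sgn (a ^^ b) • (1 : M8) = sgn a • (1 : M8) * sgn b • (1 : M8)
  rw [smul_mul_assoc, one_mul, smul_smul, sgn_xor])

theorem zs_false : zs false = 1 := Units.ext (by show (1 : ZMod 5) • (1 : M8) = 1; rw [one_smul])

theorem zs_injective : Function.Injective zs := fun a b h => by
  refine sgn_inj a b ?_
  have h' := congrFun (congrFun (congrArg (fun u : G1 => (u : M8)) h) 0) 0
  simpa [zs] using h'

theorem zs_comm (a : Bool) (g : G1) : g * zs a = zs a * g := Units.ext (by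
  show (g : M8) * sgn a • (1 : M8) = sgn a • (1 : M8) * (g : M8)
  rw [mul_smul_comm, mul_one, smul_mul_assoc, one_mul])

/-- The scalars. -/
def Zs : Subgroup G1 where
  carrier := Set.range zs
  one_mem' := ⟨false, zs_false⟩
  mul_mem' := by rintro _ _ ⟨a, rfl⟩ ⟨b, rfl⟩; exact ⟨a ^^ b, zs_mul a b⟩
  inv_mem' := by
    rintro _ ⟨a, rfl⟩
    exact ⟨a, eq_inv_of_mul_eq_one_left (by rw [← zs_mul, Bool.xor_self, zs_false])⟩

instance : Zs.Normal := ⟨by
  rintro _ ⟨a, rfl⟩ g
  exact ⟨a, by rw [zs_comm, mul_inv_cancel_right]⟩⟩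

/-- The group modulo scalars. -/
abbrev Q8 : Type := G1 ⧸ Zs

theorem eq_zs_mul {u v : G1} {e : Bool} (h : (u : M8) = sgn e • (v : M8)) : u = zs e * v :=
  Units.ext (by rw [h, Units.val_mul]; show _ = sgn e • (1 : M8) * _; rw [smul_mul_assoc, one_mul])

theorem mk_eq {u v : G1} {e : Bool} (h : (u : M8) = sgn e • (v : M8)) : (u : Q8) = (v : Q8) := by
  rw [eq_zs_mul h, QuotientGroup.mk_mul, (QuotientGroup.eq_one_iff (N := Zs) (zs e)).mpr ⟨e, rfl⟩,
    one_mul]

theorem mat_id : mat (id, fun _ => false) = 1 := by decide +kernel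

theorem umul_uinv : ∀ x, umul x (uinv x) = (0, 0) := by decide +kernel

theorem mat_mul_uinv (x : U8) : mat (umon x) * (sgn (eps x (uinv x)) • mat (umon (uinv x))) = 1 := by
  rw [mul_smul_comm, mat_mul_mat, umon_mul, mat_flip, smul_smul, sgn_sq, one_smul, umul_uinv,
    umon_zero, mat_id]

/-- A lift of a translation. -/
def uu (x : U8) : G1 :=
  ⟨mat (umon x), sgn (eps x (uinv x)) • mat (umon (uinv x)), mat_mul_uinv x,
    mul_eq_one_comm.mp (mat_mul_uinv x)⟩

theorem tmon_inv : mmul tmon (tpow 6) = (id, fun _ => false) := by decide +kernel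

theorem mat_tmon_inv : mat tmon * mat (tpow 6) = 1 := by rw [mat_mul_mat, tmon_inv, mat_id]

/-- A lift of the torus generator. -/
def tu : G1 := ⟨mat tmon, mat (tpow 6), mat_tmon_inv, mul_eq_one_comm.mp mat_tmon_inv⟩

theorem tu_pow (n : ℕ) : ((tu ^ n : G1) : M8) = mat (tpow n) := by
  induction n with
  | zero => rw [pow_zero, Units.val_one, tpow, mat_id]
  | succ n ih => rw [pow_succ, Units.val_mul, ih, tpow, ← mat_mul_mat]; rfl

theorem wTab_mul_self : wTab * wTab = 1 := by decide +kernel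

/-- A lift of the inversion. -/
def wu : G1 := ⟨wTab, wTab, wTab_mul_self, wTab_mul_self⟩

theorem q_mul (x y : U8) : (uu x : Q8) * uu y = uu (umul x y) :=
  mk_eq (u := uu x * uu y) (v := uu (umul x y)) (e := eps x y)
    (by show mat (umon x) * mat (umon y) = sgn _ • mat _; rw [mat_mul_mat, umon_mul, mat_flip])

theorem q_act (x : U8) : (tu : Q8) * uu x = uu (uact x) * tu :=
  mk_eq (u := tu * uu x) (v := uu (uact x) * tu) (e := epsT x)
    (by show mat tmon * mat _ = sgn _ • (mat _ * mat tmon); rw [mat_mul_mat, mat_mul_mat, tmon_act, mat_flip])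

theorem q_seven : (tu : Q8) ^ 7 = 1 := by
  have h : tu ^ 7 = 1 := Units.ext (by rw [tu_pow, tpow_seven, mat_id, Units.val_one])
  rw [← QuotientGroup.mk_pow, h, QuotientGroup.mk_one]

theorem q_sq : (wu : Q8) * wu = 1 := by
  have h : wu * wu = 1 := Units.ext wTab_mul_self
  rw [← QuotientGroup.mk_mul, h, QuotientGroup.mk_one]

theorem tpow_six_one : ∀ i, (tpow 6).1 ((tpow 1).1 i) = i := by decide +kernel

theorem tpow_six_injective : Function.Injective (tpow 6).1 := by
  unfold Function.Injective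
  decide +kernel

theorem q_torus : (wu : Q8) * tu = (tu : Q8) ^ 6 * wu :=
  mk_eq (u := wu * tu) (v := tu ^ 6 * wu) (e := false) (by
    rw [Units.val_mul, Units.val_mul, tu_pow]
    show wTab * mat tmon = (1 : ZMod 5) • (mat (tpow 6) * wTab)
    rw [one_smul]
    ext i j
    conv_rhs => rw [← tpow_six_one i, mat_mul_apply _ tpow_six_injective]
    rw [mul_mat_apply, mul_comm]
    exact wTab_torus i j)

theorem L_bij : ∀ (p : U8) (n : Fin 7), Function.Bijective (mmul (umon p) (tpow n)).1 := by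
  have h : ∀ n : Fin 7, Function.Injective (tpow (n : ℕ)).1 := by
    unfold Function.Injective
    decide +kernel
  exact fun p n => Finite.injective_iff_bijective.mp ((umon_injective p).comp (h n))

theorem q_rule (u : U8) (hu : u ≠ (0, 0)) :
    (wu : Q8) * uu u * wu = uu (ruleP u) * (tu : Q8) ^ (ruleN u : ℕ) * wu * uu (ruleQ u) := by
  obtain ⟨e, he⟩ := rules_ok u hu
  refine mk_eq (u := wu * uu u * wu) (v := uu (ruleP u) * tu ^ (ruleN u : ℕ) * wu * uu (ruleQ u))
    (e := e) ?_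
  rw [Units.val_mul, Units.val_mul, Units.val_mul, Units.val_mul, Units.val_mul, tu_pow]
  show wTab * mat (umon u) * wTab =
    sgn e • (mat (umon (ruleP u)) * mat (tpow (ruleN u)) * wTab * mat (umon (ruleQ u)))
  have hL := L_bij (ruleP u) (ruleN u)
  rw [mat_mul_mat, mul_assoc _ wTab (mat (umon (ruleQ u)))]
  ext i j
  obtain ⟨k, rfl⟩ := hL.2 i
  rw [Matrix.smul_apply, mat_mul_apply _ hL.1, mul_mat_apply, Matrix.mul_apply, smul_eq_mul]
  simp only [mul_mat_apply]
  exact he k j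

/-- A finite bound on a group generated by a rank one configuration. -/
theorem card_closure_le {G : Type*} [Group G] {ι : Type*} [Fintype ι] (U : ι → G) (t w : G) (e : ι)
    (m : ι → ι → ι) (inv : ι → ι) (a : ι → ι) (he : U e = 1) (hm : ∀ x y, U x * U y = U (m x y))
    (hinv : ∀ x, (U x)⁻¹ = U (inv x)) (ha : ∀ x, t * U x = U (a x) * t) (h7 : t ^ 7 = 1)
    (hw : w * w = 1) (hwt : w * t = t ^ 6 * w)
    (hrule : ∀ x, x ≠ e → ∃ (p q : ι) (n : ℕ), w * U x * w = U p * t ^ n * w * U q) :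
    Nat.card (Subgroup.closure (Set.range U ∪ {t, w})) ≤
      Fintype.card ι * 7 + Fintype.card ι * 7 * Fintype.card ι := by
  classical
  let f₁ : ι × Fin 7 → G := fun p => U p.1 * t ^ (p.2 : ℕ)
  let f₂ : (ι × Fin 7) × ι → G := fun p => U p.1.1 * t ^ (p.1.2 : ℕ) * w * U p.2
  let S : Set G := Set.range f₁ ∪ Set.range f₂
  have tmod : ∀ n : ℕ, t ^ n = t ^ (n % 7) := fun n => pow_eq_pow_mod n h7
  have mem₁ : ∀ x (n : ℕ), U x * t ^ n ∈ S := fun x n => by
    rw [tmod n]; exact Or.inl ⟨(x, ⟨n % 7, Nat.mod_lt _ (by norm_num)⟩), rfl⟩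
  have mem₂ : ∀ x (n : ℕ) y, U x * t ^ n * w * U y ∈ S := fun x n y => by
    rw [tmod n]; exact Or.inr ⟨((x, ⟨n % 7, Nat.mod_lt _ (by norm_num)⟩), y), rfl⟩
  have han : ∀ (n : ℕ) x, t ^ n * U x = U (a^[n] x) * t ^ n := by
    intro n
    induction n with
    | zero => simp
    | succ n ih =>
      intro x
      rw [pow_succ', mul_assoc, ih, ← mul_assoc, ha, mul_assoc, Function.iterate_succ_apply']
  have hback : ∀ (n : ℕ) x, ∃ y, U x * t ^ n = t ^ n * U y := fun n x => by
    refine ⟨a^[6 * n] x, ?_⟩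
    have h : U x = U (a^[7 * n] x) := by
      have := han (7 * n) x
      rwa [pow_mul, h7, one_pow, one_mul, mul_one] at this
    rw [han, ← Function.iterate_add_apply, show n + 6 * n = 7 * n by omega, ← h]
  have hwn : ∀ n : ℕ, w * t ^ n = t ^ (6 * n) * w := by
    intro n
    induction n with
    | zero => simp
    | succ n ih => rw [pow_succ, ← mul_assoc, ih, mul_assoc, hwt, ← mul_assoc, ← pow_add, Nat.mul_succ]
  have hone : (1 : G) ∈ S := by simpa [he] using mem₁ e 0
  have stepU : ∀ z, ∀ s ∈ S, U z * s ∈ S := by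
    rintro z s (⟨⟨x, n⟩, rfl⟩ | ⟨⟨⟨x, n⟩, y⟩, rfl⟩) <;> simp only [f₁, f₂, ← mul_assoc, hm]
    · exact mem₁ _ _
    · exact mem₂ _ _ _
  have stept : ∀ s ∈ S, t * s ∈ S := by
    rintro s (⟨⟨x, n⟩, rfl⟩ | ⟨⟨⟨x, n⟩, y⟩, rfl⟩) <;> simp only [f₁, f₂]
    · rw [← mul_assoc, ha, mul_assoc, ← pow_succ']; exact mem₁ _ _
    · rw [show t * (U x * t ^ (n : ℕ) * w * U y) = t * U x * t ^ (n : ℕ) * w * U y by
        simp only [mul_assoc], ha, mul_assoc (U (a x)), ← pow_succ']
      exact mem₂ _ _ _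
  have stepw : ∀ s ∈ S, w * s ∈ S := by
    rintro s (⟨⟨x, n⟩, rfl⟩ | ⟨⟨⟨x, n⟩, y⟩, rfl⟩) <;> simp only [f₁, f₂]
    · obtain ⟨y, hy⟩ := hback n x
      rw [hy, ← mul_assoc, hwn]
      simpa [he] using mem₂ e (6 * n) y
    · obtain ⟨y', hy⟩ := hback n x
      rw [hy, show w * (t ^ (n : ℕ) * U y' * w * U y) = w * t ^ (n : ℕ) * U y' * w * U y by
        simp only [mul_assoc], hwn]
      by_cases hy' : y' = e
      · subst hy'
        rw [he, mul_one, mul_assoc _ w w, hw, mul_one, han]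
        exact mem₁ _ _
      · obtain ⟨p, q, k, hr⟩ := hrule y' hy'
        rw [show t ^ (6 * (n : ℕ)) * w * U y' * w * U y = t ^ (6 * (n : ℕ)) * (w * U y' * w) * U y by
            simp only [mul_assoc], hr,
          show t ^ (6 * (n : ℕ)) * (U p * t ^ k * w * U q) * U y =
            t ^ (6 * (n : ℕ)) * U p * t ^ k * w * (U q * U y) by simp only [mul_assoc],
          han, hm, mul_assoc (U _) (t ^ _) (t ^ k), ← pow_add]
        exact mem₂ _ _ _
  have hle : ∀ x ∈ Subgroup.closure (Set.range U ∪ {t, w}), x ∈ S := by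
    intro x hx
    induction hx using Subgroup.closure_induction_left with
    | one => exact hone
    | mul_left g hg y _ ih =>
      rcases hg with ⟨z, rfl⟩ | rfl | rfl
      exacts [stepU z y ih, stept y ih, stepw y ih]
    | inv_mul_cancel g hg y _ ih =>
      rcases hg with ⟨z, rfl⟩ | rfl | rfl
      · rw [hinv]; exact stepU _ _ ih
      · rw [inv_eq_of_mul_eq_one_right (show g * g ^ 6 = 1 by rw [← pow_succ', h7])]
        simp only [pow_succ', pow_zero, mul_one, mul_assoc]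
        exact stept _ (stept _ (stept _ (stept _ (stept _ (stept _ ih)))))
      · rw [inv_eq_of_mul_eq_one_right hw]; exact stepw _ ih
  calc Nat.card (Subgroup.closure (Set.range U ∪ {t, w})) ≤ Nat.card S :=
        Nat.card_le_card_of_injective (fun x => (⟨x.1, hle x.1 x.2⟩ : S))
          fun x y h => Subtype.ext (congrArg (fun v : S => (v : G)) h)
    _ ≤ (Set.range f₁).ncard + (Set.range f₂).ncard := by
        rw [Nat.card_coe_set_eq]; exact Set.ncard_union_le _ _
    _ ≤ _ := by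
        rw [← Nat.card_coe_set_eq, ← Nat.card_coe_set_eq]
        refine Nat.add_le_add ((Finite.card_range_le _).trans ?_) ((Finite.card_range_le _).trans ?_) <;>
          simp [Nat.card_eq_fintype_card]

/-- The projective representation. -/
theorem exists_theta : ∃ θ : G8 →* Q8, ∀ x, θ (gu x) = (uu x : Q8) := by
  classical
  let Ug : U8 → G8 × Q8 := fun x => (gu x, (uu x : Q8))
  let tg : G8 × Q8 := (gH tau, (tu : Q8))
  let wg : G8 × Q8 := (gW K8 1, (wu : Q8))
  have hU0 : Ug (0, 0) = 1 := Prod.ext gT_zero (by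
    show (uu (0, 0) : Q8) = 1
    rw [show uu (0, 0) = 1 from Units.ext (by show mat (umon (0, 0)) = 1; rw [umon_zero, mat_id]),
      QuotientGroup.mk_one])
  have hm : ∀ x y, Ug x * Ug y = Ug (umul x y) := fun x y => Prod.ext (gu_mul x y) (q_mul x y)
  have hb := card_closure_le Ug tg wg (0, 0) umul uinv uact hU0 hm
    (fun x => inv_eq_of_mul_eq_one_right (by rw [hm, umul_uinv, hU0]))
    (fun x => Prod.ext (gu_act x) (q_act x))
    (Prod.ext (by show gH tau ^ 7 = 1; rw [← map_pow, tau_pow, map_one]) q_seven)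
    (Prod.ext gW_mul_self q_sq)
    (Prod.ext (by
      show gW K8 1 * gH tau = gH tau ^ 6 * gW K8 1
      have h := gW_conj_gH (F := K8) (m := 1) tau
      rw [mul_inv_eq_iff_eq_mul] at h
      rw [h, ← map_inv, ← map_pow, inv_eq_of_mul_eq_one_right (show tau * tau ^ 6 = 1 by
        rw [← pow_succ', tau_pow])]) q_torus)
    (fun u hu => ⟨ruleP u, ruleQ u, ruleN u, Prod.ext (rule_gp u hu) (q_rule u hu)⟩)
  set H := Subgroup.closure (Set.range Ug ∪ {tg, wg})
  let f : H →* G8 := (MonoidHom.fst G8 Q8).comp H.subtype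
  have hgu : ∀ x, gu x ∈ f.range := fun x =>
    ⟨⟨Ug x, Subgroup.subset_closure (Or.inl ⟨x, rfl⟩)⟩, rfl⟩
  have ht : gH tau ∈ f.range := ⟨⟨tg, Subgroup.subset_closure (Or.inr (Or.inl rfl))⟩, rfl⟩
  have hw : gW K8 1 ∈ f.range := ⟨⟨wg, Subgroup.subset_closure (Or.inr (Or.inr rfl))⟩, rfl⟩
  have hstab : ∀ g : G8, g • pinf K8 1 = pinf K8 1 → g ∈ f.range := fun g hg => by
    obtain ⟨a, b, t, rfl⟩ := exists_eq_gT_mul_gH hg
    obtain ⟨n, rfl⟩ := tau_gen t
    rw [map_pow]
    exact mul_mem (hgu (a, b)) (pow_mem ht _)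
  have hsurj : Function.Surjective f := fun g => by
    show g ∈ f.range
    rcases pts_cases (g • pinf K8 1) with h | ⟨x, y, h⟩
    · exact hstab g h
    · have h' := hstab (gW K8 1 * (gT x y)⁻¹ * g) (by
        rw [mul_smul, mul_smul, h, show paff (m := 1) x y = gT (m := 1) x y • paff (m := 1) (0 : K8) 0 by
          simp [gT_smul_paff], inv_smul_smul, gW_smul_zero])
      have := mul_mem (mul_mem (hgu (x, y)) hw) h'
      rwa [gu, show gT (m := 1) x y * gW K8 1 * (gW K8 1 * (gT x y)⁻¹ * g) =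
        gT x y * (gW K8 1 * gW K8 1) * (gT x y)⁻¹ * g by group, gW_mul_self, mul_one, mul_inv_cancel,
        one_mul] at this
  have hbij : Function.Bijective f := hsurj.bijective_of_nat_card_le (hb.trans (le_of_eq (by
    rw [natCard_group, Fintype.card_prod, card_K8]; norm_num)))
  let E := MulEquiv.ofBijective f hbij
  refine ⟨((MonoidHom.snd G8 Q8).comp H.subtype).comp E.symm.toMonoidHom, fun x => ?_⟩
  show ((E.symm (gu x) : H) : G8 × Q8).2 = _
  rw [show gu x = E ⟨Ug x, Subgroup.subset_closure (Or.inl ⟨x, rfl⟩)⟩ from rfl, E.symm_apply_apply]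

/-- The Frobenius automorphism. -/
def frob8 : K8 ≃+* K8 where
  toFun x := x * x
  invFun x := sg8 x
  left_inv := by unfold Function.LeftInverse; decide +kernel
  right_inv := by unfold Function.RightInverse Function.LeftInverse; decide +kernel
  map_mul' := by decide +kernel
  map_add' := by decide +kernel

/-- The Frobenius on parameters. -/
def ufrob (x : U8) : U8 := (x.1 * x.1, x.2 * x.2)

/-- The sign of a commutator of translations. -/
def csgn (x y : U8) : Bool := eps x y ^^ eps y x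

theorem uu_comm {x y : U8} (h : umul x y = umul y x) : ⁅uu x, uu y⁆ = zs (csgn x y) := by
  have e : uu x * uu y = zs (csgn x y) * (uu y * uu x) := eq_zs_mul (by
    rw [Units.val_mul, Units.val_mul]
    show mat (umon x) * mat (umon y) = sgn _ • (mat (umon y) * mat (umon x))
    rw [mat_mul_mat, mat_mul_mat, umon_mul, umon_mul, mat_flip, mat_flip, h, smul_smul, ← sgn_xor,
      csgn, Bool.xor_assoc, Bool.xor_self, Bool.xor_false])
  rw [commutatorElement_def, e]
  group

theorem witnesses : (∃ b : K8, csgn (1, 0) (0, b) = true ∧ csgn (ufrob (1, 0)) (ufrob (0, b)) = false) ∧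
    ∃ b : K8, csgn (1, 0) (0, b) = false ∧ csgn (ufrob (1, 0)) (ufrob (0, b)) = true := by
  decide +kernel

theorem umul_comm_axes : ∀ b : K8, umul (1, 0) (0, b) = umul (0, b) (1, 0) ∧
    umul (ufrob (1, 0)) (ufrob (0, b)) = umul (ufrob (0, b)) (ufrob (1, 0)) := by
  decide +kernel

/-- The cover. -/
theorem exists_cover : ∃ (S : Type) (_ : Group S) (_ : Finite S) (τ : S →* G8),
    Cfsg.IsStemExtension τ ∧ 4 ≤ Nat.card τ.ker := by
  classical
  obtain ⟨θ, hθ⟩ := exists_theta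
  let θ₂ : G8 →* Q8 := θ.comp (fieldAut K8 1 frob8).toMonoidHom
  have hθ₂ : ∀ x, θ₂ (gu x) = (uu (ufrob x) : Q8) := fun x => by
    show θ (fieldAut K8 1 frob8 (gT x.1 x.2)) = _
    rw [fieldAut_gT]
    exact hθ (ufrob x)
  let m : G1 × G1 →* Q8 × Q8 := MonoidHom.prodMap (QuotientGroup.mk' Zs) (QuotientGroup.mk' Zs)
  let P := MonoidHom.eqLocus (m.comp (MonoidHom.fst (G1 × G1) G8))
    ((θ.prod θ₂).comp (MonoidHom.snd (G1 × G1) G8))
  let τ : P →* G8 := (MonoidHom.snd (G1 × G1) G8).comp P.subtype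
  have hτ : Function.Surjective τ := fun g => by
    obtain ⟨a, ha⟩ := QuotientGroup.mk'_surjective Zs (θ g)
    obtain ⟨b, hb⟩ := QuotientGroup.mk'_surjective Zs (θ₂ g)
    exact ⟨⟨((a, b), g), Prod.ext ha hb⟩, rfl⟩
  have hmem : ∀ {p : P}, p ∈ τ.ker → ∃ a b : Bool, (p : (G1 × G1) × G8) = ((zs a, zs b), 1) := by
    rintro ⟨⟨⟨x, y⟩, g⟩, hp⟩ hk
    obtain rfl : g = 1 := hk
    have hp' : m (x, y) = (θ.prod θ₂) 1 := hp
    rw [map_one] at hp'
    obtain ⟨a, ha⟩ := (QuotientGroup.eq_one_iff x).mp (congrArg Prod.fst hp')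
    obtain ⟨b, hb⟩ := (QuotientGroup.eq_one_iff y).mp (congrArg Prod.snd hp')
    exact ⟨a, b, by rw [ha, hb]⟩
  have hcen : τ.ker ≤ Subgroup.center P := by
    intro p hp
    obtain ⟨a, b, e⟩ := hmem hp
    refine Subgroup.mem_center_iff.mpr fun q => Subtype.ext ?_
    rw [Subgroup.coe_mul, Subgroup.coe_mul, e]
    exact Prod.ext (Prod.ext (zs_comm a _) (zs_comm b _)) (by simp)
  let y : U8 → P := fun x => ⟨((uu x, uu (ufrob x)), gu x), Prod.ext (hθ x).symm (hθ₂ x).symm⟩
  have hcomm : ∀ b : K8, ((⁅y (1, 0), y (0, b)⁆ : P) : (G1 × G1) × G8) =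
      ((zs (csgn (1, 0) (0, b)), zs (csgn (ufrob (1, 0)) (ufrob (0, b)))), 1) := fun b => by
    refine Prod.ext (Prod.ext (uu_comm (umul_comm_axes b).1) (uu_comm (umul_comm_axes b).2)) ?_
    show ⁅gu (1, 0), gu (0, b)⁆ = 1
    rw [commutatorElement_eq_one_iff_mul_comm, gu_mul, gu_mul, (umul_comm_axes b).1]
  have hZ : ∀ a b : Bool, ∃ p ∈ commutator P, (p : (G1 × G1) × G8) = ((zs a, zs b), 1) := by
    obtain ⟨⟨b₁, h11, h12⟩, b₂, h21, h22⟩ := witnesses
    have hc : ∀ b, ⁅y (1, 0), y (0, b)⁆ ∈ commutator P := fun b =>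
      Subgroup.commutator_mem_commutator (Subgroup.mem_top _) (Subgroup.mem_top _)
    have e₁ := hcomm b₁
    have e₂ := hcomm b₂
    rw [h11, h12] at e₁
    rw [h21, h22] at e₂
    intro a b
    cases a <;> cases b
    · exact ⟨1, one_mem _, by rw [zs_false]; rfl⟩
    · exact ⟨_, hc b₂, e₂⟩
    · exact ⟨_, hc b₁, e₁⟩
    · refine ⟨_, mul_mem (hc b₁) (hc b₂), ?_⟩
      rw [Subgroup.coe_mul, e₁, e₂]
      simp [zs_false]
  choose z hzc hz using hZ
  have hzk : ∀ a b, z a b ∈ τ.ker := fun a b => by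
    show ((z a b : (G1 × G1) × G8)).2 = 1
    rw [hz]
  refine ⟨P, inferInstance, inferInstance, τ, ⟨hτ, hcen, fun p hp => ?_⟩, ?_⟩
  · obtain ⟨a, b, e⟩ := hmem hp
    rw [show p = z a b from Subtype.ext (by rw [e, hz])]
    exact hzc a b
  · have := Nat.card_le_card_of_injective (fun ab : Bool × Bool => (⟨z ab.1 ab.2, hzk _ _⟩ : τ.ker))
      fun u v h => by
        have h' := congrArg (fun q : τ.ker => ((q : P) : (G1 × G1) × G8).1) h
        simp only [hz, Prod.mk.injEq] at h'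
        exact Prod.ext (zs_injective h'.1) (zs_injective h'.2)
    simpa [Nat.card_eq_fintype_card] using this

end CfsgLib.Schur.SzEight
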