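import Mathlib
import Cfsg.Prelude.Def_KGroupFacts
import Cfsg.Agent.Lib.Schur.Suzuki
import Cfsg.Agent.Lib.Schur.OrderTwo
import Cfsg.Agent.Lib.Schur.SzEightCover

/-!
# Stem extensions of the Suzuki group over the field of order eight
-/

set_option autoImplicit false
set_option maxRecDepth 100000
set_option linter.style.haveILetI false
set_option linter.unusedSectionVars false

open scoped commutatorElement

namespace CfsgLib.Schur.SzEight

open CfsgLib.Suzuki
open CfsgLib.Schur (comm_mul_left comm_mul_right)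

universe u v

section

variable {F : Type u} [Field F] [Fintype F] [CharP F 2] {m : ℕ} [hP : Param F m]
variable {Γ : Type v} [Group Γ] (σ : Γ →* Gp F m)

include hP

/-- Without mixed commutators the preimage of the root group contributes nothing. -/
theorem preimage_commutator_of_mixed (hσ : Function.Surjective σ) (hc : σ.ker ≤ Subgroup.center Γ)
    (hmix : ∀ x y a b, σ x = gT a 0 → σ y = gT 0 b → ⁅x, y⁆ = 1) {z : Γ} (hz : z ∈ σ.ker)
    (hzd : z ∈ ⁅(grpU F m).comap σ, (grpU F m).comap σ⁆) (hz2 : z ^ 2 = 1) : z = 1 := by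
  classical
  obtain ⟨h4, h9⟩ := suzuki_card_ne (F := F) (m := m)
  letI : CommGroup σ.ker :=
    { (inferInstance : Group σ.ker) with
      mul_comm := fun a b => Subtype.ext (Subgroup.mem_center_iff.mp (hc b.2) a) }
  choose sA hsA using fun a : F => hσ (gT a 0)
  choose sB hsB using fun b : F => hσ (gT 0 b)
  choose w hw using fun t : Fˣ => hσ (gH t)
  have cg := fun {a a' b b' : Γ} (ha : σ a = σ a') (hb : σ b = σ b') =>
    CfsgLib.Schur.commutatorElement_congr σ hc ha hb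
  have kcent : ∀ {x y : Γ}, y ∈ σ.ker → Commute x y := fun {x y} hy =>
    Subgroup.mem_center_iff.mp (hc hy) x
  have hconj : ∀ (g x y : Γ), g * ⁅x, y⁆ * g⁻¹ = ⁅g * x * g⁻¹, g * y * g⁻¹⁆ := fun g x y => by
    simp only [commutatorElement_def]; group
  have hwA : ∀ (t : Fˣ) (a : F), σ (w t * sA a * (w t)⁻¹) = σ (sA (sg F m t * a)) := fun t a => by
    rw [map_mul, map_mul, map_inv, hw, hsA, hsA, gH_conj_gT, mul_zero]
  have hwB : ∀ (t : Fˣ) (b : F),
      σ (w t * sB b * (w t)⁻¹) = σ (sB (sg F m t * (t : F) ^ 2 * b)) := fun t b => by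
    rw [map_mul, map_mul, map_inv, hw, hsB, hsB, gH_conj_gT, mul_zero]
  -- step 1: the preimage of the centre is abelian
  have hBmem : ∀ a b, ⁅sB a, sB b⁆ ∈ σ.ker := fun a b => by
    rw [MonoidHom.mem_ker, map_commutatorElement, hsB, hsB, commutatorElement_eq_one_iff_mul_comm,
      gT_mul, gT_mul, add_comm b a]
  have hBadd : ∀ a b, σ (sB (a + b)) = σ (sB a * sB b) := fun a b => by
    rw [map_mul, hsB, hsB, hsB, gT_mul]; simp
  let cB : F →+ F →+ Additive σ.ker :=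
    AddMonoidHom.mk' (fun a => AddMonoidHom.mk' (fun b => Additive.ofMul ⟨⁅sB a, sB b⁆, hBmem a b⟩)
      (fun b b' => congrArg Additive.ofMul (Subtype.ext (by
        show ⁅sB a, sB (b + b')⁆ = ⁅sB a, sB b⁆ * ⁅sB a, sB b'⁆
        rw [cg rfl (hBadd b b'), comm_mul_right (kcent (hBmem _ _))]))))
      (fun a a' => AddMonoidHom.ext fun b => congrArg Additive.ofMul (Subtype.ext (by
        show ⁅sB (a + a'), sB b⁆ = ⁅sB a, sB b⁆ * ⁅sB a', sB b⁆
        rw [cg (hBadd a a') rfl, comm_mul_left (kcent (hBmem _ _))]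
        exact kcent (hBmem _ _))))
  have hcB : cB = 0 := invariant_form_eq_zero h4 h9 cB
    (fun a => congrArg Additive.ofMul (Subtype.ext (commutatorElement_self (sB a))))
    (fun u hu a b => by
      obtain ⟨t, ht⟩ := norm_surjective (F := F) (m := m) (Units.mk0 (u * u) (mul_ne_zero hu hu))
      have ht' : sg F m t * (t : F) ^ 2 = u * u := congrArg Units.val ht
      refine congrArg Additive.ofMul (Subtype.ext ?_)
      show ⁅sB (u * u * a), sB (u * u * b)⁆ = ⁅sB a, sB b⁆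
      rw [← ht', ← cg (hwB t a) (hwB t b), ← hconj, (kcent (hBmem a b)).eq, mul_inv_cancel_right])
  have hBB : ∀ a b, ⁅sB a, sB b⁆ = 1 := fun a b => congrArg (fun x : Additive σ.ker => (x.toMul : Γ))
    (DFunLike.congr_fun (DFunLike.congr_fun hcB a) b)
  -- step 2: it is central in the preimage of `U`
  have hABmem : ∀ a b, ⁅sA a, sB b⁆ ∈ σ.ker := fun a b => by
    rw [MonoidHom.mem_ker, map_commutatorElement, hsA, hsB, commutatorElement_eq_one_iff_mul_comm,
      gT_mul, gT_mul]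
    simp
  have hAadd : ∀ a b, σ (sA a * sA b) = σ (sA (a + b) * sB (sg F m a * b)) := fun a b => by
    rw [map_mul, map_mul, hsA, hsA, hsA, hsB, gT_mul, gT_mul]; simp
  have hAB : ∀ a b, ⁅sA a, sB b⁆ = 1 := fun a b => hmix _ _ a b (hsA a) (hsB b)
  set V := (grpU F m).comap σ with hV
  set C := (grpZ F m).comap σ with hC
  have hdec : ∀ x ∈ V, ∃ a b, σ x = σ (sA a * sB b) := fun x hx => by
    obtain ⟨a, b, hab⟩ := hx
    exact ⟨a, b, by rw [map_mul, hsA, hsB, gT_mul, hab]; simp⟩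
  have hCV : C ≤ V := fun x ⟨b, hb⟩ => ⟨0, b, hb⟩
  have hcen : ∀ x ∈ V, ∀ y ∈ C, Commute x y := by
    intro x hx y hy
    obtain ⟨a, b, hab⟩ := hdec x hx
    obtain ⟨c, hy'⟩ := hy
    refine commutatorElement_eq_one_iff_mul_comm.mp ?_
    rw [cg hab (show σ y = σ (sB c) by rw [hsB]; exact hy'),
      comm_mul_left (kcent (hBmem b c)), hBB, hAB, mul_one]
  have hcomm : ∀ x ∈ V, ∀ y ∈ V, ⁅x, y⁆ ∈ C := fun x hx y hy => by
    show σ ⁅x, y⁆ ∈ grpZ F m
    rw [map_commutatorElement, ← grpZ_eq_commutator]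
    exact Subgroup.commutator_mem_commutator hx hy
  letI : CommGroup C :=
    { (inferInstance : Group C) with
      mul_comm := fun a b => Subtype.ext (hcen a (hCV a.2) b b.2).eq }
  -- step 3: averaging over the torus
  have hwC : ∀ (t : Fˣ) (x : C), w t * (x : Γ) * (w t)⁻¹ ∈ C := fun t x => by
    obtain ⟨b, hb⟩ := x.2
    exact ⟨sg F m t * (t : F) ^ 2 * b, by
      rw [map_mul, map_mul, map_inv, hw, hb, gH_conj_gT, mul_zero]⟩
  let P : C →* C :=
    MonoidHom.mk' (fun x => ∏ t : Fˣ, (⟨w t * (x : Γ) * (w t)⁻¹, hwC t x⟩ : C)) fun x y => by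
      rw [← Finset.prod_mul_distrib]
      exact Finset.prod_congr rfl fun t _ => Subtype.ext (by
        show w t * ((x : Γ) * y) * (w t)⁻¹ = w t * x * (w t)⁻¹ * (w t * y * (w t)⁻¹)
        group)
  have hPinv : ∀ (u : Fˣ) (x y : C), (y : Γ) = w u * x * (w u)⁻¹ → P y = P x := by
    intro u x y hy
    refine Fintype.prod_equiv (Equiv.mulRight u) _ _ fun t => Subtype.ext ?_
    show w t * (y : Γ) * (w t)⁻¹ = w (t * u) * x * (w (t * u))⁻¹
    have hk : (w (t * u))⁻¹ * (w t * w u) ∈ σ.ker := by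
      rw [MonoidHom.mem_ker, map_mul, map_inv, map_mul, hw, hw, hw, map_mul, inv_mul_cancel]
    obtain ⟨k, hk', e⟩ : ∃ k ∈ σ.ker, w t * w u = w (t * u) * k :=
      ⟨_, hk, (mul_inv_cancel_left _ _).symm⟩
    calc w t * (y : Γ) * (w t)⁻¹ = (w t * w u) * x * (w t * w u)⁻¹ := by rw [hy]; group
      _ = w (t * u) * (k * x * k⁻¹) * (w (t * u))⁻¹ := by rw [e]; group
      _ = _ := by rw [← (kcent hk' : Commute (x : Γ) k).eq, mul_inv_cancel_right]
  have hA : ∀ a, sA a ∈ V := fun a => ⟨a, 0, hsA a⟩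
  have hCl : ∀ {x y v : Γ}, x ∈ V → y ∈ V → v ∈ V → Commute x ⁅y, v⁆ := fun hx hy hv =>
    hcen _ hx _ (hcomm _ hy _ hv)
  have hBl : ∀ (b : F) (y : Γ), y ∈ V → ⁅sB b, y⁆ = 1 := fun b y hy =>
    commutatorElement_eq_one_iff_mul_comm.mpr (hcen y hy _ ⟨b, hsB b⟩).eq.symm
  have hBV : ∀ b, sB b ∈ V := fun b => ⟨0, b, hsB b⟩
  let d : F → F → C := fun a b => ⟨⁅sA a, sA b⁆, hcomm _ (hA a) _ (hA b)⟩
  have hdl : ∀ a a' b, d (a + a') b = d a b * d a' b := fun a a' b => Subtype.ext (by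
    show ⁅sA (a + a'), sA b⁆ = ⁅sA a, sA b⁆ * ⁅sA a', sA b⁆
    have h2 := cg (b := sA b) (hAadd a a') rfl
    rw [comm_mul_left (hCl (hA a) (hA a') (hA b)), comm_mul_left (hCl (hA _) (hBV _) (hA b)),
      hBl _ _ (hA b), one_mul] at h2
    rw [← h2]
    exact (hCl ((Subgroup.commutator_le_self V) (Subgroup.commutator_mem_commutator (hA a) (hA b)))
      (hA a') (hA b)).eq.symm)
  have hdswap : ∀ a b, d b a = (d a b)⁻¹ := fun a b => Subtype.ext (commutatorElement_inv _ _).symm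
  have hdr : ∀ a b b', d a (b + b') = d a b * d a b' := fun a b b' => by
    rw [hdswap (b + b') a, hdl, mul_inv, ← hdswap b a, ← hdswap b' a]
  let e : F →+ F →+ Additive C :=
    AddMonoidHom.mk' (fun a => AddMonoidHom.mk' (fun b => Additive.ofMul (P (d a b)))
      (fun b b' => congrArg Additive.ofMul (by rw [hdr, map_mul]; rfl)))
      (fun a a' => AddMonoidHom.ext fun b => congrArg Additive.ofMul (by rw [hdl, map_mul]; rfl))
  have hezero : e = 0 := invariant_form_eq_zero h4 h9 e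
    (fun a => congrArg Additive.ofMul (by
      rw [show d a a = 1 from Subtype.ext (commutatorElement_self (sA a)), map_one]))
    (fun v hv a b => by
      obtain ⟨x, hx⟩ := sg_surjective (F := F) (m := m) hP.card (v * v)
      have hx0 : x ≠ 0 := fun e => mul_ne_zero hv hv (by rw [← hx, e, map_zero])
      obtain ⟨t, rfl⟩ : ∃ t : Fˣ, (t : F) = x := ⟨Units.mk0 x hx0, rfl⟩
      refine congrArg Additive.ofMul (hPinv t (d a b) _ ?_)
      show ⁅sA (v * v * a), sA (v * v * b)⁆ = _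
      rw [← hx, ← cg (hwA t a) (hwA t b), ← hconj])
  have hle : ⁅V, V⁆ ≤ P.ker.map C.subtype := by
    rw [Subgroup.commutator_le]
    intro x hx y hy
    obtain ⟨a, b, hab⟩ := hdec x hx
    obtain ⟨a', b', hab'⟩ := hdec y hy
    refine ⟨d a a', ?_, ?_⟩
    · exact congrArg Additive.toMul (DFunLike.congr_fun (DFunLike.congr_fun hezero a) a')
    · show ⁅sA a, sA a'⁆ = ⁅x, y⁆
      have h1 : ⁅sA a * sB b, sA a'⁆ = ⁅sA a, sA a'⁆ := by
        rw [comm_mul_left (hCl (hA a) (hBV b) (hA a')), hBl _ _ (hA a'), one_mul]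
      have hm1 : sA a * sB b ∈ V := mul_mem (hA a) (hBV b)
      have h2 : ⁅sA a * sB b, sB b'⁆ = 1 :=
        commutatorElement_eq_one_iff_mul_comm.mpr (hcen _ hm1 _ ⟨b', hsB b'⟩).eq
      rw [cg hab hab', comm_mul_right (hCl (hA a') hm1 (hBV b')), h1, h2, mul_one]
  obtain ⟨zc, hzP, hzz⟩ := hle hzd
  have hz' : (zc : Γ) = z := hzz
  have hPz : P zc = zc ^ Fintype.card Fˣ := by
    show ∏ t : Fˣ, (⟨w t * (zc : Γ) * (w t)⁻¹, hwC t zc⟩ : C) = _
    rw [← Finset.card_univ, ← Finset.prod_const]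
    refine Finset.prod_congr rfl fun t _ => Subtype.ext ?_
    show w t * (zc : Γ) * (w t)⁻¹ = zc
    rw [hz', (kcent hz : Commute (w t) z).eq, mul_inv_cancel_right]
  have h1 : z ^ Fintype.card Fˣ = 1 := by
    have := congrArg Subtype.val (hPz.symm.trans hzP)
    rwa [Subgroup.coe_pow, hz', Subgroup.coe_one] at this
  obtain ⟨k, hk⟩ := odd_card_sub_one (F := F) (m := m)
  rwa [Fintype.card_units, hk, pow_succ, pow_mul, hz2, one_pow, one_mul] at h1

end

theorem eight_facts : (∀ a : K8, a ≠ 0 → ∀ b : K8, sg8 (a ^ 5) * a = 1 ∧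
    sg8 (a ^ 5) * (a ^ 5) ^ 2 * b = a * a * b) := by
  decide +kernel

theorem three_generate : ∀ b : K8, b = 0 ∨ b = 1 ∨ b = ⟨2⟩ ∨ b = ⟨4⟩ ∨ b = 1 + ⟨2⟩ ∨ b = 1 + ⟨4⟩ ∨
    b = ⟨2⟩ + ⟨4⟩ ∨ b = 1 + (⟨2⟩ + ⟨4⟩) := by
  decide +kernel

/-- The kernels are generated by two involutions. -/
theorem exists_gens {Γ : Type} [Group Γ] [Finite Γ] (σ : Γ →* G8) (hσ : Cfsg.IsStemExtension σ) :
    ∃ m₁ ∈ σ.ker, ∃ m₂ ∈ σ.ker, m₁ ^ 2 = 1 ∧ m₂ ^ 2 = 1 ∧ σ.ker ≤ Subgroup.closure {m₁, m₂} := by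
  classical
  have h4 : Fintype.card K8 ≠ 4 := by rw [card_K8]; norm_num
  have h9 : Fintype.card K8 ≠ 9 := by rw [card_K8]; norm_num
  have hc := hσ.2.1
  letI : CommGroup σ.ker :=
    { (inferInstance : Group σ.ker) with
      mul_comm := fun a b => Subtype.ext (Subgroup.mem_center_iff.mp (hc b.2) a) }
  choose sA hsA using fun a : K8 => hσ.1 (gT a 0)
  choose sB hsB using fun b : K8 => hσ.1 (gT 0 b)
  choose w hw using fun t : K8ˣ => hσ.1 (gH t)
  have cg := fun {a a' b b' : Γ} (ha : σ a = σ a') (hb : σ b = σ b') =>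
    CfsgLib.Schur.commutatorElement_congr σ hc ha hb
  have kcent : ∀ {x y : Γ}, y ∈ σ.ker → Commute x y := fun {x y} hy =>
    Subgroup.mem_center_iff.mp (hc hy) x
  have hconj : ∀ (g x y : Γ), g * ⁅x, y⁆ * g⁻¹ = ⁅g * x * g⁻¹, g * y * g⁻¹⁆ := fun g x y => by
    simp only [commutatorElement_def]; group
  have hwA : ∀ (t : K8ˣ) (a : K8), σ (w t * sA a * (w t)⁻¹) = σ (sA (sg K8 1 t * a)) := fun t a => by
    rw [map_mul, map_mul, map_inv, hw, hsA, hsA, gH_conj_gT, mul_zero]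
  have hwB : ∀ (t : K8ˣ) (b : K8),
      σ (w t * sB b * (w t)⁻¹) = σ (sB (sg K8 1 t * (t : K8) ^ 2 * b)) := fun t b => by
    rw [map_mul, map_mul, map_inv, hw, hsB, hsB, gH_conj_gT, mul_zero]
  -- step 1: the preimage of the centre is abelian
  have hBmem : ∀ a b, ⁅sB a, sB b⁆ ∈ σ.ker := fun a b => by
    rw [MonoidHom.mem_ker, map_commutatorElement, hsB, hsB, commutatorElement_eq_one_iff_mul_comm,
      gT_mul, gT_mul, add_comm b a]
  have hBadd : ∀ a b, σ (sB (a + b)) = σ (sB a * sB b) := fun a b => by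
    rw [map_mul, hsB, hsB, hsB, gT_mul]; simp
  let cB : K8 →+ K8 →+ Additive σ.ker :=
    AddMonoidHom.mk' (fun a => AddMonoidHom.mk' (fun b => Additive.ofMul ⟨⁅sB a, sB b⁆, hBmem a b⟩)
      (fun b b' => congrArg Additive.ofMul (Subtype.ext (by
        show ⁅sB a, sB (b + b')⁆ = ⁅sB a, sB b⁆ * ⁅sB a, sB b'⁆
        rw [cg rfl (hBadd b b'), comm_mul_right (kcent (hBmem _ _))]))))
      (fun a a' => AddMonoidHom.ext fun b => congrArg Additive.ofMul (Subtype.ext (by
        show ⁅sB (a + a'), sB b⁆ = ⁅sB a, sB b⁆ * ⁅sB a', sB b⁆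
        rw [cg (hBadd a a') rfl, comm_mul_left (kcent (hBmem _ _))]
        exact kcent (hBmem _ _))))
  have hcB : cB = 0 := invariant_form_eq_zero h4 h9 cB
    (fun a => congrArg Additive.ofMul (Subtype.ext (commutatorElement_self (sB a))))
    (fun u hu a b => by
      obtain ⟨t, ht⟩ := norm_surjective (F := K8) (m := 1) (Units.mk0 (u * u) (mul_ne_zero hu hu))
      have ht' : sg K8 1 t * (t : K8) ^ 2 = u * u := congrArg Units.val ht
      refine congrArg Additive.ofMul (Subtype.ext ?_)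
      show ⁅sB (u * u * a), sB (u * u * b)⁆ = ⁅sB a, sB b⁆
      rw [← ht', ← cg (hwB t a) (hwB t b), ← hconj, (kcent (hBmem a b)).eq, mul_inv_cancel_right])
  have hBB : ∀ a b, ⁅sB a, sB b⁆ = 1 := fun a b => congrArg (fun x : Additive σ.ker => (x.toMul : Γ))
    (DFunLike.congr_fun (DFunLike.congr_fun hcB a) b)
  -- step 2: it is central in the preimage of `U`
  have hABmem : ∀ a b, ⁅sA a, sB b⁆ ∈ σ.ker := fun a b => by
    rw [MonoidHom.mem_ker, map_commutatorElement, hsA, hsB, commutatorElement_eq_one_iff_mul_comm,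
      gT_mul, gT_mul]
    simp
  have hAadd : ∀ a b, σ (sA a * sA b) = σ (sA (a + b) * sB (sg K8 1 a * b)) := fun a b => by
    rw [map_mul, map_mul, hsA, hsA, hsA, hsB, gT_mul, gT_mul]; simp
  let cAB : K8 →+ K8 →+ Additive σ.ker :=
    AddMonoidHom.mk' (fun a => AddMonoidHom.mk' (fun b => Additive.ofMul ⟨⁅sA a, sB b⁆, hABmem a b⟩)
      (fun b b' => congrArg Additive.ofMul (Subtype.ext (by
        show ⁅sA a, sB (b + b')⁆ = ⁅sA a, sB b⁆ * ⁅sA a, sB b'⁆
        rw [cg rfl (hBadd b b'), comm_mul_right (kcent (hABmem _ _))]))))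
      (fun a a' => AddMonoidHom.ext fun b => congrArg Additive.ofMul (Subtype.ext (by
        show ⁅sA (a + a'), sB b⁆ = ⁅sA a, sB b⁆ * ⁅sA a', sB b⁆
        have h2 := cg (b := sB b) (hAadd a a') rfl
        rw [comm_mul_left (kcent (hABmem _ _)), comm_mul_left (kcent (hBmem _ _)), hBB, one_mul] at h2
        rw [← h2]
        exact kcent (hABmem _ _))))
  set c : K8 → K8 → Γ := fun a b => ⁅sA a, sB b⁆ with hcdef
  have hinv : ∀ (t : K8ˣ) a b, c (sg K8 1 t * a) (sg K8 1 t * (t : K8) ^ 2 * b) = c a b := fun t a b => by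
    show ⁅sA _, sB _⁆ = ⁅sA a, sB b⁆
    rw [← cg (hwA t a) (hwB t b), ← hconj, (kcent (hABmem a b)).eq, mul_inv_cancel_right]
  have cadd : ∀ a b b', c a (b + b') = c a b * c a b' := fun a b b' =>
    congrArg (fun x : Additive σ.ker => (x.toMul : Γ)) ((cAB a).map_add b b')
  have czero : ∀ a, c a 0 = 1 := fun a =>
    congrArg (fun x : Additive σ.ker => (x.toMul : Γ)) (cAB a).map_zero
  have czero' : ∀ b, c 0 b = 1 := fun b =>
    congrArg (fun x : Additive σ.ker => (x.toMul : Γ)) (DFunLike.congr_fun cAB.map_zero b)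
  have c11 : c 1 1 = 1 := by
    show ⁅sA 1, sB 1⁆ = 1
    rw [cg (a' := sA 1) (b' := sA 1 * sA 1) rfl (by
      rw [map_mul, hsA, hsB, gT_mul, sg_eq, show (1 : K8) + 1 = 0 from by decide,
        show (0 : K8) + 0 + sg8 1 * 1 = 1 from by decide]),
      commutatorElement_eq_one_iff_mul_comm, mul_assoc]
  set m₁ := c 1 ⟨2⟩ with hm₁
  set m₂ := c 1 ⟨4⟩ with hm₂
  set M := Subgroup.closure ({m₁, m₂} : Set Γ) with hM
  have h1 : ∀ b, c 1 b ∈ M := by
    have e1 : m₁ ∈ M := Subgroup.subset_closure (Set.mem_insert _ _)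
    have e2 : m₂ ∈ M := Subgroup.subset_closure (Set.mem_insert_of_mem _ rfl)
    have e0 : c 1 1 ∈ M := c11 ▸ one_mem M
    intro b
    rcases three_generate b with rfl | rfl | rfl | rfl | rfl | rfl | rfl | rfl
    · rw [czero]; exact one_mem M
    · exact e0
    · exact e1
    · exact e2
    · rw [cadd]; exact mul_mem e0 e1
    · rw [cadd]; exact mul_mem e0 e2
    · rw [cadd]; exact mul_mem e1 e2
    · rw [cadd, cadd]; exact mul_mem e0 (mul_mem e1 e2)
  have hall : ∀ a b, c a b ∈ M := by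
    intro a b
    by_cases ha : a = 0
    · rw [ha, czero']; exact one_mem M
    obtain ⟨f1, f2⟩ := eight_facts a ha b
    rw [← hinv (Units.mk0 (a ^ 5) (pow_ne_zero 5 ha)) a b, sg_eq, Units.val_mk0, f1, f2]
    exact h1 _
  have hsq : ∀ b, c 1 b ^ 2 = 1 := fun b => by
    rw [pow_two, ← cadd, CharTwo.add_self_eq_zero, czero]
  refine ⟨m₁, hABmem _ _, m₂, hABmem _ _, hsq _, hsq _, ?_⟩
  have hMk : M ≤ σ.ker := by
    rw [hM, Subgroup.closure_le]
    rintro g (rfl | rfl) <;> exact hABmem _ _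
  haveI : M.Normal := ⟨fun x hx g => by
    rw [(kcent (hMk hx) : Commute g x).eq, mul_inv_cancel_right]; exact hx⟩
  obtain ⟨hst, -⟩ := CfsgLib.Schur.InvolLift.stem_quotient hσ M hMk
  set τ := QuotientGroup.lift M σ hMk
  have hmix : ∀ x y a b, τ x = gT a 0 → τ y = gT 0 b → ⁅x, y⁆ = 1 := by
    intro x y a b hx hy
    obtain ⟨x', rfl⟩ := QuotientGroup.mk'_surjective M x
    obtain ⟨y', rfl⟩ := QuotientGroup.mk'_surjective M y
    rw [← map_commutatorElement]
    refine (QuotientGroup.eq_one_iff _).mpr ?_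
    rw [cg (a' := sA a) (b' := sB b) (hx.trans (hsA a).symm) (hy.trans (hsB b).symm)]
    exact hall a b
  have hbot : τ.ker = ⊥ := by
    by_contra hne
    have hcard : Nat.card τ.ker ≠ 1 := fun e => hne (Subgroup.eq_bot_of_card_eq _ e)
    obtain ⟨ℓ, hℓ, hdvd⟩ := Nat.exists_prime_and_dvd hcard
    haveI := Fact.mk hℓ
    obtain ⟨⟨z, hzk⟩, hz⟩ := exists_prime_orderOf_dvd_card' ℓ hdvd
    rw [Subgroup.orderOf_mk] at hz
    have hzp : z ^ ℓ = 1 := by rw [← hz, pow_orderOf_eq_one]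
    have key : z = 1 := by
      by_cases h2 : ℓ = 2
      · subst h2
        refine preimage_commutator_of_mixed τ hst.1 hst.2.1 hmix hzk
          (mem_commutator_preimage (a := 1) hst.1 hℓ hzk (hst.2.1 hzk) (hst.2.2 hzk)
            (by rw [pow_one, hzp]) (grpU K8 1) ?_) hzp
        have h := (sylowU K8 1).not_dvd_index
        rwa [coe_sylowU] at h
      · haveI := sylow_cyclic h2 (default : Sylow ℓ G8)
        have hmem := mem_commutator_preimage (a := 1) hst.1 hℓ hzk (hst.2.1 hzk) (hst.2.2 hzk)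
          (by rw [pow_one, hzp]) ((default : Sylow ℓ G8) : Subgroup G8) (Sylow.not_dvd_index _)
        rw [preimage_commutator_eq_bot_of_isCyclic τ hst.2.1] at hmem
        exact Subgroup.mem_bot.mp hmem
    rw [key, orderOf_one] at hz
    exact hℓ.ne_one hz.symm
  intro z hz
  have : (z : Γ ⧸ M) ∈ τ.ker := hz
  rw [hbot, Subgroup.mem_bot] at this
  exact (QuotientGroup.eq_one_iff z).mp this

end CfsgLib.Schur.SzEight
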