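import Mathlib
import Cfsg.Prelude.Def_KGroupFacts
import Cfsg.Agent.Lib.Suzuki.Subfield
import Cfsg.Agent.Lib.Suzuki.LieEquiv
import Cfsg.Agent.Lib.Schur.SzEightBound

/-!
# The Schur multiplier of the Suzuki group over the field of order eight
-/

set_option autoImplicit false
set_option linter.style.haveILetI false

namespace CfsgLib.Schur.SzEight

open CfsgLib.Suzuki

universe u

/-- Powers of an involution, as a homomorphism. -/
def powTwo {K : Type*} [Monoid K] (x : K) (hx : x ^ 2 = 1) : Multiplicative (ZMod 2) →* K where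
  toFun a := x ^ (Multiplicative.toAdd a).val
  map_one' := by rw [toAdd_one, ZMod.val_zero, pow_zero]
  map_mul' a b := by rw [← pow_add, toAdd_mul, ZMod.val_add, ← pow_eq_pow_mod _ hx]

theorem powTwo_one {K : Type*} [Monoid K] (x : K) (hx : x ^ 2 = 1) :
    powTwo x hx (Multiplicative.ofAdd 1) = x := by
  simp [powTwo, ZMod.val_one]

/-- A surjection onto the kernel of any stem extension. -/
theorem exists_surjection {Γ : Type} [Group Γ] [Finite Γ] (σ : Γ →* G8)
    (hσ : Cfsg.IsStemExtension σ) :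
    ∃ π : Multiplicative (ZMod 2 × ZMod 2) →* σ.ker, Function.Surjective π := by
  obtain ⟨m₁, hm₁, m₂, hm₂, h1, h2, hle⟩ := exists_gens σ hσ
  letI : CommGroup σ.ker :=
    { (inferInstance : Group σ.ker) with
      mul_comm := fun a b => Subtype.ext (Subgroup.mem_center_iff.mp (hσ.2.1 b.2) a.1) }
  let M : σ.ker := ⟨m₁, hm₁⟩
  let N : σ.ker := ⟨m₂, hm₂⟩
  let fM := powTwo M (Subtype.ext h1)
  let fN := powTwo N (Subtype.ext h2)
  let p₁ : Multiplicative (ZMod 2 × ZMod 2) →* Multiplicative (ZMod 2) :=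
    AddMonoidHom.toMultiplicative (AddMonoidHom.fst _ _)
  let p₂ : Multiplicative (ZMod 2 × ZMod 2) →* Multiplicative (ZMod 2) :=
    AddMonoidHom.toMultiplicative (AddMonoidHom.snd _ _)
  let π := fM.comp p₁ * fN.comp p₂
  refine ⟨π, fun z => ?_⟩
  have key : Subgroup.closure ({m₁, m₂} : Set Γ) ≤ π.range.map σ.ker.subtype := by
    rw [Subgroup.closure_le]
    rintro g (rfl | rfl)
    · refine ⟨M, ⟨Multiplicative.ofAdd (1, 0), ?_⟩, rfl⟩
      show fM (Multiplicative.ofAdd 1) * fN 1 = M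
      simp only [map_one fN, mul_one]; exact powTwo_one _ _
    · refine ⟨N, ⟨Multiplicative.ofAdd (0, 1), ?_⟩, rfl⟩
      show fM 1 * fN (Multiplicative.ofAdd 1) = N
      simp only [map_one fM, one_mul]; exact powTwo_one _ _
  obtain ⟨y, ⟨x, rfl⟩, hy⟩ := key (hle z.2)
  exact ⟨x, Subtype.ext hy⟩

/-- A small type without structure. -/
structure Pts (n : ℕ) where
  /-- The code. -/
  v : Fin n

/-- Transport of a multiplier along an isomorphism, also between universes. -/
theorem hasSchurMultiplier_transport {G : Type} [Group G] {G' : Type u} [Group G'] (e : G ≃* G')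
    {A : Type*} [CommGroup A] (h : Cfsg.HasSchurMultiplier G A) : Cfsg.HasSchurMultiplier G' A := by
  obtain ⟨⟨Γ, iΓ, fΓ, σ, hσ, ⟨k⟩⟩, hb⟩ := h
  refine ⟨⟨ULift.{u} Γ, inferInstance, inferInstance,
    (e.toMonoidHom.comp σ).comp (MulEquiv.ulift : ULift.{u} Γ ≃* Γ).toMonoidHom, ?_, ?_⟩, fun Δ _ _ τ hτ => ?_⟩
  · refine ⟨fun g => ?_, fun x hx => ?_, fun x hx => ?_⟩
    · obtain ⟨a, ha⟩ := hσ.1 (e.symm g)
      exact ⟨ULift.up a, by show e (σ a) = g; rw [ha, e.apply_symm_apply]⟩
    · have h1 : σ x.down = 1 := e.injective ((show e (σ x.down) = 1 from hx).trans (map_one e).symm)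
      exact Subgroup.mem_center_iff.mpr fun y =>
        ULift.ext _ _ (Subgroup.mem_center_iff.mp (hσ.2.1 h1) y.down)
    · have h1 : σ x.down = 1 := e.injective ((show e (σ x.down) = 1 from hx).trans (map_one e).symm)
      have h2 := Subgroup.mem_map_of_mem (MulEquiv.ulift : ULift.{u} Γ ≃* Γ).symm.toMonoidHom (hσ.2.2 h1)
      rw [commutator_def, Subgroup.map_commutator] at h2
      exact Subgroup.commutator_mono le_top le_top h2
  · refine ⟨MulEquiv.trans ?_ k⟩
    exact
      { toFun := fun x => ⟨x.1.down, e.injective ((show e (σ x.1.down) = 1 from x.2).trans (map_one e).symm)⟩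
        invFun := fun y => ⟨ULift.up y.1, by
          show e (σ y.1) = 1
          rw [show σ y.1 = 1 from y.2, map_one]⟩
        left_inv := fun _ => rfl
        right_inv := fun _ => rfl
        map_mul' := fun _ _ => rfl }
  · obtain ⟨n, ⟨ε₀⟩⟩ := Finite.exists_equiv_fin Δ
    let ε : Δ ≃ Pts n := ε₀.trans ⟨Pts.mk, Pts.v, fun _ => rfl, fun _ => rfl⟩
    letI : Group (Pts n) := ε.symm.group
    haveI : Finite (Pts n) := Finite.of_equiv _ ε
    let μ : Pts n ≃* Δ := Equiv.mulEquiv ε.symm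
    let τ' : Pts n →* G := e.symm.toMonoidHom.comp (τ.comp μ.toMonoidHom)
    have hk : ∀ x, x ∈ τ'.ker ↔ μ x ∈ τ.ker := fun x => by
      rw [MonoidHom.mem_ker, MonoidHom.mem_ker]; exact map_eq_one_iff e.symm e.symm.injective
    have hst : Cfsg.IsStemExtension τ' := by
      refine ⟨e.symm.surjective.comp (hτ.1.comp μ.surjective), fun x hx => ?_, fun x hx => ?_⟩
      · exact Subgroup.mem_center_iff.mpr fun y => μ.injective (by
          rw [map_mul, map_mul]
          exact Subgroup.mem_center_iff.mp (hτ.2.1 ((hk x).mp hx)) (μ y))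
      · have h2 := Subgroup.mem_map_of_mem μ.symm.toMonoidHom (hτ.2.2 ((hk x).mp hx))
        rw [commutator_def, Subgroup.map_commutator] at h2
        rw [show μ.symm.toMonoidHom (μ x) = x from μ.symm_apply_apply x] at h2
        exact Subgroup.commutator_mono le_top le_top h2
    obtain ⟨π, hπ⟩ := hb (Pts n) τ' hst
    let r : τ'.ker →* τ.ker :=
      { toFun := fun x => ⟨μ x.1, (hk x.1).mp x.2⟩
        map_one' := Subtype.ext (map_one μ)
        map_mul' := fun x y => Subtype.ext (map_mul μ _ _) }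
    refine ⟨r.comp π, fun y => ?_⟩
    obtain ⟨a, ha⟩ := hπ ⟨μ.symm y.1, (hk _).mpr (by rw [μ.apply_symm_apply]; exact y.2)⟩
    refine ⟨a, Subtype.ext ?_⟩
    show μ (π a).1 = y.1
    rw [ha, μ.apply_symm_apply]

theorem hasSchurMultiplier_G8 : Cfsg.HasSchurMultiplier G8 (Multiplicative (ZMod 2 × ZMod 2)) := by
  refine ⟨?_, fun Γ _ _ σ hσ => exists_surjection σ hσ⟩
  obtain ⟨S, iS, iF, τ, hτ, h4⟩ := exists_cover
  obtain ⟨π, hπ⟩ := exists_surjection τ hτ
  have hA : Nat.card (Multiplicative (ZMod 2 × ZMod 2)) = 4 := by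
    rw [Nat.card_congr Multiplicative.toAdd, Nat.card_prod, Nat.card_zmod]
  exact ⟨S, iS, iF, τ, hτ, ⟨(MulEquiv.ofBijective π
    (hπ.bijective_of_nat_card_le (hA.trans_le h4))).symm⟩⟩

theorem hasSchurMultiplier_suzuki_eight {F : Type u} [Field F] [Fintype F] (hF : Fintype.card F = 8) :
    Cfsg.HasSchurMultiplier ↥(Cfsg.Lie.Sz F 4) (Multiplicative (ZMod 2 × ZMod 2)) := by
  haveI : CharP F 2 := charP_two_of_card (k := 3) (by rw [hF]; norm_num)
  haveI : Param F 1 := ⟨le_rfl, by rw [hF]; norm_num⟩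
  obtain ⟨φ, -⟩ := exists_ringHom (F := F) (m := 1) K8 (k := 1) (Param.card (F := K8) (m := 1)) dvd_rfl
  have hφ := sg_compat (F := F) (m := 1) (Param.card (F := K8) (m := 1)) dvd_rfl φ
  have hb : Function.Bijective (emb (k := 1) (m := 1) φ hφ) :=
    (Nat.bijective_iff_injective_and_card _).mpr ⟨emb_injective φ hφ, by
      rw [natCard_group, natCard_group, card_K8, hF]⟩
  exact hasSchurMultiplier_transport ((MulEquiv.ofBijective _ hb).trans
    ((MonoidHom.ofInjective (toGLEmb_injective (F := F) (m := 1))).trans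
      (MulEquiv.subgroupCongr (range_toGLEmb (F := F) (m := 1))))) hasSchurMultiplier_G8

end CfsgLib.Schur.SzEight
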