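import Cfsg.Agent.Lib.Schur.UnitaryThreeMult
import Cfsg.Agent.Lib.Classical.Phan.Main

/-!
Stem extensions of `SU_n(q)`, `q ≥ 4`, are trivial: the lifts of the coordinate windows `SU_3(q)`
form a system in the sense of Phan.
-/

set_option autoImplicit false
set_option linter.unusedSectionVars false
set_option linter.style.haveILetI false

open scoped commutatorElement

namespace CfsgLib.Schur.UnitaryPhan

universe u

section General

variable {H : Type*} [Group H] {Q : Type*} [Group Q] {Γ : Type*} [Group Γ] {τ : Γ →* Q}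

/-- Lifts of a homomorphism out of a perfect group are unique. -/
theorem lift_unique (hperf : commutator H = ⊤) (hc : τ.ker ≤ Subgroup.center Γ)
    {s s' : H →* Γ} (h : τ.comp s = τ.comp s') : s = s' := by
  have hk : ∀ x, (s x)⁻¹ * s' x ∈ τ.ker := fun x => by
    rw [MonoidHom.mem_ker, map_mul, map_inv, inv_mul_eq_one]
    exact DFunLike.congr_fun h x
  have hcom : ∀ x g, g * ((s x)⁻¹ * s' x) = (s x)⁻¹ * s' x * g := fun x g =>
    Subgroup.mem_center_iff.1 (hc (hk x)) g
  letI : CommGroup τ.ker :=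
    { (inferInstance : Group τ.ker) with
      mul_comm := fun a b => Subtype.ext (Subgroup.mem_center_iff.1 (hc b.2) a.1) }
  let d : H →* τ.ker := MonoidHom.mk' (fun x => ⟨(s x)⁻¹ * s' x, hk x⟩) fun x y => Subtype.ext (by
    show (s (x * y))⁻¹ * s' (x * y) = (s x)⁻¹ * s' x * ((s y)⁻¹ * s' y)
    calc (s (x * y))⁻¹ * s' (x * y) = (s y)⁻¹ * ((s x)⁻¹ * s' x) * s' y := by
          rw [map_mul, map_mul]; group
      _ = (s x)⁻¹ * s' x * (s y)⁻¹ * s' y := by rw [hcom x]
      _ = _ := by group)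
  refine MonoidHom.ext fun x => ?_
  have h1 := Abelianization.commutator_subset_ker d (hperf ▸ Subgroup.mem_top x)
  exact inv_mul_eq_one.1 (congrArg Subtype.val (MonoidHom.mem_ker.1 h1))

/-- Lifts of commuting perfect groups commute. -/
theorem lift_commute {H' : Type*} [Group H'] (hperf : commutator H' = ⊤)
    (hc : τ.ker ≤ Subgroup.center Γ) (s : H →* Γ) (s' : H' →* Γ)
    (h : ∀ a b, Commute (τ (s a)) (τ (s' b))) (a : H) (b : H') : Commute (s a) (s' b) := by
  have e : (MulAut.conj (s a)).toMonoidHom.comp s' = s' := by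
    refine lift_unique hperf hc (MonoidHom.ext fun x => ?_)
    show τ (s a * s' x * (s a)⁻¹) = τ (s' x)
    rw [map_mul, map_mul, map_inv, (h a x).eq, mul_inv_cancel_right]
  exact mul_inv_eq_iff_eq_mul.1 (DFunLike.congr_fun e b)

end General

section Exists

variable {H : Type u} [Group H] [Finite H] {Q : Type*} [Group Q] {Γ : Type u} [Group Γ] [Finite Γ]
  {τ : Γ →* Q}

/-- Lifts exist out of a perfect group with trivial multiplier. -/
theorem exists_lift (hperf : commutator H = ⊤) (hmul : Cfsg.HasCyclicSchurMultiplier H 1)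
    (hs : Function.Surjective τ) (hc : τ.ker ≤ Subgroup.center Γ) (f : H →* Q) :
    ∃ s : H →* Γ, τ.comp s = f := by
  let D₀ : Subgroup (H × Γ) := (f.comp (MonoidHom.fst H Γ)).eqLocus (τ.comp (MonoidHom.snd H Γ))
  let D : Subgroup (H × Γ) := ⁅D₀, D₀⁆
  have hDle : D ≤ D₀ := by
    rw [Subgroup.commutator_le]
    intro a ha b hb
    rw [commutatorElement_def]
    exact mul_mem (mul_mem (mul_mem ha hb) (inv_mem ha)) (inv_mem hb)
  have hfst : D₀.map (MonoidHom.fst H Γ) = ⊤ := by
    rw [eq_top_iff]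
    intro x _
    obtain ⟨y, hy⟩ := hs (f x)
    exact ⟨(x, y), hy.symm, rfl⟩
  have hD : D.map (MonoidHom.fst H Γ) = ⊤ := by
    rw [Subgroup.map_commutator, hfst, ← commutator_def, hperf]
  have hcen : ∀ x ∈ D₀, x.1 = 1 → x ∈ Subgroup.center (H × Γ) := by
    intro x hx h1
    have h2 : x.2 ∈ τ.ker := by
      have : f x.1 = τ x.2 := hx
      rw [MonoidHom.mem_ker, ← this, h1, map_one]
    refine Subgroup.mem_center_iff.mpr fun y => Prod.ext ?_ ?_
    · simp [h1]
    · exact Subgroup.mem_center_iff.mp (hc h2) y.2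
  have hDD : D ≤ ⁅D, D⁆ := by
    rw [Subgroup.commutator_le]
    intro a ha b hb
    obtain ⟨a', ha', ea⟩ : a.1 ∈ D.map (MonoidHom.fst H Γ) := hD ▸ Subgroup.mem_top _
    obtain ⟨b', hb', eb⟩ : b.1 ∈ D.map (MonoidHom.fst H Γ) := hD ▸ Subgroup.mem_top _
    have h1 : ∀ {u v : H × Γ}, u ∈ D₀ → v ∈ D₀ → u.1 = v.1 →
        u⁻¹ * v ∈ Subgroup.center (H × Γ) := fun hu hv e =>
      hcen _ (mul_mem (inv_mem hu) hv) (by rw [Prod.fst_mul, Prod.fst_inv, e, inv_mul_cancel])
    have key : ∀ {u v : H × Γ}, u ∈ D₀ → v ∈ D₀ → u.1 = v.1 → ∀ w, ⁅u, w⁆ = ⁅v, w⁆ :=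
      fun {u v} hu hv e w => by
        have hz := Subgroup.mem_center_iff.1 (h1 hu hv e)
        rw [commutatorElement_def u w, commutatorElement_def v w]
        calc u * w * u⁻¹ * w⁻¹ = u * (w * (u⁻¹ * v)) * v⁻¹ * w⁻¹ := by group
          _ = u * (u⁻¹ * v * w) * v⁻¹ * w⁻¹ := by rw [hz w]
          _ = _ := by group
    have e1 : ⁅a', b'⁆ = ⁅a, b'⁆ := key (hDle ha') ha ea b'
    have e2 : ⁅a, b'⁆ = ⁅a, b⁆ := by
      rw [← commutatorElement_inv b' a, key (hDle hb') hb eb a, commutatorElement_inv]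
    rw [← e2, ← e1]
    exact Subgroup.commutator_mem_commutator ha' hb'
  set p := (MonoidHom.fst H Γ).comp D.subtype with hp
  have hps : Function.Surjective p := fun x => by
    obtain ⟨y, hy, e⟩ : x ∈ D.map (MonoidHom.fst H Γ) := hD ▸ Subgroup.mem_top x
    exact ⟨⟨y, hy⟩, e⟩
  have hstem : Cfsg.IsStemExtension p := by
    refine ⟨hps, fun x hx => ?_, fun x _ => ?_⟩
    · refine Subgroup.mem_center_iff.mpr fun y => Subtype.ext ?_
      exact Subgroup.mem_center_iff.mp (hcen x (hDle x.2) hx) y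
    · rw [← Subgroup.mem_map_iff_mem (f := D.subtype) D.subtype_injective, commutator_def,
        Subgroup.map_commutator, ← MonoidHom.range_eq_map, Subgroup.range_subtype]
      exact hDD x.2
  have hi : Function.Injective p := by
    obtain ⟨π, hπ⟩ := hmul.2 D p hstem
    rw [← MonoidHom.ker_eq_bot_iff]
    haveI := hπ.subsingleton
    exact Subgroup.eq_bot_of_subsingleton _
  let e := MulEquiv.ofBijective p ⟨hi, hps⟩
  refine ⟨((MonoidHom.snd H Γ).comp D.subtype).comp e.symm.toMonoidHom, MonoidHom.ext fun x => ?_⟩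
  have h : f ((e.symm x : D) : H × Γ).1 = τ ((e.symm x : D) : H × Γ).2 := hDle (e.symm x).2
  rw [show ((e.symm x : D) : H × Γ).1 = x from e.apply_symm_apply x] at h
  exact h.symm

end Exists

open Cfsg CfsgLib.Classical.Herm
open CfsgLib.Classical.Phan
open CfsgLib.ClassicalAut (Unitary.Conj)

variable {F : Type u} [Field F] [Finite F] {q n : ℕ} (K : Unitary.Conj F q)

include K in
/-- Every finite stem extension of `SU_n(q)`, `q ≥ 4`, is trivial. -/
theorem stem_injective (hq : 4 ≤ q) (hn : 3 ≤ n) {Γ : Type u} [Group Γ] [Finite Γ]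
    {τ : Γ →* SU n F q} (hτ : Cfsg.IsStemExtension τ) : Function.Injective τ := by
  classical
  obtain ⟨hsur, hc, hd⟩ := hτ
  have hwin : ∀ j, ∃ s : SU 3 F q →* Γ, ∀ h : j + 3 ≤ n, τ.comp s = emb K h := fun j => by
    by_cases h : j + 3 ≤ n
    · obtain ⟨s, hs⟩ := exists_lift (UnitaryThree.perfect K (by omega))
        (UnitaryThree.multiplier K hq) hsur hc (emb K h : SU 3 F q →* SU n F q)
      exact ⟨s, fun _ => hs⟩
    · exact ⟨1, fun h' => absurd h' h⟩
  choose W hW using hwin
  let s : ℕ → (SU 2 F q →* Γ) := fun j =>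
    if j + 3 ≤ n then (W j).comp (bA K) else (W (j - 1)).comp (bB K)
  have hs : ∀ j (h : j + 2 ≤ n), τ.comp (s j) = emb K h := fun j h => by
    refine MonoidHom.ext fun A => ?_
    by_cases h' : j + 3 ≤ n
    · simp only [s, if_pos h']
      show (τ.comp (W j)) (bA K A) = _
      rw [hW j h']
      exact emb_emb K h01 h' (by omega) A
    · obtain ⟨i, rfl⟩ : ∃ i, j = i + 1 := ⟨j - 1, by omega⟩
      simp only [s, if_neg h']
      show (τ.comp (W i)) (bB K A) = _
      rw [hW i (by omega)]
      exact emb_emb K h12 (by omega) (by omega) A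
  have hperf : commutator (SU 2 F q) = ⊤ := su_two_perfect K hq
  have hinj : ∀ j l, j ≤ l → j + 1 < n → l + 1 < n →
      Set.InjOn τ (↑((s j).range ⊔ (s l).range) : Set Γ) := by
    intro j l hjl hj hl
    rcases (show l = j ∨ l = j + 1 ∨ j + 2 ≤ l by omega) with rfl | rfl | h2
    · rw [sup_idem]
      rintro _ ⟨A, rfl⟩ _ ⟨B, rfl⟩ e
      rw [emb_injective K (show l + 2 ≤ n by omega)
        (show emb K (show l + 2 ≤ n by omega) A = emb K (show l + 2 ≤ n by omega) B by
          rw [← hs l (show l + 2 ≤ n by omega)]; exact e)]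
    · have h3 : j + 3 ≤ n := by omega
      have hA : s j = (W j).comp (bA K) := lift_unique hperf hc (by
        rw [hs j (by omega), ← MonoidHom.comp_assoc, hW j h3]
        exact MonoidHom.ext fun A => (emb_emb K h01 h3 (show j + 0 + 2 ≤ n by omega) A).symm)
      have hB : s (j + 1) = (W j).comp (bB K) := lift_unique hperf hc (by
        rw [hs (j + 1) (by omega), ← MonoidHom.comp_assoc, hW j h3]
        exact MonoidHom.ext fun A => (emb_emb K h12 h3 (show j + 1 + 2 ≤ n by omega) A).symm)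
      refine Set.InjOn.mono (SetLike.coe_subset_coe.2 (?_ : _ ≤ (W j).range)) ?_
      · rw [hA, hB]
        exact sup_le (by rintro _ ⟨A, rfl⟩; exact ⟨_, rfl⟩) (by rintro _ ⟨A, rfl⟩; exact ⟨_, rfl⟩)
      rintro _ ⟨A, rfl⟩ _ ⟨B, rfl⟩ e
      rw [emb_injective K h3 (show emb K h3 A = emb K h3 B by rw [← hW j h3]; exact e)]
    · have hj' : j + 2 ≤ n := by omega
      have hl' : l + 2 ≤ n := by omega
      have hce : ∀ A B : SU 2 F q, Commute (emb K hj' A) (emb K hl' B) := fun A B =>
        comm_Blk_Fix K h2 (emb_mem_Blk K hj' A) (Blk_le_Fix le_rfl (emb_mem_Blk K hl' B))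
      have hcg : ∀ A B, Commute (s j A) (s l B) := lift_commute hperf hc _ _ fun A B => by
        show Commute ((τ.comp (s j)) A) ((τ.comp (s l)) B)
        rw [hs j hj', hs l hl']; exact hce A B
      let P := MonoidHom.noncommCoprod (s j) (s l) hcg
      have hle : (s j).range ⊔ (s l).range ≤ P.range := by
        rw [MonoidHom.noncommCoprod_range]
      refine Set.InjOn.mono (SetLike.coe_subset_coe.2 hle) ?_
      rintro _ ⟨⟨A, B⟩, rfl⟩ _ ⟨⟨A', B'⟩, rfl⟩ e
      have e' : emb K hj' A * emb K hl' B = emb K hj' A' * emb K hl' B' := by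
        rw [← hs j hj', ← hs l hl']
        simpa [P, MonoidHom.noncommCoprod_apply] using e
      have hz : (emb K hj' A')⁻¹ * emb K hj' A = emb K hl' B' * (emb K hl' B)⁻¹ := by
        rw [inv_mul_eq_iff_eq_mul, ← mul_assoc, ← e', mul_inv_cancel_right]
      have h1 : emb K hl' B' * (emb K hl' B)⁻¹ = 1 := by
        refine eq_of_basis fun i hi => ?_
        rw [app_one]
        by_cases hil : l ≤ i
        · rw [← hz]
          exact mul_mem (inv_mem (emb_mem_Blk K hj' A')) (emb_mem_Blk K hj' A) i (by omega)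
        · exact mul_mem (emb_mem_Blk K hl' B') (inv_mem (emb_mem_Blk K hl' B)) i (by omega)
      rw [h1, inv_mul_eq_one] at hz
      rw [mul_inv_eq_one] at h1
      rw [emb_injective K hj' hz, emb_injective K hl' h1]
  let S : Sys (F := F) (q := q) Γ n :=
    { π := τ
      U := fun j => (s j).range
      big := hq
      mapU := fun j hj => by
        show Subgroup.map τ (s j).range = _
        rw [← MonoidHom.range_comp, hs j (show j + 2 ≤ n by omega), range_emb_two K]
      injU := fun j l hj hl => by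
        rcases le_total j l with h | h
        · exact hinj j l h hj hl
        · rw [sup_comm]; exact hinj l j h hl hj }
  have hL : commutator Γ ≤ S.L 0 := by
    rw [commutator_def, Subgroup.commutator_le]
    intro a _ b _
    obtain ⟨x, hx, ex⟩ := S.surj K 0 (τ a) (by rw [Fix_zero]; exact Subgroup.mem_top _)
    obtain ⟨y, hy, ey⟩ := S.surj K 0 (τ b) (by rw [Fix_zero]; exact Subgroup.mem_top _)
    rw [CfsgLib.Schur.commutatorElement_congr τ hc ex.symm ey.symm, commutatorElement_def]
    exact mul_mem (mul_mem (mul_mem hx hy) (inv_mem hx)) (inv_mem hy)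
  rw [← MonoidHom.ker_eq_bot_iff, eq_bot_iff]
  intro z hz
  exact Subgroup.mem_bot.2 (S.injOn K 0 (hL (hd hz)) (one_mem _)
    (by show τ z = τ 1; rw [map_one]; exact hz))

end CfsgLib.Schur.UnitaryPhan
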