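import Cfsg.Agent.Lib.Schur.UnitaryTiny
import Cfsg.Agent.Lib.Schur.UnitaryPhan

/-!
The prime two for `SU_5(3)`: two blocks `GU_2(3)`, each inside a window `SU_3(3)`, exchanged by an
involution.
-/

set_option autoImplicit false
set_option linter.unusedSectionVars false
set_option linter.style.haveILetI false

open scoped commutatorElement

namespace CfsgLib.Schur.UnitaryFiveThree

open Matrix Cfsg CfsgLib.Classical.Herm
open CfsgLib.Classical.Phan (bv cd Blk Fix emb emb_emb emb_mem_Blk emb_injective range_emb_two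
  Blk_le_Fix comm_Blk_Fix ext_cd cd_bv cd_smul cd_emb cd_emb_out Blk_cd eq_one_of_almost app_zero')
open CfsgLib.ClassicalAut (Unitary.Conj Unitary.herm_apply)
open CfsgLib.Schur.UnitaryThree (mu card_mu IsDiag exists_tori exists_swaps)
open CfsgLib.Schur.UnitaryTiny (card_sup card_blk hom_trivial three_three)

universe u

variable {F : Type u} [Field F] [Finite F] {q : ℕ} (K : Unitary.Conj F q)

include K in
theorem multiplier_three (hq : q = 3) : Cfsg.HasCyclicSchurMultiplier (SU 3 F q) 1 := by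
  refine trivial_multiplier_of_prime fun ℓ hℓ E _ _ τ hτ hk => ?_
  by_cases h3 : ℓ ∣ q
  · exact UnitaryThree.no_stem_char K (by omega) hℓ h3 hτ hk
  by_cases h2 : ℓ = 2
  · subst h2; exact three_three K hq hτ hk
  refine UnitaryTools.no_stem_of_sq_not_dvd hτ hℓ hk fun h => ?_
  rw [UnitaryTiny.card_SU_three' K, hq] at h
  norm_num at h
  have hne3 : ℓ ≠ 3 := fun e => h3 (by rw [e, hq])
  have hco : Nat.Coprime (ℓ ^ 2) 864 := by
    refine Nat.Coprime.pow_left 2 ?_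
    refine (hℓ.coprime_iff_not_dvd).2 fun hd => ?_
    rw [show (864 : ℕ) = 2 ^ 5 * 3 ^ 3 by norm_num] at hd
    rcases hℓ.dvd_mul.1 hd with hd | hd
    · exact h2 ((Nat.prime_dvd_prime_iff_eq hℓ Nat.prime_two).1 (hℓ.dvd_of_dvd_pow hd))
    · exact hne3 ((Nat.prime_dvd_prime_iff_eq hℓ Nat.prime_three).1 (hℓ.dvd_of_dvd_pow hd))
  have h7 : ℓ ^ 2 ∣ 7 := hco.dvd_of_dvd_mul_left (show ℓ ^ 2 ∣ 864 * 7 from h)
  have := Nat.le_of_dvd (by norm_num) h7
  have hge : 5 ≤ ℓ := by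
    by_contra hlt
    have := hℓ.two_le
    interval_cases ℓ
    all_goals first | exact h2 rfl | exact hne3 rfl | exact absurd hℓ (by norm_num)
  nlinarith

/-- The stabiliser of a coordinate line. -/
def Y (i : ℕ) : Subgroup (SU 3 F q) where
  carrier := {g | ∃ c : F, app g (bv i : Fin 3 → F) = c • bv i}
  one_mem' := ⟨1, by rw [app_one, one_smul]⟩
  mul_mem' := fun {a b} ⟨c, h⟩ ⟨c', h'⟩ => ⟨c' * c, by rw [app_mul, h', app_smul, h, smul_smul]⟩
  inv_mem' := fun {a} ⟨c, h⟩ => by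
    rcases eq_or_ne c 0 with rfl | hc
    · refine ⟨0, ?_⟩
      have h0 : (bv i : Fin 3 → F) = 0 := by
        rw [← app_inv a (bv i), h, app_smul, zero_smul]
      rw [h0, app_zero', smul_zero]
    · exact ⟨c⁻¹, by conv_rhs => rw [← app_inv a (bv i), h, app_smul, smul_smul, inv_mul_cancel₀ hc, one_smul]⟩

include K in
theorem Y_norm {i : ℕ} (hi : i < 3) {g : SU 3 F q} {c : F} (h : app g (bv i : Fin 3 → F) = c • bv i) :
    c * K.bar c = 1 := by
  have h1 := h_app g (bv i : Fin 3 → F) (bv i)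
  rw [h, h_smul_left K, h_smul_right K, CfsgLib.Classical.Phan.h_bv K, cd_bv, if_pos ⟨rfl, hi⟩, mul_one] at h1
  exact h1

theorem Y_conj {i : ℕ} {y x : SU 3 F q} (hy : y ∈ Y i) (hx : app x (bv i : Fin 3 → F) = bv i) :
    app (y * x * y⁻¹) (bv i : Fin 3 → F) = bv i := by
  obtain ⟨c, hc⟩ := (Y i).inv_mem hy
  rw [app_mul, app_mul, hc, app_smul, hx, ← hc, app_inv']

include K in
theorem blk_le_Y0 {x : SU 3 F q} (hx : x ∈ (Blk 1 3 : Subgroup (SU 3 F q))) : x ∈ Y 0 :=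
  ⟨1, by rw [hx 0 (.inl Nat.one_pos), one_smul]⟩

include K in
theorem blk_le_Y2 {x : SU 3 F q} (hx : x ∈ (Blk 0 2 : Subgroup (SU 3 F q))) : x ∈ Y 2 :=
  ⟨1, by rw [hx 2 (.inr le_rfl), one_smul]⟩

include K in
theorem diag_Y {g : SU 3 F q} {d0 d1 d2 : F} (h : IsDiag g d0 d1 d2) (i : ℕ) (hi : i < 3) :
    g ∈ Y i := by
  refine ⟨![d0, d1, d2] ⟨i, hi⟩, ext_cd fun j hj => ?_⟩
  interval_cases i <;> interval_cases j <;>
    simp [(h _).1, (h _).2.1, (h _).2.2, cd_bv, cd_smul]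

include K in
theorem no_stem_two (hq : q = 3) {E : Type u} [Group E] [Finite E] {τ : E →* SU 5 F q}
    (hτ : Cfsg.IsStemExtension τ) (hk : Nat.card τ.ker = 2) : False := by
  classical
  obtain ⟨hs, hc, hd⟩ := hτ
  obtain ⟨a, b, ha, hb⟩ := exists_tori K
  obtain ⟨w, w', hw, hw'⟩ := exists_swaps K
  have hperf : commutator (SU 3 F q) = ⊤ := UnitaryThree.perfect K (by omega)
  have hlift : ∀ (j : ℕ) (h : j + 3 ≤ 5), ∃ s : SU 3 F q →* E, τ.comp s = emb K h := fun j h =>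
    UnitaryPhan.exists_lift hperf (multiplier_three K hq) hs hc _
  obtain ⟨s0, hs0⟩ := hlift 0 (by norm_num)
  obtain ⟨s1, hs1⟩ := hlift 1 (by norm_num)
  obtain ⟨s2, hs2⟩ := hlift 2 (by norm_num)
  set e0 : SU 3 F q →* SU 5 F q := emb K (show 0 + 3 ≤ 5 by norm_num)
  set e1 : SU 3 F q →* SU 5 F q := emb K (show 1 + 3 ≤ 5 by norm_num)
  set e2 : SU 3 F q →* SU 5 F q := emb K (show 2 + 3 ≤ 5 by norm_num)
  have t0 : ∀ x, τ (s0 x) = e0 x := fun x => DFunLike.congr_fun hs0 x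
  have t1 : ∀ x, τ (s1 x) = e1 x := fun x => DFunLike.congr_fun hs1 x
  have t2 : ∀ x, τ (s2 x) = e2 x := fun x => DFunLike.congr_fun hs2 x
  -- a block commutes with anything it commutes with downstairs
  have hblk : ∀ (j : ℕ) (hj : j + 1 < 3) (s : SU 3 F q →* E) (y : E),
      (∀ x ∈ (Blk j (j + 2) : Subgroup (SU 3 F q)), Commute (τ (s x)) (τ y)) →
      ∀ x ∈ (Blk j (j + 2) : Subgroup (SU 3 F q)), Commute (s x) y := by
    intro j hj s y h x hx
    letI : CommGroup τ.ker :=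
      { (inferInstance : Group τ.ker) with
        mul_comm := fun a b => Subtype.ext (UnitaryLocal.commute_ker hc b.2 a.1).eq }
    have hk' : ∀ x : ↥(Blk j (j + 2) : Subgroup (SU 3 F q)), ⁅s x, y⁆ ∈ τ.ker := fun x => by
      rw [MonoidHom.mem_ker, map_commutatorElement, commutatorElement_eq_one_iff_mul_comm]
      exact h x x.2
    let f : ↥(Blk j (j + 2) : Subgroup (SU 3 F q)) →* τ.ker :=
      MonoidHom.mk' (fun x => ⟨⁅s x, y⁆, hk' x⟩) fun u v => Subtype.ext (by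
        show ⁅s (u * v : SU 3 F q), y⁆ = ⁅s u, y⁆ * ⁅s v, y⁆
        rw [map_mul, UnitaryLocal.comm_mul_left (UnitaryLocal.commute_ker hc (hk' v) _),
          (UnitaryLocal.commute_ker hc (hk' u) _).eq])
    have h2 : ∀ x, f x ^ 2 = 1 := fun x => by
      have h := pow_card_eq_one' (x := f x)
      rwa [hk] at h
    have := congrArg Subtype.val (hom_trivial K hq hj f h2 ⟨x, hx⟩)
    exact commutatorElement_eq_one_iff_mul_comm.1 this
  have he0 : ∀ x ∈ (Blk 0 2 : Subgroup (SU 3 F q)), e0 x ∈ (Blk 0 2 : Subgroup (SU 5 F q)) := by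
    intro x hx
    rw [← range_emb_two K (show 0 + 2 ≤ 3 by norm_num)] at hx
    obtain ⟨A, rfl⟩ := hx
    rw [show e0 _ = _ from emb_emb K (show 0 + 2 ≤ 3 by norm_num) (show 0 + 3 ≤ 5 by norm_num)
      (show 0 + 0 + 2 ≤ 5 by norm_num) A]
    exact emb_mem_Blk K _ A
  have he2 : ∀ x ∈ (Blk 1 3 : Subgroup (SU 3 F q)), e2 x ∈ (Blk 3 5 : Subgroup (SU 5 F q)) := by
    intro x hx
    replace hx : x ∈ (Blk 1 (1 + 2) : Subgroup (SU 3 F q)) := hx
    rw [← range_emb_two K (show 1 + 2 ≤ 3 by norm_num)] at hx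
    obtain ⟨A, rfl⟩ := hx
    rw [show e2 _ = _ from emb_emb K (show 1 + 2 ≤ 3 by norm_num) (show 2 + 3 ≤ 5 by norm_num)
      (show 2 + 1 + 2 ≤ 5 by norm_num) A]
    exact emb_mem_Blk K _ A
  have hc02 : ∀ x ∈ (Blk 0 2 : Subgroup (SU 3 F q)), ∀ y, Commute (e0 x) (e2 y) := fun x hx y =>
    comm_Blk_Fix K le_rfl (he0 x hx) (Blk_le_Fix le_rfl (emb_mem_Blk K _ y))
  have hc20 : ∀ y ∈ (Blk 1 3 : Subgroup (SU 3 F q)), ∀ x, Commute (e2 y) (e0 x) := fun y hy x =>
    Commute.symm (comm_Blk_Fix K le_rfl (emb_mem_Blk K (show 0 + 3 ≤ 5 by norm_num) x)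
      (Blk_le_Fix (show 0 + 3 ≤ 3 by norm_num) (he2 y hy)))
  -- the two tori meet in the middle window
  have hdiag : ∀ (j : ℕ) (h : j + 3 ≤ 5) (g : SU 3 F q) (d0 d1 d2 : F), IsDiag g d0 d1 d2 →
      ∀ v : Fin 5 → F, cd (app (emb K h g) v) (j + 0) = d0 * cd v (j + 0) ∧
        cd (app (emb K h g) v) (j + 1) = d1 * cd v (j + 1) ∧
        cd (app (emb K h g) v) (j + 2) = d2 * cd v (j + 2) := by
    intro j h g d0 d1 d2 hg v
    rw [cd_emb K h g v (show 0 < 3 by norm_num), cd_emb K h g v (show 1 < 3 by norm_num),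
      cd_emb K h g v (show 2 < 3 by norm_num), (hg _).1, (hg _).2.1, (hg _).2.2]
    simp [cd]
  have hmid : ∀ x : mu K, e0 (b x) = e1 (a x) ∧ e1 (b x) = e2 (a x) := by
    intro x
    have d0 := hdiag 0 (by norm_num) _ _ _ _ (hb x)
    have d1 := hdiag 1 (by norm_num) _ _ _ _ (ha x).2
    have d1' := hdiag 1 (by norm_num) _ _ _ _ (hb x)
    have d2 := hdiag 2 (by norm_num) _ _ _ _ (ha x).2
    constructor <;> refine ext_app fun v => ext_cd fun l hl => ?_
    · interval_cases l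
      · rw [cd_emb_out K _ _ _ (.inl Nat.one_pos)]; exact (d0 v).1.trans (one_mul _)
      · exact (d0 v).2.1.trans ((d1 v).1).symm
      · exact (d0 v).2.2.trans ((d1 v).2.1).symm
      · rw [cd_emb_out K _ _ _ (.inr le_rfl)]; exact ((d1 v).2.2.trans (one_mul _)).symm
      · rw [cd_emb_out K _ _ _ (.inr (by norm_num)), cd_emb_out K _ _ _ (.inr (by norm_num))]
    · interval_cases l
      · rw [cd_emb_out K _ _ _ (.inl Nat.one_pos), cd_emb_out K _ _ _ (.inl (by norm_num))]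
      · rw [cd_emb_out K (show 2 + 3 ≤ 5 by norm_num) _ _ (.inl (by norm_num))]
        exact (d1' v).1.trans (one_mul _)
      · exact (d1' v).2.1.trans ((d2 v).1).symm
      · exact (d1' v).2.2.trans ((d2 v).2.1).symm
      · rw [cd_emb_out K (show 1 + 3 ≤ 5 by norm_num) _ _ (.inr (by norm_num))]
        exact ((d2 v).2.2.trans (one_mul _)).symm
  have hab : ∀ x y, Commute (a x) (b y) := fun x y =>
    ((ha x).2.mul (hb y)).ext ((hb y).mul (ha x).2) (mul_comm _ _) (mul_comm _ _) (mul_comm _ _)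
  have hmu : ∀ c : F, c * K.bar c = 1 → ∃ x : mu K, ((x : Fˣ) : F) = c := fun c hc1 =>
    ⟨⟨Units.mk0 c (fun e => zero_ne_one (α := F) (by rw [← hc1, e, zero_mul])), hc1⟩, rfl⟩
  have hY0 : ∀ y ∈ (Y 0 : Subgroup (SU 3 F q)), ∃ h ∈ (Blk 1 3 : Subgroup (SU 3 F q)), ∃ x, y = h * a x := by
    rintro y ⟨c, hy⟩
    obtain ⟨x, rfl⟩ := hmu c (Y_norm K (by norm_num) hy)
    refine ⟨y * (a x)⁻¹, fun i hi => ?_, x, (inv_mul_cancel_right y _).symm⟩
    rcases (show i = 0 ∨ 3 ≤ i by omega) with rfl | h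
    · have hax : app (a x) (bv 0 : Fin 3 → F) = ((x : Fˣ) : F) • bv 0 := ext_cd fun j hj => by
        interval_cases j <;> simp [((ha x).2 _).1, ((ha x).2 _).2.1, ((ha x).2 _).2.2, cd_bv, cd_smul]
      have e := app_inv' (a x) (bv 0 : Fin 3 → F)
      refine smul_right_injective _ (Units.ne_zero (x : Fˣ)) ?_
      show ((x : Fˣ) : F) • app (y * (a x)⁻¹) (bv 0 : Fin 3 → F) = ((x : Fˣ) : F) • bv 0
      rw [← app_smul, ← hax, app_mul, app_inv, hy, hax]
    · have h' : (bv i : Fin 3 → F) = 0 := by rw [bv, dif_neg (by omega)]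
      rw [h', app_zero']
  have hY2 : ∀ y ∈ (Y 2 : Subgroup (SU 3 F q)), ∃ h ∈ (Blk 0 2 : Subgroup (SU 3 F q)), ∃ x, y = h * b x := by
    rintro y ⟨c, hy⟩
    obtain ⟨x, hx⟩ := hmu (K.bar c) (by rw [K.bar_bar, mul_comm]; exact Y_norm K (by norm_num) hy)
    refine ⟨y * (b x)⁻¹, fun i hi => ?_, x, (inv_mul_cancel_right y _).symm⟩
    rcases (show i = 2 ∨ 3 ≤ i by omega) with rfl | h
    · have hbx : app (b x) (bv 2 : Fin 3 → F) = c • bv 2 := ext_cd fun j hj => by
        interval_cases j <;> simp [(hb x _).1, (hb x _).2.1, (hb x _).2.2, cd_bv, cd_smul, hx, K.bar_bar]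
      have hc0 : c ≠ 0 := fun e => zero_ne_one (α := F) (by rw [← Y_norm K (by norm_num) hy, e, zero_mul])
      refine smul_right_injective _ hc0 ?_
      show c • app (y * (b x)⁻¹) (bv 2 : Fin 3 → F) = c • bv 2
      rw [← app_smul, ← hbx, app_mul, app_inv, hy, hbx]
    · have h' : (bv i : Fin 3 → F) = 0 := by rw [bv, dif_neg (by omega)]
      rw [h', app_zero']
  have hcomm : ∀ x ∈ (Y 2 : Subgroup (SU 3 F q)), ∀ y ∈ (Y 0 : Subgroup (SU 3 F q)), Commute (s0 x) (s2 y) := by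
    intro x hx y hy
    have case1 : ∀ h ∈ (Blk 0 2 : Subgroup (SU 3 F q)), Commute (s0 h) (s2 y) :=
      hblk 0 (by norm_num) s0 (s2 y) fun h hh => by rw [t0, t2]; exact hc02 h hh y
    obtain ⟨h, hh, μ, rfl⟩ := hY2 x hx
    obtain ⟨h', hh', ν, rfl⟩ := hY0 y hy
    have case2 : Commute (s2 h') (s0 (b μ)) :=
      hblk 1 (by norm_num) s2 (s0 (b μ)) (fun z hz => by rw [t0, t2]; exact hc20 z hz _) h' hh'
    have case3 : Commute (s0 (b μ)) (s2 (a ν)) := by
      refine commutatorElement_eq_one_iff_mul_comm.1 ?_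
      rw [CfsgLib.Schur.commutatorElement_congr τ hc (a' := s1 (a μ)) (b' := s1 (b ν))
        (by rw [t0, t1]; exact (hmid μ).1) (by rw [t2, t1]; exact (hmid ν).2.symm),
        ← map_commutatorElement, commutatorElement_eq_one_iff_mul_comm.2 (hab μ ν).eq, map_one]
    rw [map_mul s0]
    refine (case1 h hh).mul_left ?_
    rw [map_mul s2]
    exact (case2.symm).mul_right case3
  set A0 := (Y 2 : Subgroup (SU 3 F q)).map s0
  set A2 := (Y 0 : Subgroup (SU 3 F q)).map s2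
  have hn2 : A2 ≤ Subgroup.normalizer (A0 : Set E) := by
    rintro _ ⟨y, hy, rfl⟩
    refine Subgroup.mem_normalizer_iff.2 fun g => ⟨?_, fun hg => ?_⟩
    · rintro ⟨x, hx, rfl⟩
      rw [← (hcomm x hx y hy).eq, mul_inv_cancel_right]
      exact ⟨x, hx, rfl⟩
    · obtain ⟨x, hx, e⟩ := hg
      have e' : g = (s2 y)⁻¹ * s0 x * s2 y := by rw [e]; group
      rw [e', (hcomm x hx y hy).symm.inv_left.eq, inv_mul_cancel_right]
      exact ⟨x, hx, rfl⟩
  set D := A0 ⊔ A2
  have hDdec : ∀ d ∈ D, ∃ x ∈ (Y 2 : Subgroup (SU 3 F q)), ∃ y ∈ (Y 0 : Subgroup (SU 3 F q)), d = s0 x * s2 y := by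
    intro d hd'
    have h' : d ∈ ((A0 ⊔ A2 : Subgroup E) : Set E) := hd'
    rw [Subgroup.coe_mul_of_right_le_normalizer_left A0 _ hn2] at h'
    obtain ⟨_, ⟨x, hx, rfl⟩, _, ⟨y, hy, rfl⟩, e⟩ := h'
    exact ⟨x, hx, y, hy, e.symm⟩
  have he2f : ∀ y i, i < 2 → app (e2 y) (bv i : Fin 5 → F) = bv i := fun y i hi =>
    emb_mem_Blk K _ y i (.inl hi)
  have hkey : ∀ x ∈ (Y 2 : Subgroup (SU 3 F q)), ∀ y, e0 x * e2 y = 1 → x = 1 ∧ y = 1 := by
    intro x _ y e
    have hx : x = 1 := eq_one_of_almost K (l := 2) fun i hi hne => by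
      have hi2 : i < 2 := by omega
      have h5 : app (e0 x) (bv i : Fin 5 → F) = bv i := by
        have h := congrArg (fun g => app g (bv i : Fin 5 → F)) e
        simp only [app_mul, he2f y i hi2, app_one] at h
        exact h
      refine ext_cd fun r hr => ?_
      have h := cd_emb K (show 0 + 3 ≤ 5 by norm_num) x (bv i : Fin 5 → F) hr
      rw [h5, cd_bv, Nat.zero_add] at h
      have hv : (fun s : Fin 3 => cd (bv i : Fin 5 → F) (0 + (s : ℕ))) = (bv i : Fin 3 → F) := by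
        funext s
        rw [cd_bv, CfsgLib.Classical.Phan.bv_apply, Nat.zero_add]
        have := s.2
        by_cases hsi : (s : ℕ) = i <;> simp [hsi]; omega
      rw [hv] at h
      rw [← h, cd_bv]
      have : (r = i ∧ r < 5) ↔ (r = i ∧ r < 3) := ⟨fun h => ⟨h.1, hr⟩, fun h => ⟨h.1, by omega⟩⟩
      simp only [this]
    refine ⟨hx, ?_⟩
    rw [hx, map_one, one_mul] at e
    exact emb_injective K _ (e.trans (map_one e2).symm)
  -- the involution exchanging the blocks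
  let σ : Equiv.Perm (Fin 5) := Equiv.swap 0 3 * Equiv.swap 1 4
  let W : SU 5 F q := ⟨⟨σ.permMatrix F, by
      rw [det_permutation, show Equiv.Perm.sign σ = 1 by decide]; simp⟩, fun u v => by
    show hermForm 5 F q (σ.permMatrix F *ᵥ u) (σ.permMatrix F *ᵥ v) = hermForm 5 F q u v
    rw [permMatrix_mulVec, permMatrix_mulVec, Unitary.herm_apply K, Unitary.herm_apply K]
    exact Equiv.sum_comp σ (fun i => u i * K.bar (v i))⟩
  have hWv : ∀ v i, app W v i = v (σ i) := fun v i => congrFun (permMatrix_mulVec (v := v) σ) i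
  have hWcd : ∀ v : Fin 5 → F, cd (app W v) 0 = cd v 3 ∧ cd (app W v) 1 = cd v 4 ∧
      cd (app W v) 2 = cd v 2 ∧ cd (app W v) 3 = cd v 0 ∧ cd (app W v) 4 = cd v 1 := fun v => by
    simp only [cd, show (0 : ℕ) < 5 by norm_num, show (1 : ℕ) < 5 by norm_num, show (2 : ℕ) < 5 by norm_num,
      show (3 : ℕ) < 5 by norm_num, show (4 : ℕ) < 5 by norm_num, dif_pos, hWv]
    exact ⟨congrArg v (by decide), congrArg v (by decide), congrArg v (by decide),
      congrArg v (by decide), congrArg v (by decide)⟩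
  have hWW : W * W = 1 := ext_app fun v => ext_cd fun i hi => by
    rw [app_mul, app_one]
    interval_cases i <;> simp [(hWcd _).1, (hWcd _).2.1, (hWcd _).2.2.1, (hWcd _).2.2.2.1, (hWcd _).2.2.2.2]
  obtain ⟨c, hcdef⟩ : ∃ c, c = w * w' := ⟨_, rfl⟩
  have hcv : ∀ v : Fin 3 → F, cd (app c v) 0 = cd v 2 ∧ cd (app c v) 1 = cd v 0 ∧
      cd (app c v) 2 = cd v 1 := fun v => by
    simp only [hcdef, app_mul]
    refine ⟨?_, ?_, ?_⟩
    · rw [(hw _).1, (hw' v).2.1, neg_neg]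
    · rw [(hw _).2.1, (hw' v).1]
    · rw [(hw _).2.2, (hw' v).2.2]
  have hWe : ∀ x, W * e0 x = e2 (c * x * c⁻¹) * W := by
    intro x
    refine ext_app fun v => ext_cd fun l hl => ?_
    rw [app_mul, app_mul]
    have hu : (fun s : Fin 3 => cd (app W v) (2 + (s : ℕ))) =
        app c (fun s : Fin 3 => cd v (0 + (s : ℕ))) := ext_cd fun r hr => by
      interval_cases r
      · rw [(hcv _).1]; simp [cd, (hWcd v).2.2.1]; simpa [cd] using (hWcd v).2.2.1
      · rw [(hcv _).2.1]; simp [cd]; simpa [cd] using (hWcd v).2.2.2.1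
      · rw [(hcv _).2.2]; simp [cd]; simpa [cd] using (hWcd v).2.2.2.2
    have h2 : ∀ r, r < 3 → cd (app (e2 (c * x * c⁻¹)) (app W v)) (2 + r) =
        cd (app c (app x (fun s : Fin 3 => cd v (0 + (s : ℕ))))) r := fun r hr => by
      rw [show e2 (c * x * c⁻¹) = emb K (show 2 + 3 ≤ 5 by norm_num) (c * x * c⁻¹) from rfl,
        cd_emb K _ _ _ hr, hu, app_mul, app_mul, app_inv]
    have h0 : ∀ r, r < 3 → cd (app (e0 x) v) (0 + r) =
        cd (app x (fun s : Fin 3 => cd v (0 + (s : ℕ)))) r := fun r hr => cd_emb K _ _ _ hr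
    interval_cases l
    · rw [(hWcd _).1, cd_emb_out K (show 2 + 3 ≤ 5 by norm_num) _ _ (.inl (by norm_num)), (hWcd _).1]
      exact cd_emb_out K _ _ _ (.inr le_rfl)
    · rw [(hWcd _).2.1, cd_emb_out K (show 2 + 3 ≤ 5 by norm_num) _ _ (.inl (by norm_num)), (hWcd _).2.1]
      exact cd_emb_out K _ _ _ (.inr (by norm_num))
    · rw [(hWcd _).2.2.1, h2 0 (by norm_num), (hcv _).1]; exact h0 2 (by norm_num)
    · rw [(hWcd _).2.2.2.1, h2 1 (by norm_num), (hcv _).2.1]; exact h0 0 (by norm_num)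
    · rw [(hWcd _).2.2.2.2, h2 2 (by norm_num), (hcv _).2.2]; exact h0 1 (by norm_num)
  obtain ⟨Wt, hWt⟩ := hs W
  have hWs : ∀ x, Wt * s0 x * Wt⁻¹ = s2 (c * x * c⁻¹) := by
    have h : (MulAut.conj Wt).toMonoidHom.comp s0 = s2.comp (MulAut.conj c).toMonoidHom := by
      refine UnitaryPhan.lift_unique hperf hc (MonoidHom.ext fun x => ?_)
      show τ (Wt * s0 x * Wt⁻¹) = τ (s2 (c * x * c⁻¹))
      rw [map_mul, map_mul, map_inv, hWt, t0, t2]
      exact mul_inv_eq_iff_eq_mul.2 (hWe x)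
    exact fun x => DFunLike.congr_fun h x
  have hWs' : ∀ y, Wt * s2 y * Wt⁻¹ = s0 (c⁻¹ * y * c) := fun y => by
    have h := hWs (c⁻¹ * y * c)
    rw [show c * (c⁻¹ * y * c) * c⁻¹ = y by group] at h
    have hz : τ (Wt * Wt) = 1 := by rw [map_mul, hWt, hWW]
    rw [← h, show Wt * (Wt * s0 (c⁻¹ * y * c) * Wt⁻¹) * Wt⁻¹ =
      Wt * Wt * s0 (c⁻¹ * y * c) * (Wt * Wt)⁻¹ by group,
      ← (UnitaryLocal.commute_ker hc (MonoidHom.mem_ker.2 hz) _).eq, mul_inv_cancel_right]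
  have hcbv : app c (bv 2 : Fin 3 → F) = bv 0 := ext_cd fun j hj => by
    interval_cases j <;> simp [(hcv _).1, (hcv _).2.1, (hcv _).2.2, cd_bv]
  have hcY : ∀ x ∈ (Y 2 : Subgroup (SU 3 F q)), c * x * c⁻¹ ∈ (Y 0 : Subgroup (SU 3 F q)) := by
    rintro x ⟨r, hr⟩
    exact ⟨r, by rw [app_mul, app_mul, ← hcbv, app_inv, hr, app_smul]⟩
  have hcY' : ∀ y ∈ (Y 0 : Subgroup (SU 3 F q)), c⁻¹ * y * c ∈ (Y 2 : Subgroup (SU 3 F q)) := by
    rintro y ⟨r, hr⟩
    exact ⟨r, by rw [app_mul, app_mul, hcbv, hr, app_smul, ← hcbv, app_inv]⟩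
  set L := Subgroup.zpowers W
  have hL2 : ∀ g ∈ L, g = 1 ∨ g = W := by
    intro g hg
    obtain ⟨i, rfl⟩ := Subgroup.mem_zpowers_iff.1 hg
    rcases Int.even_or_odd' i with ⟨r, rfl | rfl⟩
    · left; rw [_root_.zpow_mul, zpow_two, hWW, _root_.one_zpow]
    · right; rw [_root_.zpow_add, _root_.zpow_mul, zpow_two, hWW, _root_.one_zpow, one_mul, zpow_one]
  have hN : ∀ g, τ g ∈ L → ∀ d ∈ D, g * d * g⁻¹ ∈ D := by
    intro g hg d hd'
    obtain ⟨x, hx, y, hy, rfl⟩ := hDdec d hd'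
    have hD : ∀ {x y}, x ∈ (Y 2 : Subgroup (SU 3 F q)) → y ∈ (Y 0 : Subgroup (SU 3 F q)) →
        s0 x * s2 y ∈ D := fun hx hy =>
      mul_mem (Subgroup.mem_sup_left ⟨_, hx, rfl⟩) (Subgroup.mem_sup_right ⟨_, hy, rfl⟩)
    rcases hL2 _ hg with h | h
    · rw [(UnitaryLocal.commute_ker hc (MonoidHom.mem_ker.2 h) _).symm.eq, mul_inv_cancel_right]
      exact hD hx hy
    · have hz : Wt⁻¹ * g ∈ τ.ker := by rw [MonoidHom.mem_ker, map_mul, map_inv, hWt, h, inv_mul_cancel]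
      have e : g * (s0 x * s2 y) * g⁻¹ = Wt * (s0 x * s2 y) * Wt⁻¹ := by
        rw [show g = Wt * (Wt⁻¹ * g) by group, show ∀ k d : E, Wt * k * d * (Wt * k)⁻¹ =
          Wt * (k * d * k⁻¹) * Wt⁻¹ from fun k d => by group,
          (UnitaryLocal.commute_ker hc hz _).symm.eq, mul_inv_cancel_right]
      rw [e, show Wt * (s0 x * s2 y) * Wt⁻¹ = (Wt * s0 x * Wt⁻¹) * (Wt * s2 y * Wt⁻¹) by group,
        hWs, hWs', ← (hcomm _ (hcY' y hy) _ (hcY x hx)).eq]
      exact hD (hcY' y hy) (hcY x hx)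
  have hD : ∀ d ∈ D, τ d ∈ L → d = 1 := by
    intro d hd' hL
    obtain ⟨x, hx, y, hy, rfl⟩ := hDdec d hd'
    rw [map_mul, t0, t2] at hL
    rcases hL2 _ hL with h | h
    · obtain ⟨rfl, rfl⟩ := hkey x hx y h
      rw [map_one, map_one, one_mul]
    · exfalso
      have h3 := congrArg (fun g => cd (app g (bv 0 : Fin 5 → F)) 3) h
      simp only [app_mul, he2f y 0 (by norm_num)] at h3
      rw [cd_emb_out K (show 0 + 3 ≤ 5 by norm_num) _ _ (.inr le_rfl), (hWcd _).2.2.2.1, cd_bv, cd_bv] at h3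
      simp at h3
  set U := D.map τ ⊔ L
  have hidx : ¬ 2 ∣ U.index := by
    intro h
    have hmem : ∀ g ∈ L, ∀ x ∈ D.map τ, g * x * g⁻¹ ∈ D.map τ := by
      intro g hg x hx
      obtain ⟨d, hd', rfl⟩ := hx
      obtain ⟨g', rfl⟩ := hs g
      exact ⟨_, hN g' hg d hd', by rw [map_mul, map_mul, map_inv]⟩
    have hn : L ≤ Subgroup.normalizer ((D.map τ : Subgroup (SU 5 F q)) : Set (SU 5 F q)) := fun g hg =>
      Subgroup.mem_normalizer_iff.2 fun x => ⟨hmem g hg x, fun h => by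
        have := hmem g⁻¹ (inv_mem hg) _ h
        rwa [show g⁻¹ * (g * x * g⁻¹) * g⁻¹⁻¹ = x by group] at this⟩
    have hY : ∀ i j (t : mu K →* SU 3 F q), j + 2 ≤ 3 → Function.Injective t →
        (∀ x, t x ∈ (Y i : Subgroup (SU 3 F q))) → (Blk j (j + 2) : Subgroup (SU 3 F q)) ≤ Y i →
        (∀ y ∈ (Y i : Subgroup (SU 3 F q)), ∀ x ∈ (Blk j (j + 2) : Subgroup (SU 3 F q)),
          y * x * y⁻¹ ∈ (Blk j (j + 2) : Subgroup (SU 3 F q))) →
        (∀ x ∈ (Blk j (j + 2) : Subgroup (SU 3 F q)), x ∈ t.range → x = 1) →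
        96 ∣ Nat.card (Y i : Subgroup (SU 3 F q)) := by
      intro i j t hj ht htY hle hnB hdis
      have hn' : t.range ≤ Subgroup.normalizer ((Blk j (j + 2) : Subgroup (SU 3 F q)) : Set (SU 3 F q)) := by
        rintro _ ⟨x, rfl⟩
        refine Subgroup.mem_normalizer_iff.2 fun g => ⟨hnB _ (htY x) g, fun h => ?_⟩
        have := hnB _ (inv_mem (htY x)) _ h
        rwa [show (t x)⁻¹ * (t x * g * (t x)⁻¹) * (t x)⁻¹⁻¹ = g by group] at this
      have hcs := card_sup (Blk j (j + 2) : Subgroup (SU 3 F q)) t.range hn' hdis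
      rw [card_blk K hj, ← Nat.card_congr (MonoidHom.ofInjective ht).toEquiv, card_mu K] at hcs
      have hle' : (Blk j (j + 2) : Subgroup (SU 3 F q)) ⊔ t.range ≤ Y i :=
        sup_le hle (by rintro _ ⟨x, rfl⟩; exact htY x)
      have := Subgroup.card_dvd_of_le hle'
      rwa [hcs, show q * (q ^ 2 - 1) * (q + 1) = 96 by rw [hq]; norm_num] at this
    have h2Y : 96 ∣ Nat.card (Y 2 : Subgroup (SU 3 F q)) := by
      refine hY 2 0 b (by norm_num) ?_ (fun x => diag_Y K (hb x) 2 (by norm_num)) (fun x hx => blk_le_Y2 K hx) ?_ ?_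
      · intro x y e
        refine Subtype.ext (Units.ext ?_)
        have h := congrArg (fun g => cd (app g (fun _ => (1 : F))) 1) e
        simp only [(hb _ _).2.1, show cd (fun _ : Fin 3 => (1 : F)) 1 = 1 by simp [cd], mul_one] at h
        exact h
      · intro y hy x hx i hi
        rcases (show i = 2 ∨ 3 ≤ i by omega) with rfl | h'
        · exact Y_conj hy (hx 2 (.inr le_rfl))
        · rw [show (bv i : Fin 3 → F) = 0 by rw [bv, dif_neg (by omega)], app_zero']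
      · rintro _ hx ⟨y, rfl⟩
        refine eq_one_of_almost K (l := 1) fun i hi hne => ?_
        rcases (show i = 0 ∨ i = 2 by omega) with rfl | rfl
        · exact ext_cd fun r hr => by
            interval_cases r <;> simp [(hb y _).1, (hb y _).2.1, (hb y _).2.2, cd_bv]
        · exact hx 2 (.inr le_rfl)
    have h0Y : 96 ∣ Nat.card (Y 0 : Subgroup (SU 3 F q)) := by
      refine hY 0 1 a (by norm_num) ?_ (fun x => diag_Y K (ha x).2 0 (by norm_num)) (fun x hx => blk_le_Y0 K hx) ?_ ?_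
      · intro x y e
        refine Subtype.ext (Units.ext ?_)
        have h := congrArg (fun g => cd (app g (fun _ => (1 : F))) 0) e
        simp only [((ha _).2 _).1, show cd (fun _ : Fin 3 => (1 : F)) 0 = 1 by simp [cd], mul_one] at h
        exact h
      · intro y hy x hx i hi
        rcases (show i = 0 ∨ 3 ≤ i by omega) with rfl | h'
        · exact Y_conj hy (hx 0 (.inl Nat.one_pos))
        · rw [show (bv i : Fin 3 → F) = 0 by rw [bv, dif_neg (by omega)], app_zero']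
      · rintro _ hx ⟨y, rfl⟩
        refine eq_one_of_almost K (l := 1) fun i hi hne => ?_
        rcases (show i = 0 ∨ i = 2 by omega) with rfl | rfl
        · exact hx 0 (.inl Nat.one_pos)
        · exact ext_cd fun r hr => by
            interval_cases r <;>
              simp [((ha y).2 _).1, ((ha y).2 _).2.1, ((ha y).2 _).2.2, cd_bv]
    have hDt : D.map τ = (Y 2 : Subgroup (SU 3 F q)).map e0 ⊔ (Y 0 : Subgroup (SU 3 F q)).map e2 := by
      rw [Subgroup.map_sup, Subgroup.map_map, Subgroup.map_map, hs0, hs2]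
    have hcD : Nat.card ↥(D.map τ) = Nat.card (Y 2 : Subgroup (SU 3 F q)) * Nat.card (Y 0 : Subgroup (SU 3 F q)) := by
      rw [hDt, card_sup _ _ ?_ ?_,
        ← Nat.card_congr ((Y 2 : Subgroup (SU 3 F q)).equivMapOfInjective e0 (emb_injective K _)).toEquiv,
        ← Nat.card_congr ((Y 0 : Subgroup (SU 3 F q)).equivMapOfInjective e2 (emb_injective K _)).toEquiv]
      · rintro _ ⟨y, hy, rfl⟩
        have hce : ∀ x ∈ (Y 2 : Subgroup (SU 3 F q)), Commute (e0 x) (e2 y) := fun x hx => by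
          rw [← t0, ← t2]; exact (hcomm x hx y hy).map τ
        refine Subgroup.mem_normalizer_iff.2 fun g => ⟨?_, fun hg => ?_⟩
        · rintro ⟨x, hx, rfl⟩
          rw [← (hce x hx).eq, mul_inv_cancel_right]
          exact ⟨x, hx, rfl⟩
        · obtain ⟨x, hx, e⟩ := hg
          have e' : g = (e2 y)⁻¹ * e0 x * e2 y := by rw [e]; group
          rw [e', (hce x hx).symm.inv_left.eq, inv_mul_cancel_right]
          exact ⟨x, hx, rfl⟩
      · rintro _ ⟨x, hx, rfl⟩ ⟨y, -, e⟩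
        obtain ⟨h1, -⟩ := hkey x hx y⁻¹ (by rw [map_inv, e, mul_inv_cancel])
        rw [h1, map_one]
    have hLcard : Nat.card L = 2 := by
      rw [Nat.card_zpowers]
      refine orderOf_eq_prime (by rw [pow_two]; exact hWW) fun e => ?_
      have h3 := congrArg (fun g => cd (app g (bv 0 : Fin 5 → F)) 3) e
      simp only [(hWcd _).2.2.2.1, app_one] at h3
      simp [cd_bv] at h3
    have hU : 18432 ∣ Nat.card U := by
      rw [card_sup _ L hn (fun x hx hxL => by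
        obtain ⟨d, hd', rfl⟩ := hx
        rw [hD d hd' hxL, map_one]), hcD, hLcard, show (18432 : ℕ) = 96 * 96 * 2 by norm_num]
      exact mul_dvd_mul_right (mul_dvd_mul h2Y h0Y) 2
    have h' := mul_dvd_mul hU h
    rw [Subgroup.card_mul_index] at h'
    have hG := card_SU K (n := 5) (by norm_num)
    rw [card_GU K] at hG
    obtain ⟨r, hr⟩ := h'
    rw [hr] at hG
    norm_num [hq, Finset.prod_range_succ, Nat.even_iff] at hG
    omega
  refine no_stem_of_local Nat.prime_two ⟨hs, hc, hd⟩ hk U hidx fun z hz hzd _ => ?_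
  refine UnitaryTools.no_kernel_semidirect hs D L hN hD U le_rfl (fun z hz hzl => ?_) hz hzd
  rw [preimage_commutator_eq_bot_of_isCyclic τ hc] at hzl
  exact Subgroup.mem_bot.1 hzl

end CfsgLib.Schur.UnitaryFiveThree
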