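import Mathlib
import Cfsg.Prelude.Def_KGroupFacts
import Cfsg.Agent.Lib.Schur.Suzuki

/-!
The three-part of the multiplier of a small Ree group.
-/

set_option autoImplicit false
set_option linter.style.haveILetI false
set_option linter.unusedSectionVars false

open scoped commutatorElement

namespace CfsgLib.Schur

universe u

/-- A bimultiplicative alternating map, invariant under squares, is trivial. -/
theorem alt_eq_one {F : Type*} [Field F] [Fintype F] (h4 : Fintype.card F ≠ 4)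
    (h9 : Fintype.card F ≠ 9) {A : Type*} [CommGroup A] (f : F → F → A)
    (hl : ∀ a a' b, f (a + a') b = f a b * f a' b) (hr : ∀ a b b', f a (b + b') = f a b * f a b')
    (halt : ∀ a, f a a = 1) (hinv : ∀ t : F, t ≠ 0 → ∀ a b, f (t * t * a) (t * t * b) = f a b)
    (a b : F) : f a b = 1 := by
  let c : F →+ F →+ Additive A :=
    AddMonoidHom.mk' (fun a => AddMonoidHom.mk' (fun b => Additive.ofMul (f a b)) (hr a))
      (fun a a' => AddMonoidHom.ext (hl a a'))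
  have hc : c = 0 := invariant_form_eq_zero h4 h9 c halt hinv
  exact congrArg Additive.toMul (DFunLike.congr_fun (DFunLike.congr_fun hc a) b)

/-- A bimultiplicative map invariant under a pair of scalars, not conjugate inverses, is trivial. -/
theorem mixed_eq_one {F : Type*} [Field F] (p : ℕ) [Algebra (ZMod p) F] [Fact p.Prime]
    {A : Type*} [CommGroup A] (f : F → F → A)
    (hl : ∀ a a' b, f (a + a') b = f a b * f a' b) (hr : ∀ a b b', f a (b + b') = f a b * f a b')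
    (lam w : F) (hw : w ≠ 0) (hinv : ∀ a b, f (lam * a) (w * b) = f a b)
    (hroot : Polynomial.aeval w⁻¹ (minpoly (ZMod p) lam) ≠ 0) (a b : F) : f a b = 1 := by
  let c : F →+ F →+ Additive A :=
    AddMonoidHom.mk' (fun a => AddMonoidHom.mk' (fun b => Additive.ofMul (f a b)) (hr a))
      (fun a a' => AddMonoidHom.ext (hl a a'))
  have hc : c = 0 := form_eq_zero_of_adjoint p c lam w⁻¹
    (fun a b => congrArg Additive.ofMul (by
      have := hinv a (w⁻¹ * b)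
      rwa [mul_inv_cancel_left₀ hw] at this)) hroot
  exact congrArg Additive.toMul (DFunLike.congr_fun (DFunLike.congr_fun hc a) b)

/-- A root of the minimal polynomial of `lam` is a Frobenius power of it. -/
theorem eq_pow_of_root {F : Type*} [Field F] [Fintype F] (p : ℕ) [Algebra (ZMod p) F] [Fact p.Prime]
    {lam w : F} (h : Polynomial.aeval w (minpoly (ZMod p) lam) = 0) :
    ∃ i, i < Module.finrank (ZMod p) F ∧ w = lam ^ p ^ i := by
  have hint : IsIntegral (ZMod p) lam := IsIntegral.of_finite _ _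
  obtain ⟨σ, hσ⟩ := minpoly.exists_algEquiv_of_root' (hint.isAlgebraic) h
  obtain ⟨i, rfl⟩ := (FiniteField.bijective_frobeniusAlgEquivOfAlgebraic_pow (ZMod p) F).2 σ
  refine ⟨i, i.2, ?_⟩
  rw [← hσ]
  simp only [AlgEquiv.coe_pow, FiniteField.coe_frobeniusAlgEquivOfAlgebraic_iterate, ZMod.card]

section

variable {K : Type*} [Field K] {G : Type*} [Group G]
  (el : K × K × K → G) (tor : Kˣ → G) (θ : K →+* K)

/-- The coordinates of a Ree root group with its torus. -/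
structure ReeCoord : Prop where
  mul : ∀ t u v t' u' v' : K, el (t, u, v) * el (t', u', v') =
    el (t + t', u + u' - θ t' * t, v + v' - θ t' * t ^ 2 - u * t' + θ t' * t * t')
  conj : ∀ (s : Kˣ) (t u v : K), tor s * el (t, u, v) * (tor s)⁻¹ =
    el ((s : K) ^ 2 / θ s * t, θ s / s * u, s * v)
  tor_mul : ∀ s s', tor (s * s') = tor s * tor s'

variable {el tor θ} (D : ReeCoord el tor θ)
include D

theorem ReeCoord.el_zero : el (0, 0, 0) = 1 := by
  have h := D.mul 0 0 0 0 0 0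
  rw [map_zero] at h
  simp only [add_zero, mul_zero, sub_zero, zero_mul] at h
  exact mul_eq_left.mp h

/-- The preimage of the root group contributes nothing to the three-part of the multiplier. -/
theorem ReeCoord.preimage_commutator [Fintype K] [CharP K 3] {m : ℕ} (hm : 1 ≤ m)
    (hK : Fintype.card K = 3 ^ (2 * m + 1)) (hθ : ∀ x, θ x = x ^ 3 ^ (m + 1))
    (U : Subgroup G) (hU : ∀ g, g ∈ U ↔ ∃ p, g = el p)
    {Γ : Type*} [Group Γ] (σ : Γ →* G) (hσ : Function.Surjective σ)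
    (hc : σ.ker ≤ Subgroup.center Γ) {z : Γ} (hz : z ∈ σ.ker)
    (hzd : z ∈ ⁅U.comap σ, U.comap σ⁆) (hz3 : z ^ 3 = 1) : z = 1 := by
  classical
  haveI : Fact (Nat.Prime 3) := ⟨Nat.prime_three⟩
  letI : Algebra (ZMod 3) K := ZMod.algebra K 3
  have hq : 27 ≤ Fintype.card K := by
    rw [hK]
    exact le_trans (by norm_num : 27 ≤ 3 ^ 3) (Nat.pow_le_pow_right (by omega) (by omega))
  have h4 : Fintype.card K ≠ 4 := by omega
  have h9 : Fintype.card K ≠ 9 := by omega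
  have hfr : Module.finrank (ZMod 3) K = 2 * m + 1 := by
    have h1 := Module.card_eq_pow_finrank (K := ZMod 3) (V := K)
    rw [ZMod.card, hK] at h1
    exact (Nat.pow_right_injective (by norm_num : 2 ≤ 3) h1).symm
  have hθθ : ∀ x, θ (θ x) = x ^ 3 := fun x => by
    rw [hθ, hθ, ← pow_mul, ← pow_add, show m + 1 + (m + 1) = 2 * m + 1 + 1 by omega, pow_succ,
      pow_mul, ← hK, FiniteField.pow_card]
  have hne : ∀ s : Kˣ, θ (s : K) ≠ 0 := fun s => (map_ne_zero θ).2 s.ne_zero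
  -- the weights
  let α : Kˣ → K := fun s => (s : K) ^ 2 / θ s
  let β : Kˣ → K := fun s => θ s / s
  have hαs : ∀ x : K, x ≠ 0 → ∃ s, α s = x := by
    have hinj : Function.Injective fun s : Kˣ =>
        (Units.map (θ : K →* K) s)⁻¹ * s ^ 2 := by
      intro s s' h
      have h1 : (s / s') ^ 2 = Units.map (θ : K →* K) (s / s') := by
        have h2 : (Units.map (θ : K →* K) s)⁻¹ * s ^ 2 = (Units.map (θ : K →* K) s')⁻¹ * s' ^ 2 := h
        rw [inv_mul_eq_iff_eq_mul] at h2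
        rw [map_div, div_pow, h2, div_eq_iff_eq_mul, div_eq_mul_inv]
        group
      refine div_eq_one.mp (Units.ext ?_)
      set d : K := ((s / s' : Kˣ) : K)
      have h2 : θ d = d ^ 2 := by
        have := congrArg Units.val h1
        rw [Units.val_pow_eq_pow_val] at this
        exact this.symm
      have h3 : d ^ 3 = d ^ 4 := by rw [← hθθ d, h2, map_pow, h2]; ring
      have hd : d ≠ 0 := Units.ne_zero _
      calc d = d ^ 4 / d ^ 3 := by field_simp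
        _ = 1 := by rw [← h3, div_self (pow_ne_zero _ hd)]
    intro x hx
    obtain ⟨s, hs⟩ := Finite.surjective_of_injective hinj (Units.mk0 x hx)
    refine ⟨s, ?_⟩
    have := congrArg Units.val hs
    simp only [Units.val_mul, Units.val_inv_eq_inv_val, Units.val_pow_eq_pow_val, Units.val_mk0] at this
    rw [← this, inv_mul_eq_div]
    rfl
  have hαθ : ∀ s : Kˣ, α s * θ (α s) = β s := fun s => by
    show (s : K) ^ 2 / θ s * θ ((s : K) ^ 2 / θ s) = θ s / s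
    rw [map_div₀, map_pow, hθθ]
    field_simp [hne s, s.ne_zero]
  obtain ⟨n, hn, hnodd⟩ : ∃ n, Fintype.card K - 1 = 2 * n ∧ Odd n := by
    have h8 : 3 ^ (2 * m + 1) % 8 = 3 := by
      rw [pow_succ, pow_mul, Nat.mul_mod, Nat.pow_mod]; norm_num
    refine ⟨(Fintype.card K - 1) / 2, ?_, ?_⟩
    · rw [hK]; omega
    · rw [hK, Nat.odd_iff]; omega
  have hβs : ∀ t : K, t ≠ 0 → ∃ s, β s = t * t := by
    intro t ht
    set w : Kˣ := Units.mk0 t ht * Units.mk0 t ht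
    have hwn : w ^ n = 1 := by
      rw [show w = Units.mk0 t ht ^ 2 from (sq _).symm, ← pow_mul, ← hn, ← Fintype.card_units,
        pow_card_eq_one]
    have hcop : (3 ^ (m + 1) + 1).Coprime (orderOf w) := by
      refine Nat.Coprime.coprime_dvd_right (orderOf_dvd_of_pow_eq_one hwn) ?_
      refine Nat.coprime_of_dvd fun r hr h1 h2 => ?_
      have h3 : r ∣ 2 := by
        have e1 : (3 ^ (m + 1) + 1) * (3 ^ (m + 1) - 1) + 1 = 3 * (Fintype.card K - 1) + 3 := by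
          have hp : 3 ^ (m + 1) * 3 ^ (m + 1) = 3 * 3 ^ (2 * m + 1) := by ring
          obtain ⟨a, ha⟩ : ∃ a, 3 ^ (m + 1) = a + 1 := ⟨_, (Nat.succ_pred (pow_ne_zero _ three_ne_zero)).symm⟩
          rw [hK, ha, Nat.add_sub_cancel]
          rw [ha] at hp
          have : 1 ≤ 3 ^ (2 * m + 1) := Nat.one_le_pow _ _ (by norm_num)
          nlinarith [Nat.sub_add_cancel this]
        have h4 : r ∣ 3 * (Fintype.card K - 1) := (hn ▸ h2.mul_left 2).mul_left 3
        have h5 : r ∣ (3 ^ (m + 1) + 1) * (3 ^ (m + 1) - 1) := h1.mul_right _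
        rw [show (3 ^ (m + 1) + 1) * (3 ^ (m + 1) - 1) = 3 * (Fintype.card K - 1) + 2 by omega] at h5
        exact (Nat.dvd_add_right h4).1 h5
      rw [(Nat.prime_dvd_prime_iff_eq hr Nat.prime_two).1 h3] at h2
      exact (Nat.not_even_iff_odd.mpr hnodd) (even_iff_two_dvd.mpr h2)
    obtain ⟨k, hk⟩ := exists_pow_eq_self_of_coprime hcop
    obtain ⟨s, hs⟩ := hαs ((w ^ k : Kˣ) : K) (Units.ne_zero _)
    refine ⟨s, ?_⟩
    rw [← hαθ, hs, hθ, ← pow_succ', ← Units.val_pow_eq_pow_val, ← pow_mul, mul_comm k, pow_mul, hk]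
    rfl
  obtain ⟨s₀, hs₀⟩ := IsCyclic.exists_generator (α := Kˣ)
  have hord : orderOf s₀ = Fintype.card K - 1 := by
    rw [orderOf_eq_card_of_forall_mem_zpowers hs₀, Nat.card_units, Nat.card_eq_fintype_card]
  have hord' : ∀ s : Kˣ, α s = (s₀ : K) → ∀ (i : ℕ), (β s) ^ 3 ^ i ≠ (s₀ : K)⁻¹ := by
    intro s hs i h
    have h1 : ((s₀ : K)⁻¹) ^ n = 1 := by
      rw [← h, ← hαθ, hs, hθ, ← pow_succ', ← pow_mul, ← pow_mul, ← Units.val_pow_eq_pow_val,
        show (3 ^ (m + 1) + 1) * (3 ^ i * n) = (Fintype.card K - 1) * ((3 ^ (m + 1) + 1) / 2 * 3 ^ i) by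
          have : 2 ∣ 3 ^ (m + 1) + 1 := (Odd.pow (by decide : Odd 3)).add_one.two_dvd
          obtain ⟨d, hd⟩ := this
          rw [hn, hd, Nat.mul_div_cancel_left _ (by norm_num : 0 < 2)]; ring,
        pow_mul, ← Fintype.card_units, pow_card_eq_one, one_pow, Units.val_one]
    rw [inv_pow, inv_eq_one, ← Units.val_pow_eq_pow_val, Units.val_eq_one] at h1
    have h2 := Nat.le_of_dvd (by omega) (orderOf_dvd_of_pow_eq_one h1)
    omega
  -- lifts
  choose s hs using fun p => hσ (el p)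
  choose w hw using fun s : Kˣ => hσ (tor s)
  letI : CommGroup σ.ker :=
    { (inferInstance : Group σ.ker) with
      mul_comm := fun a b => Subtype.ext (Subgroup.mem_center_iff.mp (hc b.2) a) }
  have cg := fun {a a' b b' : Γ} (ha : σ a = σ a') (hb : σ b = σ b') =>
    CfsgLib.Schur.commutatorElement_congr σ hc ha hb
  have kcent : ∀ {x y : Γ}, y ∈ σ.ker → Commute x y := fun {x y} hy =>
    Subgroup.mem_center_iff.mp (hc hy) x
  have hconj : ∀ (g x y : Γ), g * ⁅x, y⁆ * g⁻¹ = ⁅g * x * g⁻¹, g * y * g⁻¹⁆ := fun g x y => by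
    simp only [commutatorElement_def]; group
  have hwc : ∀ (r : Kˣ) (t u v : K),
      σ (w r * s (t, u, v) * (w r)⁻¹) = σ (s (α r * t, β r * u, r * v)) := fun r t u v => by
    rw [map_mul, map_mul, map_inv, hw, hs, hs, D.conj]
  have hσm : ∀ t u v t' u' v', σ (s (t, u, v) * s (t', u', v')) =
      σ (s (t + t', u + u' - θ t' * t, v + v' - θ t' * t ^ 2 - u * t' + θ t' * t * t')) :=
    fun t u v t' u' v' => by rw [map_mul, hs, hs, hs, D.mul]
  have hσc : ∀ a b : Γ, σ (a * b) = σ (b * a) → ⁅a, b⁆ ∈ σ.ker := fun a b h => by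
    rw [MonoidHom.mem_ker, map_commutatorElement, commutatorElement_eq_one_iff_mul_comm, ← map_mul,
      h, map_mul]
  -- the centre of the root group lifts to an abelian group
  have hWmem : ∀ v v', ⁅s (0, 0, v), s (0, 0, v')⁆ ∈ σ.ker := fun v v' => hσc _ _ (by
    rw [hσm, hσm]; simp [add_comm])
  have hWadd : ∀ v v', σ (s (0, 0, v + v')) = σ (s (0, 0, v) * s (0, 0, v')) := fun v v' => by
    rw [hσm]; simp
  have hWW : ∀ v v', ⁅s (0, 0, v), s (0, 0, v')⁆ = 1 := fun v v' =>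
    congrArg Subtype.val (alt_eq_one h4 h9 (fun v v' => (⟨_, hWmem v v'⟩ : σ.ker))
      (fun a a' b => Subtype.ext (by
        refine (cg (hWadd a a') rfl).trans ?_; rw [comm_mul_left (kcent (hWmem _ _))]
        exact kcent (hWmem _ _)))
      (fun a b b' => Subtype.ext (by
        refine (cg rfl (hWadd b b')).trans ?_; rw [comm_mul_right (kcent (hWmem _ _))]; rfl))
      (fun a => Subtype.ext (commutatorElement_self _))
      (fun t ht a b => Subtype.ext (by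
        obtain ⟨r, hr⟩ : ∃ r : Kˣ, (r : K) = t * t := ⟨Units.mk0 _ (mul_ne_zero ht ht), rfl⟩
        show ⁅s (0, 0, t * t * a), s (0, 0, t * t * b)⁆ = ⁅s (0, 0, a), s (0, 0, b)⁆
        have h1 := hwc r 0 0 a
        have h2 := hwc r 0 0 b
        rw [mul_zero, mul_zero] at h1 h2
        rw [← hr, ← cg h1 h2, ← hconj, (kcent (hWmem a b)).eq, mul_inv_cancel_right]))
      v v')
  -- it is central
  have hXWmem : ∀ u v, ⁅s (0, u, 0), s (0, 0, v)⁆ ∈ σ.ker := fun u v => hσc _ _ (by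
    rw [hσm, hσm]; simp [add_comm])
  have hTWmem : ∀ t v, ⁅s (t, 0, 0), s (0, 0, v)⁆ ∈ σ.ker := fun t v => hσc _ _ (by
    rw [hσm, hσm]; simp [add_comm])
  have hXadd : ∀ u u', σ (s (0, u + u', 0)) = σ (s (0, u, 0) * s (0, u', 0)) := fun u u' => by
    rw [hσm]; simp
  have hTadd : ∀ t t', σ (s (t, 0, 0) * s (t', 0, 0)) =
      σ (s (t + t', 0, 0) * (s (0, -(θ t' * t), 0) *
        s (0, 0, -(θ t' * t ^ 2) + θ t' * t * t'))) := fun t t' => by
    conv_rhs => rw [map_mul, map_mul, hs, hs, hs, D.mul, D.mul]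
    rw [hσm, hs]
    simp
  have hXW : ∀ u v, ⁅s (0, u, 0), s (0, 0, v)⁆ = 1 := fun u v => by
    obtain ⟨r, hr⟩ := hαs (s₀ : K) (Units.ne_zero _)
    refine congrArg Subtype.val (mixed_eq_one 3 (fun u v => (⟨_, hXWmem u v⟩ : σ.ker))
      (fun a a' b => Subtype.ext (by
        refine (cg (hXadd a a') rfl).trans ?_; rw [comm_mul_left (kcent (hXWmem _ _))]
        exact kcent (hXWmem _ _)))
      (fun a b b' => Subtype.ext (by
        refine (cg rfl (hWadd b b')).trans ?_; rw [comm_mul_right (kcent (hXWmem _ _))]; rfl))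
      (β s₀) (s₀ : K) (Units.ne_zero _) (fun a b => Subtype.ext ?_) (fun h => ?_) u v)
    · show ⁅s (0, β s₀ * a, 0), s (0, 0, s₀ * b)⁆ = ⁅s (0, a, 0), s (0, 0, b)⁆
      have h1 := hwc s₀ 0 a 0
      have h2 := hwc s₀ 0 0 b
      rw [mul_zero, mul_zero] at h1 h2
      rw [← cg h1 h2, ← hconj, (kcent (hXWmem a b)).eq, mul_inv_cancel_right]
    · obtain ⟨i, -, hi⟩ := eq_pow_of_root 3 h
      refine Nat.lt_irrefl n ?_
      have hb : (β s₀) ^ n = 1 := by
        rw [← hαθ, hθ, ← pow_succ', ← pow_mul]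
        obtain ⟨a, ha⟩ : 2 ∣ 3 ^ (m + 1) + 1 := (Odd.pow (by decide : Odd 3)).add_one.two_dvd
        have h0 : α s₀ ≠ 0 := div_ne_zero (pow_ne_zero _ s₀.ne_zero) (hne s₀)
        rw [ha, mul_assoc, mul_comm a, ← mul_assoc, ← hn, pow_mul,
          FiniteField.pow_card_sub_one_eq_one _ h0, one_pow]
      have h1 : ((s₀ : K)⁻¹) ^ n = 1 := by rw [hi, ← pow_mul, mul_comm, pow_mul, hb, one_pow]
      rw [inv_pow, inv_eq_one, ← Units.val_pow_eq_pow_val, Units.val_eq_one] at h1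
      have := Nat.le_of_dvd (by omega) (orderOf_dvd_of_pow_eq_one h1)
      omega
  have hTW : ∀ t v, ⁅s (t, 0, 0), s (0, 0, v)⁆ = 1 := fun t v => by
    refine congrArg Subtype.val (mixed_eq_one 3 (fun v t => (⟨_, hTWmem t v⟩ : σ.ker))
      (fun a a' b => Subtype.ext (by
        refine (cg rfl (hWadd a a')).trans ?_; rw [comm_mul_right (kcent (hTWmem _ _))]; rfl))
      (fun a b b' => Subtype.ext ?_)
      (s₀ : K) (α s₀) (div_ne_zero (pow_ne_zero _ s₀.ne_zero) (hne s₀))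
      (fun a b => Subtype.ext ?_) (fun h => ?_) v t)
    · show ⁅s (b + b', 0, 0), s (0, 0, a)⁆ = ⁅s (b, 0, 0), s (0, 0, a)⁆ * ⁅s (b', 0, 0), s (0, 0, a)⁆
      have h1 : ∀ u c, ⁅s (0, u, 0) * s (0, 0, c), s (0, 0, a)⁆ = 1 := fun u c => by
        rw [comm_mul_left (kcent (hWmem c a)), hWW, hXW, mul_one]
      have h2 := cg (b := s (0, 0, a)) (hTadd b b') rfl
      rw [comm_mul_left (kcent (hTWmem _ _)), comm_mul_left (by rw [h1]; exact Commute.one_right _),
        h1, one_mul] at h2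
      rw [← h2]
      exact kcent (hTWmem _ _)
    · show ⁅s (α s₀ * b, 0, 0), s (0, 0, s₀ * a)⁆ = ⁅s (b, 0, 0), s (0, 0, a)⁆
      have h1 := hwc s₀ b 0 0
      have h2 := hwc s₀ 0 0 a
      rw [mul_zero, mul_zero] at h1 h2
      rw [← cg h1 h2, ← hconj, (kcent (hTWmem b a)).eq, mul_inv_cancel_right]
    · obtain ⟨i, hi, hval⟩ := eq_pow_of_root 3 h
      rw [hfr] at hi
      have h1 : (s₀ : K) ^ (3 ^ i + 2) = (s₀ : K) ^ 3 ^ (m + 1) := by
        rw [pow_add, ← hval, inv_div, div_mul_cancel₀ _ (pow_ne_zero 2 s₀.ne_zero), hθ]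
      have hik : 3 ^ i ≤ 3 ^ (2 * m) := Nat.pow_le_pow_right (by omega) (by omega)
      have hmk : 3 ^ (m + 1) ≤ 3 ^ (2 * m) := Nat.pow_le_pow_right (by omega) (by omega)
      have hk3 : 3 ^ (2 * m + 1) = 3 * 3 ^ (2 * m) := by ring
      have h9 : 3 ^ 2 ≤ 3 ^ (2 * m) := Nat.pow_le_pow_right (by omega) (by omega)
      rw [← Units.val_pow_eq_pow_val, ← Units.val_pow_eq_pow_val, Units.val_inj] at h1
      have h2 : 3 ^ i + 2 = 3 ^ (m + 1) :=
        pow_injOn_Iio_orderOf (by rw [Set.mem_Iio, hord, hK]; omega)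
          (by rw [Set.mem_Iio, hord, hK]; omega) h1
      rcases Nat.eq_zero_or_pos i with rfl | hi0
      · have : 3 ^ 2 ≤ 3 ^ (m + 1) := Nat.pow_le_pow_right (by omega) (by omega)
        omega
      · have ha : 3 ∣ 3 ^ i := dvd_pow_self 3 (by omega)
        have hb : 3 ∣ 3 ^ (m + 1) := dvd_pow_self 3 (by omega)
        omega
  -- the middle layer is abelian
  have hXmem : ∀ u u', ⁅s (0, u, 0), s (0, u', 0)⁆ ∈ σ.ker := fun u u' => hσc _ _ (by
    rw [hσm, hσm]; simp [add_comm])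
  have hXX : ∀ u u', ⁅s (0, u, 0), s (0, u', 0)⁆ = 1 := fun u u' =>
    congrArg Subtype.val (alt_eq_one h4 h9 (fun u u' => (⟨_, hXmem u u'⟩ : σ.ker))
      (fun a a' b => Subtype.ext (by
        refine (cg (hXadd a a') rfl).trans ?_; rw [comm_mul_left (kcent (hXmem _ _))]
        exact kcent (hXmem _ _)))
      (fun a b b' => Subtype.ext (by
        refine (cg rfl (hXadd b b')).trans ?_; rw [comm_mul_right (kcent (hXmem _ _))]; rfl))
      (fun a => Subtype.ext (commutatorElement_self _))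
      (fun t ht a b => Subtype.ext (by
        obtain ⟨r, hr⟩ := hβs t ht
        show ⁅s (0, t * t * a, 0), s (0, t * t * b, 0)⁆ = ⁅s (0, a, 0), s (0, b, 0)⁆
        have h1 := hwc r 0 a 0
        have h2 := hwc r 0 b 0
        rw [mul_zero, mul_zero] at h1 h2
        rw [← hr, ← cg h1 h2, ← hconj, (kcent (hXmem a b)).eq, mul_inv_cancel_right]))
      u u')
  have hel : ∀ t u v, el (t, u, v) = el (t, 0, 0) * (el (0, u, 0) * el (0, 0, v)) := fun t u v => by
    rw [D.mul, D.mul]; simp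
  let M : Subgroup G :=
    { carrier := {g | ∃ u v, g = el (0, u, v)}
      one_mem' := ⟨0, 0, D.el_zero.symm⟩
      mul_mem' := by
        rintro _ _ ⟨a, b, rfl⟩ ⟨a', b', rfl⟩
        exact ⟨a + a', b + b', by rw [D.mul]; simp⟩
      inv_mem' := by
        rintro _ ⟨a, b, rfl⟩
        exact ⟨-a, -b, inv_eq_of_mul_eq_one_right (by rw [D.mul, ← D.el_zero]; simp)⟩ }
  have hMel : ∀ u v, el (0, u, v) ∈ M := fun u v => ⟨u, v, rfl⟩
  set V := U.comap σ with hV
  set C := M.comap σ with hC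
  have hVs : ∀ p, s p ∈ V := fun p => (hU _).2 ⟨p, hs p⟩
  have hCV : C ≤ V := by
    intro x hx
    obtain ⟨u, v, h⟩ := hx
    exact (hU _).2 ⟨(0, u, v), h⟩
  have hCdec : ∀ x ∈ C, ∃ u v, σ x = σ (s (0, u, 0) * s (0, 0, v)) := fun x hx => by
    obtain ⟨u, v, h⟩ := hx
    exact ⟨u, v, by rw [h, hσm, hs]; simp⟩
  have hVdec : ∀ x ∈ V, ∃ t, ∃ y ∈ C, σ x = σ (s (t, 0, 0) * y) := fun x hx => by
    obtain ⟨⟨t, u, v⟩, h⟩ := (hU _).1 hx
    refine ⟨t, s (0, u, v), ?_, ?_⟩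
    · show σ _ ∈ M; rw [hs]; exact hMel u v
    · rw [h, hσm, hs]; simp
  have hCC : ∀ x ∈ C, ∀ y ∈ C, Commute x y := by
    intro x hx y hy
    obtain ⟨u, v, hx'⟩ := hCdec x hx
    obtain ⟨u', v', hy'⟩ := hCdec y hy
    refine commutatorElement_eq_one_iff_mul_comm.mp ?_
    have e1 : ∀ c d, ⁅s (0, u, 0) * s (0, 0, c), s (0, d, 0)⁆ = 1 := fun c d => by
      have : ⁅s (0, 0, c), s (0, d, 0)⁆ = 1 := by rw [← commutatorElement_inv, hXW, inv_one]
      rw [comm_mul_left (by rw [this]; exact Commute.one_right _), this, hXX, mul_one]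
    have e2 : ∀ c d, ⁅s (0, u, 0) * s (0, 0, c), s (0, 0, d)⁆ = 1 := fun c d => by
      rw [comm_mul_left (kcent (hWmem c d)), hWW, hXW, mul_one]
    rw [cg hx' hy', comm_mul_right (by rw [e2]; exact Commute.one_right _), e1, e2, mul_one]
  letI : CommGroup C :=
    { (inferInstance : Group C) with
      mul_comm := fun a b => Subtype.ext (hCC a a.2 b b.2).eq }
  have hwC : ∀ (r : Kˣ) (x : C), w r * (x : Γ) * (w r)⁻¹ ∈ C := fun r x => by
    obtain ⟨u, v, h⟩ := x.2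
    exact ⟨β r * u, r * v, by rw [map_mul, map_mul, map_inv, hw, h, D.conj, mul_zero]⟩
  let P : C →* C :=
    MonoidHom.mk' (fun x => ∏ r : Kˣ, (⟨w r * (x : Γ) * (w r)⁻¹, hwC r x⟩ : C)) fun x y => by
      rw [← Finset.prod_mul_distrib]
      exact Finset.prod_congr rfl fun t _ => Subtype.ext (by
        show w t * ((x : Γ) * y) * (w t)⁻¹ = w t * x * (w t)⁻¹ * (w t * y * (w t)⁻¹)
        group)
  have hPinv : ∀ (r : Kˣ) (x y : C), (y : Γ) = w r * x * (w r)⁻¹ → P y = P x := by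
    intro r x y hy
    refine Fintype.prod_equiv (Equiv.mulRight r) _ _ fun t => Subtype.ext ?_
    show w t * (y : Γ) * (w t)⁻¹ = w (t * r) * x * (w (t * r))⁻¹
    have hk : (w (t * r))⁻¹ * (w t * w r) ∈ σ.ker := by
      rw [MonoidHom.mem_ker, map_mul, map_inv, map_mul, hw, hw, hw, D.tor_mul, inv_mul_cancel]
    obtain ⟨k, hk', e⟩ : ∃ k ∈ σ.ker, w t * w r = w (t * r) * k :=
      ⟨_, hk, (mul_inv_cancel_left _ _).symm⟩
    calc w t * (y : Γ) * (w t)⁻¹ = (w t * w r) * x * (w t * w r)⁻¹ := by rw [hy]; group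
      _ = w (t * r) * (k * x * k⁻¹) * (w (t * r))⁻¹ := by rw [e]; group
      _ = _ := by rw [← (kcent hk' : Commute (x : Γ) k).eq, mul_inv_cancel_right]
  let Q : Γ → C := fun x => if h : x ∈ C then P ⟨x, h⟩ else 1
  have hQ : ∀ (x : Γ) (h : x ∈ C), Q x = P ⟨x, h⟩ := fun x h => dif_pos h
  have hQmul : ∀ x ∈ C, ∀ y ∈ C, Q (x * y) = Q x * Q y := fun x hx y hy => by
    rw [hQ x hx, hQ y hy, hQ _ (mul_mem hx hy), ← map_mul]; rfl
  have hQ1 : Q 1 = 1 := by rw [hQ 1 (one_mem _)]; exact map_one P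
  have hQinv : ∀ (r : Kˣ), ∀ x ∈ C, Q (w r * x * (w r)⁻¹) = Q x := fun r x hx => by
    rw [hQ x hx, hQ _ (hwC r ⟨x, hx⟩)]; exact hPinv r _ _ rfl
  -- commutators with the middle layer are killed by averaging
  have hWcen : ∀ x ∈ V, ∀ v, Commute x (s (0, 0, v)) := by
    intro x hx v
    obtain ⟨t, y, hy, hx'⟩ := hVdec x hx
    refine commutatorElement_eq_one_iff_mul_comm.mp ?_
    have hy1 : ⁅y, s (0, 0, v)⁆ = 1 :=
      commutatorElement_eq_one_iff_mul_comm.mpr (hCC y hy _ ⟨0, v, hs _⟩).eq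
    rw [cg hx' rfl, comm_mul_left (by rw [hy1]; exact Commute.one_right _), hy1, hTW, mul_one]
  have hTXval : ∀ t u, σ ⁅s (t, 0, 0), s (0, u, 0)⁆ = el (0, 0, u * t) := fun t u => by
    rw [map_commutatorElement, hs, hs, commutatorElement_def, mul_inv_eq_iff_eq_mul,
      mul_inv_eq_iff_eq_mul]
    simp only [D.mul, map_zero]
    simp
  have hTXc : ∀ t u, ∀ x ∈ V, Commute x ⁅s (t, 0, 0), s (0, u, 0)⁆ := fun t u x hx => by
    have hk : (s (0, 0, u * t))⁻¹ * ⁅s (t, 0, 0), s (0, u, 0)⁆ ∈ σ.ker := by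
      rw [MonoidHom.mem_ker, map_mul, map_inv, hs, hTXval, inv_mul_cancel]
    simpa only [mul_inv_cancel_left] using (hWcen x hx (u * t)).mul_right (kcent hk)
  have hTXmem : ∀ t u, ⁅s (t, 0, 0), s (0, u, 0)⁆ ∈ C := fun t u =>
    ⟨0, u * t, hTXval t u⟩
  have hTXl : ∀ t t' u, ⁅s (t + t', 0, 0), s (0, u, 0)⁆ =
      ⁅s (t', 0, 0), s (0, u, 0)⁆ * ⁅s (t, 0, 0), s (0, u, 0)⁆ := fun t t' u => by
    have h1 : ∀ a c, ⁅s (0, a, 0) * s (0, 0, c), s (0, u, 0)⁆ = 1 := fun a c =>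
      commutatorElement_eq_one_iff_mul_comm.mpr (hCC _
        (mul_mem ⟨a, 0, hs _⟩ ⟨0, c, hs _⟩) _ ⟨u, 0, hs _⟩).eq
    have h2 := cg (b := s (0, u, 0)) (hTadd t t') rfl
    rw [comm_mul_left (hTXc t' u _ (hVs _)), comm_mul_left (by rw [h1]; exact Commute.one_right _),
      h1, one_mul] at h2
    exact h2.symm
  have hQTX : ∀ t u, Q ⁅s (t, 0, 0), s (0, u, 0)⁆ = 1 := fun t u => by
    obtain ⟨r, hr⟩ := hαs (s₀ : K) (Units.ne_zero _)
    refine mixed_eq_one 3 (fun u t => Q ⁅s (t, 0, 0), s (0, u, 0)⁆)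
      (fun a a' b => ?_) (fun a b b' => ?_) (β r) (α r) (hr ▸ Units.ne_zero _) (fun a b => ?_)
      (fun h => ?_) u t
    · rw [cg rfl (hXadd a a'), comm_mul_right (hTXc _ _ _ (hVs _)),
        hQmul _ (hTXmem _ _) _ (hTXmem _ _)]
    · rw [hTXl, hQmul _ (hTXmem _ _) _ (hTXmem _ _), mul_comm]
    · have h1 := hwc r b 0 0
      have h2 := hwc r 0 a 0
      rw [mul_zero, mul_zero] at h1 h2
      rw [← cg h1 h2, ← hconj, hQinv r _ (hTXmem _ _)]
    · obtain ⟨i, -, hi⟩ := eq_pow_of_root 3 h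
      rw [hr] at hi
      exact hord' r hr i hi.symm
  have hQX : ∀ x ∈ V, ∀ y ∈ C, Q ⁅x, y⁆ = 1 := by
    intro x hx y hy
    obtain ⟨t, c, hcC, hx'⟩ := hVdec x hx
    obtain ⟨u, v, hy'⟩ := hCdec y hy
    have hy2 : s (0, u, 0) * s (0, 0, v) ∈ C := mul_mem ⟨u, 0, hs _⟩ ⟨0, v, hs _⟩
    have h1 : ⁅c, s (0, u, 0) * s (0, 0, v)⁆ = 1 :=
      commutatorElement_eq_one_iff_mul_comm.mpr (hCC _ hcC _ hy2).eq
    rw [cg hx' hy', comm_mul_left (by rw [h1]; exact Commute.one_right _), h1, one_mul,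
      comm_mul_right (by rw [hTW]; exact Commute.one_right _), hTW, mul_one, hQTX]
  have hVC : ∀ x ∈ V, ∀ y ∈ V, ⁅x, y⁆ ∈ C := by
    intro x hx y hy
    obtain ⟨⟨t, u, v⟩, hx'⟩ := (hU _).1 hx
    obtain ⟨⟨t', u', v'⟩, hy'⟩ := (hU _).1 hy
    show σ ⁅x, y⁆ ∈ M
    refine ⟨θ t * t' - θ t' * t, (v + v' - θ t' * t ^ 2 - u * t' + θ t' * t * t') -
      (v' + v - θ t * t' ^ 2 - u' * t + θ t * t' * t) + (θ t * t' - θ t' * t) * (t' + t) +
      θ (t' + t) * 0, ?_⟩
    rw [map_commutatorElement, hx', hy', commutatorElement_def, mul_inv_eq_iff_eq_mul,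
      mul_inv_eq_iff_eq_mul]
    simp only [D.mul, mul_assoc]
    congr 1
    simp only [Prod.mk.injEq]
    refine ⟨?_, ?_, ?_⟩ <;> ring
  have hQl : ∀ x ∈ V, ∀ x' ∈ V, ∀ y ∈ V, Q ⁅x * x', y⁆ = Q ⁅x, y⁆ * Q ⁅x', y⁆ := by
    intro x hx x' hx' y hy
    have h1 := hVC x' hx' y hy
    have h2 := hVC x hx _ (hCV h1)
    rw [show ⁅x * x', y⁆ = ⁅x, ⁅x', y⁆⁆ * ⁅x', y⁆ * ⁅x, y⁆ by simp only [commutatorElement_def]; group,
      hQmul _ (mul_mem h2 h1) _ (hVC x hx y hy), hQmul _ h2 _ h1, hQX x hx _ h1, one_mul, mul_comm]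
  have hQswap : ∀ x ∈ V, ∀ y ∈ V, Q ⁅y, x⁆ = (Q ⁅x, y⁆)⁻¹ := fun x hx y hy => by
    rw [eq_inv_iff_mul_eq_one, ← hQmul _ (hVC y hy x hx) _ (hVC x hx y hy),
      ← commutatorElement_inv x y, inv_mul_cancel, hQ1]
  have hQC : ∀ x ∈ V, ∀ y ∈ C, Q ⁅y, x⁆ = 1 := fun x hx y hy => by
    rw [hQswap x hx y (hCV hy), hQX x hx y hy, inv_one]
  have hTT : ∀ t t', Q ⁅s (t, 0, 0), s (t', 0, 0)⁆ = 1 := by
    have hl : ∀ a a' b, Q ⁅s (a + a', 0, 0), s (b, 0, 0)⁆ =
        Q ⁅s (a, 0, 0), s (b, 0, 0)⁆ * Q ⁅s (a', 0, 0), s (b, 0, 0)⁆ := fun a a' b => by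
      have hC' : s (0, -(θ a' * a), 0) * s (0, 0, -(θ a' * a ^ 2) + θ a' * a * a') ∈ C :=
        mul_mem ⟨_, 0, hs _⟩ ⟨0, _, hs _⟩
      rw [← hQl _ (hVs _) _ (hVs _) _ (hVs _), cg (hTadd a a') rfl,
        hQl _ (hVs _) _ (hCV hC') _ (hVs _), hQC _ (hVs _) _ hC', mul_one]
    intro t t'
    refine alt_eq_one h4 h9 (fun t t' => Q ⁅s (t, 0, 0), s (t', 0, 0)⁆) hl (fun a b b' => ?_)
      (fun a => ?_) (fun x hx a b => ?_) t t'
    · rw [hQswap _ (hVs (b + b', 0, 0)) _ (hVs _), hl, mul_inv,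
        ← hQswap _ (hVs (b, 0, 0)) _ (hVs _), ← hQswap _ (hVs (b', 0, 0)) _ (hVs _)]
    · rw [commutatorElement_self, hQ1]
    · obtain ⟨r, hr⟩ := hαs (x * x) (mul_ne_zero hx hx)
      have h1 := hwc r a 0 0
      have h2 := hwc r b 0 0
      rw [mul_zero, mul_zero] at h1 h2
      rw [← hr, ← cg h1 h2, ← hconj, hQinv r _ (hVC _ (hVs _) _ (hVs _))]
  have hle : ⁅V, V⁆ ≤ P.ker.map C.subtype := by
    rw [Subgroup.commutator_le]
    intro x hx y hy
    refine ⟨⟨_, hVC x hx y hy⟩, ?_, rfl⟩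
    show P _ = 1
    rw [← hQ _ (hVC x hx y hy)]
    obtain ⟨t, c, hcC, hx'⟩ := hVdec x hx
    obtain ⟨t', c', hcC', hy'⟩ := hVdec y hy
    rw [cg hx' hy', hQl _ (hVs _) _ (hCV hcC) _ (mul_mem (hVs _) (hCV hcC')),
      hQC _ (mul_mem (hVs _) (hCV hcC')) _ hcC, mul_one,
      hQswap _ (mul_mem (hVs _) (hCV hcC')) _ (hVs _), hQl _ (hVs _) _ (hCV hcC') _ (hVs _),
      hTT, hQC _ (hVs _) _ hcC', mul_one, inv_one]
  obtain ⟨zc, hzP, hzz⟩ := hle hzd
  have hz' : (zc : Γ) = z := hzz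
  have hPz : P zc = zc ^ Fintype.card Kˣ := by
    show ∏ t : Kˣ, (⟨w t * (zc : Γ) * (w t)⁻¹, hwC t zc⟩ : C) = _
    rw [← Finset.card_univ, ← Finset.prod_const]
    refine Finset.prod_congr rfl fun t _ => Subtype.ext ?_
    show w t * (zc : Γ) * (w t)⁻¹ = zc
    rw [hz', (kcent hz : Commute (w t) z).eq, mul_inv_cancel_right]
  have h1 : z ^ Fintype.card Kˣ = 1 := by
    have := congrArg Subtype.val (hPz.symm.trans hzP)
    rwa [Subgroup.coe_pow, hz', Subgroup.coe_one] at this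
  rw [Fintype.card_units] at h1
  have hcop : Nat.Coprime (Fintype.card K - 1) 3 := by
    rw [Nat.coprime_comm, Nat.prime_three.coprime_iff_not_dvd, hK]
    have : 3 ∣ 3 ^ (2 * m + 1) := dvd_pow_self 3 (by omega)
    have : 1 ≤ 3 ^ (2 * m + 1) := Nat.one_le_pow _ _ (by norm_num)
    omega
  exact orderOf_eq_one_iff.mp (Nat.eq_one_of_dvd_coprimes hcop (orderOf_dvd_of_pow_eq_one h1)
    (orderOf_dvd_of_pow_eq_one hz3))

end


end CfsgLib.Schur
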