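import Cfsg.Agent.S2086
import Cfsg.Agent.Lib.Classical.UnitaryOrder
import Cfsg.Agent.Lib.Classical.UnitarySimple

/-!
From trivial stem extensions of `SU_n(q)` to the multiplier of `PSU_n(q)`.
-/

set_option autoImplicit false
set_option linter.unusedSectionVars false
set_option linter.style.haveILetI false

namespace CfsgLib.Schur.UnitaryPSU

open Matrix Cfsg CfsgLib.Classical.Herm
open CfsgLib.ClassicalAut (Unitary.Conj)

universe u

variable {F : Type u} [Field F] [Finite F] {q n : ℕ} (K : Unitary.Conj F q)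

include K in
theorem isCyclic_center (hn : 2 ≤ n) : IsCyclic (Subgroup.center (SU n F q)) := by
  let i0 : Fin n := ⟨0, by omega⟩
  refine isCyclic_of_subgroup_isDomain
    ({ toFun := fun g : Subgroup.center (SU n F q) =>
        ((g : SU n F q).1 : Matrix (Fin n) (Fin n) F) i0 i0
       map_one' := by simp
       map_mul' := fun a b => ?_ } : Subgroup.center (SU n F q) →* F) ?_
  · obtain ⟨c, hc⟩ := (center_iff K hn _).1 a.2
    obtain ⟨d, hd⟩ := (center_iff K hn _).1 b.2
    show ((a : SU n F q).1.1 * (b : SU n F q).1.1) i0 i0 = _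
    rw [hc, hd, Matrix.smul_mul, Matrix.one_mul, smul_smul]
    simp
  · intro a b h
    obtain ⟨c, hc⟩ := (center_iff K hn _).1 a.2
    obtain ⟨d, hd⟩ := (center_iff K hn _).1 b.2
    simp only [MonoidHom.coe_mk, OneHom.coe_mk] at h
    rw [hc, hd] at h
    simp at h
    exact Subtype.ext (Subtype.ext (Subtype.ext (by rw [hc, hd, h])))

include K in
theorem multiplier_of_injective (p : ℕ) [Fact p.Prime] [CharP F p] (hn : 3 ≤ n)
    (h32 : ¬ (n = 3 ∧ q = 2))
    (hinj : ∀ (Γ : Type u) [Group Γ] [Finite Γ] (τ : Γ →* SU n F q),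
      Cfsg.IsStemExtension τ → Function.Injective τ) :
    Cfsg.HasCyclicSchurMultiplier (PSU n F q) (Nat.gcd n (q + 1)) := by
  haveI : IsCyclic (Subgroup.center (SU n F q)) := isCyclic_center K (by omega)
  have hperf := commutator_eq_top K p hn h32
  have hker : (QuotientGroup.mk' (Subgroup.center (SU n F q))).ker = Subgroup.center (SU n F q) :=
    QuotientGroup.ker_mk' _
  have hgcd : Nat.card (Subgroup.center (SU n F q)) = Nat.gcd n (q + 1) := card_center K (by omega)
  let E : Multiplicative (ZMod (Nat.gcd n (q + 1))) ≃*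
      (QuotientGroup.mk' (Subgroup.center (SU n F q))).ker :=
    ((hgcd ▸ (zmodCyclicMulEquiv (inferInstance : IsCyclic (Subgroup.center (SU n F q))))) :
      Multiplicative (ZMod (Nat.gcd n (q + 1))) ≃* Subgroup.center (SU n F q)).trans
      (MulEquiv.subgroupCongr hker.symm)
  refine ⟨⟨SU n F q, inferInstance, inferInstance, QuotientGroup.mk' _,
    ⟨QuotientGroup.mk'_surjective _, hker.le, by rw [hperf]; exact le_top⟩, ⟨E.symm⟩⟩, ?_⟩
  intro Γ _ _ τ hτ
  obtain ⟨π, hπ⟩ := Cfsg.Agent.S2086.ker_onto hperf (fun Δ hΔ => hinj Δ _ hΔ)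
    (QuotientGroup.mk'_surjective _) hτ
  exact ⟨π.comp E.toMonoidHom, hπ.comp E.surjective⟩

end CfsgLib.Schur.UnitaryPSU
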