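import Cfsg.Agent.Lib.Schur.CosetSection

/-!
The two-step criterion against stem double covers with a single choice of lifts.
-/

set_option autoImplicit false
set_option linter.style.haveILetI false

namespace CfsgLib.Schur.InvolLift

open scoped commutatorElement
open CfsgLib.Schur.InvTable

universe u

/-- Two certified tables split the preimage of a subgroup of odd index, with one choice of lifts. -/
theorem no_double_of_lift {G E : Type u} [Group G] [Group E] [Finite E] [Finite G] {τ : E →* G}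
    (hτ : Cfsg.IsStemExtension τ) (h2 : Nat.card τ.ker = 2) (P T : Tab) (g : ℕ → G)
    (hP : P.ok = true) (hT : T.okR P.k = true) (hsq : ∀ j, j < T.k → g j * g j = 1)
    (hwG : ∀ w ∈ P.words ++ T.words, (w.map g).prod = 1)
    (L : ℕ → E) (hL : ∀ j, τ (L j) = g j) (hsqE : ∀ j, j < T.k → L j * L j = 1)
    (hwE : ∀ w ∈ P.words ++ T.words, (w.map L).prod = 1)
    (hinjP : ∀ l l', l < P.N → l' < P.N → P.phi g l = P.phi g l' → l = l')
    (hinjT : ∀ i i' l, i < T.N → i' < T.N → l < P.N → T.phi g i = T.phi g i' * P.phi g l → i = i')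
    (hodd : ∀ m, T.N * P.N * m = Nat.card G → ¬ 2 ∣ m) : False := by
  have hR := hT
  simp only [Tab.okR, Bool.and_eq_true, decide_eq_true_eq] at hR
  obtain ⟨⟨⟨⟨⟨hTN, -⟩, hPk⟩, hTlen⟩, -⟩, hTrest⟩ := hR
  have hTtree : T.treeKnown T.tree 1 (T.rootKnown P.k 0) ≠ none := fun e => by
    rw [e] at hTrest; simp at hTrest
  have hO := hP
  simp only [Tab.ok, Bool.and_eq_true, decide_eq_true_eq] at hO
  obtain ⟨⟨⟨hPN, -⟩, hPlen⟩, hPrest⟩ := hO
  have hPtree : P.treeKnown P.tree 1 0 ≠ none := fun e => by rw [e] at hPrest; simp at hPrest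
  have hwPG : ∀ w ∈ P.words, (w.map g).prod = 1 := fun w hw => hwG w (List.mem_append_left _ hw)
  have hwTG : ∀ w ∈ T.words, (w.map g).prod = 1 := fun w hw => hwG w (List.mem_append_right _ hw)
  have hwPE : ∀ w ∈ P.words, (w.map L).prod = 1 := fun w hw => hwE w (List.mem_append_left _ hw)
  have hwTE : ∀ w ∈ T.words, (w.map L).prod = 1 := fun w hw => hwE w (List.mem_append_right _ hw)
  set UP : Subgroup G := Subgroup.closure {e | ∃ j, j < P.k ∧ e = g j} with hUP
  set WP : Subgroup E := Subgroup.closure {e | ∃ j, j < P.k ∧ e = L j} with hWP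
  set U : Subgroup G := Subgroup.closure {e | ∃ j, j < T.k ∧ e = g j} with hU
  set W : Subgroup E := Subgroup.closure {e | ∃ j, j < T.k ∧ e = L j} with hW
  have hfun : (fun j => τ (L j)) = g := funext hL
  have hphiP : ∀ t, τ (P.phi L t) = P.phi g t := fun t => by rw [map_phi, hfun]
  have hphiT : ∀ t, τ (T.phi L t) = T.phi g t := fun t => by rw [map_phi, hfun]
  have hinter : ∀ z ∈ W, τ z = 1 → z = 1 := fun z hz h1 => by
    obtain ⟨i, hi, hzi⟩ := Tab.exists_mem_coset (W := WP) hT hsqE hwTE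
      (fun j hj => Subgroup.subset_closure ⟨j, hj, rfl⟩) hz
    obtain ⟨l, hl, hzl⟩ := Tab.exists_eq_phi hP (fun j hj => hsqE j (by omega)) hwPE hzi
    have hz' : z = T.phi L i * P.phi L l := by rw [← hzl, mul_inv_cancel_left]
    have h2' : T.phi g i * P.phi g l = 1 := by rw [← hphiT, ← hphiP, ← map_mul, ← hz', h1]
    have hi0 : i = 0 := (hinjT 0 i l hTN hi hl (by rw [Tab.phi_zero, h2'])).symm
    subst hi0
    rw [Tab.phi_zero, one_mul] at h2'
    rw [hinjP l 0 hl hPN (by rw [h2', Tab.phi_zero]), Tab.phi_zero, Tab.phi_zero, one_mul] at hz'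
    exact hz'
  have hmap : W.map τ = U := by
    rw [hW, hU, MonoidHom.map_closure]
    congr 1
    ext e
    constructor
    · rintro ⟨_, ⟨j, hj, rfl⟩, rfl⟩; exact ⟨j, hj, hL j⟩
    · rintro ⟨j, hj, rfl⟩; exact ⟨_, ⟨j, hj, rfl⟩, hL j⟩
  have hsqP : ∀ j, j < P.k → g j * g j = 1 := fun j hj => hsq j (by omega)
  have hgU : ∀ j, j < T.k → g j ∈ U := fun j hj => Subgroup.subset_closure ⟨j, hj, rfl⟩
  have hPU : ∀ l, l < P.N → P.phi g l ∈ U :=
    Tab.phi_mem hPlen hPtree fun j hj => hgU j (by omega)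
  have hTU : ∀ i, i < T.N → T.phi g i ∈ U := Tab.phi_mem hTlen hTtree hgU
  have hcardU : Nat.card U = T.N * P.N := by
    have hbij : Function.Bijective fun q : Fin T.N × Fin P.N =>
        (⟨T.phi g q.1 * P.phi g q.2, mul_mem (hTU _ q.1.2) (hPU _ q.2.2)⟩ : U) := by
      constructor
      · rintro ⟨i, l⟩ ⟨i', l'⟩ h
        have h' : T.phi g i * P.phi g l = T.phi g i' * P.phi g l' := congrArg Subtype.val h
        have hmemP : ∀ r, r < P.N → P.phi g r ∈ UP :=
          Tab.phi_mem hPlen hPtree fun j hj => Subgroup.subset_closure ⟨j, hj, rfl⟩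
        obtain ⟨r, hr, he⟩ := Tab.exists_eq_phi hP hsqP hwPG
          (UP.mul_mem (hmemP _ l'.2) (UP.inv_mem (hmemP _ l.2)))
        have hi : (i : ℕ) = i' := hinjT _ _ r i.2 i'.2 hr (by
          rw [← he, ← mul_assoc, ← h', mul_inv_cancel_right])
        rw [hi] at h'
        exact Prod.ext (Fin.ext hi) (Fin.ext (hinjP _ _ l.2 l'.2 (mul_left_cancel h')))
      · rintro ⟨x, hx⟩
        obtain ⟨i, hi, hxi⟩ := Tab.exists_mem_coset (W := UP) hT hsq hwTG
          (fun j hj => Subgroup.subset_closure ⟨j, hj, rfl⟩) hx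
        obtain ⟨l, hl, hxl⟩ := Tab.exists_eq_phi hP hsqP hwPG hxi
        refine ⟨(⟨i, hi⟩, ⟨l, hl⟩), Subtype.ext ?_⟩
        show T.phi g i * P.phi g l = x
        rw [← hxl, mul_inv_cancel_left]
    rw [← Nat.card_congr (Equiv.ofBijective _ hbij), Nat.card_prod, Nat.card_fin, Nat.card_fin]
  have hindex : ¬ 2 ∣ U.index := hodd _ (by rw [← hcardU, Subgroup.card_mul_index])
  obtain ⟨⟨z, hzk⟩, hz⟩ := exists_prime_orderOf_dvd_card' (p := 2) (G := τ.ker) (by rw [h2])
  rw [Subgroup.orderOf_mk] at hz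
  have hmem := mem_commutator_preimage (a := 1) hτ.1 Nat.prime_two hzk (hτ.2.1 hzk) (hτ.2.2 hzk)
    (by rw [pow_one, ← hz, pow_orderOf_eq_one]) U hindex
  have hle : ⁅U.comap τ, U.comap τ⁆ ≤ W := by
    rw [Subgroup.commutator_le]
    intro x hx y hy
    rw [Subgroup.mem_comap, ← hmap] at hx hy
    obtain ⟨a, ha, hax⟩ := hx
    obtain ⟨b, hb, hby⟩ := hy
    rw [commutatorElement_congr τ hτ.2.1 hax.symm hby.symm, commutatorElement_def]
    exact mul_mem (mul_mem (mul_mem ha hb) (inv_mem ha)) (inv_mem hb)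
  rw [hinter z (hle hmem) (MonoidHom.mem_ker.mp hzk), orderOf_one] at hz
  exact absurd hz (by norm_num)

end CfsgLib.Schur.InvolLift
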