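import Cfsg.Agent.Lib.Schur.SylowCriterion

/-!
Central extensions whose kernel has order prime to `p`: every `p`-element has exactly one lift of
`p`-power order, and these lifts multiply on every `p`-subgroup.
-/

set_option autoImplicit false
set_option linter.unusedSectionVars false
set_option linter.style.haveILetI false

namespace CfsgLib.Schur.Canon

universe u v

variable {Γ : Type u} {G : Type v} [Group Γ] [Group G] {p : ℕ}

/-- `e` has `p`-power order. -/
def IsPElt (p : ℕ) {M : Type*} [Group M] (e : M) : Prop := ∃ k : ℕ, e ^ p ^ k = 1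

lemma isPElt_one {M : Type*} [Group M] : IsPElt p (1 : M) := ⟨0, one_pow _⟩

lemma IsPElt.conj {M : Type*} [Group M] {e : M} (h : IsPElt p e) (g : M) :
    IsPElt p (g * e * g⁻¹) := by
  obtain ⟨k, hk⟩ := h
  exact ⟨k, by rw [conj_pow, hk, mul_one, mul_inv_cancel]⟩

lemma IsPElt.map {M N : Type*} [Group M] [Group N] (f : M →* N) {e : M} (h : IsPElt p e) :
    IsPElt p (f e) := by
  obtain ⟨k, hk⟩ := h
  exact ⟨k, by rw [← map_pow, hk, map_one]⟩

lemma isPElt_of_mem {M : Type*} [Group M] {P : Subgroup M} (hP : IsPGroup p P) {e : M}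
    (he : e ∈ P) : IsPElt p e := by
  obtain ⟨k, hk⟩ := hP ⟨e, he⟩
  exact ⟨k, congrArg Subtype.val hk⟩

/-- The data: a central extension with kernel of order prime to `p`. -/
structure Ctx (σ : Γ →* G) (p : ℕ) : Prop where
  prime : p.Prime
  surj : Function.Surjective σ
  central : σ.ker ≤ Subgroup.center Γ
  coprime : ¬ p ∣ Nat.card σ.ker

variable {σ : Γ →* G} (c : Ctx σ p)
include c

lemma ker_eq_one [Finite Γ] {z : Γ} (hz : z ∈ σ.ker) (h : IsPElt p z) : z = 1 := by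
  obtain ⟨k, hk⟩ := h
  have h1 : orderOf z ∣ p ^ k := orderOf_dvd_of_pow_eq_one hk
  have h2 : orderOf z ∣ Nat.card σ.ker := by
    rw [← Subgroup.orderOf_mk z hz]
    exact orderOf_dvd_natCard _
  have h3 : (p ^ k).Coprime (Nat.card σ.ker) :=
    Nat.Coprime.pow_left k (c.prime.coprime_iff_not_dvd.2 c.coprime)
  exact orderOf_eq_one_iff.1 (Nat.eq_one_of_dvd_coprimes h3 h1 h2)

lemma exists_lift [Finite Γ] {x : G} (hx : IsPElt p x) : ∃ e, σ e = x ∧ IsPElt p e := by
  obtain ⟨e, rfl⟩ := c.surj x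
  obtain ⟨k, hk⟩ := hx
  have hz : e ^ p ^ k ∈ σ.ker := by rw [MonoidHom.mem_ker, map_pow, hk]
  have h3 : (Nat.card σ.ker).Coprime (p ^ k) :=
    (Nat.Coprime.pow_left k (c.prime.coprime_iff_not_dvd.2 c.coprime)).symm
  obtain ⟨⟨w, hw⟩, hwe⟩ := (powCoprime h3).surjective ⟨e ^ p ^ k, hz⟩
  have hwe' : w ^ p ^ k = e ^ p ^ k := congrArg Subtype.val hwe
  refine ⟨e * w⁻¹, by rw [map_mul, map_inv, MonoidHom.mem_ker.1 hw, inv_one, mul_one], k, ?_⟩
  rw [(Subgroup.mem_center_iff.1 (c.central (inv_mem hw)) e).symm.symm |> Commute.mul_pow, inv_pow,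
    hwe', mul_inv_cancel]

lemma lift_unique [Finite Γ] {e e' : Γ} (h : σ e = σ e') (he : IsPElt p e) (he' : IsPElt p e') :
    e = e' := by
  obtain ⟨k, hk⟩ := he
  obtain ⟨k', hk'⟩ := he'
  have hz : e'⁻¹ * e ∈ σ.ker := by rw [MonoidHom.mem_ker, map_mul, map_inv, h, inv_mul_cancel]
  have hzc := c.central hz
  have hcomm : Commute e' (e'⁻¹ * e) := Subgroup.mem_center_iff.1 hzc e'
  have h1 : (e'⁻¹ * e) ^ p ^ (k + k') = 1 := by
    have h2 : e ^ p ^ (k + k') = e' ^ p ^ (k + k') * (e'⁻¹ * e) ^ p ^ (k + k') := by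
      rw [← hcomm.mul_pow, mul_inv_cancel_left]
    rw [pow_add, pow_mul e, hk, one_pow, mul_comm, pow_mul e', hk', one_pow, one_mul] at h2
    rw [pow_add, mul_comm, ← h2]
  exact inv_mul_eq_one.1 (ker_eq_one c hz ⟨_, h1⟩) |>.symm

end CfsgLib.Schur.Canon

namespace CfsgLib.Schur.Canon

variable {Γ G : Type*} [Group Γ] [Group G] {p : ℕ}

/-- The lift of `p`-power order of a `p`-element. -/
noncomputable def lift (σ : Γ →* G) (p : ℕ) (x : G) : Γ :=
  open scoped Classical in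
  if h : ∃ e, σ e = x ∧ IsPElt p e then h.choose else 1

variable {σ : Γ →* G} (c : Ctx σ p) [Finite Γ]
include c

lemma σ_lift {x : G} (hx : IsPElt p x) : σ (lift σ p x) = x := by
  rw [lift, dif_pos (exists_lift c hx)]
  exact (exists_lift c hx).choose_spec.1

lemma isPElt_lift {x : G} (hx : IsPElt p x) : IsPElt p (lift σ p x) := by
  rw [lift, dif_pos (exists_lift c hx)]
  exact (exists_lift c hx).choose_spec.2

lemma lift_eq {x : G} {e : Γ} (he : σ e = x) (hp : IsPElt p e) : lift σ p x = e := by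
  have hx : IsPElt p x := he ▸ hp.map σ
  exact lift_unique c ((σ_lift c hx).trans he.symm) (isPElt_lift c hx) hp

lemma lift_one : lift σ p (1 : G) = 1 := lift_eq c (map_one σ) isPElt_one

lemma lift_conj (e : Γ) {x : G} (hx : IsPElt p x) :
    e * lift σ p x * e⁻¹ = lift σ p (σ e * x * (σ e)⁻¹) :=
  (lift_eq c (by rw [map_mul, map_mul, map_inv, σ_lift c hx]) ((isPElt_lift c hx).conj e)).symm

lemma lift_mul {P : Subgroup G} (hP : IsPGroup p P) {x y : G} (hx : x ∈ P) (hy : y ∈ P) :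
    lift σ p (x * y) = lift σ p x * lift σ p y := by
  classical
  haveI := Fact.mk c.prime
  haveI : Finite G := Finite.of_surjective σ c.surj
  set H := P.comap σ with hH
  obtain ⟨Q, -⟩ := IsPGroup.exists_le_sylow (G := H) (IsPGroup.of_bot (p := p))
  let τ : H →* P := σ.subgroupComap P
  have hτs : Function.Surjective τ := MonoidHom.subgroupComap_surjective_of_surjective σ P c.surj
  -- the Sylow subgroup maps onto `P`
  have htop : (Q : Subgroup H).map τ = ⊤ := by
    obtain ⟨k, hk⟩ := (IsPGroup.iff_card.1 hP)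
    refine Subgroup.index_eq_one.1 ?_
    have h1 : ((Q : Subgroup H).map τ).index ∣ (Q : Subgroup H).index :=
      Subgroup.index_map_dvd _ hτs
    have h2 : ((Q : Subgroup H).map τ).index ∣ p ^ k := hk ▸ Subgroup.index_dvd_card _
    exact Nat.eq_one_of_dvd_coprimes
      ((Nat.Coprime.pow_left k (c.prime.coprime_iff_not_dvd.2 Q.not_dvd_index))) h2 h1
  have hlift : ∀ g ∈ P, ∃ e : Γ, ∃ he : e ∈ H, (⟨e, he⟩ : H) ∈ Q ∧ lift σ p g = e := by
    intro g hg
    obtain ⟨⟨e, he⟩, heQ, hτe⟩ := (htop ▸ Subgroup.mem_top (⟨g, hg⟩ : P) :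
      (⟨g, hg⟩ : P) ∈ (Q : Subgroup H).map τ)
    refine ⟨e, he, heQ, lift_eq c (congrArg Subtype.val hτe) ?_⟩
    obtain ⟨k, hk⟩ := Q.isPGroup' ⟨_, heQ⟩
    exact ⟨k, congrArg (fun z : (Q : Subgroup H) => ((z : H) : Γ)) hk⟩
  obtain ⟨e, he, heQ, ee⟩ := hlift x hx
  obtain ⟨e', he', heQ', ee'⟩ := hlift y hy
  rw [ee, ee']
  refine lift_eq c (by rw [map_mul, ← ee, ← ee', σ_lift c (isPElt_of_mem hP hx),
    σ_lift c (isPElt_of_mem hP hy)]) ?_
  obtain ⟨k, hk⟩ := Q.isPGroup' ⟨_, mul_mem heQ heQ'⟩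
  exact ⟨k, congrArg (fun z : (Q : Subgroup H) => ((z : H) : Γ)) hk⟩

omit [Finite Γ] in
/-- The lifts of a set of `p`-elements generate a subgroup meeting the kernel trivially when the
Sylow subgroups of its image, away from `p`, are cyclic or generalised quaternion. -/
theorem closure_lift_inf_ker [Finite Γ] (T : Set G) (hT : ∀ x ∈ T, IsPElt p x) (L : Subgroup G)
    (hL : Subgroup.closure T = L)
    (hsyl : ∀ ℓ : ℕ, ℓ.Prime → ℓ ≠ p → ∃ U : Subgroup L, ¬ ℓ ∣ U.index ∧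
      (IsCyclic U ∨ ∃ n : ℕ, n ≠ 0 ∧ Nonempty (U ≃* QuaternionGroup n))) :
    Subgroup.closure (lift σ p '' T) ⊓ σ.ker = ⊥ := by
  classical
  haveI := Fact.mk c.prime
  set Lh := Subgroup.closure (lift σ p '' T) with hLh
  have hmap : Lh.map σ = L := by
    rw [hLh, MonoidHom.map_closure, ← hL, Set.image_image]
    congr 1
    exact (Set.image_congr fun x hx => σ_lift c (hT x hx)).trans (Set.image_id' T)
  let τ : Lh →* L := (σ.comp Lh.subtype).codRestrict L fun x => hmap ▸ ⟨x, x.2, rfl⟩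
  have hτs : Function.Surjective τ := by
    rintro ⟨g, hg⟩
    rw [← hmap] at hg
    obtain ⟨e, he, rfl⟩ := hg
    exact ⟨⟨e, he⟩, rfl⟩
  have hτk : ∀ {z : Lh}, z ∈ τ.ker ↔ (z : Γ) ∈ σ.ker := fun {z} =>
    ⟨fun h => congrArg Subtype.val (MonoidHom.mem_ker.1 h), fun h => Subtype.ext h⟩
  have hτc : τ.ker ≤ Subgroup.center Lh := fun z hz => Subgroup.mem_center_iff.2 fun w =>
    Subtype.ext (Subgroup.mem_center_iff.1 (c.central (hτk.1 hz)) w)
  -- kernel elements lie in the derived subgroup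
  have hcomm : ∀ z : Lh, (z : Γ) ∈ σ.ker → z ∈ commutator Lh := by
    intro z hz
    have hgen : ∀ w : Lh, IsPElt p (Abelianization.of w) := by
      rintro ⟨w, hw⟩
      induction hw using Subgroup.closure_induction with
      | mem w hw =>
        obtain ⟨x, hx, rfl⟩ := hw
        obtain ⟨k, hk⟩ := isPElt_lift c (hT x hx)
        exact ⟨k, by rw [← map_pow]; convert map_one Abelianization.of; exact Subtype.ext hk⟩
      | one => convert isPElt_one; exact map_one Abelianization.of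
      | mul a b ha hb iha ihb =>
        obtain ⟨k, hk⟩ := iha
        obtain ⟨k', hk'⟩ := ihb
        refine ⟨k + k', ?_⟩
        rw [show (⟨a * b, mul_mem ha hb⟩ : Lh) = ⟨a, ha⟩ * ⟨b, hb⟩ from rfl, map_mul, mul_pow]
        rw [pow_add, pow_mul, hk, one_pow, one_mul, mul_comm (p ^ k), pow_mul, hk', one_pow]
      | inv a ha iha =>
        obtain ⟨k, hk⟩ := iha
        exact ⟨k, by rw [show (⟨a⁻¹, inv_mem ha⟩ : Lh) = ⟨a, ha⟩⁻¹ from rfl, map_inv, inv_pow, hk,
          inv_one]⟩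
    rw [← Abelianization.ker_of, MonoidHom.mem_ker]
    obtain ⟨k, hk⟩ := hgen z
    have h1 : orderOf (Abelianization.of z) ∣ p ^ k := orderOf_dvd_of_pow_eq_one hk
    have h2 : orderOf (Abelianization.of z) ∣ Nat.card σ.ker := by
      refine (orderOf_map_dvd _ z).trans ?_
      rw [← Subgroup.orderOf_coe, ← Subgroup.orderOf_mk (z : Γ) hz]
      exact orderOf_dvd_natCard _
    exact orderOf_eq_one_iff.1 (Nat.eq_one_of_dvd_coprimes
      (Nat.Coprime.pow_left k (c.prime.coprime_iff_not_dvd.2 c.coprime)) h1 h2)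
  rw [eq_bot_iff]
  rintro z ⟨hzL, hzk⟩
  rw [Subgroup.mem_bot]
  by_contra hne
  obtain ⟨ℓ, hℓ, hdvd⟩ := Nat.exists_prime_and_dvd
    (fun e : orderOf z = 1 => hne (orderOf_eq_one_iff.1 e))
  have hℓp : ℓ ≠ p := by
    rintro rfl
    refine c.coprime (hdvd.trans ?_)
    rw [← Subgroup.orderOf_mk z hzk]
    exact orderOf_dvd_natCard _
  haveI := Fact.mk hℓ
  set w : Lh := ⟨z, hzL⟩ ^ (orderOf z / ℓ) with hw
  have hzo : orderOf z ≠ 0 := (orderOf_pos z).ne'
  have hwo : orderOf w = ℓ := by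
    rw [← Subgroup.orderOf_coe, hw, SubmonoidClass.coe_pow]
    exact orderOf_pow_orderOf_div hzo hdvd
  have hwk : w ∈ τ.ker := hτk.2 (by rw [hw, SubmonoidClass.coe_pow]; exact pow_mem hzk _)
  obtain ⟨U, hU, hUc⟩ := hsyl ℓ hℓ hℓp
  have hmem := mem_commutator_preimage (a := 1) hτs hℓ hwk (hτc hwk)
    (hcomm w (hτk.1 hwk)) (by rw [pow_one, ← hwo, pow_orderOf_eq_one]) U hU
  have hw1 : w = 1 := by
    rcases hUc with h | ⟨n, hn, ⟨e⟩⟩
    · haveI := h
      rw [preimage_commutator_eq_bot_of_isCyclic τ hτc] at hmem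
      exact Subgroup.mem_bot.1 hmem
    · haveI : NeZero n := ⟨hn⟩
      exact preimage_commutator_inf_ker_quaternion τ hτs hτc U e hwk hmem
  rw [hw1, orderOf_one] at hwo
  exact hℓ.ne_one hwo.symm

end CfsgLib.Schur.Canon
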