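import Mathlib
import Cfsg.Agent.Lib.Schur.Hopf

/-!
# Central extensions split over a vertex stabiliser of a triangulable graph

`G` acts on a graph, transitively on vertices and on the neighbours of `v`. If a perfect central
extension splits over the stabiliser of `v`, an edge has a unique lift, triangles lift to triangles
and any two vertices are joined in an essentially unique way through common neighbours, then the
extension is trivial.
-/

set_option autoImplicit false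
set_option linter.unusedSectionVars false

namespace CfsgLib.Schur.CoverGraph

open scoped commutatorElement

variable {G Γ : Type*} [Group G] [Group Γ] {X : Type*} [MulAction G X]

/-- Two homomorphisms from a perfect group lifting the same map agree. -/
theorem eq_of_perfect {P : Type*} [Group P] (hP : commutator P = ⊤) {σ : Γ →* G}
    (hc : σ.ker ≤ Subgroup.center Γ) {f g : P →* Γ} (h : ∀ x, σ (f x) = σ (g x)) : f = g := by
  have hle : commutator P ≤ f.eqLocus g := by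
    rw [commutator_def, Subgroup.commutator_le]
    intro a _ b _
    show f ⁅a, b⁆ = g ⁅a, b⁆
    rw [map_commutatorElement, map_commutatorElement]
    exact commutatorElement_congr σ hc (h a) (h b)
  exact MonoidHom.ext fun x => hle (hP ▸ Subgroup.mem_top x)

/-- The data of a graph with a lifted stabiliser and a lifted edge. -/
structure Hyp (σ : Γ →* G) (adj : X → X → Prop) (v : X) (K : Subgroup Γ) (n : Γ) : Prop where
  surj : Function.Surjective σ
  adj_smul : ∀ (g : G) (x y : X), adj x y → adj (g • x) (g • y)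
  symm : ∀ x y, adj x y → adj y x
  /-- The lifted stabiliser. -/
  fix : ∀ k ∈ K, σ k • v = v
  onto : ∀ s : G, s • v = v → ∃ k ∈ K, σ k = s
  inj : ∀ k ∈ K, σ k = 1 → k = 1
  /-- The base edge. -/
  edge : adj v (σ n • v)
  nbr : ∀ u, adj v u → ∃ k ∈ K, σ k • (σ n • v) = u
  well : ∀ k ∈ K, σ k • (σ n • v) = σ n • v → n⁻¹ * k * n ∈ K
  /-- Reversal and triangles. -/
  rev : ∃ k ∈ K, ∃ k' ∈ K, n⁻¹ = k * n * k'
  tri : ∀ k₁ ∈ K, ∀ k₂ ∈ K, adj v (σ (k₁ * n * k₂ * n) • v) →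
    ∃ k₃ ∈ K, ∃ k₄ ∈ K, k₁ * n * k₂ * n = k₃ * n * k₄

variable {σ : Γ →* G} {adj : X → X → Prop} {v : X} {K : Subgroup Γ} {n : Γ}

/-- Lifted edges. -/
def Edge (K : Subgroup Γ) (n : Γ) (γ δ : Γ) : Prop := ∃ k ∈ K, ∃ k' ∈ K, γ⁻¹ * δ = k * n * k'

theorem Edge.left {γ δ : Γ} (h : Edge K n γ δ) (ε : Γ) : Edge K n (ε * γ) (ε * δ) := by
  obtain ⟨k, hk, k', hk', e⟩ := h
  exact ⟨k, hk, k', hk', by rw [← e]; group⟩

theorem Edge.congr_right {γ δ δ' : Γ} (h : Edge K n γ δ) (hd : δ⁻¹ * δ' ∈ K) : Edge K n γ δ' := by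
  obtain ⟨k, hk, k', hk', e⟩ := h
  refine ⟨k, hk, k' * (δ⁻¹ * δ'), mul_mem hk' hd, ?_⟩
  rw [show γ⁻¹ * δ' = γ⁻¹ * δ * (δ⁻¹ * δ') by group, e]
  group

variable (H : Hyp σ adj v K n)
include H

theorem Edge.adj' {γ δ : Γ} (h : Edge K n γ δ) : adj (σ γ • v) (σ δ • v) := by
  obtain ⟨k, hk, k', hk', e⟩ := h
  rw [show δ = γ * (k * n * k') by rw [← e]; group, map_mul, mul_smul]
  refine H.adj_smul _ _ _ ?_
  conv_lhs => rw [← H.fix k hk]
  rw [map_mul, map_mul, mul_smul, mul_smul, H.fix k' hk']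
  exact H.adj_smul _ _ _ H.edge

theorem Edge.symm' {γ δ : Γ} (h : Edge K n γ δ) : Edge K n δ γ := by
  obtain ⟨k, hk, k', hk', e⟩ := h
  obtain ⟨a, ha, b, hb, e'⟩ := H.rev
  refine ⟨k'⁻¹ * a, mul_mem (inv_mem hk') ha, b * k⁻¹, mul_mem hb (inv_mem hk), ?_⟩
  rw [show δ⁻¹ * γ = (γ⁻¹ * δ)⁻¹ by group, e, show (k * n * k')⁻¹ = k'⁻¹ * n⁻¹ * k⁻¹ by group, e']
  group

/-- An edge has a lift at each point. -/
theorem exists_edge {γ : Γ} {u : X} (h : adj (σ γ • v) u) : ∃ δ, σ δ • v = u ∧ Edge K n γ δ := by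
  have h' := H.adj_smul (σ γ)⁻¹ _ _ h
  rw [inv_smul_smul] at h'
  obtain ⟨k, hk, hu⟩ := H.nbr _ h'
  refine ⟨γ * (k * n), ?_, k, hk, 1, one_mem K, by group⟩
  rw [map_mul, map_mul, mul_smul, mul_smul, hu, smul_inv_smul]

/-- The lift of an edge is unique. -/
theorem edge_unique {γ δ δ' : Γ} (h : Edge K n γ δ) (h' : Edge K n γ δ')
    (e : σ δ • v = σ δ' • v) : δ⁻¹ * δ' ∈ K := by
  obtain ⟨a, ha, b, hb, ed⟩ := h
  obtain ⟨a', ha', b', hb', ed'⟩ := h'
  have hd : δ = γ * (a * n * b) := by rw [← ed]; group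
  have hd' : δ' = γ * (a' * n * b') := by rw [← ed']; group
  rw [hd, hd'] at e
  simp only [map_mul, mul_smul, smul_left_cancel_iff] at e
  rw [H.fix b hb, H.fix b' hb'] at e
  have hm : σ (a⁻¹ * a') • (σ n • v) = σ n • v := by
    rw [map_mul, map_inv, mul_smul, ← e, inv_smul_smul]
  rw [hd, hd', show (γ * (a * n * b))⁻¹ * (γ * (a' * n * b')) = b⁻¹ * (n⁻¹ * (a⁻¹ * a') * n) * b' by group]
  exact mul_mem (mul_mem (inv_mem hb) (H.well _ (mul_mem (inv_mem ha) ha') hm)) hb'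

/-- Triangles lift to triangles. -/
theorem edge_tri {γ δ ε : Γ} (h : Edge K n γ δ) (h' : Edge K n δ ε) (ha : adj (σ γ • v) (σ ε • v)) :
    Edge K n γ ε := by
  obtain ⟨a, ha1, b, hb, e⟩ := h
  obtain ⟨a', ha1', b', hb', e'⟩ := h'
  have ee : γ⁻¹ * ε = a * n * (b * a') * n * b' := by
    rw [show γ⁻¹ * ε = γ⁻¹ * δ * (δ⁻¹ * ε) by group, e, e']; group
  have h1 := H.adj_smul (σ γ)⁻¹ _ _ ha
  rw [inv_smul_smul, ← mul_smul, ← map_inv, ← map_mul, ee, map_mul, mul_smul, H.fix b' hb'] at h1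
  obtain ⟨k₃, h₃, k₄, h₄, e3⟩ := H.tri a ha1 (b * a') (mul_mem hb ha1') h1
  exact ⟨k₃, h₃, k₄ * b', mul_mem h₄ hb', by rw [ee, e3]; group⟩

/-- The chosen sheet. -/
def sheet (K : Subgroup Γ) (n : Γ) : Set Γ := {γ | ∃ ζ, Edge K n 1 ζ ∧ Edge K n ζ γ}

/-- Two paths of length two to the same vertex agree. -/
def Quad (σ : Γ →* G) (adj : X → X → Prop) (v : X) (K : Subgroup Γ) (n : Γ) : Prop :=
  ∀ γ ζ ζ', Edge K n 1 ζ → Edge K n ζ γ → Edge K n 1 ζ' → adj (σ ζ' • v) (σ γ • v) →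
    ¬ adj v (σ γ • v) → Edge K n ζ' γ

/-- Common neighbours with `v`. -/
def Com (adj : X → X → Prop) (v x y : X) : Prop := ∃ z, adj v z ∧ adj z x ∧ adj z y

/-- Every edge sees `v` through common neighbours, possibly after a detour. -/
def Three (adj : X → X → Prop) (v : X) : Prop :=
  ∀ x y, adj x y → Com adj v x y ∨ ∃ p, adj x p ∧ adj p y ∧ Com adj v x p ∧ Com adj v p y

/-- Two paths of length two whose middle vertices are joined inside the common neighbours agree. -/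
theorem indep_of_path {γ ζ ζ' : Γ} (h1 : Edge K n 1 ζ) (h2 : Edge K n ζ γ) (h1' : Edge K n 1 ζ')
    (hz : Relation.ReflTransGen (fun a b => adj a b ∧ adj v b ∧ adj b (σ γ • v)) (σ ζ • v) (σ ζ' • v)) :
    Edge K n ζ' γ := by
  have hv : σ (1 : Γ) • v = v := by rw [map_one, one_smul]
  have a1 := Edge.adj' H h1
  rw [hv] at a1
  have key : ∀ z, Relation.ReflTransGen (fun a b => adj a b ∧ adj v b ∧ adj b (σ γ • v)) (σ ζ • v) z →
      ∀ η, Edge K n 1 η → σ η • v = z → Edge K n η γ := by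
    intro z hz
    induction hz with
    | refl =>
      intro η hη e
      exact Edge.symm' H ((Edge.symm' H h2).congr_right (edge_unique H h1 hη e.symm))
    | @tail b c hbc hstep ih =>
      intro η hη e
      obtain ⟨hadj, hvc, hcγ⟩ := hstep
      have hvb : adj v b := by
        rcases hbc.cases_tail with hb' | ⟨_, _, hs⟩
        · rw [hb']; exact a1
        · exact hs.2.1
      obtain ⟨η', he', hη'⟩ := exists_edge H (γ := 1) (u := b) (by rwa [hv])
      have t1 : Edge K n η' η := edge_tri H (Edge.symm' H hη') hη (by rw [he', e]; exact hadj)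
      exact edge_tri H (Edge.symm' H t1) (ih η' hη' he') (by rw [e]; exact hcγ)
  exact key _ hz ζ' h1' rfl

theorem quad_of_chain (hch : ∀ x z z', adj v z → adj z x → adj v z' → adj z' x → ¬ adj v x →
    Relation.ReflTransGen (fun a b => adj a b ∧ adj v b ∧ adj b x) z z') : Quad σ adj v K n := by
  intro γ ζ ζ' h1 h2 h1' ha hna
  have hv : σ (1 : Γ) • v = v := by rw [map_one, one_smul]
  have a1 := Edge.adj' H h1
  have a1' := Edge.adj' H h1'
  rw [hv] at a1 a1'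
  exact indep_of_path H h1 h2 h1' (hch _ _ _ a1 (Edge.adj' H h2) a1' ha hna)

theorem sheet_indep (hq : Quad σ adj v K n) {γ ζ ζ' : Γ} (h1 : Edge K n 1 ζ) (h2 : Edge K n ζ γ)
    (h1' : Edge K n 1 ζ') (ha : adj (σ ζ' • v) (σ γ • v)) : Edge K n ζ' γ := by
  by_cases hadj : adj v (σ γ • v)
  · exact edge_tri H (Edge.symm' H h1')
      (edge_tri H h1 h2 (by rwa [map_one, one_smul])) ha
  · exact hq γ ζ ζ' h1 h2 h1' ha hadj

theorem sheet_step (hq : Quad σ adj v K n) (h3 : Three adj v) {γ δ : Γ} (hγ : γ ∈ sheet K n)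
    (h : Edge K n γ δ) : δ ∈ sheet K n := by
  have step : ∀ γ δ, γ ∈ sheet K n → Edge K n γ δ → Com adj v (σ γ • v) (σ δ • v) → δ ∈ sheet K n := by
    intro γ δ hγ h hc
    obtain ⟨ζ, h1, h2⟩ := hγ
    obtain ⟨z, hvz, hzx, hzy⟩ := hc
    obtain ⟨η, he, hη⟩ := exists_edge H (γ := 1) (u := z) (by rwa [map_one, one_smul])
    exact ⟨η, hη, edge_tri H (sheet_indep H hq h1 h2 hη (by rwa [he])) h (by rwa [he])⟩
  rcases h3 _ _ (Edge.adj' H h) with hc | ⟨p, hxp, hpy, hc1, hc2⟩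
  · exact step _ _ hγ h hc
  obtain ⟨π, hp, hπ⟩ := exists_edge H (γ := γ) hxp
  exact step π δ (step γ π hγ hπ (by rwa [hp]))
    (edge_tri H (Edge.symm' H hπ) h (by rwa [hp])) (by rwa [hp])

theorem sheet_one : (1 : Γ) ∈ sheet K n := by
  have h : Edge K n 1 n := ⟨1, one_mem K, 1, one_mem K, by group⟩
  exact ⟨n, h, Edge.symm' H h⟩

theorem mem_K_of_sheet {γ : Γ} (hγ : γ ∈ sheet K n) (h : σ γ • v = v) : γ ∈ K := by
  obtain ⟨ζ, h1, h2⟩ := hγ
  have := edge_unique H (Edge.symm' H h1) h2 (by rw [map_one, one_smul, h])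
  simpa using this

/-- The stabilisers of the vertices generate `G`, so the extension is trivial. -/
theorem injective (hq : Quad σ adj v K n) (h3 : Three adj v) (h2 : ∀ x, ∃ z, adj v z ∧ adj z x)
    (hc : σ.ker ≤ Subgroup.center Γ) (hΓ : commutator Γ = ⊤)
    (hgen : Subgroup.closure {g : G | ∃ x : X, g • x = x} = ⊤) :
    Function.Injective σ := by
  let D : Subgroup Γ :=
    { carrier := {ε | ∀ γ, γ ∈ sheet K n ↔ ε * γ ∈ sheet K n}
      one_mem' := fun γ => by rw [one_mul]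
      mul_mem' := fun {a b} ha hb γ => by rw [mul_assoc, ← ha, ← hb]
      inv_mem' := fun {a} ha γ => by rw [ha (a⁻¹ * γ), mul_inv_cancel_left] }
  -- an element fixing a point of the sheet preserves it
  have hD : ∀ γ₀ ∈ sheet K n, ∀ k ∈ K, γ₀ * k * γ₀⁻¹ ∈ D := by
    suffices hh : ∀ γ₀ ∈ sheet K n, ∀ k ∈ K, ∀ γ, γ ∈ sheet K n → γ₀ * k * γ₀⁻¹ * γ ∈ sheet K n by
      intro γ₀ hγ₀ k hk γ
      refine ⟨hh γ₀ hγ₀ k hk γ, fun hγ => ?_⟩
      have := hh γ₀ hγ₀ k⁻¹ (inv_mem hk) _ hγ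
      rwa [show γ₀ * k⁻¹ * γ₀⁻¹ * (γ₀ * k * γ₀⁻¹ * γ) = γ by group] at this
    intro γ₀ hγ₀ k hk γ hγ
    have h0 : γ₀ * k * γ₀⁻¹ * γ₀ ∈ sheet K n := by
      rw [inv_mul_cancel_right]
      obtain ⟨ζ, h1, h2⟩ := hγ₀
      exact ⟨ζ, h1, h2.congr_right (by simpa using hk)⟩
    -- move along the sheet
    obtain ⟨ζ, h1, h2'⟩ := hγ
    obtain ⟨ζ₀, g1, g2⟩ := hγ₀
    have e1 : γ₀ * k * γ₀⁻¹ * ζ₀ ∈ sheet K n :=
      sheet_step H hq h3 h0 ((Edge.symm' H g2).left _)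
    have e2 : γ₀ * k * γ₀⁻¹ * 1 ∈ sheet K n := sheet_step H hq h3 e1 ((Edge.symm' H g1).left _)
    exact sheet_step H hq h3 (sheet_step H hq h3 e2 (h1.left _)) (h2'.left _)
  have htop : ∀ γ, γ ∈ D := by
    have hmap : D.map σ = ⊤ := by
      rw [eq_top_iff, ← hgen, Subgroup.closure_le]
      rintro g ⟨x, hx⟩
      obtain ⟨z, hvz, hzx⟩ := h2 x
      obtain ⟨ζ, hζv, hζ⟩ := exists_edge H (γ := 1) (u := z) (by rwa [map_one, one_smul])
      obtain ⟨γ₀, hγ₀v, hγ₀⟩ := exists_edge H (γ := ζ) (u := x) (by rwa [hζv])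
      obtain ⟨k, hk, hkg⟩ := H.onto ((σ γ₀)⁻¹ * g * σ γ₀) (by
        rw [mul_smul, mul_smul, hγ₀v, hx, inv_smul_eq_iff, hγ₀v])
      exact ⟨γ₀ * k * γ₀⁻¹, hD γ₀ ⟨ζ, hζ, hγ₀⟩ k hk, by rw [map_mul, map_mul, map_inv, hkg]; group⟩
    intro γ
    have hγ : γ ∈ commutator Γ := hΓ ▸ Subgroup.mem_top γ
    revert γ
    show commutator Γ ≤ D
    rw [commutator_def, Subgroup.commutator_le]
    intro a _ b _
    obtain ⟨a', ha', ea⟩ : σ a ∈ D.map σ := hmap ▸ Subgroup.mem_top _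
    obtain ⟨b', hb', eb⟩ : σ b ∈ D.map σ := hmap ▸ Subgroup.mem_top _
    rw [commutatorElement_congr σ hc ea.symm eb.symm, commutatorElement_def]
    exact mul_mem (mul_mem (mul_mem ha' hb') (inv_mem ha')) (inv_mem hb')
  rw [← MonoidHom.ker_eq_bot_iff, Subgroup.eq_bot_iff_forall]
  intro γ hγ
  rw [MonoidHom.mem_ker] at hγ
  have hs : γ * 1 ∈ sheet K n := (htop γ 1).1 (sheet_one H)
  rw [mul_one] at hs
  exact H.inj γ (mem_K_of_sheet H hs (by rw [hγ, one_smul])) hγ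

end CfsgLib.Schur.CoverGraph
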