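import Cfsg.Agent.Lib.Schur.CoverGraph

/-!
# Edge lifts from a third vertex

For a central extension `σ : Γ →* G` the subgroup `L σ S` is the derived group of the preimage of
`S`. If it meets the kernel trivially for the stabiliser of a vertex, and edges are moved by the
stabiliser of a third vertex, then edges and triangles lift.
-/

set_option autoImplicit false
set_option linter.unusedSectionVars false

namespace CfsgLib.Schur.CoverLocal

open scoped commutatorElement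

variable {G Γ : Type*} [Group G] [Group Γ] {X : Type*} [MulAction G X]

/-- The derived group of the preimage. -/
def L (σ : Γ →* G) (S : Subgroup G) : Subgroup Γ := ⁅S.comap σ, S.comap σ⁆

variable {σ : Γ →* G}

theorem L_mono {S T : Subgroup G} (h : S ≤ T) : L σ S ≤ L σ T :=
  Subgroup.commutator_mono (Subgroup.comap_mono h) (Subgroup.comap_mono h)

theorem map_L (hs : Function.Surjective σ) (S : Subgroup G) : (L σ S).map σ = ⁅S, S⁆ := by
  rw [L, Subgroup.map_commutator, Subgroup.map_comap_eq_self_of_surjective hs]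

theorem L_sigma {S : Subgroup G} {k : Γ} (h : k ∈ L σ S) : σ k ∈ S :=
  (Subgroup.commutator_le.2 fun _ ha _ hb => by
    rw [commutatorElement_def]
    exact mul_mem (mul_mem (mul_mem ha hb) (inv_mem ha)) (inv_mem hb) :
      L σ S ≤ S.comap σ) h

theorem L_conj (γ : Γ) {S : Subgroup G} {k : Γ} (h : k ∈ L σ S) :
    γ * k * γ⁻¹ ∈ L σ (S.map (MulAut.conj (σ γ)).toMonoidHom) := by
  have hle : (S.comap σ).map (MulAut.conj γ).toMonoidHom ≤
      (S.map (MulAut.conj (σ γ)).toMonoidHom).comap σ := by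
    rintro _ ⟨a, ha, rfl⟩
    exact ⟨σ a, ha, by simp⟩
  have hm : γ * k * γ⁻¹ ∈ (L σ S).map (MulAut.conj γ).toMonoidHom := ⟨k, h, rfl⟩
  rw [L, Subgroup.map_commutator] at hm
  exact Subgroup.commutator_mono hle hle hm

theorem L_conj_stab (γ : Γ) {x : X} {k : Γ} (h : k ∈ L σ (MulAction.stabilizer G x)) :
    γ * k * γ⁻¹ ∈ L σ (MulAction.stabilizer G (σ γ • x)) := by
  rw [MulAction.stabilizer_smul_eq_stabilizer_map_conj]
  exact L_conj γ h

/-- Injectivity at one vertex gives it at all. -/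
theorem inj_of_trans (hs : Function.Surjective σ) [MulAction.IsPretransitive G X] {v : X}
    (hinj : ∀ k ∈ L σ (MulAction.stabilizer G v), σ k = 1 → k = 1) (x : X) :
    ∀ k ∈ L σ (MulAction.stabilizer G x), σ k = 1 → k = 1 := by
  intro k hk h1
  obtain ⟨g, hg⟩ := MulAction.exists_smul_eq G x v
  obtain ⟨γ, rfl⟩ := hs g
  have h := hinj (γ * k * γ⁻¹) (hg ▸ L_conj_stab γ hk) (by simp [h1])
  simpa using h

/-- Lifts inside two stabilisers with perfect intersection agree. -/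
theorem mem_of_perfect_inf (hs : Function.Surjective σ) {x y : X}
    (hinj : ∀ k ∈ L σ (MulAction.stabilizer G y), σ k = 1 → k = 1)
    (hP : MulAction.stabilizer G x ⊓ MulAction.stabilizer G y ≤
      ⁅MulAction.stabilizer G x ⊓ MulAction.stabilizer G y,
        MulAction.stabilizer G x ⊓ MulAction.stabilizer G y⁆)
    {k : Γ} (hk : k ∈ L σ (MulAction.stabilizer G y)) (hx : σ k • x = x) :
    k ∈ L σ (MulAction.stabilizer G x) := by
  obtain ⟨k', hk', e⟩ := Subgroup.mem_map.1 (map_L hs _ ▸ hP ⟨hx, L_sigma hk⟩)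
  have h1 := hinj (k'⁻¹ * k) (mul_mem (inv_mem (L_mono inf_le_right hk')) hk) (by simp [e])
  exact L_mono inf_le_left (inv_mul_eq_one.1 h1 ▸ hk')

/-- The data. -/
structure Loc (σ : Γ →* G) (adj : X → X → Prop) (T : X → X → X → Prop) (v : X) : Prop where
  surj : Function.Surjective σ
  adj_smul : ∀ (g : G) (x y : X), adj x y → adj (g • x) (g • y)
  symm : ∀ x y, adj x y → adj y x
  T_adj : ∀ x y z, T x y z → adj x y
  T_smul : ∀ (g : G) (x y z : X), T x y z → T (g • x) (g • y) (g • z)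
  T_symm : ∀ x y z, T x y z → T y x z
  edge : ∃ u, adj v u
  T_ex : ∀ u, adj v u → ∃ z, T v u z
  T_trans : ∀ u z z', T v u z → T v u z' →
    ∃ s : G, s • v = v ∧ s • u = u ∧ s • z = z'
  trans : MulAction.IsPretransitive G X
  move : ∀ u z, T v u z → ∃ g : G, g • z = z ∧ g • v = u
  nbr : ∀ u u', adj v u → adj v u' → ∃ s : G, s • v = v ∧ s • u = u'
  tri : ∀ u w, adj v u → adj v w → adj u w → ∃ z, T v u z ∧ T u w z ∧ T v w z
  perfect : ⁅MulAction.stabilizer G v, MulAction.stabilizer G v⁆ = MulAction.stabilizer G v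
  perfect_edge : ∀ u, adj v u → MulAction.stabilizer G v ⊓ MulAction.stabilizer G u ≤
    ⁅MulAction.stabilizer G v ⊓ MulAction.stabilizer G u,
      MulAction.stabilizer G v ⊓ MulAction.stabilizer G u⁆
  third_lift : ∀ u z, T v u z → ∀ k ∈ L σ (MulAction.stabilizer G z), σ k • v = v →
    k ∈ L σ (MulAction.stabilizer G v)
  inj : ∀ k ∈ L σ (MulAction.stabilizer G v), σ k = 1 → k = 1

variable {adj : X → X → Prop} {T : X → X → X → Prop} {v : X} (H : Loc σ adj T v)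
include H

theorem inj_all (x : X) : ∀ k ∈ L σ (MulAction.stabilizer G x), σ k = 1 → k = 1 := by
  intro k hk h1
  haveI := H.trans
  obtain ⟨g, hg⟩ := MulAction.exists_smul_eq G x v
  obtain ⟨γ, rfl⟩ := H.surj g
  have h := H.inj (γ * k * γ⁻¹) (hg ▸ L_conj_stab γ hk) (by simp [h1])
  simpa using h

theorem perfect_all (x : X) :
    MulAction.stabilizer G x ≤ ⁅MulAction.stabilizer G x, MulAction.stabilizer G x⁆ := by
  haveI := H.trans
  obtain ⟨g, rfl⟩ := MulAction.exists_smul_eq G v x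
  rw [MulAction.stabilizer_smul_eq_stabilizer_map_conj, ← Subgroup.map_commutator, H.perfect]

theorem exists_in {S : Subgroup G} (hS : S ≤ ⁅S, S⁆) {g : G} (hg : g ∈ S) :
    ∃ k ∈ L σ S, σ k = g :=
  Subgroup.mem_map.1 (map_L H.surj S ▸ hS hg)

/-- A lift inside a vertex stabiliser of an element of a perfect subgroup. -/
theorem mem_L {x : X} {P : Subgroup G} (hP : P ≤ ⁅P, P⁆) (hle : P ≤ MulAction.stabilizer G x)
    {k : Γ} (hk : k ∈ L σ (MulAction.stabilizer G x)) (hs : σ k ∈ P) : k ∈ L σ P := by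
  obtain ⟨k', hk', e⟩ := exists_in H hP hs
  have := inj_all H x (k'⁻¹ * k) (mul_mem (inv_mem (L_mono hle hk')) hk) (by simp [e])
  rwa [inv_mul_eq_one.1 this] at hk'

/-- Edge lifts through different third vertices agree. -/
theorem lift_unique {u z z' : X} {m m' : Γ} (hT : T v u z) (hT' : T v u z')
    (hm : m ∈ L σ (MulAction.stabilizer G z)) (hm' : m' ∈ L σ (MulAction.stabilizer G z'))
    (e : σ m • v = u) (e' : σ m' • v = u) : m⁻¹ * m' ∈ L σ (MulAction.stabilizer G v) := by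
  have same : ∀ m₁ m₂, m₁ ∈ L σ (MulAction.stabilizer G z') → m₂ ∈ L σ (MulAction.stabilizer G z') →
      σ m₁ • v = σ m₂ • v → m₁⁻¹ * m₂ ∈ L σ (MulAction.stabilizer G v) := fun m₁ m₂ h₁ h₂ h => by
    have hv : σ (m₁⁻¹ * m₂) • v = v := by rw [map_mul, map_inv, mul_smul, ← h, inv_smul_smul]
    exact H.third_lift u z' hT' _ (mul_mem (inv_mem h₁) h₂) hv
  obtain ⟨s, hv, hu, hz⟩ := H.T_trans u z z' hT hT'
  obtain ⟨k, hk, rfl⟩ := exists_in H (H.perfect_edge u (H.T_adj _ _ _ hT)) (g := s) ⟨hv, hu⟩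
  have hm'' : k * m * k⁻¹ ∈ L σ (MulAction.stabilizer G z') := hz ▸ L_conj_stab k hm
  have hkv : σ k⁻¹ • v = v := by rw [map_inv, inv_smul_eq_iff, hv]
  have e'' : σ (k * m * k⁻¹) • v = u := by
    rw [map_mul, map_mul, mul_smul, mul_smul, hkv, e, hu]
  have h1 := same _ _ hm'' hm' (by rw [e'', e'])
  have h2 : m⁻¹ * k * m⁻¹⁻¹ ∈ L σ (MulAction.stabilizer G (σ m⁻¹ • u)) :=
    L_conj_stab m⁻¹ (L_mono inf_le_right hk)
  rw [map_inv, ← e, inv_smul_smul] at h2
  rw [show m⁻¹ * m' = (m⁻¹ * k * m⁻¹⁻¹) * k⁻¹ * ((k * m * k⁻¹)⁻¹ * m') by group]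
  exact mul_mem (mul_mem h2 (inv_mem (L_mono inf_le_left hk))) h1

/-- Edges and triangles lift. -/
theorem exists_hyp :
    ∃ n : Γ, CoverGraph.Hyp σ adj v (L σ (MulAction.stabilizer G v)) n ∧
      (∀ m u z, T v u z → m ∈ L σ (MulAction.stabilizer G z) → σ m • v = u →
        ∃ k ∈ L σ (MulAction.stabilizer G v), ∃ k' ∈ L σ (MulAction.stabilizer G v),
          m = k * n * k') ∧
      ∃ u z, T v u z ∧ n ∈ L σ (MulAction.stabilizer G z) ∧ σ n • v = u := by
  obtain ⟨u₀, hu₀⟩ := H.edge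
  obtain ⟨z₀, hz₀⟩ := H.T_ex u₀ hu₀
  obtain ⟨g₀, hg₀z, hg₀v⟩ := H.move u₀ z₀ hz₀
  obtain ⟨n, hn, rfl⟩ := exists_in H (perfect_all H z₀) (g := g₀) hg₀z
  have hKfix : ∀ k ∈ L σ (MulAction.stabilizer G v), σ k • v = v := fun k hk => L_sigma hk
  -- a third-vertex lift of any neighbour lies in `K n K`
  have key : ∀ m u z, T v u z → m ∈ L σ (MulAction.stabilizer G z) → σ m • v = u →
      ∃ k ∈ L σ (MulAction.stabilizer G v), ∃ k' ∈ L σ (MulAction.stabilizer G v),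
        m = k * n * k' := by
    intro m u z hT hm e
    obtain ⟨s, hs, hsu⟩ := H.nbr u₀ u hu₀ (H.T_adj _ _ _ hT)
    obtain ⟨k, hk, rfl⟩ := exists_in H (perfect_all H v) (g := s) hs
    have hT' : T v u (σ k • z₀) := by
      have := H.T_smul (σ k) _ _ _ hz₀
      rwa [hs, hsu] at this
    have hkv : σ k⁻¹ • v = v := hKfix _ (inv_mem hk)
    refine ⟨k, hk, k⁻¹ * ((k * n * k⁻¹)⁻¹ * m), mul_mem (inv_mem hk)
      (lift_unique H hT' hT (L_conj_stab k hn) hm ?_ e), by group⟩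
    rw [map_mul, map_mul, mul_smul, mul_smul, hkv, hg₀v, hsu]
  refine ⟨n, ⟨H.surj, H.adj_smul, H.symm, hKfix,
    fun s hs => exists_in H (perfect_all H v) hs, H.inj, hg₀v ▸ hu₀, fun u hu => ?_, ?_, ?_, ?_⟩, key, u₀, z₀, hz₀, hn, hg₀v⟩
  · obtain ⟨s, hs, hsu⟩ := H.nbr u₀ u hu₀ hu
    obtain ⟨k, hk, rfl⟩ := exists_in H (perfect_all H v) (g := s) hs
    exact ⟨k, hk, by rw [hg₀v, hsu]⟩
  · intro k hk hku
    rw [hg₀v] at hku
    have h1 := mem_L H (H.perfect_edge u₀ hu₀) inf_le_left hk ⟨hKfix k hk, hku⟩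
    have h2 := L_conj_stab n⁻¹ (L_mono inf_le_right h1)
    rw [map_inv, ← hg₀v, inv_smul_smul, inv_inv] at h2
    exact h2
  · have hT : T v (σ n⁻¹ • v) z₀ := by
      have := H.T_smul (σ n⁻¹) _ _ _ (H.T_symm _ _ _ hz₀)
      rwa [show σ n⁻¹ • u₀ = v by rw [map_inv, ← hg₀v, inv_smul_smul],
        show σ n⁻¹ • z₀ = z₀ from L_sigma (inv_mem hn)] at this
    exact key n⁻¹ _ z₀ hT (inv_mem hn) rfl
  · intro k₁ hk₁ k₂ hk₂ hadj
    -- the lifted edges `1 → k₁ n → k₁ n k₂ n`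
    have hstep : ∀ k ∈ L σ (MulAction.stabilizer G v), adj v (σ (k * n) • v) := fun k hk => by
      rw [map_mul, mul_smul, hg₀v]
      have := H.adj_smul (σ k) _ _ hu₀
      rwa [hKfix k hk] at this
    have hu1 := hstep k₁ hk₁
    have hu2 : adj (σ (k₁ * n) • v) (σ (k₁ * n * k₂ * n) • v) := by
      have h := H.adj_smul (σ (k₁ * n)) _ _ (hstep k₂ hk₂)
      rw [← mul_smul (σ (k₁ * n)) (σ (k₂ * n)), ← map_mul] at h
      simpa only [mul_assoc] using h
    obtain ⟨zs, hz1, hz2, hz3⟩ := H.tri _ _ hu1 hadj hu2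
    obtain ⟨g₁, hg₁z, hg₁v⟩ := H.move _ _ hz1
    obtain ⟨m₁, hm₁, rfl⟩ := exists_in H (perfect_all H zs) (g := g₁) hg₁z
    -- `k₁ n` is a lift through `σ k₁ • z₀`
    have hT₁ : T v (σ (k₁ * n) • v) (σ k₁ • z₀) := by
      have := H.T_smul (σ k₁) _ _ _ hz₀
      rw [hKfix k₁ hk₁] at this
      rwa [map_mul, mul_smul, hg₀v]
    have hkv : σ k₁⁻¹ • v = v := hKfix _ (inv_mem hk₁)
    have hc := lift_unique H hz1 hT₁ hm₁ (L_conj_stab k₁ hn) hg₁v (by
      simp only [map_mul, mul_smul, hkv])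
    set c := m₁⁻¹ * (k₁ * n * k₁⁻¹) with hcdef
    have he : k₁ * n * k₂ * n = m₁ * (c * k₁ * k₂ * n) := by rw [hcdef]; group
    have hk' : c * k₁ * k₂ ∈ L σ (MulAction.stabilizer G v) := mul_mem (mul_mem hc hk₁) hk₂
    have hT₂ : T v (σ (c * k₁ * k₂ * n) • v) (σ (c * k₁ * k₂) • z₀) := by
      have := H.T_smul (σ (c * k₁ * k₂)) _ _ _ hz₀
      rw [hKfix _ hk'] at this
      rwa [map_mul _ (c * k₁ * k₂) n, mul_smul, hg₀v]
    have hT₃ : T v (σ (c * k₁ * k₂ * n) • v) zs := by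
      have := H.T_smul (σ m₁)⁻¹ _ _ _ hz2
      rw [← hg₁v, inv_smul_smul, he, map_mul _ m₁, mul_smul, inv_smul_smul] at this
      have hz : (σ m₁)⁻¹ • zs = zs := by rw [← map_inv]; exact L_sigma (inv_mem hm₁)
      rwa [hz] at this
    obtain ⟨g₂, hg₂z, hg₂v⟩ := H.move _ _ hT₃
    obtain ⟨m₂, hm₂, rfl⟩ := exists_in H (perfect_all H zs) (g := g₂) hg₂z
    have hkv' : σ (c * k₁ * k₂)⁻¹ • v = v := hKfix _ (inv_mem hk')
    have hd := lift_unique H hT₃ hT₂ hm₂ (L_conj_stab (c * k₁ * k₂) hn) hg₂v (by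
      rw [map_mul, mul_smul, hkv'])
    obtain ⟨k₃, h₃, k₄, h₄, e34⟩ := key (m₁ * m₂) _ zs hz3 (mul_mem hm₁ hm₂) (by
      rw [he, map_mul, mul_smul, hg₂v, map_mul _ m₁ (c * k₁ * k₂ * n), mul_smul])
    refine ⟨k₃, h₃, k₄ * (m₂⁻¹ * (c * k₁ * k₂ * n * (c * k₁ * k₂)⁻¹) * (c * k₁ * k₂)),
      mul_mem h₄ (mul_mem hd hk'), ?_⟩
    rw [he, ← mul_assoc (k₃ * n), ← e34]
    group

/-- The stabilisers generate. -/
theorem closure_stab (h2 : ∀ x, ∃ z, adj v z ∧ adj z x) :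
    Subgroup.closure {g : G | ∃ x : X, g • x = x} = ⊤ := by
  set D := Subgroup.closure {g : G | ∃ x : X, g • x = x}
  have hmove : ∀ u, adj v u → ∃ g ∈ D, g • v = u := fun u hu => by
    obtain ⟨z, hz⟩ := H.T_ex u hu
    obtain ⟨g, hg, hgv⟩ := H.move u z hz
    exact ⟨g, Subgroup.subset_closure ⟨z, hg⟩, hgv⟩
  rw [eq_top_iff]
  intro g _
  obtain ⟨z, hvz, hzx⟩ := h2 (g • v)
  obtain ⟨a, ha, hav⟩ := hmove z hvz
  obtain ⟨b, hb, hbv⟩ := hmove (a⁻¹ • (g • v)) (by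
    have := H.adj_smul a⁻¹ _ _ hzx
    rwa [← hav, inv_smul_smul] at this)
  have hfix : ((a * b)⁻¹ * g) • v = v := by
    rw [mul_smul, inv_smul_eq_iff, mul_smul, hbv, smul_inv_smul]
  rw [show g = a * b * ((a * b)⁻¹ * g) by group]
  exact mul_mem (mul_mem ha hb) (Subgroup.subset_closure ⟨v, hfix⟩)

/-- A perfect central extension as above is trivial. -/
theorem injective (hc : σ.ker ≤ Subgroup.center Γ) (hΓ : commutator Γ = ⊤)
    (hq : ∀ n, CoverGraph.Hyp σ adj v (L σ (MulAction.stabilizer G v)) n →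
      (∀ m u z, T v u z → m ∈ L σ (MulAction.stabilizer G z) → σ m • v = u →
        ∃ k ∈ L σ (MulAction.stabilizer G v), ∃ k' ∈ L σ (MulAction.stabilizer G v),
          m = k * n * k') →
      (∃ u z, T v u z ∧ n ∈ L σ (MulAction.stabilizer G z) ∧ σ n • v = u) →
      CoverGraph.Quad σ adj v (L σ (MulAction.stabilizer G v)) n)
    (h3 : CoverGraph.Three adj v) (h2 : ∀ x, ∃ z, adj v z ∧ adj z x) : Function.Injective σ := by
  obtain ⟨n, hn, hkey, hn0⟩ := exists_hyp H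
  exact CoverGraph.injective hn (hq n hn hkey hn0) h3 h2 hc hΓ (closure_stab H h2)

end CfsgLib.Schur.CoverLocal
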