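import Mathlib

/-!
The extension of an abelian group by a cyclic group given by an automorphism and a fixed element:
the generator acts by the automorphism and its power of order the index is the fixed element.
-/

set_option autoImplicit false

namespace CfsgLib.Schur.CyclicExtension

variable {A : Type} [AddCommGroup A]

/-- the automorphism written multiplicatively -/
def mAut (β : A ≃+ A) : MulAut (Multiplicative A) := AddEquiv.toMultiplicative β

theorem mAut_apply (β : A ≃+ A) (v : A) :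
    mAut β (Multiplicative.ofAdd v) = Multiplicative.ofAdd (β v) := rfl

/-- the semidirect product with the integers -/
abbrev Semi (β : A ≃+ A) : Type :=
  Multiplicative A ⋊[zpowersHom (MulAut (Multiplicative A)) (mAut β)] Multiplicative ℤ

/-- a pair -/
def pair (β : A ≃+ A) (v : A) (k : ℤ) : Semi β := ⟨Multiplicative.ofAdd v, Multiplicative.ofAdd k⟩

theorem pair_zero (β : A ≃+ A) : pair β 0 0 = 1 := rfl

theorem pair_mul (β : A ≃+ A) (v w : A) (k l : ℤ) :
    pair β v k * pair β w l =
      pair β (v + ((mAut β ^ k) (Multiplicative.ofAdd w)).toAdd) (k + l) := rfl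

theorem zero_shift (β : A ≃+ A) (v w : A) (l : ℤ) :
    pair β v 0 * pair β w l = pair β (v + w) l := by
  rw [pair_mul, zpow_zero, zero_add]; rfl

theorem one_shift (β : A ≃+ A) (v : A) : pair β 0 1 * pair β v 0 = pair β (β v) 0 * pair β 0 1 := by
  rw [pair_mul, zero_shift, zpow_one, mAut_apply]
  simp

theorem nat_shift (β : A ≃+ A) (k : ℕ) : pair β 0 1 ^ k = pair β 0 k := by
  induction k with
  | zero => rw [pow_zero, Nat.cast_zero, pair_zero]
  | succ k ih => rw [pow_succ, ih, pair_mul, ofAdd_zero, map_one]; simp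

/-- the automorphism has order dividing `n` and fixes `w` -/
structure Ok (β : A ≃+ A) (n : ℕ) (w : A) : Prop where
  pos : 0 < n
  iter : ∀ v, β^[n] v = v
  fix : β w = w

theorem mAut_pow_apply (β : A ≃+ A) (k : ℕ) (v : A) :
    (mAut β ^ k) (Multiplicative.ofAdd v) = Multiplicative.ofAdd (β^[k] v) := by
  induction k with
  | zero => rfl
  | succ k ih => rw [pow_succ', MulAut.mul_apply, ih, mAut_apply, Function.iterate_succ_apply']

theorem Ok.mAut_pow {β : A ≃+ A} {n : ℕ} {w : A} (h : Ok β n w) : mAut β ^ n = 1 := by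
  refine MulEquiv.ext fun v => ?_
  obtain ⟨v, rfl⟩ := Multiplicative.ofAdd.surjective v
  rw [mAut_pow_apply, h.iter]; rfl

theorem Ok.mAut_zpow {β : A ≃+ A} {n : ℕ} {w : A} (h : Ok β n w) (j : ℤ) :
    mAut β ^ (j * n) = 1 := by
  rw [mul_comm, zpow_mul, zpow_natCast, h.mAut_pow, one_zpow]

theorem Ok.fix_zpow {β : A ≃+ A} {n : ℕ} {w : A} (h : Ok β n w) (i : ℤ) (k : ℤ) :
    (mAut β ^ k) (Multiplicative.ofAdd (i • w)) = Multiplicative.ofAdd (i • w) := by
  have h1 : ∀ k : ℕ, (mAut β ^ k) (Multiplicative.ofAdd (i • w)) = Multiplicative.ofAdd (i • w) := by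
    intro k
    rw [mAut_pow_apply]
    congr 1
    induction k with
    | zero => rfl
    | succ k ih => rw [Function.iterate_succ_apply', ih, map_zsmul, h.fix]
  rcases k with k | k
  · rw [Int.ofNat_eq_natCast, zpow_natCast]; exact h1 k
  · rw [zpow_negSucc, MulAut.inv_apply, MulEquiv.symm_apply_eq]; exact (h1 _).symm

variable {β : A ≃+ A} {n : ℕ} {w : A}

/-- the relation as a homomorphism -/
def crel (h : Ok β n w) : Multiplicative ℤ →* Semi β :=
  MonoidHom.mk' (fun j => pair β (-(j.toAdd • w)) (j.toAdd * n)) fun i j => by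
    rw [pair_mul, h.mAut_zpow]
    simp only [toAdd_mul, MulAut.one_apply, toAdd_ofAdd]
    congr 1
    · rw [add_smul, neg_add]
    · ring

instance rel_normal (h : Ok β n w) : (crel h).range.Normal := ⟨by
  rintro _ ⟨j, rfl⟩ ⟨g, k⟩
  refine ⟨j, ?_⟩
  obtain ⟨g, rfl⟩ := Multiplicative.ofAdd.surjective g
  obtain ⟨k, rfl⟩ := Multiplicative.ofAdd.surjective k
  show crel h j = pair β g k * crel h j * (pair β g k)⁻¹
  rw [eq_mul_inv_iff_mul_eq]
  show pair β _ _ * pair β g k = pair β g k * pair β _ _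
  rw [pair_mul, pair_mul, h.mAut_zpow, ← neg_smul, h.fix_zpow]
  simp only [MulAut.one_apply, toAdd_ofAdd]
  rw [add_comm g, add_comm k]⟩

/-- the extension -/
abbrev CExt (h : Ok β n w) : Type := Semi β ⧸ (crel h).range

/-- the element of a pair -/
def el (h : Ok β n w) (v : A) (k : ℤ) : CExt h := QuotientGroup.mk (pair β v k)

theorem el_surjective (h : Ok β n w) (x : CExt h) : ∃ v k, el h v k = x := by
  obtain ⟨⟨v, k⟩, rfl⟩ := QuotientGroup.mk_surjective x
  exact ⟨v.toAdd, k.toAdd, rfl⟩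

theorem el_eq_one (h : Ok β n w) {v : A} {k : ℤ} :
    el h v k = 1 ↔ ∃ j : ℤ, k = j * n ∧ v = -(j • w) := by
  rw [el, QuotientGroup.eq_one_iff]
  constructor
  · rintro ⟨j, hj⟩
    refine ⟨j.toAdd, ?_, ?_⟩
    · exact (congrArg (fun p : Semi β => p.right.toAdd) hj).symm
    · exact (congrArg (fun p : Semi β => p.left.toAdd) hj).symm
  · rintro ⟨j, rfl, rfl⟩
    exact ⟨Multiplicative.ofAdd j, rfl⟩

/-- the abelian part -/
def inl (h : Ok β n w) : Multiplicative A →* CExt h :=
  (QuotientGroup.mk' (crel h).range).comp SemidirectProduct.inl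

theorem inl_eq (h : Ok β n w) (v : A) : inl h (Multiplicative.ofAdd v) = el h v 0 := rfl

theorem inl_injective (h : Ok β n w) : Function.Injective (inl h) := by
  rw [injective_iff_map_eq_one]
  intro v hv
  obtain ⟨v, rfl⟩ := Multiplicative.ofAdd.surjective v
  rw [inl_eq, el_eq_one] at hv
  obtain ⟨j, hj, rfl⟩ := hv
  have : j = 0 := by
    rcases mul_eq_zero.1 hj.symm with h1 | h1
    · exact h1
    · exact absurd (by exact_mod_cast h1) h.pos.ne'
  subst this
  simp

theorem finite [Finite A] (h : Ok β n w) : Finite (CExt h) := by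
  haveI : NeZero n := ⟨h.pos.ne'⟩
  refine Finite.of_surjective (fun p : A × Fin n => el h p.1 (p.2 : ℕ)) fun x => ?_
  obtain ⟨v, k, rfl⟩ := el_surjective h x
  have hn : (n : ℤ) ≠ 0 := by exact_mod_cast h.pos.ne'
  have h0 := Int.emod_nonneg k hn
  have h1 := Int.emod_lt_of_pos k (show (0 : ℤ) < n by exact_mod_cast h.pos)
  refine ⟨(v + (k / n) • w, ⟨(k % n).toNat, by omega⟩), ?_⟩
  show QuotientGroup.mk (pair β _ _) = QuotientGroup.mk (pair β v k)
  rw [eq_comm, QuotientGroup.eq]
  refine ⟨Multiplicative.ofAdd (-(k / n)), ?_⟩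
  rw [eq_inv_mul_iff_mul_eq]
  show pair β v k * pair β _ _ = pair β _ _
  rw [pair_mul, toAdd_ofAdd, ← neg_smul, neg_neg, h.fix_zpow, toAdd_ofAdd]
  congr 1
  rw [Int.toNat_of_nonneg h0, Int.emod_def]
  ring

end CfsgLib.Schur.CyclicExtension
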