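import Cfsg.Agent.Lib.Schur.PermTableWide

/-!
# Tables with relations from normalising elements

An element normalising a tabled subgroup sends each relator to itself up to a word in the images of the
generators; combinations of these with balanced exponents vanish. With them a certificate can show that the
derived subgroup of the preimage meets the kernel trivially.
-/

set_option autoImplicit false

open scoped commutatorElement IsMulCommutative

namespace CfsgLib.Schur.LinTable

/-- a relation from a normalising element: the images of the generators and a combination of relators -/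
structure AutRel where
  /-- images of the generators -/
  img : List ℕ
  /-- coefficients of the relators -/
  coef : List ℤ

/-- the lattice certificate with relations from normalising elements -/
structure AutCert where
  /-- the relations -/
  rels : List Rel
  /-- the relations from normalising elements -/
  auts : List AutRel
  /-- a denominator -/
  D : ℤ
  /-- coordinates of exponent vectors, times the denominator -/
  A : ℕ → ℕ → ℤ
  /-- preimages of the exponent lattice -/
  P : ℕ → List ℤ
  /-- coordinates of each relator -/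
  Y : ℕ → ℕ → ℤ
  /-- relations in each relator -/
  mu : ℕ → ℕ → ℤ

/-- the part of the certificate used by the checks of a link -/
def AutCert.base (C : AutCert) : LatCert where
  rels := C.rels
  n := 1
  D := C.D
  A := C.A
  gen := []
  mu0 _ := 0
  P := C.P
  Y := C.Y
  q _ := 0
  mu := C.mu

namespace Tab

variable (T : Tab)

/-- the image of a relator -/
def imgWord (a : AutRel) (i : ℕ) : List ℕ := (T.word i).flatMap fun j => T.path (a.img.getD j 0)

/-- the vector of a relation from a normalising element -/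
def autVec (a : AutRel) : List ℤ :=
  comb T.d (fun i => a.coef.getD i 0) fun i => vadd (unitV i) (vsmul (-1) (T.wSum (T.imgWord a i) 0))

/-- the side conditions of a relation from a normalising element -/
def autChk (a : AutRel) : Bool :=
  (List.range T.k).all (fun j => decide (a.img.getD j 0 < T.N)) &&
  (List.range T.k).all (fun c =>
    decide (sumBelow T.d (fun i => a.coef.getD i 0 * ((T.word i).count c : ℤ)) = 0)) &&
  (List.range T.d).all fun i => (T.word i).all (fun j => decide (j < T.k)) &&
    T.wEnd (T.imgWord a i) 0 == 0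

/-- the vector of the relation with a given index -/
def relAtA (C : AutCert) (l : ℕ) : List ℤ :=
  if l < C.rels.length then T.relVec (C.rels.getD l (.pair 0 0 0 0))
  else T.autVec (C.auts.getD (l - C.rels.length) ⟨[], []⟩)

/-- the lattice check -/
def autOK (C : AutCert) : Bool :=
  decide (C.D ≠ 0) && C.rels.all T.relChk && C.auts.all T.autChk &&
  (List.range T.d).all fun i =>
    T.veq (unitV i)
      (vadd (comb T.k (C.Y i) C.P) (comb (C.rels.length + C.auts.length) (C.mu i) (T.relAtA C))) &&
    (List.range T.k).all fun c =>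
      decide (sumBelow T.k (fun j => C.A c j * ((T.word i).count j : ℤ)) = C.D * C.Y i c)

variable {T} {Γ G : Type*} [Group Γ] [Group G] {σ : Γ →* G} {g : ℕ → G} {L : ℕ → Γ}

theorem prod_map_count {A : Type*} [CommGroup A] {k : ℕ} (Z : ℕ → A) :
    ∀ {w : List ℕ}, (∀ j ∈ w, j < k) →
      (w.map Z).prod = ∏ c ∈ Finset.range k, Z c ^ (w.count c : ℤ) := by
  intro w
  induction w with
  | nil => simp
  | cons j w ih =>
    intro h
    rw [List.map_cons, List.prod_cons, ih fun a ha => h a (List.mem_cons_of_mem _ ha)]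
    have hj : j ∈ Finset.range k := Finset.mem_range.2 (h j List.mem_cons_self)
    rw [← Finset.mul_prod_erase _ _ hj, ← Finset.mul_prod_erase (Finset.range k) _ hj,
      List.count_cons_self, ← mul_assoc]
    congr 1
    · push_cast
      rw [zpow_add, zpow_one, mul_comm]
    · refine Finset.prod_congr rfl fun c hc => ?_
      rw [List.count_cons_of_ne (Finset.ne_of_mem_erase hc).symm]

theorem aut_val (hok : T.ok = true) (hc : σ.ker ≤ Subgroup.center Γ) (hL : ∀ j, σ (L j) = g j)
    (hw : ∀ i < T.d, ((T.word i).map g).prod = 1) (hσ : Function.Surjective σ) {a : AutRel}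
    (ha : T.autChk a = true)
    (hconj : ∃ h : G, ∀ j < T.k, h * g j = T.elt g (a.img.getD j 0) * h) :
    T.val L (T.autVec a) = 1 := by
  simp only [autChk, Bool.and_eq_true, decide_eq_true_eq, beq_iff_eq, List.all_eq_true,
    List.mem_range] at ha
  obtain ⟨⟨himg, hsum⟩, hwords⟩ := ha
  obtain ⟨h, hh⟩ := hconj
  obtain ⟨H, rfl⟩ := hσ h
  obtain ⟨⟨hN, hp0⟩, -, hel⟩ := facts hok hc hL hw
  let Z : ℕ → Subgroup.center Γ := fun j =>
    if hj : j < T.k then
      ⟨H * L j * H⁻¹ * (T.lft L (a.img.getD j 0))⁻¹, hc (by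
        rw [MonoidHom.mem_ker, map_mul, map_mul, map_mul, map_inv, map_inv, map_lft hL, hL, hh j hj]
        group)⟩
    else 1
  have hZ : ∀ j < T.k, H * L j * H⁻¹ = (Z j : Γ) * T.lft L (a.img.getD j 0) := fun j hj => by
    simp only [Z, dif_pos hj]; group
  have hword : ∀ {w : List ℕ}, (∀ j ∈ w, j < T.k) → H * (w.map L).prod * H⁻¹ =
      ((w.map Z).prod : Subgroup.center Γ) *
        ((w.flatMap fun j => T.path (a.img.getD j 0)).map L).prod := by
    intro w
    induction w with
    | nil => intro _; simp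
    | cons j w ih =>
      intro hw'
      rw [List.map_cons, List.prod_cons,
        show H * (L j * (w.map L).prod) * H⁻¹ = (H * L j * H⁻¹) * (H * (w.map L).prod * H⁻¹) by group,
        hZ j (hw' j List.mem_cons_self), ih fun b hb => hw' b (List.mem_cons_of_mem _ hb),
        List.map_cons, List.prod_cons, List.flatMap_cons, List.map_append, List.prod_append,
        Subgroup.coe_mul]
      rw [show T.lft L (a.img.getD j 0) = ((T.path (a.img.getD j 0)).map L).prod from rfl]
      rw [mul_assoc (Z j : Γ), ← mul_assoc ((T.path (a.img.getD j 0)).map L).prod, coe_center_comm,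
        mul_assoc _ ((T.path (a.img.getD j 0)).map L).prod]
      simp only [mul_assoc]
  have hrel : ∀ i < T.d,
      T.relVal L i = (T.word i |>.map Z).prod * T.val L (T.wSum (T.imgWord a i) 0) := by
    intro i hi
    obtain ⟨hk, he⟩ := hwords i hi
    refine Subtype.ext ?_
    have hcv := (coe_relVal hc hL (hw i hi)).1
    have hfix : H * (T.relVal L i : Γ) * H⁻¹ = (T.relVal L i : Γ) := by
      rw [coe_center_comm, mul_inv_cancel_right]
    rw [← hfix, hcv, hword hk, Subgroup.coe_mul]
    congr 1
    have hpk : ∀ j ∈ T.imgWord a i, j < T.k := by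
      intro j hj
      obtain ⟨m, hm, hj⟩ := List.mem_flatMap.1 hj
      exact (hel _ (himg m (hk m hm))).1 j hj
    have e := (walk_facts hok hc hL hw hpk hN).2.1
    rw [he, show T.lft L 0 = 1 by rw [lft, hp0]; rfl, mul_one, mul_one] at e
    exact e
  rw [autVec, val_comb]
  calc ∏ i ∈ Finset.range T.d,
        T.val L (vadd (unitV i) (vsmul (-1) (T.wSum (T.imgWord a i) 0))) ^ a.coef.getD i 0
      = ∏ i ∈ Finset.range T.d, ∏ c ∈ Finset.range T.k,
          Z c ^ (a.coef.getD i 0 * ((T.word i).count c : ℤ)) := by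
        refine Finset.prod_congr rfl fun i hi => ?_
        have hi' := Finset.mem_range.1 hi
        rw [val_vadd, val_vsmul, val_unitV hi', hrel i hi', zpow_neg_one, mul_inv_cancel_right,
          prod_map_count Z (hwords i hi').1, ← Finset.prod_zpow]
        exact Finset.prod_congr rfl fun c _ => by rw [← zpow_mul, mul_comm]
    _ = 1 := by
        rw [Finset.prod_comm]
        refine Finset.prod_eq_one fun c hc' => ?_
        rw [prod_zpow_sum, ← sumBelow_eq, hsum c (Finset.mem_range.1 hc'), zpow_zero]

/-- The derived subgroup of the preimage meets the kernel trivially. -/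
theorem exists_aut_bound (hok : T.ok = true) (C : AutCert) (hC : T.autOK C = true) (σ : Γ →* G)
    (hσ : Function.Surjective σ) (hc : σ.ker ≤ Subgroup.center Γ) (g : ℕ → G)
    (hw : ∀ i < T.d, ((T.word i).map g).prod = 1)
    (hone : ∀ t < T.N, T.elt g t = 1 → t = 0)
    (hconj : ∀ a b a' b', Rel.pair a b a' b' ∈ C.rels → ∃ h : G,
      h * T.elt g a = T.elt g a' * h ∧ h * T.elt g b = T.elt g b' * h)
    (haut : ∀ a ∈ C.auts, ∃ h : G, ∀ j < T.k, h * g j = T.elt g (a.img.getD j 0) * h)
    (U : Subgroup G) (hU : ∀ x ∈ U, ∃ t < T.N, T.elt g t = x) :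
    ∀ z ∈ σ.ker, z ∈ ⁅U.comap σ, U.comap σ⁆ → z = 1 := by
  choose L hL using fun j => hσ (g j)
  simp only [autOK, Bool.and_eq_true, decide_eq_true_eq, List.all_eq_true, List.mem_range] at hC
  obtain ⟨⟨⟨hD, hrels⟩, hauts⟩, hunit⟩ := hC
  have hrel : ∀ l < C.rels.length + C.auts.length, T.val L (T.relAtA C l) = 1 := by
    intro l hl
    unfold relAtA
    split_ifs with h
    · have hm : C.rels.getD l (.pair 0 0 0 0) ∈ C.rels := by
        rw [List.getD_eq_getElem?_getD, List.getElem?_eq_getElem h]; exact List.getElem_mem h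
      exact rel_val hok hc hL hw hσ (hrels _ hm) fun a b a' b' e => hconj a b a' b' (e ▸ hm)
    · have h' : l - C.rels.length < C.auts.length := by omega
      have hm : C.auts.getD (l - C.rels.length) ⟨[], []⟩ ∈ C.auts := by
        rw [List.getD_eq_getElem?_getD, List.getElem?_eq_getElem h']; exact List.getElem_mem h'
      exact aut_val hok hc hL hw hσ (hauts _ hm) (haut _ hm)
  have hcomb : ∀ μ, T.val L (comb (C.rels.length + C.auts.length) μ (T.relAtA C)) = 1 := fun μ => by
    rw [val_comb]
    exact Finset.prod_eq_one fun l hl => by rw [hrel l (Finset.mem_range.1 hl), one_zpow]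
  obtain ⟨⟨hN, hp0⟩, -, hel⟩ := facts hok hc hL hw
  have hl0 : T.lft L 0 = 1 := by rw [lft, hp0]; rfl
  let Has : Γ → Prop := fun x => ∃ v t, t < T.N ∧ x = (T.val L v : Γ) * T.lft L t ∧
    ∀ c < T.k, T.expv c v + ((T.path t).count c : ℤ) = 0
  let S : Subgroup Γ :=
    { carrier := {x | Has x}
      one_mem' := ⟨[], 0, hN, by rw [val_nil, hl0]; simp, fun c _ => by simp [hp0, expv_nil]⟩
      mul_mem' := by
        rintro _ _ ⟨v, t, ht, rfl, hv⟩ ⟨v', t', ht', rfl, hv'⟩
        obtain ⟨h1, h2, -, h4⟩ := lft_mul hok hc hL hw ht ht'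
        refine ⟨vadd (vadd v v') (T.wSum (T.path t) t'), _, h1, ?_, fun c hc' => ?_⟩
        · rw [val_vadd, val_vadd, Subgroup.coe_mul, Subgroup.coe_mul, mul_assoc (T.val L v : Γ),
            ← mul_assoc (T.lft L t), coe_center_comm, mul_assoc _ (T.lft L t), h2]
          simp only [mul_assoc]
        · rw [expv_vadd, expv_vadd]
          have := h4 c hc'; have := hv c hc'; have := hv' c hc'
          omega
      inv_mem' := by
        rintro _ ⟨v, t, ht, rfl, hv⟩
        obtain ⟨hi, e, x⟩ := lft_inv hok hc hL hw ht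
        refine ⟨vadd (vsmul (-1) v) (vsmul (-1) (T.wSum (T.path (T.invOf t)) t)), _, hi, ?_,
          fun c hc' => ?_⟩
        · rw [mul_inv_rev, ← InvMemClass.coe_inv, coe_center_comm, e, ← zpow_neg_one (T.val L v),
            ← val_vsmul, val_vadd, Subgroup.coe_mul, mul_assoc]
        · rw [expv_vadd, expv_vsmul c (-1) v]
          have := x c hc'; have := hv c hc'
          omega }
  have hder : ⁅U.comap σ, U.comap σ⁆ ≤ S := by
    rw [Subgroup.commutator_le]
    intro a ha b hb
    obtain ⟨ta, hta, ea⟩ := hU _ ha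
    obtain ⟨tb, htb, eb⟩ := hU _ hb
    have hcong : ∀ {x : Γ} {t : ℕ}, T.elt g t = σ x → ∃ z ∈ Subgroup.center Γ, x = z * T.lft L t := by
      intro x t e
      refine ⟨x * (T.lft L t)⁻¹, hc ?_, by group⟩
      rw [MonoidHom.mem_ker, map_mul, map_inv, map_lft hL, e, mul_inv_cancel]
    obtain ⟨za, hza, rfl⟩ := hcong ea
    obtain ⟨zb, hzb, rfl⟩ := hcong eb
    obtain ⟨h1, e1, -, x1⟩ := lft_mul hok hc hL hw hta htb
    obtain ⟨h2, e2, -, x2⟩ := lft_mul hok hc hL hw htb hta
    obtain ⟨hi, e3, x3⟩ := lft_inv hok hc hL hw h2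
    obtain ⟨h4, e4, -, x4⟩ := lft_mul hok hc hL hw h1 hi
    rw [commutator_center hza hzb, show ⁅T.lft L ta, T.lft L tb⁆ =
      T.lft L ta * T.lft L tb * (T.lft L tb * T.lft L ta)⁻¹ by rw [commutatorElement_def]; group]
    set ab := T.wEnd (T.path ta) tb
    set ba := T.wEnd (T.path tb) ta
    set i := T.invOf ba
    refine ⟨vadd (vadd (T.wSum (T.path ta) tb) (vsmul (-1) (T.wSum (T.path tb) ta)))
      (vadd (vsmul (-1) (T.wSum (T.path i) ba)) (T.wSum (T.path ab) i)), _, h4, ?_, fun c hc' => ?_⟩
    · have hinv : (T.lft L tb * T.lft L ta)⁻¹ = ((T.val L (vsmul (-1) (T.wSum (T.path tb) ta)) *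
          T.val L (vsmul (-1) (T.wSum (T.path i) ba)) : Subgroup.center Γ) : Γ) * T.lft L i := by
        rw [e2, mul_inv_rev, ← InvMemClass.coe_inv, coe_center_comm, e3,
          ← zpow_neg_one (T.val L (T.wSum (T.path tb) ta)), ← val_vsmul, ← mul_assoc, ← Subgroup.coe_mul]
      rw [e1, hinv, mul_assoc, ← mul_assoc (T.lft L ab), coe_center_comm, mul_assoc _ (T.lft L ab),
        e4, ← mul_assoc, ← mul_assoc, ← Subgroup.coe_mul, ← Subgroup.coe_mul]
      simp only [val_vadd, mul_assoc]
    · simp only [expv_vadd]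
      have := x1 c hc'; have := x2 c hc'; have := x3 c hc'; have := x4 c hc'
      simp only [expv_vsmul] at *
      omega
  intro z hz hzd
  obtain ⟨v, t, ht, rfl, hv⟩ := hder hzd
  have ht0 : t = 0 := by
    refine hone t ht ?_
    rw [MonoidHom.mem_ker, map_mul, MonoidHom.mem_ker.1 (val_mem_ker hc hL hw _), one_mul,
      map_lft hL] at hz
    exact hz
  subst ht0
  rw [hl0, mul_one]
  have hv0 : ∀ c < T.k, T.expv c v = 0 := fun c hc' => by simpa [hp0] using hv c hc'
  have hy : ∀ c < T.k, ∑ i ∈ Finset.range T.d, v.getD i 0 * C.Y i c = 0 := by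
    intro c hc'
    refine (mul_eq_zero.1 ?_).resolve_left hD
    calc C.D * ∑ i ∈ Finset.range T.d, v.getD i 0 * C.Y i c
        = ∑ i ∈ Finset.range T.d, ∑ j ∈ Finset.range T.k,
            C.A c j * (v.getD i 0 * ((T.word i).count j : ℤ)) := by
          rw [Finset.mul_sum]
          refine Finset.sum_congr rfl fun i hi => ?_
          rw [mul_left_comm, ← ((hunit i (Finset.mem_range.1 hi)).2 c hc'), sumBelow_eq, Finset.mul_sum]
          exact Finset.sum_congr rfl fun j _ => by ring
      _ = 0 := by
          rw [Finset.sum_comm]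
          refine Finset.sum_eq_zero fun j hj => ?_
          have := hv0 j (Finset.mem_range.1 hj)
          rw [expv, sumBelow_eq] at this
          rw [← Finset.mul_sum, this, mul_zero]
  suffices e : T.val L v = 1 by rw [e]; rfl
  calc T.val L v = ∏ i ∈ Finset.range T.d,
        ∏ c ∈ Finset.range T.k, T.val L (C.P c) ^ (v.getD i 0 * C.Y i c) := by
        refine Finset.prod_congr rfl fun i hi => ?_
        have hid := Finset.mem_range.1 hi
        have e := val_congr (L := L) (hunit i hid).1
        rw [val_unitV hid, val_vadd, hcomb, mul_one, val_comb] at e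
        rw [e, ← Finset.prod_zpow]
        exact Finset.prod_congr rfl fun c _ => by rw [← zpow_mul, mul_comm (C.Y i c)]
    _ = 1 := by
        rw [Finset.prod_comm]
        exact Finset.prod_eq_one fun c hc' => by
          rw [prod_zpow_sum, hy c (Finset.mem_range.1 hc'), zpow_zero]

end Tab

end CfsgLib.Schur.LinTable

namespace CfsgLib.Schur.PermTableWide

open CfsgLib.Schur.LinTable
open CfsgLib.Chev (allBelow allBelow_eq_true)

/-- the normalising elements -/
noncomputable def Link.autOK (K : Link) (E : Elts) (T : Tab) (C : AutCert) (nrm : List ℕ) : Bool :=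
  (List.range C.auts.length).all fun a => decide (nrm.getD a 0 < E.prog.length + 2) &&
    (List.range T.k).all fun j =>
      decide ((C.auts.getD a ⟨[], []⟩).img.getD j 0 < T.N) && allBelow E.m fun x =>
        Nat.beq (ap (E.P (nrm.getD a 0)) (ap (E.P (K.gid.getD j 0)) x))
          (ap (K.el ((C.auts.getD a ⟨[], []⟩).img.getD j 0)) (ap (E.P (nrm.getD a 0)) x))

variable {G : Type*} [Group G] {E : Elts} {ρ : G →* Equiv.Perm (Fin E.m)}

/-- The vanishing given by a table with normalising elements. -/
theorem trivial_of_link [Finite G] (hρ : Function.Injective ρ) (h0 : ∃ x, Acts ρ x (E.P 0))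
    (h1 : ∃ x, Acts ρ x (E.P 1)) (hprog : (List.range E.prog.length).all E.progAt = true) {T : Tab}
    {C : AutCert} (K : Link) (nrm : List ℕ) (hok : T.ok = true) (hC : T.autOK C = true)
    (hhead : K.headOK E T = true) (hel : (List.range T.N).all (K.elAt E T) = true)
    (hconj : K.conjOK E T C.base = true) (haut : K.autOK E T C nrm = true) {M ℓ : ℕ}
    (hcard : T.N * M = Nat.card G) (hM : ¬ ℓ ∣ M)
    {Γ : Type*} [Group Γ] [Finite Γ] (σ : Γ →* G) (hσ : Function.Surjective σ)
    (hc : σ.ker ≤ Subgroup.center Γ) :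
    ∃ U : Subgroup G, ¬ ℓ ∣ U.index ∧
      ∀ z ∈ σ.ker, z ∈ ⁅U.comap σ, U.comap σ⁆ → z = 1 := by
  classical
  simp only [Link.headOK, Bool.and_eq_true, decide_eq_true_eq, List.all_eq_true, List.mem_range] at hhead
  obtain ⟨⟨hgid, hwords⟩, hmono⟩ := hhead
  choose x hx using exists_acts h0 h1 hprog
  let g : ℕ → G := fun j => if h : K.gid.getD j 0 < E.prog.length + 2 then x _ h else 1
  have hg : ∀ j < T.k, Acts ρ (g j) (E.P (K.gid.getD j 0)) := fun j hj => by
    simp only [g, dif_pos (hgid j hj)]; exact hx _ _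
  choose L hL using fun j => hσ (g j)
  have hw : ∀ i < T.d, ((T.word i).map g).prod = 1 := fun i hi => hρ (Equiv.ext fun p => Fin.ext (by
    rw [acts_word (P := fun j => E.P (K.gid.getD j 0)) (fun j hj => hg j ((hwords i hi).1 j hj)),
      Nat.eq_of_beq_eq_true (allBelow_eq_true (hwords i hi).2 p p.isLt), map_one]
    rfl))
  obtain ⟨⟨hN, hp0⟩, -, hfacts⟩ := Tab.facts hok hc hL hw
  have helt : ∀ t < T.N, K.el t < 2 ^ (16 * E.m) ∧ K.srt (K.rank t) = t ∧ K.rank t < T.N ∧
      Acts ρ (T.elt g t) (K.el t) := fun t ht => by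
    have h := List.all_eq_true.1 hel t (List.mem_range.2 ht)
    simp only [Link.elAt, Bool.and_eq_true, decide_eq_true_eq, Nat.beq_eq, Nat.blt_eq] at h
    refine ⟨h.1.1.1, h.1.1.2, h.1.2, fun p => ?_⟩
    have e := allBelow_eq_true h.2 p p.isLt
    rw [Nat.beq_eq] at e
    rw [e, Tab.elt, acts_word (P := fun j => E.P (K.gid.getD j 0))
      fun j hj => hg j ((hfacts t ht).1 j hj)]
  have hlt : ∀ b a, a < b → b < T.N → K.el (K.srt a) < K.el (K.srt b) := by
    intro b
    induction b with
    | zero => intro a ha; omega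
    | succ b ih =>
      intro a ha hb
      have h := hmono b (by omega)
      rw [Nat.blt_eq] at h
      rcases Nat.lt_or_ge a b with hab | hab
      · exact lt_trans (ih a hab (by omega)) h
      · rwa [show a = b by omega]
  have hinj : ∀ a < T.N, ∀ b < T.N, T.elt g a = T.elt g b → a = b := by
    intro a ha b hb e
    obtain ⟨la, sa, ra, aa⟩ := helt a ha
    obtain ⟨lb, sb, rb, ab⟩ := helt b hb
    rw [e] at aa
    have := eq_of_ap la lb fun p hp => (aa ⟨p, hp⟩).symm.trans (ab ⟨p, hp⟩)
    rcases Nat.lt_trichotomy (K.rank a) (K.rank b) with h | h | h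
    · have h2 := hlt _ _ h rb; rw [sa, sb] at h2; omega
    · rw [← sa, h, sb]
    · have h2 := hlt _ _ h ra; rw [sa, sb] at h2; omega
  set U : Subgroup G := Subgroup.closure {e | ∃ j < T.k, e = g j}
  have hU := Tab.closure_eq hok hσ hc hw
  refine ⟨U, ?_, Tab.exists_aut_bound hok C hC σ hσ hc g hw
    (fun t ht e => hinj t ht 0 hN (by rw [e, Tab.elt, hp0]; rfl)) ?_ ?_ U hU⟩
  · have hmem : ∀ t < T.N, T.elt g t ∈ U := fun t ht => list_prod_mem fun y hy => by
      obtain ⟨j, hj, rfl⟩ := List.mem_map.1 hy
      exact Subgroup.subset_closure ⟨j, (hfacts t ht).1 j hj, rfl⟩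
    have hcardU : Nat.card U = T.N := by
      rw [← Nat.card_fin T.N]
      refine (Nat.card_eq_of_bijective (fun t : Fin T.N => (⟨_, hmem t t.2⟩ : U)) ⟨?_, ?_⟩).symm
      · intro a b e
        exact Fin.ext (hinj _ a.2 _ b.2 (congrArg Subtype.val e))
      · rintro ⟨y, hy⟩
        obtain ⟨t, ht, rfl⟩ := hU y hy
        exact ⟨⟨t, ht⟩, rfl⟩
    have h := U.card_mul_index
    rw [hcardU, ← hcard] at h
    rw [Nat.eq_of_mul_eq_mul_left hN h]
    exact hM
  · intro a b a' b' hm
    obtain ⟨l, hl, he⟩ := List.getElem_of_mem hm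
    have h := List.all_eq_true.1 hconj l (List.mem_range.2 hl)
    change (match C.rels.getD l (.loop 0 0) with
      | .loop _ _ => true
      | .pair a b a' b' => _) = true at h
    rw [List.getD_eq_getElem?_getD, List.getElem?_eq_getElem hl, Option.getD_some, he] at h
    simp only [Bool.and_eq_true, decide_eq_true_eq] at h
    obtain ⟨⟨⟨⟨⟨hh, ha⟩, hb⟩, ha'⟩, hb'⟩, hall⟩ := h
    refine ⟨x _ hh, ?_, ?_⟩ <;> refine hρ (Equiv.ext fun p => Fin.ext ?_)
    · have e := (allBelow_eq_true hall p p.isLt)
      simp only [Bool.and_eq_true, Nat.beq_eq] at e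
      rw [map_mul, map_mul, Equiv.Perm.mul_apply, Equiv.Perm.mul_apply, hx _ hh, (helt a ha).2.2.2,
        (helt a' ha').2.2.2, hx _ hh]
      exact e.1
    · have e := (allBelow_eq_true hall p p.isLt)
      simp only [Bool.and_eq_true, Nat.beq_eq] at e
      rw [map_mul, map_mul, Equiv.Perm.mul_apply, Equiv.Perm.mul_apply, hx _ hh, (helt b hb).2.2.2,
        (helt b' hb').2.2.2, hx _ hh]
      exact e.2
  · intro a ha
    obtain ⟨l, hl, rfl⟩ := List.getElem_of_mem ha
    have h := List.all_eq_true.1 haut l (List.mem_range.2 hl)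
    rw [List.getD_eq_getElem?_getD (l := C.auts), List.getElem?_eq_getElem hl, Option.getD_some] at h
    simp only [Bool.and_eq_true, decide_eq_true_eq, List.all_eq_true, List.mem_range] at h
    obtain ⟨hh, hall⟩ := h
    refine ⟨x _ hh, fun j hj => hρ (Equiv.ext fun p => Fin.ext ?_)⟩
    obtain ⟨ht, he⟩ := hall j hj
    have e := allBelow_eq_true he p p.isLt
    rw [Nat.beq_eq] at e
    rw [map_mul, map_mul, Equiv.Perm.mul_apply, Equiv.Perm.mul_apply, hx _ hh, hg j hj,
      (helt _ ht).2.2.2, hx _ hh]
    exact e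

end CfsgLib.Schur.PermTableWide
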