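import Mathlib

/-!
# Linear certificates for the derived subgroup of a central extension of a small group

A table of a group `U` with generators, relators and, for every edge, the linear form in the
values of the relators by which the edge differs from the chosen lift.  Exponent sums show which
forms occur in the derived subgroup; loops and pairs of conjugate commuting elements give
relations between the values.
-/

set_option autoImplicit false

open scoped commutatorElement IsMulCommutative

namespace CfsgLib.Schur.LinTable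

/-- the sum of the values below a bound -/
def sumBelow : ℕ → (ℕ → ℤ) → ℤ
  | 0, _ => 0
  | n + 1, f => sumBelow n f + f n

theorem sumBelow_eq : ∀ (n : ℕ) (f : ℕ → ℤ), sumBelow n f = ∑ i ∈ Finset.range n, f i
  | 0, _ => by simp [sumBelow]
  | n + 1, f => by rw [sumBelow, Finset.sum_range_succ, sumBelow_eq n f]

/-- addition of coefficient lists -/
def vadd : List ℤ → List ℤ → List ℤ
  | [], b => b
  | a, [] => a
  | x :: a, y :: b => (x + y) :: vadd a b

/-- multiples of coefficient lists -/
def vsmul (c : ℤ) (a : List ℤ) : List ℤ := a.map (c * ·)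

/-- the unit list -/
def unitV (i : ℕ) : List ℤ := List.replicate i 0 ++ [1]

/-- combinations of coefficient lists -/
def comb : ℕ → (ℕ → ℤ) → (ℕ → List ℤ) → List ℤ
  | 0, _, _ => []
  | n + 1, μ, vs => vadd (comb n μ vs) (vsmul (μ n) (vs n))

theorem getD_vadd : ∀ (a b : List ℤ) (i : ℕ), (vadd a b).getD i 0 = a.getD i 0 + b.getD i 0
  | [], b, i => by simp [vadd]
  | x :: a, [], i => by simp [vadd]
  | x :: a, y :: b, 0 => by simp [vadd]
  | x :: a, y :: b, i + 1 => by simp only [vadd, List.getD_cons_succ]; exact getD_vadd a b i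

theorem getD_vsmul (c : ℤ) : ∀ (a : List ℤ) (i : ℕ), (vsmul c a).getD i 0 = c * a.getD i 0
  | [], i => by simp [vsmul]
  | x :: a, 0 => by simp [vsmul]
  | x :: a, i + 1 => by
    simp only [vsmul, List.map_cons, List.getD_cons_succ]; exact getD_vsmul c a i

theorem getD_unitV : ∀ (i l : ℕ), (unitV i).getD l 0 = if i = l then 1 else 0
  | 0, 0 => rfl
  | 0, l + 1 => by simp [unitV]
  | i + 1, 0 => by simp [unitV, List.replicate_succ]
  | i + 1, l + 1 => by
    have := getD_unitV i l
    simp only [unitV, List.replicate_succ, List.cons_append, List.getD_cons_succ] at this ⊢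
    rw [this]; simp

theorem getD_comb : ∀ (n : ℕ) (μ : ℕ → ℤ) (vs : ℕ → List ℤ) (i : ℕ),
    (comb n μ vs).getD i 0 = ∑ j ∈ Finset.range n, μ j * (vs j).getD i 0
  | 0, _, _, i => by simp [comb]
  | n + 1, μ, vs, i => by rw [comb, getD_vadd, getD_vsmul, getD_comb n μ vs i, Finset.sum_range_succ]

/-- the table -/
structure Tab where
  /-- number of generators -/
  k : ℕ
  /-- number of elements -/
  N : ℕ
  /-- number of relators -/
  d : ℕ
  /-- left multiplication by a generator -/
  tab : ℕ → ℕ → ℕ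
  /-- a word for each element -/
  path : ℕ → List ℕ
  /-- inverses -/
  invOf : ℕ → ℕ
  /-- relators -/
  word : ℕ → List ℕ
  /-- the linear form of an edge -/
  E : ℕ → ℕ → List ℤ
  /-- edges with trivial form -/
  tree : List (ℕ × ℕ)
  /-- relator, start and position of the new edge -/
  cert : List (ℕ × ℕ × ℕ)

/-- a relation between the values -/
inductive Rel
  /-- a relator read along a loop -/
  | loop (i x : ℕ)
  /-- two conjugate pairs of commuting elements -/
  | pair (a b a' b' : ℕ)

/-- the lattice certificate -/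
structure LatCert where
  /-- the relations -/
  rels : List Rel
  /-- exponent of the generator -/
  n : ℕ
  /-- a denominator -/
  D : ℤ
  /-- coordinates of exponent vectors, times the denominator -/
  A : ℕ → ℕ → ℤ
  /-- the generator -/
  gen : List ℤ
  /-- the multiple of the generator -/
  mu0 : ℕ → ℤ
  /-- preimages of the exponent lattice -/
  P : ℕ → List ℤ
  /-- coordinates of each relator -/
  Y : ℕ → ℕ → ℤ
  /-- multiple of the generator in each relator -/
  q : ℕ → ℤ
  /-- relations in each relator -/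
  mu : ℕ → ℕ → ℤ

namespace Tab

variable (T : Tab)

/-- equality of forms -/
def veq (a b : List ℤ) : Bool := (List.range T.d).all fun i => decide (a.getD i 0 = b.getD i 0)

/-- end of a walk, read from the right -/
def wEnd : List ℕ → ℕ → ℕ
  | [], x => x
  | j :: w, x => T.tab j (wEnd w x)

/-- sum along a walk -/
def wSum : List ℕ → ℕ → List ℤ
  | [], _ => []
  | j :: w, x => vadd (T.E j (T.wEnd w x)) (wSum w x)

/-- all edges of a walk are known -/
def knownW (K : ℕ) : List ℕ → ℕ → Bool
  | [], _ => true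
  | j :: w, x => knownW K w x && (decide (j < 8) && K.testBit (8 * T.wEnd w x + j))

/-- learn an edge -/
def learn (K j i : ℕ) : ℕ := K ||| 2 ^ (8 * i + j)

/-- the trivial edges -/
def treeRun : List (ℕ × ℕ) → ℕ → Option ℕ
  | [], K => some K
  | c :: cs, K =>
    if decide (c.1 < 8) && T.path (T.tab c.1 c.2) == c.1 :: T.path c.2 && T.veq (T.E c.1 c.2) [] then
      treeRun cs (learn K c.1 c.2)
    else none

/-- a deduction -/
def step (K : ℕ) (c : ℕ × ℕ × ℕ) : Option ℕ :=
  let w := T.word c.1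
  let x := T.wEnd (w.drop (c.2.2 + 1)) c.2.1
  let j := w.getD c.2.2 0
  let y := T.tab j x
  if decide (c.1 < T.d) && decide (c.2.2 < w.length) && decide (j < 8) &&
      T.knownW K (w.drop (c.2.2 + 1)) c.2.1 && T.knownW K (w.take c.2.2) y &&
      T.wEnd (w.take c.2.2) y == c.2.1 &&
      T.veq (vadd (T.E j x) (vadd (T.wSum (w.take c.2.2) y) (T.wSum (w.drop (c.2.2 + 1)) c.2.1)))
        (unitV c.1) then
    some (learn K j x)
  else none

/-- all deductions -/
def run : List (ℕ × ℕ × ℕ) → ℕ → Option ℕ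
  | [], K => some K
  | c :: cs, K => match T.step K c with
    | none => none
    | some K' => run cs K'

/-- exponent sum of a form -/
def expv (c : ℕ) (v : List ℤ) : ℤ := sumBelow T.d fun i => v.getD i 0 * ((T.word i).count c : ℤ)

/-- the table check -/
def ok : Bool :=
  decide (T.k ≤ 8) && decide (0 < T.N) && T.path 0 == [] &&
  (match T.treeRun T.tree 0 with
    | none => false
    | some K => match T.run T.cert K with
      | none => false
      | some K' => (List.range T.k).all fun j => (List.range T.N).all fun i =>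
          K'.testBit (8 * i + j) && decide (T.tab j i < T.N) &&
            (List.range T.k).all fun c => decide (T.expv c (T.E j i) +
              ((T.path (T.tab j i)).count c : ℤ) = ((T.path i).count c : ℤ) + if j = c then 1 else 0)) &&
  (List.range T.N).all fun t => (T.path t).all (fun j => decide (j < T.k)) &&
    decide (T.invOf t < T.N) && T.wEnd (T.path (T.invOf t)) t == 0 && T.wEnd (T.path t) 0 == t

/-- the vector of a relation -/
def relVec : Rel → List ℤ
  | .loop i x => vadd (T.wSum (T.word i) x) (vsmul (-1) (unitV i))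
  | .pair a b a' b' => vadd (vadd (T.wSum (T.path a) b) (vsmul (-1) (T.wSum (T.path b) a)))
      (vsmul (-1) (vadd (T.wSum (T.path a') b') (vsmul (-1) (T.wSum (T.path b') a'))))

/-- the side conditions of a relation -/
def relChk : Rel → Bool
  | .loop i x => decide (i < T.d) && decide (x < T.N) && (T.word i).all (fun j => decide (j < T.k)) &&
      T.wEnd (T.word i) x == x
  | .pair a b a' b' => decide (a < T.N) && decide (b < T.N) && decide (a' < T.N) && decide (b' < T.N) &&
      T.wEnd (T.path a) b == T.wEnd (T.path b) a && T.wEnd (T.path a') b' == T.wEnd (T.path b') a'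

/-- the vector of the relation with a given index -/
def relAt (C : LatCert) (l : ℕ) : List ℤ := T.relVec (C.rels.getD l (.pair 0 0 0 0))

/-- the lattice check -/
def latOK (C : LatCert) : Bool :=
  decide (C.D ≠ 0) && C.rels.all T.relChk &&
  (List.range T.k).all (fun c => decide (T.expv c C.gen = 0)) &&
  T.veq (vsmul C.n C.gen) (comb C.rels.length C.mu0 (T.relAt C)) &&
  (List.range T.d).all fun i =>
    T.veq (unitV i) (vadd (vsmul (C.q i) C.gen)
      (vadd (comb T.k (C.Y i) C.P) (comb C.rels.length (C.mu i) (T.relAt C)))) &&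
    (List.range T.k).all fun c =>
      decide (sumBelow T.k (fun j => C.A c j * ((T.word i).count j : ℤ)) = C.D * C.Y i c)

variable {Γ G : Type*} [Group Γ] [Group G] (σ : Γ →* G) (g : ℕ → G) (L : ℕ → Γ)

/-- the lift of an element -/
def lft (t : ℕ) : Γ := ((T.path t).map L).prod

/-- the element -/
def elt (t : ℕ) : G := ((T.path t).map g).prod

open Classical in
/-- the value of a relator -/
noncomputable def relVal (i : ℕ) : Subgroup.center Γ :=
  if h : ((T.word i).map L).prod ∈ Subgroup.center Γ then ⟨_, h⟩ else 1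

/-- the value of a form -/
noncomputable def val (v : List ℤ) : Subgroup.center Γ :=
  ∏ i ∈ Finset.range T.d, T.relVal L i ^ v.getD i 0

variable {T L}

theorem val_vadd (a b : List ℤ) : T.val L (vadd a b) = T.val L a * T.val L b := by
  simp only [val, ← Finset.prod_mul_distrib, getD_vadd, zpow_add]

theorem val_vsmul (c : ℤ) (a : List ℤ) : T.val L (vsmul c a) = T.val L a ^ c := by
  simp only [val, ← Finset.prod_zpow, getD_vsmul, ← zpow_mul, mul_comm c]

theorem val_nil : T.val L [] = 1 := by simp [val]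

theorem val_congr {a b : List ℤ} (h : T.veq a b = true) : T.val L a = T.val L b := by
  refine Finset.prod_congr rfl fun i hi => ?_
  rw [of_decide_eq_true (List.all_eq_true.1 h i (List.mem_range.2 (Finset.mem_range.1 hi)))]

theorem val_unitV {i : ℕ} (hi : i < T.d) : T.val L (unitV i) = T.relVal L i := by
  rw [val, Finset.prod_eq_single i]
  · rw [getD_unitV, if_pos rfl, zpow_one]
  · intro l _ hl; rw [getD_unitV, if_neg (Ne.symm hl), zpow_zero]
  · intro h; exact absurd (Finset.mem_range.2 hi) h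

theorem val_comb (n : ℕ) (μ : ℕ → ℤ) (vs : ℕ → List ℤ) :
    T.val L (comb n μ vs) = ∏ j ∈ Finset.range n, T.val L (vs j) ^ μ j := by
  induction n with
  | zero => simp [comb, val_nil]
  | succ n ih => rw [comb, val_vadd, val_vsmul, ih, Finset.prod_range_succ]

theorem expv_vadd (c : ℕ) (a b : List ℤ) : T.expv c (vadd a b) = T.expv c a + T.expv c b := by
  simp only [expv, sumBelow_eq, ← Finset.sum_add_distrib, getD_vadd, add_mul]

theorem expv_vsmul (c : ℕ) (e : ℤ) (a : List ℤ) : T.expv c (vsmul e a) = e * T.expv c a := by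
  simp only [expv, sumBelow_eq, Finset.mul_sum, getD_vsmul, mul_assoc]

theorem expv_nil (c : ℕ) : T.expv c [] = 0 := by simp [expv, sumBelow_eq]

/-- a central factor moves to the left -/
theorem coe_center_comm (z : Subgroup.center Γ) (a : Γ) : a * (z : Γ) = (z : Γ) * a :=
  Subgroup.mem_center_iff.1 z.2 a

variable (T L) in
/-- the known edges are true -/
def Good (K : ℕ) : Prop := ∀ j i, j < 8 → K.testBit (8 * i + j) = true →
  L j * T.lft L i = (T.val L (T.E j i) : Γ) * T.lft L (T.tab j i)

theorem good_learn {K j i : ℕ} (hK : T.Good L K) (hj : j < 8)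
    (he : L j * T.lft L i = (T.val L (T.E j i) : Γ) * T.lft L (T.tab j i)) :
    T.Good L (learn K j i) := by
  intro j' i' hj' hb
  rw [learn, Nat.testBit_or, Nat.testBit_two_pow, Bool.or_eq_true, decide_eq_true_eq] at hb
  rcases hb with hb | hb
  · exact hK j' i' hj' hb
  · obtain ⟨rfl, rfl⟩ : j = j' ∧ i = i' := by omega
    exact he

theorem walk_eq {K : ℕ} (hK : T.Good L K) : ∀ {w : List ℕ} {x : ℕ}, T.knownW K w x = true →
    (w.map L).prod * T.lft L x = (T.val L (T.wSum w x) : Γ) * T.lft L (T.wEnd w x) := by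
  intro w
  induction w with
  | nil => intro x _; simp [wSum, wEnd, val_nil]
  | cons j w ih =>
    intro x h
    simp only [knownW, Bool.and_eq_true, decide_eq_true_eq] at h
    rw [List.map_cons, List.prod_cons, mul_assoc, ih h.1, ← mul_assoc,
      coe_center_comm, mul_assoc, hK j _ h.2.1 h.2.2, wSum, wEnd, val_vadd,
      mul_comm (T.val L (T.E j _)), Subgroup.coe_mul, mul_assoc]

theorem good_treeRun : ∀ (cs : List (ℕ × ℕ)) (K K' : ℕ), T.Good L K → T.treeRun cs K = some K' →
    T.Good L K' := by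
  intro cs
  induction cs with
  | nil => intro K K' hK h; rw [treeRun, Option.some.injEq] at h; exact h ▸ hK
  | cons c cs ih =>
    intro K K' hK h
    rw [treeRun] at h
    split_ifs at h with hc
    simp only [Bool.and_eq_true, decide_eq_true_eq, beq_iff_eq] at hc
    refine ih _ K' (good_learn hK hc.1.1 ?_) h
    rw [val_congr hc.2, val_nil, Subgroup.coe_one, one_mul, lft, lft, hc.1.2, List.map_cons,
      List.prod_cons]

variable {σ g}

theorem coe_relVal (hc : σ.ker ≤ Subgroup.center Γ) (hL : ∀ j, σ (L j) = g j) {i : ℕ}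
    (hw : ((T.word i).map g).prod = 1) :
    (T.relVal L i : Γ) = ((T.word i).map L).prod ∧ (T.relVal L i : Γ) ∈ σ.ker := by
  have hk : ((T.word i).map L).prod ∈ σ.ker := by
    rw [MonoidHom.mem_ker, map_list_prod, List.map_map]
    rw [show σ ∘ L = g from funext hL, hw]
  rw [relVal, dif_pos (hc hk)]
  exact ⟨rfl, hk⟩

theorem good_step (hc : σ.ker ≤ Subgroup.center Γ) (hL : ∀ j, σ (L j) = g j)
    (hw : ∀ i < T.d, ((T.word i).map g).prod = 1) {K K' : ℕ} {c : ℕ × ℕ × ℕ} (hK : T.Good L K)
    (h : T.step K c = some K') : T.Good L K' := by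
  unfold step at h
  simp only at h
  split_ifs at h with hcond
  simp only [Bool.and_eq_true, decide_eq_true_eq, beq_iff_eq] at hcond
  obtain ⟨⟨⟨⟨⟨⟨hi, hp⟩, hj8⟩, hsuf⟩, hpre⟩, hend⟩, hE⟩ := hcond
  rw [Option.some.injEq] at h
  rw [← h]
  refine good_learn hK hj8 ?_
  set w := T.word c.1 with hwdef
  have e1 := walk_eq hK hsuf
  have e2 := walk_eq hK hpre
  rw [hend] at e2
  have hr := (coe_relVal (T := T) hc hL (hw c.1 hi)).1
  rw [← hwdef] at hr
  have hsplit : w = w.take c.2.2 ++ w.getD c.2.2 0 :: w.drop (c.2.2 + 1) := by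
    rw [List.getD_eq_getElem?_getD, List.getElem?_eq_getElem hp, Option.getD_some,
      ← List.drop_eq_getElem_cons hp, List.take_append_drop]
  rw [hsplit, List.map_append, List.prod_append, List.map_cons, List.prod_cons] at hr
  set S1 := T.val L (T.wSum (w.drop (c.2.2 + 1)) c.2.1)
  set S2 := T.val L (T.wSum (w.take c.2.2) (T.tab (w.getD c.2.2 0) (T.wEnd (w.drop (c.2.2 + 1)) c.2.1)))
  set pre := ((w.take c.2.2).map L).prod
  set suf := ((w.drop (c.2.2 + 1)).map L).prod
  set x := T.wEnd (w.drop (c.2.2 + 1)) c.2.1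
  set j := w.getD c.2.2 0
  have hv := val_congr (L := L) hE
  rw [val_vadd, val_vadd, val_unitV hi] at hv
  change T.val L (T.E j x) * (S2 * S1) = T.relVal L c.1 at hv
  refine mul_left_cancel (a := pre) (mul_left_cancel (a := (S1 : Γ)) ?_)
  calc (S1 : Γ) * (pre * (L j * T.lft L x))
      = pre * L j * ((S1 : Γ) * T.lft L x) := by
        rw [← mul_assoc (pre * L j), coe_center_comm]
        simp only [mul_assoc]
    _ = pre * (L j * suf) * T.lft L c.2.1 := by rw [← e1]; simp only [mul_assoc]
    _ = (T.relVal L c.1 : Γ) * T.lft L c.2.1 := by rw [← hr]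
    _ = ((T.val L (T.E j x) * S1 : Subgroup.center Γ) : Γ) * ((S2 : Γ) * T.lft L c.2.1) := by
        rw [← hv, mul_comm S2 S1, ← mul_assoc (T.val L (T.E j x)), Subgroup.coe_mul, mul_assoc]
    _ = (S1 : Γ) * (pre * ((T.val L (T.E j x) : Γ) * T.lft L (T.tab j x))) := by
        rw [← e2, mul_comm (T.val L (T.E j x)) S1, Subgroup.coe_mul, ← mul_assoc pre (T.val L (T.E j x) : Γ),
          coe_center_comm (T.val L (T.E j x)) pre]
        simp only [mul_assoc]

theorem good_run (hc : σ.ker ≤ Subgroup.center Γ) (hL : ∀ j, σ (L j) = g j)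
    (hw : ∀ i < T.d, ((T.word i).map g).prod = 1) : ∀ (cs : List (ℕ × ℕ × ℕ)) (K K' : ℕ),
    T.Good L K → T.run cs K = some K' → T.Good L K' := by
  intro cs
  induction cs with
  | nil => intro K K' hK h; rw [run, Option.some.injEq] at h; exact h ▸ hK
  | cons c cs ih =>
    intro K K' hK h
    rw [run] at h
    rcases hs : T.step K c with _ | K1
    · rw [hs] at h; simp at h
    · rw [hs] at h; exact ih K1 K' (good_step hc hL hw hK hs) h

/-- What a correct table gives. -/
theorem facts (hok : T.ok = true) (hc : σ.ker ≤ Subgroup.center Γ) (hL : ∀ j, σ (L j) = g j)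
    (hw : ∀ i < T.d, ((T.word i).map g).prod = 1) :
    (0 < T.N ∧ T.path 0 = []) ∧
    (∀ j < T.k, ∀ i < T.N, T.tab j i < T.N ∧
      L j * T.lft L i = (T.val L (T.E j i) : Γ) * T.lft L (T.tab j i) ∧
      ∀ c < T.k, T.expv c (T.E j i) + ((T.path (T.tab j i)).count c : ℤ) =
        ((T.path i).count c : ℤ) + if j = c then 1 else 0) ∧
    ∀ t < T.N, (∀ j ∈ T.path t, j < T.k) ∧ T.invOf t < T.N ∧
      T.wEnd (T.path (T.invOf t)) t = 0 ∧ T.wEnd (T.path t) 0 = t := by
  simp only [ok, Bool.and_eq_true, decide_eq_true_eq, beq_iff_eq] at hok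
  obtain ⟨⟨⟨⟨hk8, hN⟩, hp0⟩, hrun⟩, hel⟩ := hok
  refine ⟨⟨hN, hp0⟩, ?_, fun t ht => ?_⟩
  · rcases hT : T.treeRun T.tree 0 with _ | K
    · rw [hT] at hrun; simp at hrun
    rw [hT] at hrun
    simp only at hrun
    rcases hR : T.run T.cert K with _ | K'
    · rw [hR] at hrun; simp at hrun
    rw [hR] at hrun
    simp only [List.all_eq_true, List.mem_range, Bool.and_eq_true, decide_eq_true_eq] at hrun
    intro j hj i hi
    obtain ⟨⟨hb, hlt⟩, hexp⟩ := hrun j hj i hi
    have h0 : T.Good L 0 := fun _ _ _ hb => by simp at hb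
    exact ⟨hlt, good_run hc hL hw _ K K' (good_treeRun _ 0 K h0 hT) hR j i (by omega) hb, hexp⟩
  · have h := List.all_eq_true.1 hel t (List.mem_range.2 ht)
    simp only [Bool.and_eq_true, decide_eq_true_eq, beq_iff_eq, List.all_eq_true] at h
    exact ⟨h.1.1.1, h.1.1.2, h.1.2, h.2⟩

theorem walk_facts (hok : T.ok = true) (hc : σ.ker ≤ Subgroup.center Γ) (hL : ∀ j, σ (L j) = g j)
    (hw : ∀ i < T.d, ((T.word i).map g).prod = 1) : ∀ {w : List ℕ}, (∀ j ∈ w, j < T.k) →
    ∀ {x : ℕ}, x < T.N → T.wEnd w x < T.N ∧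
      (w.map L).prod * T.lft L x = (T.val L (T.wSum w x) : Γ) * T.lft L (T.wEnd w x) ∧
      ∀ c < T.k, T.expv c (T.wSum w x) + ((T.path (T.wEnd w x)).count c : ℤ) =
        (w.count c : ℤ) + ((T.path x).count c : ℤ) := by
  intro w
  induction w with
  | nil => intro _ x hx; simp [wSum, wEnd, val_nil, expv_nil, hx]
  | cons j w ih =>
    intro h x hx
    obtain ⟨h1, h2, h3⟩ := ih (fun a ha => h a (List.mem_cons_of_mem _ ha)) hx
    obtain ⟨h4, h5, h6⟩ := (facts hok hc hL hw).2.1 j (h j List.mem_cons_self) _ h1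
    refine ⟨h4, ?_, fun c hc' => ?_⟩
    · rw [List.map_cons, List.prod_cons, mul_assoc, h2, ← mul_assoc, coe_center_comm, mul_assoc, h5,
        wSum, wEnd, val_vadd, mul_comm (T.val L (T.E j _)), Subgroup.coe_mul, mul_assoc]
    · have e1 := h3 c hc'
      have e2 := h6 c hc'
      rw [wSum, wEnd, expv_vadd]
      by_cases e : j = c
      · subst e
        rw [if_pos rfl] at e2
        rw [List.count_cons_self]
        push_cast
        omega
      · rw [if_neg e] at e2
        rw [List.count_cons_of_ne e]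
        omega

theorem map_lft (hL : ∀ j, σ (L j) = g j) (t : ℕ) : σ (T.lft L t) = T.elt g t := by
  rw [lft, elt, map_list_prod, List.map_map, show σ ∘ L = g from funext hL]

theorem val_mem_ker (hc : σ.ker ≤ Subgroup.center Γ) (hL : ∀ j, σ (L j) = g j)
    (hw : ∀ i < T.d, ((T.word i).map g).prod = 1) (v : List ℤ) : (T.val L v : Γ) ∈ σ.ker := by
  suffices h : T.val L v ∈ σ.ker.comap (Subgroup.center Γ).subtype from h
  rw [val]
  refine Subgroup.prod_mem _ fun i hi => zpow_mem ?_ _
  exact (coe_relVal hc hL (hw i (Finset.mem_range.1 hi))).2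

/-- Central factors do not change a commutator. -/
theorem commutator_center {z z' : Γ} (hz : z ∈ Subgroup.center Γ) (hz' : z' ∈ Subgroup.center Γ)
    (a b : Γ) : ⁅z * a, z' * b⁆ = ⁅a, b⁆ := by
  have hx : ∀ y : Γ, y ∈ Subgroup.center Γ → ∀ c d : Γ, ⁅y * c, d⁆ = ⁅c, d⁆ := by
    intro y hy c d
    have e := Subgroup.mem_center_iff.1 hy
    rw [commutatorElement_def, commutatorElement_def, mul_inv_rev, mul_assoc y, mul_assoc y,
      ← e]
    group
  rw [hx z hz, ← commutatorElement_inv, hx z' hz', commutatorElement_inv]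

/-- Products of powers. -/
theorem prod_zpow_sum {A : Type*} [CommGroup A] {ι : Type*} (s : Finset ι) (a : A) (f : ι → ℤ) :
    ∏ i ∈ s, a ^ f i = a ^ ∑ i ∈ s, f i := by
  classical
  induction s using Finset.induction_on with
  | empty => simp
  | insert i s hi ih => rw [Finset.prod_insert hi, Finset.sum_insert hi, zpow_add, ih]

/-- Products of lifts. -/
theorem lft_mul (hok : T.ok = true) (hc : σ.ker ≤ Subgroup.center Γ) (hL : ∀ j, σ (L j) = g j)
    (hw : ∀ i < T.d, ((T.word i).map g).prod = 1) {a b : ℕ} (ha : a < T.N) (hb : b < T.N) :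
    T.wEnd (T.path a) b < T.N ∧
      T.lft L a * T.lft L b = (T.val L (T.wSum (T.path a) b) : Γ) * T.lft L (T.wEnd (T.path a) b) ∧
      T.elt g a * T.elt g b = T.elt g (T.wEnd (T.path a) b) ∧
      ∀ c < T.k, T.expv c (T.wSum (T.path a) b) + ((T.path (T.wEnd (T.path a) b)).count c : ℤ) =
        ((T.path a).count c : ℤ) + ((T.path b).count c : ℤ) := by
  obtain ⟨h1, h2, h3⟩ := walk_facts hok hc hL hw ((facts hok hc hL hw).2.2 a ha).1 hb
  refine ⟨h1, h2, ?_, h3⟩
  have e := congrArg σ h2
  rw [map_mul, map_mul, MonoidHom.mem_ker.1 (val_mem_ker hc hL hw _), one_mul, map_lft hL,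
    map_lft hL] at e
  rw [← map_lft hL a]
  exact e

theorem rel_val (hok : T.ok = true) (hc : σ.ker ≤ Subgroup.center Γ) (hL : ∀ j, σ (L j) = g j)
    (hw : ∀ i < T.d, ((T.word i).map g).prod = 1) (hσ : Function.Surjective σ) {r : Rel}
    (hr : T.relChk r = true)
    (hconj : ∀ a b a' b', r = .pair a b a' b' → ∃ h : G,
      h * T.elt g a = T.elt g a' * h ∧ h * T.elt g b = T.elt g b' * h) :
    T.val L (T.relVec r) = 1 := by
  cases r with
  | loop i x =>
    simp only [relChk, Bool.and_eq_true, decide_eq_true_eq, beq_iff_eq, List.all_eq_true] at hr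
    obtain ⟨⟨⟨hi, hx⟩, hk⟩, he⟩ := hr
    have e := (walk_facts hok hc hL hw hk hx).2.1
    rw [he, ← (coe_relVal hc hL (hw i hi)).1] at e
    have e' : T.relVal L i = T.val L (T.wSum (T.word i) x) := Subtype.ext (mul_right_cancel e)
    rw [relVec, val_vadd, val_vsmul, val_unitV hi, e', zpow_neg_one, mul_inv_cancel]
  | pair a b a' b' =>
    simp only [relChk, Bool.and_eq_true, decide_eq_true_eq, beq_iff_eq] at hr
    obtain ⟨⟨⟨⟨⟨ha, hb⟩, ha'⟩, hb'⟩, he⟩, he'⟩ := hr
    obtain ⟨h, hha, hhb⟩ := hconj a b a' b' rfl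
    obtain ⟨H, rfl⟩ := hσ h
    have key : ∀ {u v : ℕ}, u < T.N → v < T.N → T.wEnd (T.path u) v = T.wEnd (T.path v) u →
        ⁅T.lft L u, T.lft L v⁆ =
          (T.val L (vadd (T.wSum (T.path u) v) (vsmul (-1) (T.wSum (T.path v) u))) : Γ) := by
      intro u v hu hv huv
      rw [val_vadd, val_vsmul, zpow_neg_one, commutatorElement_def, mul_assoc (T.lft L u * T.lft L v),
        ← mul_inv_rev, (lft_mul hok hc hL hw hu hv).2.1, (lft_mul hok hc hL hw hv hu).2.1, huv,
        mul_inv_rev, Subgroup.coe_mul, InvMemClass.coe_inv]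
      group
    have hcommu : ⁅T.lft L a, T.lft L b⁆ = ⁅T.lft L a', T.lft L b'⁆ := by
      have hlift : ∀ {u u' : ℕ}, σ H * T.elt g u = T.elt g u' * σ H →
          ∃ z ∈ Subgroup.center Γ, H * T.lft L u * H⁻¹ = z * T.lft L u' := by
        intro u u' e
        refine ⟨H * T.lft L u * H⁻¹ * (T.lft L u')⁻¹, hc ?_, by group⟩
        rw [MonoidHom.mem_ker, map_mul, map_mul, map_mul, map_inv, map_inv, map_lft hL, map_lft hL, e]
        group
      obtain ⟨z, hz, ea⟩ := hlift hha
      obtain ⟨z', hz', eb⟩ := hlift hhb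
      have h0 : ⁅T.lft L a, T.lft L b⁆ ∈ Subgroup.center Γ := by
        rw [key ha hb he]; exact (T.val L _).2
      have h1 : H * ⁅T.lft L a, T.lft L b⁆ * H⁻¹ = ⁅T.lft L a, T.lft L b⁆ := by
        rw [Subgroup.mem_center_iff.1 h0 H, mul_inv_cancel_right]
      rw [← h1, show H * ⁅T.lft L a, T.lft L b⁆ * H⁻¹ = ⁅H * T.lft L a * H⁻¹, H * T.lft L b * H⁻¹⁆ by
        simp only [commutatorElement_def]; group, ea, eb]
      have cz := Subgroup.mem_center_iff.1 hz
      have cz' := Subgroup.mem_center_iff.1 hz'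
      calc ⁅z * T.lft L a', z' * T.lft L b'⁆
          = z * (T.lft L a' * z') * T.lft L b' * ((T.lft L a')⁻¹ * z⁻¹) *
              ((T.lft L b')⁻¹ * z'⁻¹) := by simp only [commutatorElement_def]; group
        _ = ⁅T.lft L a', T.lft L b'⁆ := by
          have ca : ∀ y, y * z⁻¹ = z⁻¹ * y := Subgroup.mem_center_iff.1 (inv_mem hz)
          have cb : ∀ y, y * z'⁻¹ = z'⁻¹ * y := Subgroup.mem_center_iff.1 (inv_mem hz')
          rw [cz' (T.lft L a'), ca, cb, ← mul_assoc, cb,
            ← mul_assoc (z * (z' * T.lft L a') * T.lft L b'), ca, commutatorElement_def]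
          group
    rw [key ha hb he, key ha' hb' he'] at hcommu
    rw [relVec, val_vadd, val_vsmul (-1) (vadd _ _), Subtype.ext hcommu, zpow_neg_one, mul_inv_cancel]

theorem lft_inv (hok : T.ok = true) (hc : σ.ker ≤ Subgroup.center Γ) (hL : ∀ j, σ (L j) = g j)
    (hw : ∀ i < T.d, ((T.word i).map g).prod = 1) {t : ℕ} (ht : t < T.N) :
    T.invOf t < T.N ∧
      (T.lft L t)⁻¹ = (T.val L (vsmul (-1) (T.wSum (T.path (T.invOf t)) t)) : Γ) *
        T.lft L (T.invOf t) ∧
      ∀ c < T.k, T.expv c (vsmul (-1) (T.wSum (T.path (T.invOf t)) t)) +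
        ((T.path (T.invOf t)).count c : ℤ) = -((T.path t).count c : ℤ) := by
  obtain ⟨⟨-, hp0⟩, -, hel⟩ := facts hok hc hL hw
  obtain ⟨-, hi, h0, -⟩ := hel t ht
  obtain ⟨-, h2, -, h4⟩ := lft_mul hok hc hL hw hi ht
  rw [h0, show T.lft L 0 = 1 by rw [lft, hp0]; rfl, mul_one] at h2
  refine ⟨hi, ?_, fun c hc' => ?_⟩
  · rw [val_vsmul, zpow_neg_one, InvMemClass.coe_inv, ← h2]
    group
  · have := h4 c hc'
    rw [h0, hp0, List.count_nil] at this
    rw [expv_vsmul]
    omega

/-- The derived subgroup of the preimage meets the kernel in a cyclic group. -/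
theorem exists_bound (hok : T.ok = true) (C : LatCert) (hC : T.latOK C = true) (σ : Γ →* G)
    (hσ : Function.Surjective σ) (hc : σ.ker ≤ Subgroup.center Γ) (g : ℕ → G)
    (hw : ∀ i < T.d, ((T.word i).map g).prod = 1)
    (hone : ∀ t < T.N, T.elt g t = 1 → t = 0)
    (hconj : ∀ a b a' b', Rel.pair a b a' b' ∈ C.rels → ∃ h : G,
      h * T.elt g a = T.elt g a' * h ∧ h * T.elt g b = T.elt g b' * h)
    (U : Subgroup G) (hU : ∀ x ∈ U, ∃ t < T.N, T.elt g t = x) :
    ∃ w ∈ σ.ker, w ^ C.n = 1 ∧
      ∀ z ∈ σ.ker, z ∈ ⁅U.comap σ, U.comap σ⁆ → z ∈ Subgroup.zpowers w := by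
  choose L hL using fun j => hσ (g j)
  simp only [latOK, Bool.and_eq_true, decide_eq_true_eq, List.all_eq_true, List.mem_range] at hC
  obtain ⟨⟨⟨⟨hD, hrels⟩, hgen⟩, hn⟩, hunit⟩ := hC
  have hrel : ∀ l < C.rels.length, T.val L (T.relAt C l) = 1 := by
    intro l hl
    have hm : C.rels.getD l (.pair 0 0 0 0) ∈ C.rels := by
      rw [List.getD_eq_getElem?_getD, List.getElem?_eq_getElem hl]; exact List.getElem_mem hl
    exact rel_val hok hc hL hw hσ (hrels _ hm) fun a b a' b' e => hconj a b a' b' (e ▸ hm)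
  have hcomb : ∀ μ, T.val L (comb C.rels.length μ (T.relAt C)) = 1 := fun μ => by
    rw [val_comb]
    exact Finset.prod_eq_one fun l hl => by rw [hrel l (Finset.mem_range.1 hl), one_zpow]
  set ω := T.val L C.gen with hω
  refine ⟨ω, val_mem_ker hc hL hw _, ?_, ?_⟩
  · have := val_congr (L := L) hn
    rw [val_vsmul, hcomb, zpow_natCast] at this
    rw [← SubmonoidClass.coe_pow, this, Subgroup.coe_one]
  obtain ⟨⟨hN, hp0⟩, -, hel⟩ := facts hok hc hL hw
  have hl0 : T.lft L 0 = 1 := by rw [lft, hp0]; rfl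
  let Has : Γ → Prop := fun x => ∃ v t, t < T.N ∧ x = (T.val L v : Γ) * T.lft L t ∧
    ∀ c < T.k, T.expv c v + ((T.path t).count c : ℤ) = 0
  let S : Subgroup Γ :=
    { carrier := {x | Has x}
      one_mem' := ⟨[], 0, hN, by rw [val_nil, hl0]; simp, fun c _ => by simp [hp0, expv_nil]⟩
      mul_mem' := by
        rintro _ _ ⟨v, t, ht, rfl, hv⟩ ⟨v', t', ht', rfl, hv'⟩
        obtain ⟨h1, h2, -, h4⟩ := lft_mul hok hc hL hw ht ht'
        refine ⟨vadd (vadd v v') (T.wSum (T.path t) t'), _, h1, ?_, fun c hc' => ?_⟩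
        · rw [val_vadd, val_vadd, Subgroup.coe_mul, Subgroup.coe_mul, mul_assoc (T.val L v : Γ),
            ← mul_assoc (T.lft L t), coe_center_comm, mul_assoc _ (T.lft L t), h2]
          simp only [mul_assoc]
        · rw [expv_vadd, expv_vadd]
          have := h4 c hc'; have := hv c hc'; have := hv' c hc'
          omega
      inv_mem' := by
        rintro _ ⟨v, t, ht, rfl, hv⟩
        obtain ⟨hi, e, x⟩ := lft_inv hok hc hL hw ht
        refine ⟨vadd (vsmul (-1) v) (vsmul (-1) (T.wSum (T.path (T.invOf t)) t)), _, hi, ?_,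
          fun c hc' => ?_⟩
        · rw [mul_inv_rev, ← InvMemClass.coe_inv, coe_center_comm, e, ← zpow_neg_one (T.val L v),
            ← val_vsmul, val_vadd, Subgroup.coe_mul, mul_assoc]
        · rw [expv_vadd, expv_vsmul c (-1) v]
          have := x c hc'; have := hv c hc'
          omega }
  have hder : ⁅U.comap σ, U.comap σ⁆ ≤ S := by
    rw [Subgroup.commutator_le]
    intro a ha b hb
    obtain ⟨ta, hta, ea⟩ := hU _ ha
    obtain ⟨tb, htb, eb⟩ := hU _ hb
    have hcong : ∀ {x : Γ} {t : ℕ}, T.elt g t = σ x → ∃ z ∈ Subgroup.center Γ, x = z * T.lft L t := by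
      intro x t e
      refine ⟨x * (T.lft L t)⁻¹, hc ?_, by group⟩
      rw [MonoidHom.mem_ker, map_mul, map_inv, map_lft hL, e, mul_inv_cancel]
    obtain ⟨za, hza, rfl⟩ := hcong ea
    obtain ⟨zb, hzb, rfl⟩ := hcong eb
    obtain ⟨h1, e1, -, x1⟩ := lft_mul hok hc hL hw hta htb
    obtain ⟨h2, e2, -, x2⟩ := lft_mul hok hc hL hw htb hta
    obtain ⟨hi, e3, x3⟩ := lft_inv hok hc hL hw h2
    obtain ⟨h4, e4, -, x4⟩ := lft_mul hok hc hL hw h1 hi
    rw [commutator_center hza hzb, show ⁅T.lft L ta, T.lft L tb⁆ =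
      T.lft L ta * T.lft L tb * (T.lft L tb * T.lft L ta)⁻¹ by rw [commutatorElement_def]; group]
    set ab := T.wEnd (T.path ta) tb
    set ba := T.wEnd (T.path tb) ta
    set i := T.invOf ba
    refine ⟨vadd (vadd (T.wSum (T.path ta) tb) (vsmul (-1) (T.wSum (T.path tb) ta)))
      (vadd (vsmul (-1) (T.wSum (T.path i) ba)) (T.wSum (T.path ab) i)), _, h4, ?_, fun c hc' => ?_⟩
    · have hinv : (T.lft L tb * T.lft L ta)⁻¹ = ((T.val L (vsmul (-1) (T.wSum (T.path tb) ta)) *
          T.val L (vsmul (-1) (T.wSum (T.path i) ba)) : Subgroup.center Γ) : Γ) * T.lft L i := by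
        rw [e2, mul_inv_rev, ← InvMemClass.coe_inv, coe_center_comm, e3, ← zpow_neg_one (T.val L (T.wSum (T.path tb) ta)),
          ← val_vsmul, ← mul_assoc, ← Subgroup.coe_mul]
      rw [e1, hinv, mul_assoc, ← mul_assoc (T.lft L ab), coe_center_comm, mul_assoc _ (T.lft L ab),
        e4, ← mul_assoc, ← mul_assoc, ← Subgroup.coe_mul, ← Subgroup.coe_mul]
      simp only [val_vadd, mul_assoc]
    · simp only [expv_vadd]
      have := x1 c hc'; have := x2 c hc'; have := x3 c hc'; have := x4 c hc'
      simp only [expv_vsmul] at *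
      omega
  intro z hz hzd
  obtain ⟨v, t, ht, rfl, hv⟩ := hder hzd
  have ht0 : t = 0 := by
    refine hone t ht ?_
    rw [MonoidHom.mem_ker, map_mul, MonoidHom.mem_ker.1 (val_mem_ker hc hL hw _), one_mul,
      map_lft hL] at hz
    exact hz
  subst ht0
  rw [hl0, mul_one]
  have hv0 : ∀ c < T.k, T.expv c v = 0 := fun c hc' => by simpa [hp0] using hv c hc'
  have hy : ∀ c < T.k, ∑ i ∈ Finset.range T.d, v.getD i 0 * C.Y i c = 0 := by
    intro c hc'
    refine (mul_eq_zero.1 ?_).resolve_left hD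
    calc C.D * ∑ i ∈ Finset.range T.d, v.getD i 0 * C.Y i c
        = ∑ i ∈ Finset.range T.d, ∑ j ∈ Finset.range T.k,
            C.A c j * (v.getD i 0 * ((T.word i).count j : ℤ)) := by
          rw [Finset.mul_sum]
          refine Finset.sum_congr rfl fun i hi => ?_
          rw [mul_left_comm, ← ((hunit i (Finset.mem_range.1 hi)).2 c hc'), sumBelow_eq, Finset.mul_sum]
          exact Finset.sum_congr rfl fun j _ => by ring
      _ = 0 := by
          rw [Finset.sum_comm]
          refine Finset.sum_eq_zero fun j hj => ?_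
          have := hv0 j (Finset.mem_range.1 hj)
          rw [expv, sumBelow_eq] at this
          rw [← Finset.mul_sum, this, mul_zero]
  have : T.val L v = ω ^ ∑ i ∈ Finset.range T.d, v.getD i 0 * C.q i := by
    calc T.val L v = ∏ i ∈ Finset.range T.d,
          (ω ^ (v.getD i 0 * C.q i) *
            ∏ c ∈ Finset.range T.k, T.val L (C.P c) ^ (v.getD i 0 * C.Y i c)) := by
          refine Finset.prod_congr rfl fun i hi => ?_
          have hid := Finset.mem_range.1 hi
          have e := val_congr (L := L) (hunit i hid).1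
          rw [val_unitV hid, val_vadd, val_vadd, val_vsmul, hcomb, mul_one, val_comb] at e
          rw [e, mul_zpow, ← zpow_mul, ← Finset.prod_zpow, mul_comm (C.q i)]
          congr 1
          exact Finset.prod_congr rfl fun c _ => by rw [← zpow_mul, mul_comm (C.Y i c)]
      _ = ω ^ ∑ i ∈ Finset.range T.d, v.getD i 0 * C.q i := by
          rw [Finset.prod_mul_distrib, Finset.prod_comm, prod_zpow_sum,
            Finset.prod_eq_one (fun c hc' => ?_), mul_one]
          rw [prod_zpow_sum, hy c (Finset.mem_range.1 hc'), zpow_zero]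
  rw [this, SubgroupClass.coe_zpow]
  exact Subgroup.zpow_mem_zpowers _ _

/-- The generated subgroup consists of the tabled elements. -/
theorem closure_eq [Finite G] (hok : T.ok = true) {σ : Γ →* G} (hσ : Function.Surjective σ)
    (hc : σ.ker ≤ Subgroup.center Γ) {g : ℕ → G} (hw : ∀ i < T.d, ((T.word i).map g).prod = 1) :
    ∀ x ∈ Subgroup.closure {e | ∃ j < T.k, e = g j}, ∃ t < T.N, T.elt g t = x := by
  choose L hL using fun j => hσ (g j)
  obtain ⟨⟨hN, hp0⟩, hedge, -⟩ := facts hok hc hL hw
  intro x hx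
  rw [← Subgroup.mem_toSubmonoid, Subgroup.closure_toSubmonoid_of_finite] at hx
  induction hx using Submonoid.closure_induction_left with
  | one => exact ⟨0, hN, by rw [elt, hp0]; rfl⟩
  | mul_left a ha y _ ih =>
    obtain ⟨j, hj, rfl⟩ := ha
    obtain ⟨t, ht, rfl⟩ := ih
    obtain ⟨h1, h2, -⟩ := hedge j hj t ht
    refine ⟨_, h1, ?_⟩
    have := congrArg σ h2
    rw [map_mul, map_mul, MonoidHom.mem_ker.1 (val_mem_ker hc hL hw _), one_mul, hL, map_lft hL,
      map_lft hL] at this
    exact this.symm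

end Tab

end CfsgLib.Schur.LinTable
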