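import Cfsg.Prelude.Def_KGroupFacts
import Cfsg.Agent.Lib.Schur.LinearTable
import Cfsg.Agent.Lib.Chev.Check

/-!
# Linear tables inside a group given by packed permutations

A faithful action on at most 256 points, a program of products of two generators, and the checks
tying the table of a subgroup to the permutations.
-/

set_option autoImplicit false

open scoped commutatorElement

namespace CfsgLib.Schur.PermTable

open CfsgLib.Schur.LinTable
open CfsgLib.Chev (allBelow allBelow_eq_true)

/-- the entry of a packed permutation -/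
noncomputable def ap (P i : ℕ) : ℕ := Nat.land (Nat.shiftRight P (Nat.mul 8 i)) 255

/-- a word of packed permutations applied to a point -/
noncomputable def wAp (P : ℕ → ℕ) : List ℕ → ℕ → ℕ
  | [], x => x
  | j :: w, x => ap (P j) (wAp P w x)

/-- the permutations and the program -/
structure Elts where
  /-- number of points -/
  m : ℕ
  /-- packed permutations -/
  P : ℕ → ℕ
  /-- each permutation after the first two as a product of earlier ones -/
  prog : List (ℕ × ℕ)

/-- the check of one line of a program -/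
noncomputable def Elts.progAt (E : Elts) (i : ℕ) : Bool :=
  decide ((E.prog.getD i (0, 0)).1 < i + 2) && decide ((E.prog.getD i (0, 0)).2 < i + 2) &&
    allBelow E.m fun x => Nat.beq (ap (E.P (i + 2)) x)
      (ap (E.P (E.prog.getD i (0, 0)).1) (ap (E.P (E.prog.getD i (0, 0)).2) x))

/-- the data tying a table to the permutations -/
structure Link where
  /-- generators of the table -/
  gid : List ℕ
  /-- conjugating elements of the pairs -/
  conj : List ℕ
  /-- packed permutation of each element of the table -/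
  el : ℕ → ℕ
  /-- elements in increasing order -/
  srt : ℕ → ℕ
  /-- position in the increasing order -/
  rank : ℕ → ℕ

/-- one element of a table has its permutation -/
noncomputable def Link.elAt (K : Link) (E : Elts) (T : Tab) (t : ℕ) : Bool :=
  decide (K.el t < 2 ^ (8 * E.m)) && Nat.beq (K.srt (K.rank t)) t && Nat.blt (K.rank t) T.N &&
    allBelow E.m fun x => Nat.beq (ap (K.el t) x) (wAp (fun j => E.P (K.gid.getD j 0)) (T.path t) x)

/-- the generators, relators and order -/
noncomputable def Link.headOK (K : Link) (E : Elts) (T : Tab) : Bool :=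
  (List.range T.k).all (fun j => decide (K.gid.getD j 0 < E.prog.length + 2)) &&
  (List.range T.d).all (fun i => (T.word i).all (fun j => decide (j < T.k)) &&
    allBelow E.m fun x => Nat.beq (wAp (fun j => E.P (K.gid.getD j 0)) (T.word i) x) x) &&
  (List.range (T.N - 1)).all fun r => Nat.blt (K.el (K.srt r)) (K.el (K.srt (r + 1)))

/-- the conjugations -/
noncomputable def Link.conjOK (K : Link) (E : Elts) (T : Tab) (C : LatCert) : Bool :=
  (List.range C.rels.length).all fun l => match C.rels.getD l (.loop 0 0) with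
    | .loop _ _ => true
    | .pair a b a' b' => decide (K.conj.getD l 0 < E.prog.length + 2) && decide (a < T.N) &&
        decide (b < T.N) && decide (a' < T.N) && decide (b' < T.N) && allBelow E.m fun x =>
          Nat.beq (ap (E.P (K.conj.getD l 0)) (ap (K.el a) x))
            (ap (K.el a') (ap (E.P (K.conj.getD l 0)) x)) &&
          Nat.beq (ap (E.P (K.conj.getD l 0)) (ap (K.el b) x))
            (ap (K.el b') (ap (E.P (K.conj.getD l 0)) x))

theorem eq_of_ap {m P Q : ℕ} (hP : P < 2 ^ (8 * m)) (hQ : Q < 2 ^ (8 * m))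
    (h : ∀ x < m, ap P x = ap Q x) : P = Q := by
  refine Nat.eq_of_testBit_eq fun i => ?_
  rcases Nat.lt_or_ge i (8 * m) with hi | hi
  · have e := h (i / 8) (by omega)
    have e2 := congrArg (fun n : ℕ => n.testBit (i % 8)) e
    have h255 : ∀ n : ℕ, (Nat.land n 255).testBit (i % 8) = n.testBit (i % 8) := by
      intro n
      show (n &&& (2 ^ 8 - 1)).testBit (i % 8) = _
      rw [Nat.testBit_and, Nat.testBit_two_pow_sub_one]
      simp [Nat.mod_lt]
    simp only [ap, h255] at e2
    have h3 : ∀ n : ℕ, (Nat.shiftRight n (Nat.mul 8 (i / 8))).testBit (i % 8) = n.testBit i := by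
      intro n
      show (n >>> (8 * (i / 8))).testBit (i % 8) = _
      rw [Nat.testBit_shiftRight, Nat.div_add_mod]
    rwa [h3, h3] at e2
  · rw [Nat.testBit_lt_two_pow (hP.trans_le (Nat.pow_le_pow_right (by norm_num) hi)),
      Nat.testBit_lt_two_pow (hQ.trans_le (Nat.pow_le_pow_right (by norm_num) hi))]

variable {G : Type*} [Group G] {E : Elts} (ρ : G →* Equiv.Perm (Fin E.m))

/-- the element acts as the packed permutation -/
def Acts (x : G) (P : ℕ) : Prop := ∀ i : Fin E.m, ((ρ x i : Fin E.m) : ℕ) = ap P i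

variable {ρ}

theorem acts_eq (hρ : Function.Injective ρ) {x y : G} {P : ℕ} (hx : Acts ρ x P) (hy : Acts ρ y P) :
    x = y :=
  hρ (Equiv.ext fun i => Fin.ext ((hx i).trans (hy i).symm))

/-- every line of the program is an element -/
theorem exists_acts (h0 : ∃ x, Acts ρ x (E.P 0)) (h1 : ∃ x, Acts ρ x (E.P 1))
    (hprog : (List.range E.prog.length).all E.progAt = true) :
    ∀ i < E.prog.length + 2, ∃ x, Acts ρ x (E.P i) := by
  intro i
  induction i using Nat.strong_induction_on with
  | _ i ih =>
    intro hi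
    match i, hi with
    | 0, _ => exact h0
    | 1, _ => exact h1
    | n + 2, hn =>
      have h := List.all_eq_true.1 hprog n (List.mem_range.2 (by omega))
      simp only [Elts.progAt, Bool.and_eq_true, decide_eq_true_eq] at h
      obtain ⟨⟨ha, hb⟩, he⟩ := h
      obtain ⟨x, hx⟩ := ih _ ha (by omega)
      obtain ⟨y, hy⟩ := ih _ hb (by omega)
      refine ⟨x * y, fun p => ?_⟩
      have e := allBelow_eq_true he p p.isLt
      rw [Nat.beq_eq] at e
      rw [e, map_mul, Equiv.Perm.mul_apply, hx, hy]

theorem acts_word {g : ℕ → G} {P : ℕ → ℕ} : ∀ {w : List ℕ}, (∀ j ∈ w, Acts ρ (g j) (P j)) →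
    ∀ i : Fin E.m, ((ρ (w.map g).prod i : Fin E.m) : ℕ) = wAp P w i := by
  intro w
  induction w with
  | nil => intro _ i; simp [wAp]
  | cons j w ih =>
    intro h i
    rw [List.map_cons, List.prod_cons, map_mul, Equiv.Perm.mul_apply, h j List.mem_cons_self,
      ih fun a ha => h a (List.mem_cons_of_mem _ ha)]
    rfl

/-- The bound given by a table inside a group of packed permutations. -/
theorem bound_of_link [Finite G] (hρ : Function.Injective ρ) (h0 : ∃ x, Acts ρ x (E.P 0))
    (h1 : ∃ x, Acts ρ x (E.P 1)) (hprog : (List.range E.prog.length).all E.progAt = true) {T : Tab}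
    {C : LatCert} (K : Link) (hok : T.ok = true) (hC : T.latOK C = true)
    (hhead : K.headOK E T = true) (hel : (List.range T.N).all (K.elAt E T) = true)
    (hconj : K.conjOK E T C = true) {M ℓ : ℕ} (hcard : T.N * M = Nat.card G) (hM : ¬ ℓ ∣ M)
    {Γ : Type*} [Group Γ] [Finite Γ] (σ : Γ →* G) (hσ : Function.Surjective σ)
    (hc : σ.ker ≤ Subgroup.center Γ) :
    ∃ U : Subgroup G, ¬ ℓ ∣ U.index ∧ ∃ w ∈ σ.ker, w ^ C.n = 1 ∧
      ∀ z ∈ σ.ker, z ∈ ⁅U.comap σ, U.comap σ⁆ → z ∈ Subgroup.zpowers w := by
  classical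
  simp only [Link.headOK, Bool.and_eq_true, decide_eq_true_eq, List.all_eq_true, List.mem_range] at hhead
  obtain ⟨⟨hgid, hwords⟩, hmono⟩ := hhead
  choose x hx using exists_acts h0 h1 hprog
  let g : ℕ → G := fun j => if h : K.gid.getD j 0 < E.prog.length + 2 then x _ h else 1
  have hg : ∀ j < T.k, Acts ρ (g j) (E.P (K.gid.getD j 0)) := fun j hj => by
    simp only [g, dif_pos (hgid j hj)]; exact hx _ _
  choose L hL using fun j => hσ (g j)
  have hw : ∀ i < T.d, ((T.word i).map g).prod = 1 := fun i hi => hρ (Equiv.ext fun p => Fin.ext (by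
    rw [acts_word (P := fun j => E.P (K.gid.getD j 0)) (fun j hj => hg j ((hwords i hi).1 j hj)),
      Nat.eq_of_beq_eq_true (allBelow_eq_true (hwords i hi).2 p p.isLt), map_one]
    rfl))
  obtain ⟨⟨hN, hp0⟩, -, hfacts⟩ := Tab.facts hok hc hL hw
  have helt : ∀ t < T.N, K.el t < 2 ^ (8 * E.m) ∧ K.srt (K.rank t) = t ∧ K.rank t < T.N ∧
      Acts ρ (T.elt g t) (K.el t) := fun t ht => by
    have h := List.all_eq_true.1 hel t (List.mem_range.2 ht)
    simp only [Link.elAt, Bool.and_eq_true, decide_eq_true_eq, Nat.beq_eq, Nat.blt_eq] at h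
    refine ⟨h.1.1.1, h.1.1.2, h.1.2, fun p => ?_⟩
    have e := allBelow_eq_true h.2 p p.isLt
    rw [Nat.beq_eq] at e
    rw [e, Tab.elt, acts_word (P := fun j => E.P (K.gid.getD j 0))
      fun j hj => hg j ((hfacts t ht).1 j hj)]
  have hlt : ∀ b a, a < b → b < T.N → K.el (K.srt a) < K.el (K.srt b) := by
    intro b
    induction b with
    | zero => intro a ha; omega
    | succ b ih =>
      intro a ha hb
      have h := hmono b (by omega)
      rw [Nat.blt_eq] at h
      rcases Nat.lt_or_ge a b with hab | hab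
      · exact lt_trans (ih a hab (by omega)) h
      · rwa [show a = b by omega]
  have hinj : ∀ a < T.N, ∀ b < T.N, T.elt g a = T.elt g b → a = b := by
    intro a ha b hb e
    obtain ⟨la, sa, ra, aa⟩ := helt a ha
    obtain ⟨lb, sb, rb, ab⟩ := helt b hb
    rw [e] at aa
    have := eq_of_ap la lb fun p hp => (aa ⟨p, hp⟩).symm.trans (ab ⟨p, hp⟩)
    rcases Nat.lt_trichotomy (K.rank a) (K.rank b) with h | h | h
    · have h2 := hlt _ _ h rb; rw [sa, sb] at h2; omega
    · rw [← sa, h, sb]
    · have h2 := hlt _ _ h ra; rw [sa, sb] at h2; omega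
  set U : Subgroup G := Subgroup.closure {e | ∃ j < T.k, e = g j}
  have hU := Tab.closure_eq hok hσ hc hw
  refine ⟨U, ?_, Tab.exists_bound hok C hC σ hσ hc g hw
    (fun t ht e => hinj t ht 0 hN (by rw [e, Tab.elt, hp0]; rfl)) ?_ U hU⟩
  · have hmem : ∀ t < T.N, T.elt g t ∈ U := fun t ht => list_prod_mem fun y hy => by
      obtain ⟨j, hj, rfl⟩ := List.mem_map.1 hy
      exact Subgroup.subset_closure ⟨j, (hfacts t ht).1 j hj, rfl⟩
    have hcardU : Nat.card U = T.N := by
      rw [← Nat.card_fin T.N]
      refine (Nat.card_eq_of_bijective (fun t : Fin T.N => (⟨_, hmem t t.2⟩ : U)) ⟨?_, ?_⟩).symm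
      · intro a b e
        exact Fin.ext (hinj _ a.2 _ b.2 (congrArg Subtype.val e))
      · rintro ⟨y, hy⟩
        obtain ⟨t, ht, rfl⟩ := hU y hy
        exact ⟨⟨t, ht⟩, rfl⟩
    have h := U.card_mul_index
    rw [hcardU, ← hcard] at h
    rw [Nat.eq_of_mul_eq_mul_left hN h]
    exact hM
  · intro a b a' b' hm
    obtain ⟨l, hl, he⟩ := List.getElem_of_mem hm
    have h := List.all_eq_true.1 hconj l (List.mem_range.2 hl)
    rw [List.getD_eq_getElem?_getD, List.getElem?_eq_getElem hl, Option.getD_some, he] at h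
    simp only [Bool.and_eq_true, decide_eq_true_eq] at h
    obtain ⟨⟨⟨⟨⟨hh, ha⟩, hb⟩, ha'⟩, hb'⟩, hall⟩ := h
    refine ⟨x _ hh, ?_, ?_⟩ <;> refine hρ (Equiv.ext fun p => Fin.ext ?_)
    · have e := (allBelow_eq_true hall p p.isLt)
      simp only [Bool.and_eq_true, Nat.beq_eq] at e
      rw [map_mul, map_mul, Equiv.Perm.mul_apply, Equiv.Perm.mul_apply, hx _ hh, (helt a ha).2.2.2,
        (helt a' ha').2.2.2, hx _ hh]
      exact e.1
    · have e := (allBelow_eq_true hall p p.isLt)
      simp only [Bool.and_eq_true, Nat.beq_eq] at e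
      rw [map_mul, map_mul, Equiv.Perm.mul_apply, Equiv.Perm.mul_apply, hx _ hh, (helt b hb).2.2.2,
        (helt b' hb').2.2.2, hx _ hh]
      exact e.2

end CfsgLib.Schur.PermTable
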