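import Cfsg.Agent.Lib.Schur.LinearTable
import Cfsg.Agent.Lib.Schur.PermTable

/-!
# Linear certificates with several generators

As in `LinearTable`, but the values left after dividing by the relations are spanned by a list of
forms, each killed by the same exponent.
-/

set_option autoImplicit false

open scoped commutatorElement IsMulCommutative

namespace CfsgLib.Schur.LinTable

/-- the lattice certificate -/
structure MultiCert where
  /-- the relations -/
  rels : List Rel
  /-- exponent of the generators -/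
  n : ℕ
  /-- number of generators -/
  r : ℕ
  /-- a denominator -/
  D : ℤ
  /-- coordinates of exponent vectors, times the denominator -/
  A : ℕ → ℕ → ℤ
  /-- the generators -/
  gen : ℕ → List ℤ
  /-- the multiples of the generators -/
  mu0 : ℕ → ℕ → ℤ
  /-- preimages of the exponent lattice -/
  P : ℕ → List ℤ
  /-- coordinates of each relator -/
  Y : ℕ → ℕ → ℤ
  /-- multiples of the generators in each relator -/
  q : ℕ → ℕ → ℤ
  /-- relations in each relator -/
  mu : ℕ → ℕ → ℤ

/-- the part of the certificate used by the checks of a link -/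
def MultiCert.base (C : MultiCert) : LatCert where
  rels := C.rels
  n := C.n
  D := C.D
  A := C.A
  gen := []
  mu0 _ := 0
  P := C.P
  Y := C.Y
  q _ := 0
  mu := C.mu

namespace Tab

variable (T : Tab)

/-- the vector of the relation with a given index -/
def relAtM (C : MultiCert) (l : ℕ) : List ℤ := T.relVec (C.rels.getD l (.pair 0 0 0 0))

/-- the lattice check -/
def multiOK (C : MultiCert) : Bool :=
  decide (C.D ≠ 0) && C.rels.all T.relChk &&
  (List.range C.r).all (fun s =>
    T.veq (vsmul C.n (C.gen s)) (comb C.rels.length (C.mu0 s) (T.relAtM C))) &&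
  (List.range T.d).all fun i =>
    T.veq (unitV i) (vadd (comb C.r (C.q i) C.gen)
      (vadd (comb T.k (C.Y i) C.P) (comb C.rels.length (C.mu i) (T.relAtM C)))) &&
    (List.range T.k).all fun c =>
      decide (sumBelow T.k (fun j => C.A c j * ((T.word i).count j : ℤ)) = C.D * C.Y i c)

variable {T} {Γ G : Type*} [Group Γ] [Group G]

/-- The derived subgroup of the preimage meets the kernel in a group spanned by few elements. -/
theorem exists_multi_bound (hok : T.ok = true) (C : MultiCert) (hC : T.multiOK C = true) (σ : Γ →* G)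
    (hσ : Function.Surjective σ) (hc : σ.ker ≤ Subgroup.center Γ) (g : ℕ → G)
    (hw : ∀ i < T.d, ((T.word i).map g).prod = 1)
    (hone : ∀ t < T.N, T.elt g t = 1 → t = 0)
    (hconj : ∀ a b a' b', Rel.pair a b a' b' ∈ C.rels → ∃ h : G,
      h * T.elt g a = T.elt g a' * h ∧ h * T.elt g b = T.elt g b' * h)
    (U : Subgroup G) (hU : ∀ x ∈ U, ∃ t < T.N, T.elt g t = x) :
    ∃ w : ℕ → Γ, (∀ s, w s ∈ σ.ker ∧ w s ^ C.n = 1) ∧
      ∀ z ∈ σ.ker, z ∈ ⁅U.comap σ, U.comap σ⁆ → z ∈ Subgroup.closure (w '' {s | s < C.r}) := by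
  choose L hL using fun j => hσ (g j)
  simp only [multiOK, Bool.and_eq_true, decide_eq_true_eq, List.all_eq_true, List.mem_range] at hC
  obtain ⟨⟨⟨hD, hrels⟩, hn⟩, hunit⟩ := hC
  have hrel : ∀ l < C.rels.length, T.val L (T.relAtM C l) = 1 := by
    intro l hl
    have hm : C.rels.getD l (.pair 0 0 0 0) ∈ C.rels := by
      rw [List.getD_eq_getElem?_getD, List.getElem?_eq_getElem hl]; exact List.getElem_mem hl
    exact rel_val hok hc hL hw hσ (hrels _ hm) fun a b a' b' e => hconj a b a' b' (e ▸ hm)
  have hcomb : ∀ μ, T.val L (comb C.rels.length μ (T.relAtM C)) = 1 := fun μ => by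
    rw [val_comb]
    exact Finset.prod_eq_one fun l hl => by rw [hrel l (Finset.mem_range.1 hl), one_zpow]
  let ω : ℕ → Subgroup.center Γ := fun s => if s < C.r then T.val L (C.gen s) else 1
  refine ⟨fun s => (ω s : Γ), fun s => ?_, ?_⟩
  · by_cases hs : s < C.r
    · simp only [ω, if_pos hs]
      refine ⟨val_mem_ker hc hL hw _, ?_⟩
      have := val_congr (L := L) (hn s hs)
      rw [val_vsmul, hcomb, zpow_natCast] at this
      rw [← SubmonoidClass.coe_pow, this, Subgroup.coe_one]
    · simp only [ω, if_neg hs, Subgroup.coe_one, one_mem, one_pow, and_self]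
  obtain ⟨⟨hN, hp0⟩, -, hel⟩ := facts hok hc hL hw
  have hl0 : T.lft L 0 = 1 := by rw [lft, hp0]; rfl
  let Has : Γ → Prop := fun x => ∃ v t, t < T.N ∧ x = (T.val L v : Γ) * T.lft L t ∧
    ∀ c < T.k, T.expv c v + ((T.path t).count c : ℤ) = 0
  let S : Subgroup Γ :=
    { carrier := {x | Has x}
      one_mem' := ⟨[], 0, hN, by rw [val_nil, hl0]; simp, fun c _ => by simp [hp0, expv_nil]⟩
      mul_mem' := by
        rintro _ _ ⟨v, t, ht, rfl, hv⟩ ⟨v', t', ht', rfl, hv'⟩
        obtain ⟨h1, h2, -, h4⟩ := lft_mul hok hc hL hw ht ht'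
        refine ⟨vadd (vadd v v') (T.wSum (T.path t) t'), _, h1, ?_, fun c hc' => ?_⟩
        · rw [val_vadd, val_vadd, Subgroup.coe_mul, Subgroup.coe_mul, mul_assoc (T.val L v : Γ),
            ← mul_assoc (T.lft L t), coe_center_comm, mul_assoc _ (T.lft L t), h2]
          simp only [mul_assoc]
        · rw [expv_vadd, expv_vadd]
          have := h4 c hc'; have := hv c hc'; have := hv' c hc'
          omega
      inv_mem' := by
        rintro _ ⟨v, t, ht, rfl, hv⟩
        obtain ⟨hi, e, x⟩ := lft_inv hok hc hL hw ht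
        refine ⟨vadd (vsmul (-1) v) (vsmul (-1) (T.wSum (T.path (T.invOf t)) t)), _, hi, ?_,
          fun c hc' => ?_⟩
        · rw [mul_inv_rev, ← InvMemClass.coe_inv, coe_center_comm, e, ← zpow_neg_one (T.val L v),
            ← val_vsmul, val_vadd, Subgroup.coe_mul, mul_assoc]
        · rw [expv_vadd, expv_vsmul c (-1) v]
          have := x c hc'; have := hv c hc'
          omega }
  have hder : ⁅U.comap σ, U.comap σ⁆ ≤ S := by
    rw [Subgroup.commutator_le]
    intro a ha b hb
    obtain ⟨ta, hta, ea⟩ := hU _ ha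
    obtain ⟨tb, htb, eb⟩ := hU _ hb
    have hcong : ∀ {x : Γ} {t : ℕ}, T.elt g t = σ x → ∃ z ∈ Subgroup.center Γ, x = z * T.lft L t := by
      intro x t e
      refine ⟨x * (T.lft L t)⁻¹, hc ?_, by group⟩
      rw [MonoidHom.mem_ker, map_mul, map_inv, map_lft hL, e, mul_inv_cancel]
    obtain ⟨za, hza, rfl⟩ := hcong ea
    obtain ⟨zb, hzb, rfl⟩ := hcong eb
    obtain ⟨h1, e1, -, x1⟩ := lft_mul hok hc hL hw hta htb
    obtain ⟨h2, e2, -, x2⟩ := lft_mul hok hc hL hw htb hta
    obtain ⟨hi, e3, x3⟩ := lft_inv hok hc hL hw h2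
    obtain ⟨h4, e4, -, x4⟩ := lft_mul hok hc hL hw h1 hi
    rw [commutator_center hza hzb, show ⁅T.lft L ta, T.lft L tb⁆ =
      T.lft L ta * T.lft L tb * (T.lft L tb * T.lft L ta)⁻¹ by rw [commutatorElement_def]; group]
    set ab := T.wEnd (T.path ta) tb
    set ba := T.wEnd (T.path tb) ta
    set i := T.invOf ba
    refine ⟨vadd (vadd (T.wSum (T.path ta) tb) (vsmul (-1) (T.wSum (T.path tb) ta)))
      (vadd (vsmul (-1) (T.wSum (T.path i) ba)) (T.wSum (T.path ab) i)), _, h4, ?_, fun c hc' => ?_⟩
    · have hinv : (T.lft L tb * T.lft L ta)⁻¹ = ((T.val L (vsmul (-1) (T.wSum (T.path tb) ta)) *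
          T.val L (vsmul (-1) (T.wSum (T.path i) ba)) : Subgroup.center Γ) : Γ) * T.lft L i := by
        rw [e2, mul_inv_rev, ← InvMemClass.coe_inv, coe_center_comm, e3, ← zpow_neg_one (T.val L (T.wSum (T.path tb) ta)),
          ← val_vsmul, ← mul_assoc, ← Subgroup.coe_mul]
      rw [e1, hinv, mul_assoc, ← mul_assoc (T.lft L ab), coe_center_comm, mul_assoc _ (T.lft L ab),
        e4, ← mul_assoc, ← mul_assoc, ← Subgroup.coe_mul, ← Subgroup.coe_mul]
      simp only [val_vadd, mul_assoc]
    · simp only [expv_vadd]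
      have := x1 c hc'; have := x2 c hc'; have := x3 c hc'; have := x4 c hc'
      simp only [expv_vsmul] at *
      omega
  intro z hz hzd
  obtain ⟨v, t, ht, rfl, hv⟩ := hder hzd
  have ht0 : t = 0 := by
    refine hone t ht ?_
    rw [MonoidHom.mem_ker, map_mul, MonoidHom.mem_ker.1 (val_mem_ker hc hL hw _), one_mul,
      map_lft hL] at hz
    exact hz
  subst ht0
  rw [hl0, mul_one]
  have hv0 : ∀ c < T.k, T.expv c v = 0 := fun c hc' => by simpa [hp0] using hv c hc'
  have hy : ∀ c < T.k, ∑ i ∈ Finset.range T.d, v.getD i 0 * C.Y i c = 0 := by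
    intro c hc'
    refine (mul_eq_zero.1 ?_).resolve_left hD
    calc C.D * ∑ i ∈ Finset.range T.d, v.getD i 0 * C.Y i c
        = ∑ i ∈ Finset.range T.d, ∑ j ∈ Finset.range T.k,
            C.A c j * (v.getD i 0 * ((T.word i).count j : ℤ)) := by
          rw [Finset.mul_sum]
          refine Finset.sum_congr rfl fun i hi => ?_
          rw [mul_left_comm, ← ((hunit i (Finset.mem_range.1 hi)).2 c hc'), sumBelow_eq, Finset.mul_sum]
          exact Finset.sum_congr rfl fun j _ => by ring
      _ = 0 := by
          rw [Finset.sum_comm]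
          refine Finset.sum_eq_zero fun j hj => ?_
          have := hv0 j (Finset.mem_range.1 hj)
          rw [expv, sumBelow_eq] at this
          rw [← Finset.mul_sum, this, mul_zero]
  have : T.val L v = ∏ s ∈ Finset.range C.r, ω s ^ ∑ i ∈ Finset.range T.d, v.getD i 0 * C.q i s := by
    calc T.val L v = ∏ i ∈ Finset.range T.d,
          ((∏ s ∈ Finset.range C.r, ω s ^ (v.getD i 0 * C.q i s)) *
            ∏ c ∈ Finset.range T.k, T.val L (C.P c) ^ (v.getD i 0 * C.Y i c)) := by
          refine Finset.prod_congr rfl fun i hi => ?_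
          have hid := Finset.mem_range.1 hi
          have e := val_congr (L := L) (hunit i hid).1
          rw [val_unitV hid, val_vadd, val_vadd, hcomb, mul_one, val_comb, val_comb] at e
          rw [e, mul_zpow, ← Finset.prod_zpow, ← Finset.prod_zpow]
          congr 1
          · exact Finset.prod_congr rfl fun s hs => by
              simp only [ω, if_pos (Finset.mem_range.1 hs)]
              rw [← zpow_mul, mul_comm (C.q i s)]
          · exact Finset.prod_congr rfl fun c _ => by rw [← zpow_mul, mul_comm (C.Y i c)]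
      _ = ∏ s ∈ Finset.range C.r, ω s ^ ∑ i ∈ Finset.range T.d, v.getD i 0 * C.q i s := by
          rw [Finset.prod_mul_distrib, Finset.prod_comm]
          conv_lhs => arg 2; rw [Finset.prod_comm]
          rw [Finset.prod_eq_one (s := Finset.range T.k) (fun c hc' => ?_), mul_one]
          · exact Finset.prod_congr rfl fun s _ => prod_zpow_sum _ _ _
          · rw [prod_zpow_sum, hy c (Finset.mem_range.1 hc'), zpow_zero]
  rw [this]
  have hsp : ∀ s ∈ Finset.range C.r, ω s ^ (∑ i ∈ Finset.range T.d, v.getD i 0 * C.q i s) ∈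
      (Subgroup.closure ((fun s => (ω s : Γ)) '' {s | s < C.r})).comap (Subgroup.center Γ).subtype :=
    fun s hs => zpow_mem (show (ω s : Γ) ∈ Subgroup.closure ((fun s => (ω s : Γ)) '' {s | s < C.r}) from
      Subgroup.subset_closure (Set.mem_image_of_mem _ (Finset.mem_range.1 hs))) _
  exact Subgroup.prod_mem _ hsp

end Tab

end CfsgLib.Schur.LinTable
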