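import Cfsg.Agent.Lib.Schur.CyclicExtension
import Cfsg.Agent.Lib.Schur.CyclicBound

/-!
The Schur multiplier of a metacyclic group.
-/

set_option autoImplicit false

open scoped commutatorElement

namespace CfsgLib.Schur.Metacyclic

open CyclicExtension

/-! ### Arithmetic -/

/-- The numbers of the statement split over the greatest common divisor. -/
structure Num (m n e l : ℕ) where
  d : ℕ
  m' : ℕ
  e' : ℕ
  s : ℕ
  g : ℕ
  dpos : 0 < d
  hm : m = d * m'
  he : e = d * e'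
  cop : m'.Coprime e'
  hS : (∑ i ∈ Finset.range n, (e + 1) ^ i) = m' * s
  hg : g = Nat.gcd l (Nat.gcd d s)

theorem exists_num {m n e : ℕ} (l : ℕ) (hm : 0 < m) (hrn : (e + 1) ^ n ≡ 1 [MOD m]) :
    ∃ N : Num m n e l, N.d = Nat.gcd m e ∧
      m * l / Nat.gcd m e = N.m' * l ∧
      Nat.gcd m e * Nat.gcd m (∑ i ∈ Finset.range n, (e + 1) ^ i) / m = Nat.gcd N.d N.s := by
  obtain ⟨m', e', hco, h1, h2⟩ := Nat.exists_coprime m e
  set d := Nat.gcd m e with hd
  have hd0 : 0 < d := Nat.gcd_pos_of_pos_left _ hm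
  set S := ∑ i ∈ Finset.range n, (e + 1) ^ i with hS
  have hgeo : e * S + 1 = (e + 1) ^ n := by
    rw [hS]
    clear_value d
    clear hS hrn
    induction n with
    | zero => simp
    | succ n ih => rw [Finset.sum_range_succ, pow_succ (e + 1) n, ← ih]; ring
  have hdvd : m ∣ e * S := by
    have h := (Nat.modEq_iff_dvd' (Nat.one_le_pow _ _ (by omega))).1 hrn.symm
    rwa [← hgeo, Nat.add_sub_cancel] at h
  have hm'S : m' ∣ S := by
    obtain ⟨k, hk⟩ := hdvd
    refine hco.dvd_of_dvd_mul_left ⟨k, Nat.eq_of_mul_eq_mul_left hd0 ?_⟩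
    calc d * (e' * S) = (e' * d) * S := by ring
      _ = e * S := by rw [← h2]
      _ = m * k := hk
      _ = (m' * d) * k := by rw [← h1]
      _ = d * (m' * k) := by ring
  obtain ⟨s, hs⟩ := hm'S
  refine ⟨⟨d, m', e', s, _, hd0, by rw [h1, mul_comm], by rw [h2, mul_comm], hco, hs, rfl⟩, rfl,
    ?_, ?_⟩
  · show m * l / d = m' * l
    conv_lhs => rw [h1]
    rw [show m' * d * l = d * (m' * l) by ring, Nat.mul_div_cancel_left _ hd0]
  · show d * Nat.gcd m S / m = Nat.gcd d s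
    conv_lhs => rw [h1, hs]
    have hm' : 0 < m' := by rcases Nat.eq_zero_or_pos m' with h | h; · simp [h] at h1; omega
                            · exact h
    rw [Nat.gcd_mul_left, show d * (m' * Nat.gcd d s) = (m' * d) * Nat.gcd d s by ring,
      Nat.mul_div_cancel_left _ (Nat.mul_pos hm' hd0)]

variable {m n e l : ℕ} (N : Num m n e l)

theorem Num.g_dvd_d : N.g ∣ N.d := N.hg ▸ (Nat.gcd_dvd_right _ _).trans (Nat.gcd_dvd_left _ _)

theorem Num.g_pos : 0 < N.g := Nat.pos_of_dvd_of_pos N.g_dvd_d N.dpos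

theorem Num.dvd_m : N.m' * N.g ∣ m := by
  conv_rhs => rw [N.hm, mul_comm]
  exact Nat.mul_dvd_mul_left _ N.g_dvd_d

theorem Num.dvd_t : N.m' * N.g ∣ N.m' * l :=
  Nat.mul_dvd_mul_left _ (N.hg ▸ Nat.gcd_dvd_left _ _)

theorem Num.dvd_S : N.m' * N.g ∣ ∑ i ∈ Finset.range n, (e + 1) ^ i := by
  rw [N.hS]
  exact Nat.mul_dvd_mul_left _ (N.hg ▸ (Nat.gcd_dvd_right _ _).trans (Nat.gcd_dvd_right _ _))

theorem Num.e_mul : e * N.m' = m * N.e' :=
  calc e * N.m' = (N.d * N.e') * N.m' := congrArg (· * N.m') N.he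
    _ = (N.d * N.m') * N.e' := by ring
    _ = m * N.e' := (congrArg (· * N.e') N.hm).symm

theorem Num.m'_pos (hm : 0 < m) : 0 < N.m' :=
  Nat.pos_of_mul_pos_left (by rw [← N.hm]; exact hm)

/-! ### The upper bound -/

/-- A stem extension of a group generated by `a, b` with the metacyclic relations has kernel in the
group generated by the power of the commutator of lifts. -/
theorem stem_bound {G Γ : Type} [Group G] [Group Γ] [Finite Γ] {a b : G}
    (hab : Subgroup.closure ({a, b} : Set G) = ⊤) (ham : orderOf a = m)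
    (hb : b * a * b⁻¹ = a ^ (e + 1)) (hbn : b ^ n = a ^ (N.m' * l))
    (σ : Γ →* G) (hσ : Cfsg.IsStemExtension σ) :
    ∃ π : Multiplicative (ZMod N.g) →* σ.ker, Function.Surjective π := by
  haveI : NeZero N.g := ⟨N.g_pos.ne'⟩
  obtain ⟨hsurj, hcen, hcom⟩ := hσ
  obtain ⟨A, rfl⟩ := hsurj a
  obtain ⟨B, rfl⟩ := hsurj b
  have hc : ∀ z ∈ σ.ker, ∀ x, Commute x z := fun z hz x => Subgroup.mem_center_iff.1 (hcen hz) x
  set z := (A ^ (e + 1))⁻¹ * (B * A * B⁻¹) with hzdef
  have hzk : z ∈ σ.ker := by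
    rw [MonoidHom.mem_ker, hzdef, map_mul, map_inv, map_pow, map_mul, map_mul, map_inv, hb,
      inv_mul_cancel]
  have hz := hc z hzk
  have hBA : B * A * B⁻¹ = A ^ (e + 1) * z := by rw [hzdef, mul_inv_cancel_left]
  set c := A ^ e * z with hcdef
  have hBA' : B * A * B⁻¹ = A * c := by rw [hBA, hcdef, pow_succ', mul_assoc]
  have hAc : Commute A c := (Commute.self_pow A e).mul_right (hz A)
  have hpow : ∀ k : ℕ, B * A ^ k * B⁻¹ = A ^ k * c ^ k := fun k => by
    rw [← conj_pow, hBA', hAc.mul_pow]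
  have hfix : ∀ k : ℕ, B * A ^ k * B⁻¹ = A ^ k → c ^ k = 1 := fun k hk => by
    rw [hpow] at hk; exact mul_eq_left.1 hk
  -- the three exponents
  have hcm : c ^ m = 1 := hfix m (by
    have h : A ^ m ∈ σ.ker := by rw [MonoidHom.mem_ker, map_pow, ← ham, pow_orderOf_eq_one]
    rw [(hc _ h B).eq, mul_inv_cancel_right])
  have hw : (A ^ (N.m' * l))⁻¹ * B ^ n ∈ σ.ker := by
    rw [MonoidHom.mem_ker, map_mul, map_inv, map_pow, map_pow, hbn, inv_mul_cancel]
  set w := (A ^ (N.m' * l))⁻¹ * B ^ n with hwdef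
  have hBn : B ^ n = A ^ (N.m' * l) * w := by rw [hwdef, mul_inv_cancel_left]
  have hct : c ^ (N.m' * l) = 1 := hfix _ (by
    have h : Commute B (A ^ (N.m' * l)) := by
      have h1 : Commute B (B ^ n * w⁻¹) := (Commute.self_pow B n).mul_right (hc w hw B).inv_right
      rwa [hBn, mul_inv_cancel_right] at h1
    rw [h.eq, mul_inv_cancel_right])
  have hBc : B * c * B⁻¹ = c ^ (e + 1) := by
    calc B * c * B⁻¹ = (B * A ^ e * B⁻¹) * (B * z * B⁻¹) := by rw [hcdef]; group
      _ = A ^ e * c ^ e * z := by rw [hpow, (hz B).eq, mul_inv_cancel_right]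
      _ = c * c ^ e := by rw [mul_assoc, (hz (c ^ e)).eq, ← mul_assoc]
      _ = _ := (pow_succ' c e).symm
  have hiter : ∀ k : ℕ, B ^ k * A * (B ^ k)⁻¹ = A * c ^ (∑ i ∈ Finset.range k, (e + 1) ^ i) := by
    intro k
    induction k with
    | zero => simp
    | succ k ih =>
      calc B ^ (k + 1) * A * (B ^ (k + 1))⁻¹ = B * (B ^ k * A * (B ^ k)⁻¹) * B⁻¹ := by
            rw [pow_succ']; group
        _ = (B * A * B⁻¹) * (B * c ^ (∑ i ∈ Finset.range k, (e + 1) ^ i) * B⁻¹) := by rw [ih]; group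
        _ = A * c * c ^ ((e + 1) * ∑ i ∈ Finset.range k, (e + 1) ^ i) := by
            rw [hBA', ← conj_pow, hBc, ← pow_mul]
        _ = _ := by
            rw [mul_assoc, ← pow_succ', geom_sum_succ]
  have hcS : c ^ (∑ i ∈ Finset.range n, (e + 1) ^ i) = 1 := by
    have h := hiter n
    have h1 : Commute (B ^ n) A := by
      rw [hBn]
      exact ((Commute.self_pow A _).symm).mul_left (hc w hw A).symm
    rw [h1.eq, mul_inv_cancel_right] at h
    exact mul_eq_left.1 h.symm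
  have hK : c ^ (N.m' * N.g) = 1 := by
    have h := pow_gcd_eq_one.2 ⟨hcm, pow_gcd_eq_one.2 ⟨hct, hcS⟩⟩
    have e1 : Nat.gcd m (Nat.gcd (N.m' * l) (∑ i ∈ Finset.range n, (e + 1) ^ i)) = N.m' * N.g := by
      rw [N.hS, Nat.gcd_mul_left]
      refine (congrArg (fun M => Nat.gcd M (N.m' * Nat.gcd l N.s))
        (N.hm.trans (mul_comm _ _))).trans ?_
      rw [Nat.gcd_mul_left, N.hg]
      congr 1
      rw [← Nat.gcd_assoc, Nat.gcd_comm N.d l, Nat.gcd_assoc]
    rwa [e1] at h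
  -- the derived group
  set C := Subgroup.zpowers c with hCdef
  have hnorm : C.Normal := by
    have hgen : ∀ x ∈ Subgroup.closure ({A, B} ∪ (σ.ker : Set Γ)), x ∈ Subgroup.normalizer (C : Set Γ) := by
      intro x hx
      refine Subgroup.closure_le _ |>.2 ?_ hx
      have key : ∀ y : Γ, y * c * y⁻¹ ∈ C → y ∈ Subgroup.normalizer (C : Set Γ) := by
        intro y hy
        have hle : C.map (MulAut.conj y).toMonoidHom ≤ C := by
          rw [hCdef, MonoidHom.map_zpowers, Subgroup.zpowers_le]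
          exact hy
        have heq : C.map (MulAut.conj y).toMonoidHom = C := Subgroup.eq_of_le_of_card_ge hle
          (le_of_eq (Subgroup.card_map_of_injective (MulAut.conj y).injective).symm)
        rw [Subgroup.mem_normalizer_iff]
        intro u
        constructor
        · intro hu; rw [← heq]; exact ⟨u, hu, rfl⟩
        · intro hu
          rw [← heq] at hu
          obtain ⟨v, hv, hvu⟩ := hu
          have hvu' : y * v * y⁻¹ = y * u * y⁻¹ := hvu
          rwa [mul_left_cancel (mul_right_cancel hvu')] at hv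
      rintro y ((rfl | rfl) | hy)
      · refine key y ?_
        rw [hAc.eq, mul_inv_cancel_right]; exact Subgroup.mem_zpowers c
      · refine key y ?_
        rw [hBc]; exact pow_mem (Subgroup.mem_zpowers c) _
      · refine key y ?_
        rw [← (hc y hy c).eq, mul_inv_cancel_right]; exact Subgroup.mem_zpowers c
    have hall : ∀ x : Γ, x ∈ Subgroup.closure ({A, B} ∪ (σ.ker : Set Γ)) := by
      intro x
      have h : σ x ∈ (Subgroup.closure ({A, B} : Set Γ)).map σ := by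
        rw [MonoidHom.map_closure, Set.image_pair, hab]; trivial
      obtain ⟨y, hy, hyx⟩ := h
      rw [show x = y * (y⁻¹ * x) by group]
      refine mul_mem (Subgroup.closure_mono Set.subset_union_left hy)
        (Subgroup.subset_closure (Or.inr ?_))
      rw [SetLike.mem_coe, MonoidHom.mem_ker, map_mul, map_inv, hyx, inv_mul_cancel]
    exact Subgroup.normalizer_eq_top_iff.1 (eq_top_iff.2 fun x _ => hgen x (hall x))
  haveI := hnorm
  have hder : commutator Γ ≤ C := by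
    set π := QuotientGroup.mk' C
    have hAB : Commute (π A) (π B) := by
      show π A * π B = π B * π A
      rw [← map_mul, ← map_mul]
      refine QuotientGroup.eq.2 ?_
      have : (A * B)⁻¹ * (B * A) = B⁻¹ * c * B := by
        rw [show B * A = (B * A * B⁻¹) * B by group, hBA']; group
      rw [this]
      have := hnorm.conj_mem c (Subgroup.mem_zpowers c) B⁻¹
      rwa [inv_inv] at this
    have hcomm : ∀ x y : Γ, Commute (π x) (π y) := by
      have hset : ∀ u ∈ ({A, B} ∪ (σ.ker : Set Γ)), ∀ v ∈ ({A, B} ∪ (σ.ker : Set Γ)),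
          Commute (π u) (π v) := by
        rintro u hu v hv
        rcases hv with (rfl | rfl) | hv
        · rcases hu with (rfl | rfl) | hu
          · exact Commute.refl _
          · exact hAB.symm
          · exact ((hc u hu v).symm.map π)
        · rcases hu with (rfl | rfl) | hu
          · exact hAB
          · exact Commute.refl _
          · exact ((hc u hu v).symm.map π)
        · exact (hc v hv u).map π
      have hgen : ∀ x : Γ, x ∈ Subgroup.closure ({A, B} ∪ (σ.ker : Set Γ)) := by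
        intro x
        have h : σ x ∈ (Subgroup.closure ({A, B} : Set Γ)).map σ := by
          rw [MonoidHom.map_closure, Set.image_pair, hab]; trivial
        obtain ⟨y, hy, hyx⟩ := h
        rw [show x = y * (y⁻¹ * x) by group]
        refine mul_mem (Subgroup.closure_mono Set.subset_union_left hy)
          (Subgroup.subset_closure (Or.inr ?_))
        rw [SetLike.mem_coe, MonoidHom.mem_ker, map_mul, map_inv, hyx, inv_mul_cancel]
      intro x y
      induction hgen x using Subgroup.closure_induction with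
      | mem u hu =>
        induction hgen y using Subgroup.closure_induction with
        | mem v hv => exact hset u hu v hv
        | one => rw [map_one]; exact Commute.one_right _
        | mul p q _ _ hp hq => rw [map_mul]; exact hp.mul_right hq
        | inv p _ hp => rw [map_inv]; exact hp.inv_right
      | one => rw [map_one]; exact Commute.one_left _
      | mul p q _ _ hp hq => rw [map_mul]; exact hp.mul_left hq
      | inv p _ hp => rw [map_inv]; exact hp.inv_left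
    rw [commutator_eq_closure, Subgroup.closure_le]
    rintro _ ⟨x, y, rfl⟩
    rw [SetLike.mem_coe, ← QuotientGroup.eq_one_iff]
    show π ⁅x, y⁆ = 1
    rw [map_commutatorElement, commutatorElement_eq_one_iff_commute]
    exact hcomm x y
  have hσc : σ c = σ A ^ e := by
    rw [hcdef, map_mul, map_pow, MonoidHom.mem_ker.1 hzk, mul_one]
  refine CyclicBound.exists_surjection (g := c ^ N.m') ?_ (by rw [← pow_mul, hK]) ?_
  · rw [MonoidHom.mem_ker, map_pow, hσc, ← pow_mul, ← orderOf_dvd_iff_pow_eq_one, ham]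
    exact ⟨N.e', N.e_mul⟩
  · intro x hx
    obtain ⟨j, rfl⟩ := Subgroup.mem_zpowers_iff.1 (hder (hcom hx))
    rw [MonoidHom.mem_ker, map_zpow, hσc, ← zpow_natCast, ← zpow_mul,
      ← orderOf_dvd_iff_zpow_eq_one, ham] at hx
    have hdiv : (N.m' : ℤ) ∣ j := by
      have h1 : ((N.d : ℤ) * N.m') ∣ (N.d : ℤ) * ((N.e' : ℤ) * j) := by
        have e1 : (m : ℤ) = (N.d : ℤ) * N.m' := by exact_mod_cast N.hm
        have e2 : (e : ℤ) = (N.d : ℤ) * N.e' := by exact_mod_cast N.he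
        rwa [e1, e2, mul_assoc (N.d : ℤ) (N.e' : ℤ) j] at hx
      rw [mul_dvd_mul_iff_left (by exact_mod_cast N.dpos.ne')] at h1
      exact (Int.isCoprime_iff_nat_coprime.2 (by simpa using N.cop)).dvd_of_dvd_mul_left h1
    obtain ⟨i, rfl⟩ := hdiv
    exact Subgroup.mem_zpowers_iff.2 ⟨i, by rw [zpow_mul, zpow_natCast]⟩

/-! ### The covering group -/

/-- the relation lattice of the abelian part -/
def lat : AddSubgroup (ℤ × ℤ) :=
  AddSubgroup.closure {((N.d : ℤ), -(Int.gcdA N.e' N.m')), (0, ((N.m' * N.g : ℕ) : ℤ))}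

theorem mem_lat {v : ℤ × ℤ} : v ∈ lat N ↔ ∃ i j : ℤ,
    v.1 = i * N.d ∧ v.2 = i * -(Int.gcdA N.e' N.m') + j * ((N.m' * N.g : ℕ) : ℤ) := by
  rw [lat, AddSubgroup.mem_closure_pair]
  constructor
  · rintro ⟨i, j, rfl⟩
    exact ⟨i, j, by simp, by simp⟩
  · rintro ⟨i, j, h1, h2⟩
    exact ⟨i, j, Prod.ext (by simp [h1]) (by simp [h2])⟩

theorem bezout : (N.e' : ℤ) * Int.gcdA N.e' N.m' + (N.m' : ℤ) * Int.gcdB N.e' N.m' = 1 := by
  have h := Int.gcd_eq_gcd_ab (N.e' : ℤ) N.m'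
  have h1 : Int.gcd (N.e' : ℤ) N.m' = 1 := by
    rw [Int.gcd_natCast_natCast]; exact N.cop.symm
  rw [h1] at h
  exact_mod_cast h.symm

/-- the abelian part -/
abbrev AB : Type := (ℤ × ℤ) ⧸ lat N

/-- the twisting on pairs -/
def tw (e : ℕ) : ℤ × ℤ →+ ℤ × ℤ :=
  AddMonoidHom.mk' (fun v => (v.1, v.1 + ((e : ℤ) + 1) * v.2)) fun v w => by
    ext <;> simp; ring

theorem tw_lat (v : ℤ × ℤ) (hv : v ∈ lat N) : tw e v ∈ lat N := by
  obtain ⟨i, j, h1, h2⟩ := (mem_lat N).1 hv
  obtain ⟨q, hq⟩ := N.dvd_m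
  have hm' : (m : ℤ) = N.d * N.m' := by exact_mod_cast N.hm
  have hq' : (m : ℤ) = ((N.m' * N.g : ℕ) : ℤ) * q := by exact_mod_cast hq
  have he' : (e : ℤ) = N.d * N.e' := by exact_mod_cast N.he
  refine (mem_lat N).2 ⟨i, (e + 1 : ℤ) * j + i * Int.gcdB N.e' N.m' * q, h1, ?_⟩
  show v.1 + ((e : ℤ) + 1) * v.2 = _
  rw [h1, h2]
  linear_combination (-(i * (N.d : ℤ))) * bezout N + (-(i * Int.gcdA N.e' N.m')) * he'
    + (i * Int.gcdB N.e' N.m') * (hq' - hm')

/-- the twisting -/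
def twA : AB N →+ AB N := QuotientAddGroup.map _ _ (tw e) (tw_lat N)

theorem twA_mk (v : ℤ × ℤ) : twA N (v : AB N) = ((tw e v : ℤ × ℤ) : AB N) := rfl

theorem twA_iter_mk : ∀ (k : ℕ) (v : ℤ × ℤ), (twA N)^[k] (v : AB N) =
    (((v.1, v.1 * (∑ i ∈ Finset.range k, ((e + 1) ^ i : ℕ) : ℕ) + ((e + 1) ^ k : ℕ) * v.2)
      : ℤ × ℤ) : AB N) := by
  intro k
  induction k with
  | zero => intro v; simp
  | succ k ih =>
    intro v
    rw [Function.iterate_succ_apply, twA_mk, ih]
    congr 1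
    refine Prod.ext rfl ?_
    show v.1 * _ + _ * (v.1 + ((e : ℤ) + 1) * v.2) = _
    rw [Finset.sum_range_succ]
    push_cast
    ring

theorem twA_iter (hn : (e + 1) ^ n ≡ 1 [MOD m]) (x : AB N) : (twA N)^[n] x = x := by
  obtain ⟨v, rfl⟩ := QuotientAddGroup.mk_surjective x
  rw [twA_iter_mk, QuotientAddGroup.eq]
  obtain ⟨p, hp⟩ := N.dvd_S
  have h1 : N.m' * N.g ∣ (e + 1) ^ n - 1 :=
    N.dvd_m.trans ((Nat.modEq_iff_dvd' (Nat.one_le_pow _ _ (by omega))).1 hn.symm)
  obtain ⟨q, hq⟩ := h1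
  have hq' : (e + 1) ^ n = N.m' * N.g * q + 1 := by
    have := Nat.one_le_pow n (e + 1) (by omega)
    omega
  refine (mem_lat N).2 ⟨0, -(v.1 * p + q * v.2), by simp, ?_⟩
  show -(v.1 * _ + _ * v.2) + v.2 = _
  rw [hp, hq']
  push_cast
  ring

/-- the twisting as an automorphism -/
noncomputable def twE (hn : (e + 1) ^ n ≡ 1 [MOD m]) (h0 : 0 < n) : AB N ≃+ AB N :=
  AddEquiv.ofBijective (twA N) (by
    obtain ⟨k, rfl⟩ : ∃ k, n = k + 1 := ⟨n - 1, by omega⟩
    refine ⟨fun x y h => ?_, fun x => ⟨(twA N)^[k] x, ?_⟩⟩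
    · rw [← twA_iter N hn x, ← twA_iter N hn y, Function.iterate_succ_apply,
        Function.iterate_succ_apply, h]
    · rw [← Function.iterate_succ_apply' (twA N)]; exact twA_iter N hn x)

theorem twE_apply (hn : (e + 1) ^ n ≡ 1 [MOD m]) (h0 : 0 < n) (x : AB N) :
    twE N hn h0 x = twA N x := rfl

/-- the fixed element -/
def wA : AB N := (((((N.m' * l : ℕ) : ℤ)), (0 : ℤ)) : ℤ × ℤ)

theorem okA (hn : (e + 1) ^ n ≡ 1 [MOD m]) (h0 : 0 < n) : Ok (twE N hn h0) n (wA N) := by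
  refine ⟨h0, fun v => ?_, ?_⟩
  · exact twA_iter N hn v
  · rw [twE_apply, wA, twA_mk, QuotientAddGroup.eq]
    obtain ⟨p, hp⟩ := N.dvd_t
    refine (mem_lat N).2 ⟨0, -(p : ℤ), by simp [tw], ?_⟩
    show -(((N.m' * l : ℕ) : ℤ) + ((e : ℤ) + 1) * 0) + 0 = _
    rw [hp]
    push_cast
    ring

/-- the map to exponents of `a` -/
def toM : AB N →+ ZMod m :=
  QuotientAddGroup.lift (lat N)
    (AddMonoidHom.mk' (fun v : ℤ × ℤ => ((v.1 + (e : ℤ) * v.2 : ℤ) : ZMod m)) fun v w => by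
      simp; ring) (by
    intro v hv
    obtain ⟨i, j, h1, h2⟩ := (mem_lat N).1 hv
    rw [AddMonoidHom.mem_ker]
    show ((v.1 + (e : ℤ) * v.2 : ℤ) : ZMod m) = 0
    rw [ZMod.intCast_zmod_eq_zero_iff_dvd, h1, h2]
    have hm' : (m : ℤ) = N.d * N.m' := by exact_mod_cast N.hm
    have he' : (e : ℤ) = N.d * N.e' := by exact_mod_cast N.he
    refine ⟨i * Int.gcdB N.e' N.m' + j * N.e' * N.g, ?_⟩
    rw [hm', he']
    push_cast
    linear_combination (-(i * (N.d : ℤ))) * bezout N)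

theorem toM_mk (v : ℤ × ℤ) : toM N (v : AB N) = ((v.1 + (e : ℤ) * v.2 : ℤ) : ZMod m) := rfl

theorem toM_tw (x : AB N) : toM N (twA N x) = ((e + 1 : ℕ) : ZMod m) * toM N x := by
  obtain ⟨v, rfl⟩ := QuotientAddGroup.mk_surjective x
  rw [twA_mk, toM_mk, toM_mk]
  show ((v.1 + (e : ℤ) * (v.1 + ((e : ℤ) + 1) * v.2) : ℤ) : ZMod m) = _
  push_cast
  ring

theorem eq_comm_of_toM {x : AB N} (hx : toM N x = 0) :
    ∃ j : ℤ, x = (((0 : ℤ), (N.m' : ℤ) * j) : ℤ × ℤ) := by
  obtain ⟨v, rfl⟩ := QuotientAddGroup.mk_surjective x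
  rw [toM_mk, ZMod.intCast_zmod_eq_zero_iff_dvd] at hx
  obtain ⟨k, hk⟩ := hx
  have hm' : (m : ℤ) = N.d * N.m' := by exact_mod_cast N.hm
  have he' : (e : ℤ) = N.d * N.e' := by exact_mod_cast N.he
  set i := (N.m' : ℤ) * k - N.e' * v.2 with hi
  have hv1 : v.1 = i * N.d := by
    rw [hm', he'] at hk; rw [hi]; linear_combination hk
  refine ⟨Int.gcdB N.e' N.m' * v.2 + Int.gcdA N.e' N.m' * k, ?_⟩
  rw [QuotientAddGroup.eq]
  refine (mem_lat N).2 ⟨-i, 0, ?_, ?_⟩
  · show -v.1 + 0 = _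
    rw [hv1]; ring
  · show -v.2 + _ = _
    rw [hi]
    linear_combination (v.2) * bezout N

theorem comm_eq_zero_iff {j : ℤ} :
    (((((0 : ℤ), (N.m' : ℤ) * j) : ℤ × ℤ)) : AB N) = 0 ↔ m = 0 ∨ (N.g : ℤ) ∣ j := by
  rw [QuotientAddGroup.eq_zero_iff, mem_lat]
  constructor
  · rintro ⟨i, k, h1, h2⟩
    rcases Nat.eq_zero_or_pos m with h | hm
    · exact Or.inl h
    right
    have hi : i = 0 := by
      rcases mul_eq_zero.1 h1.symm with h | h
      · exact h
      · exact absurd (by exact_mod_cast h) N.dpos.ne'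
    subst hi
    refine ⟨k, mul_left_cancel₀ (show (N.m' : ℤ) ≠ 0 by exact_mod_cast (N.m'_pos hm).ne') ?_⟩
    simp only [zero_mul, zero_add, Nat.cast_mul] at h2
    linear_combination h2
  · rintro (hm | ⟨k, rfl⟩)
    · have : N.m' = 0 := by
        rcases Nat.mul_eq_zero.1 (N.hm.symm.trans hm) with h | h
        · exact absurd h N.dpos.ne'
        · exact h
      exact ⟨0, 0, by simp, by simp [this]⟩
    · exact ⟨0, k, by simp, by push_cast; ring⟩

theorem finite_AB (hm : 0 < m) : Finite (AB N) := by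
  have hK : 0 < N.m' * N.g := Nat.mul_pos (N.m'_pos hm) N.g_pos
  haveI : NeZero N.d := ⟨N.dpos.ne'⟩
  haveI : NeZero (N.m' * N.g) := ⟨hK.ne'⟩
  refine Finite.of_surjective (fun p : ZMod N.d × ZMod (N.m' * N.g) =>
    ((((p.1.val : ℤ), (p.2.val : ℤ)) : ℤ × ℤ) : AB N)) fun x => ?_
  obtain ⟨v, rfl⟩ := QuotientAddGroup.mk_surjective x
  set u := v.2 + (v.1 / (N.d : ℤ)) * Int.gcdA N.e' N.m' with hu
  refine ⟨(((v.1 : ℤ) : ZMod N.d), (u : ZMod (N.m' * N.g))), ?_⟩
  rw [QuotientAddGroup.eq]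
  refine (mem_lat N).2 ⟨v.1 / (N.d : ℤ), u / ((N.m' * N.g : ℕ) : ℤ), ?_, ?_⟩
  · show -((((v.1 : ℤ) : ZMod N.d)).val : ℤ) + v.1 = _
    rw [ZMod.val_intCast, Int.emod_def]; ring
  · show -(((u : ZMod (N.m' * N.g))).val : ℤ) + v.2 = _
    rw [ZMod.val_intCast, Int.emod_def, hu]; ring

theorem twM_iter (hn : (e + 1) ^ n ≡ 1 [MOD m]) :
    ((e + 1 : ℕ) : ZMod m) ^ n = 1 := by
  rw [← Nat.cast_pow]
  exact (ZMod.natCast_eq_natCast_iff _ 1 _).2 hn |>.trans Nat.cast_one

/-- multiplication by `e + 1` on the exponents -/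
noncomputable def twM (hn : (e + 1) ^ n ≡ 1 [MOD m]) (h0 : 0 < n) : ZMod m ≃+ ZMod m :=
  AddEquiv.ofBijective (AddMonoidHom.mulLeft ((e + 1 : ℕ) : ZMod m)) (by
    have hu : IsUnit ((e + 1 : ℕ) : ZMod m) := IsUnit.of_pow_eq_one (twM_iter (m := m) hn) h0.ne'
    exact ⟨fun x y h => hu.mul_left_cancel h, fun x => ⟨hu.unit⁻¹ * x, by
      show ((e + 1 : ℕ) : ZMod m) * _ = x
      rw [← mul_assoc, IsUnit.mul_val_inv, one_mul]⟩⟩)

theorem twM_apply (hn : (e + 1) ^ n ≡ 1 [MOD m]) (h0 : 0 < n) (x : ZMod m) :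
    twM hn h0 x = ((e + 1 : ℕ) : ZMod m) * x := rfl

theorem okM (hn : (e + 1) ^ n ≡ 1 [MOD m]) (h0 : 0 < n) :
    Ok (twM (m := m) hn h0) n ((N.m' * l : ℕ) : ZMod m) := by
  refine ⟨h0, fun v => ?_, ?_⟩
  · have : ∀ k : ℕ, (twM (m := m) hn h0)^[k] v = ((e + 1 : ℕ) : ZMod m) ^ k * v := by
      intro k
      induction k with
      | zero => simp
      | succ k ih => rw [Function.iterate_succ_apply', ih, twM_apply, pow_succ', mul_assoc]
    rw [this, twM_iter hn, one_mul]
  · rw [twM_apply, ← Nat.cast_mul, ZMod.natCast_eq_natCast_iff]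
    have hd : m ∣ e * (N.m' * l) := ⟨N.e' * l, by rw [← mul_assoc, N.e_mul, mul_assoc]⟩
    have h2 : (e + 1) * (N.m' * l) = e * (N.m' * l) + N.m' * l := by ring
    rw [h2]
    exact (Nat.modEq_zero_iff_dvd.2 hd).add_right _ |>.trans (by rw [zero_add])

/-- The relations of the metacyclic group. -/
def rels (m n e t : ℕ) : Set (FreeGroup Bool) :=
  {FreeGroup.of true ^ m, (FreeGroup.of false) ^ n * (FreeGroup.of true ^ t)⁻¹,
    FreeGroup.of false * FreeGroup.of true * (FreeGroup.of false)⁻¹ * (FreeGroup.of true ^ (e + 1))⁻¹}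

theorem main (hm : 0 < m) (h0 : 0 < n) (hn : (e + 1) ^ n ≡ 1 [MOD m]) :
    Cfsg.HasCyclicSchurMultiplier (PresentedGroup (rels m n e (N.m' * l))) N.g := by
  haveI : NeZero N.g := ⟨N.g_pos.ne'⟩
  haveI : NeZero m := ⟨hm.ne'⟩
  set R := rels m n e (N.m' * l)
  let pa : PresentedGroup R := PresentedGroup.of true
  let pb : PresentedGroup R := PresentedGroup.of false
  have ra : pa ^ m = 1 := PresentedGroup.one_of_mem (Or.inl rfl)
  have rb : pb ^ n = pa ^ (N.m' * l) := mul_inv_eq_one.1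
    (PresentedGroup.one_of_mem (rels := R) (Or.inr (Or.inl rfl)))
  have rc : pb * pa * pb⁻¹ = pa ^ (e + 1) := mul_inv_eq_one.1
    (PresentedGroup.one_of_mem (rels := R) (Or.inr (Or.inr rfl)))
  -- the faithful model
  have okQ := okM N hn h0
  set Q := CExt okQ
  let f : Bool → Q := fun x => if x then el okQ 1 0 else el okQ 0 1
  have hfa : ∀ k : ℕ, (el okQ 1 0) ^ k = el okQ (k : ZMod m) 0 := fun k => by
    rw [← inl_eq, ← map_pow, ← ofAdd_nsmul, inl_eq, nsmul_one]
  have hfb : ∀ k : ℕ, (el okQ 0 1) ^ k = el okQ 0 k := fun k => by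
    rw [el, ← QuotientGroup.mk_pow, nat_shift]; rfl
  have hshift : ∀ v, el okQ 0 1 * el okQ v 0 =
      el okQ (((e + 1 : ℕ) : ZMod m) * v) 0 * el okQ 0 1 := fun v =>
    congrArg QuotientGroup.mk (one_shift _ v)
  have hR : ∀ r ∈ R, FreeGroup.lift f r = 1 := by
    rintro r (rfl | rfl | rfl)
    · rw [map_pow, FreeGroup.lift_apply_of]
      show (el okQ 1 0) ^ m = 1
      rw [hfa, ZMod.natCast_self]; rfl
    · rw [map_mul, map_inv, map_pow, map_pow, FreeGroup.lift_apply_of, FreeGroup.lift_apply_of]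
      show (el okQ 0 1) ^ n * ((el okQ 1 0) ^ (N.m' * l))⁻¹ = 1
      rw [mul_inv_eq_one, hfa, hfb, ← mul_inv_eq_one, el, el, ← QuotientGroup.mk_inv,
        ← QuotientGroup.mk_mul, QuotientGroup.eq_one_iff]
      refine ⟨Multiplicative.ofAdd 1, ?_⟩
      rw [eq_mul_inv_iff_mul_eq]
      show pair _ (-((1 : ℤ) • ((N.m' * l : ℕ) : ZMod m))) ((1 : ℤ) * n) * pair _ _ 0 = pair _ 0 n
      rw [pair_mul, one_mul, one_smul, zpow_natCast, okQ.mAut_pow]
      simp
    · rw [map_mul, map_mul, map_mul, map_inv, map_inv, map_pow, FreeGroup.lift_apply_of,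
        FreeGroup.lift_apply_of]
      show el okQ 0 1 * el okQ 1 0 * (el okQ 0 1)⁻¹ * ((el okQ 1 0) ^ (e + 1))⁻¹ = 1
      rw [mul_inv_eq_one, hshift, mul_inv_cancel_right, hfa, mul_one]
  let ψ : PresentedGroup R →* Q := PresentedGroup.toGroup hR
  have ψa : ψ pa = el okQ 1 0 := PresentedGroup.toGroup.of hR
  have ψb : ψ pb = el okQ 0 1 := PresentedGroup.toGroup.of hR
  have hord : orderOf pa = m := by
    refine Nat.dvd_antisymm (orderOf_dvd_of_pow_eq_one ra) ?_
    have h := orderOf_map_dvd ψ pa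
    rw [ψa, ← inl_eq, orderOf_injective _ (inl_injective okQ), orderOf_ofAdd_eq_addOrderOf,
      ZMod.addOrderOf_one] at h
    exact h
  have hgen : Subgroup.closure ({pa, pb} : Set (PresentedGroup R)) = ⊤ := by
    rw [eq_top_iff, ← PresentedGroup.closure_range_of R]
    refine Subgroup.closure_mono ?_
    rintro _ ⟨x, rfl⟩
    cases x
    · exact Or.inr rfl
    · exact Or.inl rfl
  refine ⟨?_, fun Γ _ _ σ hσ => stem_bound N hgen hord rc rb σ hσ⟩
  -- the cover
  have okC := okA N hn h0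
  haveI := finite_AB N hm
  haveI : Finite (CExt okC) := CyclicExtension.finite okC
  have hpow : ∀ x y : ZMod m, pa ^ (x + y).val = pa ^ x.val * pa ^ y.val := fun x y => by
    rw [ZMod.val_add, ← pow_add, ← pow_eq_pow_mod _ ra]
  let f1 : Multiplicative (AB N) →* PresentedGroup R :=
    MonoidHom.mk' (fun v => pa ^ (toM N v.toAdd).val) fun v w => by
      rw [toAdd_mul, map_add, hpow]
  let f2 : Multiplicative ℤ →* PresentedGroup R := zpowersHom _ pb
  have hconj : ∀ v : AB N, pb * pa ^ (toM N v).val * pb⁻¹ = pa ^ (toM N (twA N v)).val := by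
    intro v
    rw [← conj_pow, rc, ← pow_mul, toM_tw, ZMod.val_mul, ZMod.val_natCast, pow_eq_pow_mod _ ra,
      Nat.mul_mod]
    simp
  have hcompat : ∀ g, f1.comp ((zpowersHom _ (mAut (twE N hn h0)) g).toMonoidHom) =
      (MulAut.conj (f2 g)).toMonoidHom.comp f1 := by
    intro g
    obtain ⟨k, rfl⟩ := Multiplicative.ofAdd.surjective g
    refine MonoidHom.ext fun v => ?_
    show f1 ((mAut (twE N hn h0) ^ k) v) = pb ^ k * f1 v * (pb ^ k)⁻¹
    induction k using Int.induction_on generalizing v with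
    | zero => simp
    | succ i ih =>
      rw [zpow_add_one, MulAut.mul_apply, ih, zpow_add_one]
      show pb ^ (i : ℤ) * pa ^ (toM N (twA N v.toAdd)).val * (pb ^ (i : ℤ))⁻¹ = _
      rw [← hconj]
      show _ = pb ^ (i : ℤ) * pb * pa ^ (toM N v.toAdd).val * (pb ^ (i : ℤ) * pb)⁻¹
      group
    | pred i ih =>
      obtain ⟨u, rfl⟩ := (mAut (twE N hn h0)).surjective v
      rw [zpow_sub_one, MulAut.mul_apply, MulAut.inv_apply, MulEquiv.symm_apply_apply, ih,
        zpow_sub_one]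
      show _ = pb ^ (-(i : ℤ)) * pb⁻¹ * pa ^ (toM N (twA N u.toAdd)).val *
        (pb ^ (-(i : ℤ)) * pb⁻¹)⁻¹
      rw [← hconj]
      show pb ^ (-(i : ℤ)) * pa ^ (toM N u.toAdd).val * (pb ^ (-(i : ℤ)))⁻¹ = _
      group
  let σ₀ := SemidirectProduct.lift f1 f2 hcompat
  have hσ₀ : ∀ v k, σ₀ (pair _ v k) = pa ^ (toM N v).val * pb ^ k := fun v k => rfl
  have hker : (crel okC).range ≤ σ₀.ker := by
    have h1 : σ₀ (crel okC (Multiplicative.ofAdd 1)) = 1 := by
      show σ₀ (pair _ (-((1 : ℤ) • wA N)) ((1 : ℤ) * n)) = 1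
      rw [hσ₀, one_smul, one_mul, map_neg, zpow_natCast, rb]
      have : toM N (wA N) = ((N.m' * l : ℕ) : ZMod m) := by rw [wA, toM_mk]; simp
      rw [this, ← pow_add, ← orderOf_dvd_iff_pow_eq_one, hord, ← ZMod.natCast_eq_zero_iff,
        Nat.cast_add, ZMod.natCast_val, ZMod.cast_id]
      ring
    rintro _ ⟨j, rfl⟩
    obtain ⟨j, rfl⟩ := Multiplicative.ofAdd.surjective j
    rw [MonoidHom.mem_ker, show Multiplicative.ofAdd j = Multiplicative.ofAdd (1 : ℤ) ^ j by
      rw [← ofAdd_zsmul, smul_eq_mul, mul_one], map_zpow, map_zpow, h1, one_zpow]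
  let σ : CExt okC →* PresentedGroup R := QuotientGroup.lift (crel okC).range σ₀ hker
  have hσel : ∀ v k, σ (el okC v k) = pa ^ (toM N v).val * pb ^ k := fun v k => rfl
  have hsurj : Function.Surjective σ := by
    intro x
    have : x ∈ σ.range := by
      have hle : Subgroup.closure ({pa, pb} : Set _) ≤ σ.range := by
        rw [Subgroup.closure_le]
        rintro _ (rfl | rfl)
        · refine ⟨el okC (((1 : ℤ), (0 : ℤ)) : ℤ × ℤ) 0, ?_⟩
          rw [hσel, zpow_zero, mul_one, toM_mk]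
          simp only [mul_zero, add_zero, Int.cast_one]
          rw [ZMod.val_one_eq_one_mod, ← pow_eq_pow_mod _ ra, pow_one]
        · refine ⟨el okC 0 1, ?_⟩
          rw [hσel, map_zero, ZMod.val_zero, pow_zero, one_mul, zpow_one]
      exact hle (by rw [hgen]; trivial)
    exact this
  -- the kernel
  let c₀ : AB N := (((0 : ℤ), (N.m' : ℤ)) : ℤ × ℤ)
  have hc₀ : ∀ j : ℤ, j • c₀ = ((((0 : ℤ), (N.m' : ℤ) * j) : ℤ × ℤ) : AB N) := fun j => by
    rw [show c₀ = (((((0 : ℤ), (N.m' : ℤ)) : ℤ × ℤ)) : AB N) from rfl, ← QuotientAddGroup.mk_zsmul]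
    congr 1
    simp [mul_comm]
  have hkerσ : ∀ x, σ x = 1 → ∃ j : ℤ, x = inl okC (Multiplicative.ofAdd c₀) ^ j := by
    intro x hx
    obtain ⟨v, k, rfl⟩ := el_surjective okC x
    rw [hσel] at hx
    have h := congrArg ψ hx
    rw [map_mul, map_pow, map_zpow, ψa, ψb, map_one, hfa] at h
    have hb' : ∀ k : ℤ, (el okQ 0 1) ^ k = el okQ 0 k := by
      intro k
      rcases k with k | k
      · rw [Int.ofNat_eq_natCast, zpow_natCast, hfb]
      · rw [zpow_negSucc, hfb, inv_eq_iff_mul_eq_one, el, el, ← QuotientGroup.mk_mul, pair_mul,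
          ofAdd_zero, map_one, toAdd_one, add_zero,
          show ((k + 1 : ℕ) : ℤ) + Int.negSucc k = 0 by rw [Int.negSucc_eq]; push_cast; ring,
          pair_zero]
        rfl
    rw [hb', el, el, ← QuotientGroup.mk_mul, zero_shift, ← el, add_zero, el_eq_one,
      ZMod.natCast_val, ZMod.cast_id] at h
    obtain ⟨i, rfl, hv⟩ := h
    have hx2 : el okC v (i * n) = el okC (v + i • wA N) 0 := by
      rw [el, el, QuotientGroup.eq]
      refine ⟨Multiplicative.ofAdd (-i), ?_⟩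
      rw [eq_inv_mul_iff_mul_eq]
      show pair _ v (i * n) * pair _ (-((-i) • wA N)) ((-i) * n) = pair _ _ 0
      rw [pair_mul, okC.mAut_zpow, neg_smul, neg_neg]
      simp only [MulAut.one_apply, toAdd_ofAdd]
      congr 1
      ring
    have hzero : toM N (v + i • wA N) = 0 := by
      have : toM N (wA N) = ((N.m' * l : ℕ) : ZMod m) := by rw [wA, toM_mk]; simp
      rw [map_add, map_zsmul, this, hv]
      simp
    obtain ⟨j, hj⟩ := eq_comm_of_toM N hzero
    refine ⟨j, ?_⟩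
    rw [hx2, hj, ← map_zpow, ← ofAdd_zsmul, hc₀, inl_eq]
  set z := inl okC (Multiplicative.ofAdd c₀) with hzdef
  have hzker : z ∈ σ.ker := by
    rw [MonoidHom.mem_ker, hzdef, inl_eq, hσel, zpow_zero, mul_one, toM_mk]
    have : (((0 : ℤ) + (e : ℤ) * (N.m' : ℤ) : ℤ) : ZMod m) = 0 := by
      rw [ZMod.intCast_zmod_eq_zero_iff_dvd]
      refine ⟨(N.e' : ℤ), ?_⟩
      have hm' : (m : ℤ) = N.d * N.m' := by exact_mod_cast N.hm
      have he' : (e : ℤ) = N.d * N.e' := by exact_mod_cast N.he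
      rw [hm', he']; ring
    rw [this, ZMod.val_zero, pow_zero]
  have hkereq : σ.ker = Subgroup.zpowers z := by
    refine le_antisymm (fun x hx => ?_) (Subgroup.zpowers_le.2 hzker)
    obtain ⟨j, rfl⟩ := hkerσ x hx
    exact ⟨j, rfl⟩
  have hcent : z ∈ Subgroup.center (CExt okC) := by
    rw [Subgroup.mem_center_iff]
    intro x
    obtain ⟨v, k, rfl⟩ := el_surjective okC x
    rw [hzdef, inl_eq, el, el, ← QuotientGroup.mk_mul, ← QuotientGroup.mk_mul, zero_shift, pair_mul]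
    have hfix : twA N c₀ = c₀ := by
      rw [twA_mk, QuotientAddGroup.eq]
      obtain ⟨q, hq⟩ := N.dvd_m
      refine (mem_lat N).2 ⟨0, -((N.e' : ℤ) * q), by simp [tw], ?_⟩
      have hm' : (m : ℤ) = N.d * N.m' := by exact_mod_cast N.hm
      have he' : (e : ℤ) = N.d * N.e' := by exact_mod_cast N.he
      have hq' : (m : ℤ) = ((N.m' * N.g : ℕ) : ℤ) * q := by exact_mod_cast hq
      show -((0 : ℤ) + ((e : ℤ) + 1) * (N.m' : ℤ)) + (N.m' : ℤ) = _
      rw [he']
      linear_combination (N.e' : ℤ) * (hm' - hq')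
    have hok : Ok (twE N hn h0) n c₀ := ⟨h0, okC.iter, hfix⟩
    have h1 := hok.fix_zpow 1 k
    rw [one_smul] at h1
    rw [h1, toAdd_ofAdd, add_comm c₀, add_zero]
  have hcomm : z ∈ commutator (CExt okC) := by
    have hone : inl okC (Multiplicative.ofAdd ((((0 : ℤ), (1 : ℤ)) : ℤ × ℤ) : AB N)) =
        ⁅el okC 0 1, el okC (((1 : ℤ), (0 : ℤ)) : ℤ × ℤ) 0⁆ := by
      rw [commutatorElement_def, eq_mul_inv_iff_mul_eq, eq_mul_inv_iff_mul_eq, inl_eq]
      simp only [el, ← QuotientGroup.mk_mul, zero_shift, one_shift]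
      rw [twE_apply, twA_mk, add_zero, ← QuotientAddGroup.mk_add]
      congr 3
    have hz1 : z = inl okC (Multiplicative.ofAdd ((((0 : ℤ), (1 : ℤ)) : ℤ × ℤ) : AB N)) ^ N.m' := by
      rw [hzdef, ← map_pow, ← ofAdd_nsmul, ← natCast_zsmul, ← QuotientAddGroup.mk_zsmul]
      congr 3
      simp [c₀]
    rw [hz1, hone]
    exact pow_mem (Subgroup.commutator_mem_commutator (Subgroup.mem_top _) (Subgroup.mem_top _)) _
  have hordz : orderOf z = N.g := by
    rw [hzdef, orderOf_injective _ (inl_injective okC), orderOf_ofAdd_eq_addOrderOf]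
    refine Nat.dvd_antisymm (addOrderOf_dvd_iff_nsmul_eq_zero.2 ?_) ?_
    · rw [← natCast_zsmul, hc₀, comm_eq_zero_iff]; exact Or.inr dvd_rfl
    · have h := addOrderOf_nsmul_eq_zero c₀
      rw [← natCast_zsmul, hc₀, comm_eq_zero_iff] at h
      rcases h with h | h
      · exact absurd h hm.ne'
      · exact_mod_cast h
  refine ⟨CExt okC, inferInstance, inferInstance, σ, ⟨hsurj, ?_, ?_⟩, ?_⟩
  · rw [hkereq, Subgroup.zpowers_le]; exact hcent
  · rw [hkereq, Subgroup.zpowers_le]; exact hcomm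
  · haveI : IsCyclic σ.ker := by rw [hkereq]; infer_instance
    refine ⟨mulEquivOfCyclicCardEq ?_⟩
    rw [hkereq, Nat.card_zpowers, hordz, Nat.card_congr Multiplicative.toAdd, Nat.card_zmod]

end CfsgLib.Schur.Metacyclic
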