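import Cfsg.Agent.Lib.Schur.InvolutionLift

/-!
A double cover restricted to an elementary abelian subgroup with a group of operators: linear
equations over the field of two elements show that the preimage is an invariant complement times
the kernel.
-/

set_option autoImplicit false
set_option linter.style.haveILetI false

namespace CfsgLib.Schur.ModuleSplit

open CfsgLib.Schur.InvolLift

open scoped commutatorElement

/-- one bit as a residue -/
def bit (a i : ℕ) : ZMod 2 := if a.testBit i then 1 else 0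

theorem bit_xor (a b i : ℕ) : bit (a ^^^ b) i = bit a i + bit b i := by
  simp only [bit, Nat.testBit_xor]
  cases a.testBit i <;> cases b.testBit i <;> decide

theorem bit_zero (i : ℕ) : bit 0 i = 0 := by simp [bit]

theorem bit_two_pow (k i : ℕ) : bit (2 ^ k) i = if k = i then 1 else 0 := by
  simp [bit, Nat.testBit_two_pow]

/-- value of a linear form on a mask -/
def ev (n : ℕ) (x : ℕ → ZMod 2) (m : ℕ) : ZMod 2 := ∑ i ∈ Finset.range n, bit m i * x i

theorem ev_xor (n : ℕ) (x : ℕ → ZMod 2) (a b : ℕ) : ev n x (a ^^^ b) = ev n x a + ev n x b := by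
  simp [ev, bit_xor, add_mul, Finset.sum_add_distrib]

theorem ev_zero (n : ℕ) (x : ℕ → ZMod 2) : ev n x 0 = 0 := by simp [ev, bit_zero]

theorem ev_two_pow {n k : ℕ} (x : ℕ → ZMod 2) (hk : k < n) : ev n x (2 ^ k) = x k := by
  simp [ev, bit_two_pow, hk]

/-- the mask of a set -/
def maskOf (p : ℕ → Bool) : ℕ → ℕ
  | 0 => 0
  | n + 1 => maskOf p n ^^^ (if p n then 2 ^ n else 0)

theorem bit_maskOf (p : ℕ → Bool) : ∀ n i, bit (maskOf p n) i = if i < n ∧ p i then 1 else 0
  | 0, i => by simp [maskOf, bit_zero]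
  | n + 1, i => by
    rw [maskOf, bit_xor, bit_maskOf p n i]
    by_cases hi : i = n
    · subst hi
      cases h : p i <;> simp [bit_zero, bit_two_pow]
    · have e : bit (if p n then 2 ^ n else 0) i = 0 := by
        split
        · rw [bit_two_pow, if_neg (Ne.symm hi)]
        · exact bit_zero i
      rw [e, add_zero]
      exact if_congr (and_congr_left fun _ => by omega) rfl rfl

theorem ev_maskOf (p : ℕ → Bool) (n : ℕ) (x : ℕ → ZMod 2) :
    ev n x (maskOf p n) = ∑ i ∈ Finset.range n, if p i then x i else 0 :=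
  Finset.sum_congr rfl fun i hi => by
    rw [bit_maskOf]
    cases p i <;> simp [Finset.mem_range.1 hi]

/-- a linear map given by the images of the unit vectors -/
def lin : ℕ → List ℕ → ℕ → ℕ
  | 0, _, _ => 0
  | n + 1, A, a => lin n A a ^^^ (if a.testBit n then A.getD n 0 else 0)

theorem ev_lin (N : ℕ) (x : ℕ → ZMod 2) (A : List ℕ) : ∀ n a,
    ev N x (lin n A a) = ∑ i ∈ Finset.range n, bit a i * ev N x (A.getD i 0)
  | 0, a => by simp [lin, ev_zero]
  | n + 1, a => by
    rw [lin, ev_xor, ev_lin N x A n a, Finset.sum_range_succ]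
    congr 1
    unfold bit
    split <;> simp [ev_zero]

theorem lin_xor (A : List ℕ) : ∀ n a b, lin n A (a ^^^ b) = lin n A a ^^^ lin n A b
  | 0, _, _ => by simp [lin]
  | n + 1, a, b => by
    simp only [lin, lin_xor A n a b, Nat.testBit_xor]
    cases a.testBit n <;> cases b.testBit n <;> simp <;> simp [Nat.xor_assoc, Nat.xor_comm, Nat.xor_left_comm]

theorem lin_lt {N : ℕ} (A : List ℕ) (hA : ∀ i, A.getD i 0 < 2 ^ N) : ∀ n a, lin n A a < 2 ^ N
  | 0, _ => Nat.two_pow_pos N
  | n + 1, a => by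
    refine Nat.xor_lt_two_pow (lin_lt A hA n a) ?_
    split
    · exact hA n
    · exact Nat.two_pow_pos N

/-- an additive function is given by a linear form -/
theorem additive_eq_ev : ∀ (n : ℕ) (f : ℕ → ZMod 2),
    (∀ a < 2 ^ n, ∀ b < 2 ^ n, f (a ^^^ b) = f a + f b) →
      ∀ a < 2 ^ n, f a = ev n (fun i => f (2 ^ i)) a := by
  intro n
  induction n with
  | zero =>
    intro f hf a ha
    obtain rfl : a = 0 := by simpa using ha
    have := hf 0 ha 0 ha
    rw [Nat.xor_zero] at this
    rw [ev_zero]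
    calc f 0 = f 0 + f 0 := this
      _ = 0 := CharTwo.add_self_eq_zero _
  | succ n ih =>
    intro f hf a ha
    have hpow : 2 ^ n < 2 ^ (n + 1) := Nat.pow_lt_pow_right (by norm_num) (by omega)
    have hf' : ∀ a < 2 ^ n, ∀ b < 2 ^ n, f (a ^^^ b) = f a + f b :=
      fun a ha b hb => hf a (ha.trans hpow) b (hb.trans hpow)
    set r := a % 2 ^ n with hr
    have hrlt : r < 2 ^ n := Nat.mod_lt _ (Nat.two_pow_pos n)
    have hsplit : a = r ^^^ (if a.testBit n then 2 ^ n else 0) := by
      refine Nat.eq_of_testBit_eq fun i => ?_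
      rw [Nat.testBit_xor, hr, Nat.testBit_mod_two_pow]
      rcases lt_trichotomy i n with hi | hi | hi
      · split <;> simp [hi, Nat.testBit_two_pow, Nat.ne_of_gt hi]
      · subst hi; cases h : a.testBit i <;> simp
      · have : a.testBit i = false :=
          Nat.testBit_eq_false_of_lt (ha.trans_le (Nat.pow_le_pow_right (by norm_num) hi))
        split <;> simp [this, Nat.not_lt_of_gt hi, Nat.testBit_two_pow, Nat.ne_of_lt hi]
    have hev : ev (n + 1) (fun i => f (2 ^ i)) a =
        ev n (fun i => f (2 ^ i)) r + bit a n * f (2 ^ n) := by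
      rw [ev, Finset.sum_range_succ]
      congr 1
      refine Finset.sum_congr rfl fun i hi => ?_
      simp only [bit, hr, Nat.testBit_mod_two_pow, Finset.mem_range.1 hi, decide_true, Bool.true_and]
    rw [hev, ← ih f hf' r hrlt]
    conv_lhs => rw [hsplit]
    unfold bit
    split
    · rw [hf r (hrlt.trans hpow) _ hpow, one_mul]
    · rw [Nat.xor_zero, zero_mul, add_zero]

/-- targets are combinations of equations -/
def certOK (eqs targets : List ℕ) (certs : List (List ℕ)) : Bool :=
  certs.length == targets.length &&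
    (targets.zip certs).all fun z => (z.2.map fun j => eqs.getD j 0).foldr (· ^^^ ·) 0 == z.1

theorem vanish {N : ℕ} {x : ℕ → ZMod 2} {eqs targets : List ℕ} {certs : List (List ℕ)}
    (h : certOK eqs targets certs = true) (he : ∀ m ∈ eqs, ev N x m = 0) :
    ∀ t ∈ targets, ev N x t = 0 := by
  simp only [certOK, Bool.and_eq_true, beq_iff_eq, List.all_eq_true] at h
  intro t ht
  obtain ⟨i, hi, rfl⟩ := List.getElem_of_mem ht
  have hz := h.2 (targets[i], certs[i]'(h.1 ▸ hi)) (List.mem_iff_getElem.2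
    ⟨i, by rw [List.length_zip]; exact lt_min hi (h.1 ▸ hi), List.getElem_zip⟩)
  simp only at hz
  rw [← hz]
  induction certs[i]'(h.1 ▸ hi) with
  | nil => exact ev_zero N x
  | cons j js ih =>
    rw [List.map_cons, List.foldr_cons, ev_xor, ih, add_zero]
    rcases lt_or_ge j eqs.length with hj | hj
    · rw [List.getD_eq_getElem _ _ hj]; exact he _ (List.getElem_mem hj)
    · rw [List.getD_eq_default _ _ hj]; exact ev_zero N x

/-- the data -/
structure Data where
  /-- the rank -/
  n : ℕ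
  /-- the number of operators -/
  k : ℕ
  /-- images of the unit vectors under the operators -/
  A : List (List ℕ)
  /-- words giving the identity -/
  rels : List (List ℕ)
  /-- the correcting form -/
  R : List ℕ
  /-- certificates: commutators, squares, correction -/
  certA : List (List ℕ)
  /-- second certificate -/
  certB : List (List ℕ)
  /-- third certificate -/
  certC : List (List ℕ)

namespace Data

variable (C : Data)

/-- image of a unit vector -/
def img (g i : ℕ) : ℕ := (C.A.getD g []).getD i 0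

/-- one operator -/
def op (g a : ℕ) : ℕ := lin C.n (C.A.getD g []) a

/-- equations for the commutator form -/
def eqsA : List ℕ :=
  (List.range C.n).map (fun i => 2 ^ (C.n * i + i)) ++
  ((List.range C.n).flatMap fun i => (List.range C.n).map fun j => 2 ^ (C.n * i + j) ^^^ 2 ^ (C.n * j + i)) ++
  (List.range C.k).flatMap fun g => (List.range C.n).flatMap fun i => (List.range C.n).map fun j =>
    maskOf (fun u => (C.img g i).testBit (u / C.n) && (C.img g j).testBit (u % C.n)) (C.n * C.n) ^^^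
      2 ^ (C.n * i + j)

/-- equations for the squares -/
def eqsB : List ℕ :=
  (List.range C.k).flatMap fun g => (List.range C.n).map fun i => C.img g i ^^^ 2 ^ i

/-- the equation of a word at a vector -/
def wordMask : List ℕ → ℕ → ℕ
  | [], _ => 0
  | g :: r, a => maskOf (fun u => u / C.n == g && a.testBit (u % C.n)) (C.k * C.n) ^^^ wordMask r (C.op g a)

/-- equations for the correction -/
def eqsC : List ℕ :=
  C.rels.flatMap fun r => (List.range C.n).map fun i => C.wordMask r (2 ^ i)

/-- what has to vanish for the correction -/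
def targetsC : List ℕ :=
  (List.range C.k).flatMap fun g => (List.range C.n).map fun i =>
    2 ^ (g * C.n + i) ^^^ (lin C.n C.R (C.img g i) ^^^ C.R.getD i 0)

/-- the checks -/
def ok : Bool :=
  C.A.all (fun l => l.all fun a => decide (a < 2 ^ C.n)) && decide (0 < C.n)
    && C.rels.all (fun r => r.all (fun g => decide (g < C.k))
      && (List.range C.n).all fun i => r.foldl (fun a g => C.op g a) (2 ^ i) == 2 ^ i)
    && certOK C.eqsA ((List.range (C.n * C.n)).map (2 ^ ·)) C.certA
    && certOK C.eqsB ((List.range C.n).map (2 ^ ·)) C.certB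
    && certOK C.eqsC C.targetsC C.certC

theorem op_xor (g a b : ℕ) : C.op g (a ^^^ b) = C.op g a ^^^ C.op g b := lin_xor _ _ a b

theorem op_unit (g i : ℕ) (hi : i < C.n) : C.op g (2 ^ i) = C.img g i := by
  suffices h : ∀ n, lin n (C.A.getD g []) (2 ^ i) = if i < n then C.img g i else 0 by
    rw [op, h, if_pos hi]
  intro n
  induction n with
  | zero => simp [lin]
  | succ n ih =>
    rw [lin, ih, Nat.testBit_two_pow]
    rcases lt_trichotomy i n with h | h | h
    · simp [h, Nat.ne_of_lt h, Nat.lt_succ_of_lt h]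
    · subst h; simp [img]
    · simp [Nat.ne_of_gt h, Nat.not_lt_of_gt h, show ¬ i < n + 1 by omega]

end Data

variable {E G : Type*} [Group E] [Group G] {τ : E →* G}

open Classical in
/-- coordinate on a kernel of order two -/
noncomputable def kap (x : E) : ZMod 2 := if x = 1 then 0 else 1

theorem kap_eq_zero {x : E} : kap x = 0 ↔ x = 1 := by
  unfold kap; split <;> simp [*]

theorem kap_one : kap (1 : E) = 0 := kap_eq_zero.2 rfl

theorem kap_mul (h2 : Nat.card τ.ker = 2) {x y : E} (hx : x ∈ τ.ker) (hy : y ∈ τ.ker) :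
    kap (x * y) = kap x + kap y := by
  by_cases hx1 : x = 1
  · simp [hx1, kap_one]
  by_cases hy1 : y = 1
  · simp [hy1, kap_one]
  have hxy : x = y := by
    obtain ⟨u, -, huniq⟩ := (Nat.card_eq_two_iff' (1 : τ.ker)).1 h2
    have e1 : (⟨x, hx⟩ : τ.ker) = u := huniq _ fun e => hx1 (congrArg Subtype.val e)
    have e2 : (⟨y, hy⟩ : τ.ker) = u := huniq _ fun e => hy1 (congrArg Subtype.val e)
    exact congrArg Subtype.val (e1.trans e2.symm)
  subst hxy
  have hsq : x * x = 1 := by
    have := pow_card_eq_one' (G := τ.ker) (x := ⟨x, hx⟩)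
    rw [h2, sq] at this
    exact congrArg Subtype.val this
  rw [hsq, kap_one, CharTwo.add_self_eq_zero]

/-- An invariant complement of the kernel over the subgroup. -/
theorem exists_section (C : Data) (hC : C.ok = true) (D : Double τ) (h2 : Nat.card τ.ker = 2)
    (ε : ℕ → G) (hε : ∀ a b, ε (a ^^^ b) = ε a * ε b) (M : ℕ → G)
    (hconj : ∀ g < C.k, ∀ a < 2 ^ C.n, (M g)⁻¹ * ε a * M g = ε (C.op g a))
    (hrel : ∀ r ∈ C.rels, (r.map M).prod = 1) :
    ∃ s : ℕ → E, (∀ a < 2 ^ C.n, τ (s a) = ε a) ∧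
      (∀ a < 2 ^ C.n, ∀ b < 2 ^ C.n, s (a ^^^ b) = s a * s b) ∧
      ∀ g < C.k, ∀ x, τ x = M g → ∀ a < 2 ^ C.n, x⁻¹ * s a * x = s (C.op g a) := by
  simp only [Data.ok, Bool.and_eq_true, decide_eq_true_eq, List.all_eq_true, beq_iff_eq] at hC
  obtain ⟨⟨⟨⟨⟨hA, hn0⟩, hrels⟩, hcA⟩, hcB⟩, hcC⟩ := hC
  have hεone : ε 0 = 1 := by
    have := hε 0 0
    rw [Nat.xor_self] at this
    exact mul_eq_left.1 this.symm
  have hεsq : ∀ a, ε a * ε a = 1 := fun a => by rw [← hε, Nat.xor_self, hεone]
  have hεcomm : ∀ a b, ε a * ε b = ε b * ε a := fun a b => by rw [← hε, ← hε, Nat.xor_comm]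
  have himg : ∀ g i, C.img g i < 2 ^ C.n := fun g i => by
    unfold Data.img
    rcases lt_or_ge g C.A.length with hg | hg
    · rw [List.getD_eq_getElem _ _ hg]
      rcases lt_or_ge i C.A[g].length with hi | hi
      · rw [List.getD_eq_getElem _ _ hi]; exact hA _ (List.getElem_mem hg) _ (List.getElem_mem hi)
      · rw [List.getD_eq_default _ _ hi]; exact Nat.two_pow_pos _
    · rw [List.getD_eq_default _ _ hg]; simp
  have hop : ∀ g a, C.op g a < 2 ^ C.n := fun g a => lin_lt _ (himg g) _ _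
  have kc : ∀ {z : E}, z ∈ τ.ker → ∀ x, x * z = z * x := fun hz x => D.comm hz x
  choose lf hlf using fun a => D.surj (ε a)
  choose T hT using fun g => D.surj (M g)
  have hpow : ∀ {i}, i < C.n → 2 ^ i < 2 ^ C.n := fun hi => Nat.pow_lt_pow_right (by norm_num) hi
  -- commutators of lifts
  let β : ℕ → ℕ → ZMod 2 := fun a b => kap ⁅lf a, lf b⁆
  have hcker : ∀ a b, ⁅lf a, lf b⁆ ∈ τ.ker := fun a b => by
    rw [MonoidHom.mem_ker, map_commutatorElement, hlf, hlf, commutatorElement_eq_one_iff_commute]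
    exact hεcomm a b
  have hcany : ∀ {a b} {x y : E}, τ x = ε a → τ y = ε b → ⁅x, y⁆ = ⁅lf a, lf b⁆ := by
    intro a b x y hx hy
    obtain ⟨k, hk, rfl⟩ : ∃ k ∈ τ.ker, x = lf a * k :=
      ⟨(lf a)⁻¹ * x, by rw [MonoidHom.mem_ker, map_mul, map_inv, hlf, hx, inv_mul_cancel],
        (mul_inv_cancel_left _ _).symm⟩
    obtain ⟨l, hl, rfl⟩ : ∃ l ∈ τ.ker, y = lf b * l :=
      ⟨(lf b)⁻¹ * y, by rw [MonoidHom.mem_ker, map_mul, map_inv, hlf, hy, inv_mul_cancel],
        (mul_inv_cancel_left _ _).symm⟩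
    simp only [commutatorElement_def, mul_inv_rev]
    calc lf a * k * (lf b * l) * (k⁻¹ * (lf a)⁻¹) * (l⁻¹ * (lf b)⁻¹)
        = lf a * (k * (lf b * l)) * k⁻¹ * ((lf a)⁻¹ * l⁻¹) * (lf b)⁻¹ := by group
      _ = lf a * lf b * l * (lf a)⁻¹ * l⁻¹ * (lf b)⁻¹ := by rw [← kc hk (lf b * l)]; group
      _ = lf a * lf b * ((lf a)⁻¹ * l) * l⁻¹ * (lf b)⁻¹ := by rw [kc hl (lf a)⁻¹]; group
      _ = _ := by group
  have hβadd : ∀ a b c, β (a ^^^ b) c = β a c + β b c := by
    intro a b c
    show kap _ = kap _ + kap _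
    rw [← hcany (x := lf a * lf b) (y := lf c) (by rw [map_mul, hlf, hlf, hε]) (hlf c),
      ← kap_mul h2 (hcker a c) (hcker b c)]
    congr 1
    rw [show ⁅lf a * lf b, lf c⁆ = lf a * ⁅lf b, lf c⁆ * (lf a)⁻¹ * ⁅lf a, lf c⁆ by
      simp only [commutatorElement_def]; group, kc (hcker b c) (lf a), mul_inv_cancel_right,
      ← kc (hcker b c)]
  have hβself : ∀ a, β a a = 0 := fun a => by show kap _ = 0; rw [commutatorElement_self, kap_one]
  have hβsymm : ∀ a b, β a b + β b a = 0 := fun a b => by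
    show kap _ + kap _ = 0
    rw [← kap_mul h2 (hcker a b) (hcker b a), show ⁅lf a, lf b⁆ * ⁅lf b, lf a⁆ = 1 by
      simp only [commutatorElement_def]; group, kap_one]
  have hβadd' : ∀ a b c, β c (a ^^^ b) = β c a + β c b := by
    intro a b c
    have e : ∀ u v, β u v = β v u := fun u v => CharTwo.add_eq_zero.1 (hβsymm u v)
    rw [e c, hβadd, e a, e b]
  have hβinv : ∀ g < C.k, ∀ a < 2 ^ C.n, ∀ b < 2 ^ C.n, β (C.op g a) (C.op g b) = β a b := by
    intro g hg a ha b hb
    show kap _ = kap _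
    congr 1
    rw [← hcany (x := (T g)⁻¹ * lf a * T g) (y := (T g)⁻¹ * lf b * T g)
      (by rw [map_mul, map_mul, map_inv, hT, hlf, hconj g hg a ha])
      (by rw [map_mul, map_mul, map_inv, hT, hlf, hconj g hg b hb]),
      show ⁅(T g)⁻¹ * lf a * T g, (T g)⁻¹ * lf b * T g⁆ = (T g)⁻¹ * (⁅lf a, lf b⁆ * T g) by
        simp only [commutatorElement_def]; group,
      ← kc (hcker a b), inv_mul_cancel_left]
  let xA : ℕ → ZMod 2 := fun u => β (2 ^ (u / C.n)) (2 ^ (u % C.n))
  have hxA : ∀ {i j}, i < C.n → j < C.n → xA (C.n * i + j) = β (2 ^ i) (2 ^ j) := by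
    intro i j hi hj
    simp only [xA, Nat.mul_add_div hn0, Nat.div_eq_of_lt hj, add_zero, Nat.mul_add_mod,
      Nat.mod_eq_of_lt hj]
  have hidx : ∀ {i j}, i < C.n → j < C.n → C.n * i + j < C.n * C.n := by
    intro i j hi hj
    calc C.n * i + j < C.n * (i + 1) := by rw [Nat.mul_succ]; omega
      _ ≤ C.n * C.n := Nat.mul_le_mul_left _ hi
  have hβbil : ∀ a < 2 ^ C.n, ∀ b < 2 ^ C.n, β a b =
      ev (C.n * C.n) xA (maskOf (fun u => a.testBit (u / C.n) && b.testBit (u % C.n)) (C.n * C.n)) := by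
    intro a ha b hb
    rw [ev_maskOf, additive_eq_ev C.n (fun a => β a b) (fun u _ v _ => hβadd u v b) a ha, ev]
    have key : ∀ m, m ≤ C.n → ∑ u ∈ Finset.range (C.n * m),
        (if a.testBit (u / C.n) && b.testBit (u % C.n) then xA u else 0) =
        ∑ i ∈ Finset.range m, bit a i * β (2 ^ i) b := by
      intro m hm
      induction m with
      | zero => simp
      | succ m ih =>
        rw [Nat.mul_succ, Finset.sum_range_add, ih (by omega), Finset.sum_range_succ]
        congr 1
        rw [additive_eq_ev C.n (fun v => β (2 ^ m) v) (fun u _ v _ => hβadd' u v _) b hb, ev,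
          Finset.mul_sum]
        refine Finset.sum_congr rfl fun j hj => ?_
        have hj' := Finset.mem_range.1 hj
        rw [hxA (by omega) hj', Nat.mul_add_div hn0, Nat.div_eq_of_lt hj', add_zero, Nat.mul_add_mod,
          Nat.mod_eq_of_lt hj']
        unfold bit
        cases a.testBit m <;> cases b.testBit j <;> simp
    exact (key C.n le_rfl).symm
  have hA0 : ∀ a < 2 ^ C.n, ∀ b < 2 ^ C.n, β a b = 0 := by
    have hz : ∀ t ∈ (List.range (C.n * C.n)).map (2 ^ ·), ev (C.n * C.n) xA t = 0 := by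
      refine vanish hcA fun m hm => ?_
      simp only [Data.eqsA, List.mem_append, List.mem_map, List.mem_flatMap, List.mem_range] at hm
      rcases hm with (⟨i, hi, rfl⟩ | ⟨i, hi, j, hj, rfl⟩) | ⟨g, hg, i, hi, j, hj, rfl⟩
      · rw [ev_two_pow _ (hidx hi hi), hxA hi hi, hβself]
      · rw [ev_xor, ev_two_pow _ (hidx hi hj), ev_two_pow _ (hidx hj hi), hxA hi hj, hxA hj hi, hβsymm]
      · rw [ev_xor, ev_two_pow _ (hidx hi hj), hxA hi hj, ← hβbil _ (himg g i) _ (himg g j),
          ← C.op_unit g i hi, ← C.op_unit g j hj, hβinv g hg _ (hpow hi) _ (hpow hj),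
          CharTwo.add_self_eq_zero]
    intro a ha b hb
    rw [hβbil a ha b hb, ev]
    refine Finset.sum_eq_zero fun u hu => ?_
    have hu' := Finset.mem_range.1 hu
    have := hz _ (List.mem_map.2 ⟨u, List.mem_range.2 hu', rfl⟩)
    rw [ev_two_pow _ hu'] at this
    rw [this, mul_zero]
  have hcom : ∀ {a b} {x y : E}, a < 2 ^ C.n → b < 2 ^ C.n → τ x = ε a → τ y = ε b →
      x * y = y * x := by
    intro a b x y ha hb hx hy
    refine commutatorElement_eq_one_iff_commute.1 ?_
    rw [hcany hx hy, ← kap_eq_zero]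
    exact hA0 a ha b hb
  -- squares of lifts
  let Q : ℕ → ZMod 2 := fun a => kap (lf a * lf a)
  have hqker : ∀ a, lf a * lf a ∈ τ.ker := fun a => by rw [MonoidHom.mem_ker, map_mul, hlf, hεsq]
  have hQadd : ∀ a < 2 ^ C.n, ∀ b < 2 ^ C.n, Q (a ^^^ b) = Q a + Q b := by
    intro a ha b hb
    show kap _ = kap _ + kap _
    rw [← kap_mul h2 (hqker a) (hqker b)]
    congr 1
    rw [D.mul_self_eq (b := lf a * lf b) (by rw [map_mul, hlf, hlf, hlf, hε]),
      show lf a * lf b * (lf a * lf b) = lf a * (lf b * lf a) * lf b by group,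
      hcom hb ha (hlf b) (hlf a)]
    group
  have hQinv : ∀ g < C.k, ∀ a < 2 ^ C.n, Q (C.op g a) = Q a := by
    intro g hg a ha
    show kap _ = kap _
    congr 1
    rw [D.mul_self_eq (b := (T g)⁻¹ * lf a * T g)
        (by rw [map_mul, map_mul, map_inv, hT, hlf, hlf, hconj g hg a ha]),
      show (T g)⁻¹ * lf a * T g * ((T g)⁻¹ * lf a * T g) = (T g)⁻¹ * (lf a * lf a * T g) by group,
      ← kc (hqker a), inv_mul_cancel_left]
  have hQ0 : ∀ a < 2 ^ C.n, Q a = 0 := by
    have hz : ∀ t ∈ (List.range C.n).map (2 ^ ·), ev C.n (fun i => Q (2 ^ i)) t = 0 := by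
      refine vanish hcB fun m hm => ?_
      simp only [Data.eqsB, List.mem_map, List.mem_flatMap, List.mem_range] at hm
      obtain ⟨g, hg, i, hi, rfl⟩ := hm
      rw [ev_xor, ev_two_pow _ hi, ← additive_eq_ev C.n Q hQadd _ (himg g i), ← C.op_unit g i hi,
        hQinv g hg _ (hpow hi), CharTwo.add_self_eq_zero]
    intro a ha
    rw [additive_eq_ev C.n Q hQadd a ha, ev]
    refine Finset.sum_eq_zero fun u hu => ?_
    have hu' := Finset.mem_range.1 hu
    have := hz _ (List.mem_map.2 ⟨u, List.mem_range.2 hu', rfl⟩)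
    rw [ev_two_pow _ hu'] at this
    rw [this, mul_zero]
  have hsq : ∀ {a} {x : E}, a < 2 ^ C.n → τ x = ε a → x * x = 1 := fun {a} {x} ha hx => by
    rw [D.mul_self_eq (hx.trans (hlf a).symm), ← kap_eq_zero]
    exact hQ0 a ha
  -- a first section
  let S : ℕ → ℕ → E := fun m a => ((List.range m).map fun i => if a.testBit i then lf (2 ^ i) else 1).prod
  have hSs : ∀ m a, S (m + 1) a = S m a * (if a.testBit m then lf (2 ^ m) else 1) := fun m a => by
    simp only [S, List.range_succ, List.map_append, List.prod_append, List.map_cons, List.map_nil,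
      List.prod_singleton]
  have hSτ : ∀ m, ∀ a, a < 2 ^ m → τ (S m a) = ε a := by
    intro m
    induction m with
    | zero => intro a ha; obtain rfl : a = 0 := by simpa using ha
              simp [S, hεone]
    | succ m ih =>
      intro a ha
      rw [hSs, map_mul]
      have hS' : S m a = S m (a % 2 ^ m) := by
        refine congrArg List.prod (List.map_congr_left fun i hi => ?_)
        simp [Nat.testBit_mod_two_pow, List.mem_range.1 hi]
      rw [hS', ih _ (Nat.mod_lt _ (Nat.two_pow_pos m))]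
      have ea : a = a % 2 ^ m ^^^ (if a.testBit m then 2 ^ m else 0) := by
        refine Nat.eq_of_testBit_eq fun i => ?_
        rw [Nat.testBit_xor, Nat.testBit_mod_two_pow]
        rcases lt_trichotomy i m with hi | hi | hi
        · split <;> simp [hi, Nat.testBit_two_pow, Nat.ne_of_gt hi]
        · subst hi; cases h : a.testBit i <;> simp
        · have : a.testBit i = false :=
            Nat.testBit_eq_false_of_lt (ha.trans_le (Nat.pow_le_pow_right (by norm_num) hi))
          split <;> simp [this, Nat.not_lt_of_gt hi, Nat.testBit_two_pow, Nat.ne_of_lt hi]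
      conv_rhs => rw [ea, hε]
      split
      · rw [hlf]
      · rw [map_one, hεone]
  have hSadd : ∀ m ≤ C.n, ∀ a b, S m (a ^^^ b) = S m a * S m b := by
    intro m hm a b
    induction m with
    | zero => simp [S]
    | succ m ih =>
      rw [hSs, hSs, hSs, ih (by omega)]
      have hm' : m < C.n := by omega
      have hS : ∀ c, τ (S m c) = ε (c % 2 ^ m) := fun c => by
        rw [show S m c = S m (c % 2 ^ m) from congrArg List.prod (List.map_congr_left fun i hi => by
          simp [Nat.testBit_mod_two_pow, List.mem_range.1 hi]), hSτ m _ (Nat.mod_lt _ (Nat.two_pow_pos m))]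
      have hl : ∀ c, c % 2 ^ m < 2 ^ C.n := fun c =>
        (Nat.mod_lt _ (Nat.two_pow_pos m)).trans (hpow hm')
      have hc := hcom (hl b) (hpow hm') (hS b) (hlf (2 ^ m))
      simp only [Nat.testBit_xor]
      cases a.testBit m <;> cases b.testBit m <;>
        simp only [Bool.false_eq_true, if_false, if_true, Bool.xor_false, Bool.false_xor, Bool.true_xor,
          Bool.not_false, Bool.not_true, mul_one, bne_self_eq_false, Bool.bne_false, Bool.bne_true]
      · rw [mul_assoc]
      · rw [mul_assoc, hc, ← mul_assoc]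
      · rw [show S m a * lf (2 ^ m) * (S m b * lf (2 ^ m)) = S m a * (lf (2 ^ m) * S m b) * lf (2 ^ m) by
          group, ← hc, show S m a * (S m b * lf (2 ^ m)) * lf (2 ^ m) = S m a * S m b * (lf (2 ^ m) * lf (2 ^ m))
          by group, hsq (hpow hm') (hlf _), mul_one]
  -- the correction
  let L : ℕ → ℕ → ZMod 2 := fun g a => kap ((S C.n (C.op g a))⁻¹ * ((T g)⁻¹ * S C.n a * T g))
  have hLker : ∀ g < C.k, ∀ a < 2 ^ C.n,
      (S C.n (C.op g a))⁻¹ * ((T g)⁻¹ * S C.n a * T g) ∈ τ.ker := fun g hg a ha => by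
    rw [MonoidHom.mem_ker, map_mul, map_inv, map_mul, map_mul, map_inv, hT, hSτ _ _ (hop g a),
      hSτ _ _ ha, hconj g hg a ha, inv_mul_cancel]
  have hLadd : ∀ g < C.k, ∀ a < 2 ^ C.n, ∀ b < 2 ^ C.n, L g (a ^^^ b) = L g a + L g b := by
    intro g hg a ha b hb
    show kap _ = kap _ + kap _
    rw [← kap_mul h2 (hLker g hg a ha) (hLker g hg b hb)]
    congr 1
    rw [C.op_xor, hSadd _ le_rfl, hSadd _ le_rfl, mul_inv_rev,
      show (S C.n (C.op g a))⁻¹ * ((T g)⁻¹ * S C.n a * T g) * ((S C.n (C.op g b))⁻¹ * ((T g)⁻¹ * S C.n b * T g))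
        = (S C.n (C.op g a))⁻¹ * ((T g)⁻¹ * S C.n a * T g) * (S C.n (C.op g b))⁻¹ * ((T g)⁻¹ * S C.n b * T g)
        by group, ← kc (hLker g hg a ha) (S C.n (C.op g b))⁻¹]
    group
  let xC : ℕ → ZMod 2 := fun u => L (u / C.n) (2 ^ (u % C.n))
  have hxC : ∀ {g i}, i < C.n → xC (g * C.n + i) = L g (2 ^ i) := by
    intro g i hi
    simp only [xC, Nat.mul_comm g, Nat.mul_add_div hn0, Nat.div_eq_of_lt hi, add_zero, Nat.mul_add_mod,
      Nat.mod_eq_of_lt hi]
  have hgi : ∀ {g i}, g < C.k → i < C.n → g * C.n + i < C.k * C.n := fun {g i} hg hi => by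
    calc g * C.n + i < (g + 1) * C.n := by rw [Nat.succ_mul]; omega
      _ ≤ C.k * C.n := Nat.mul_le_mul_right _ hg
  have hLev : ∀ g < C.k, ∀ a < 2 ^ C.n, L g a =
      ev (C.k * C.n) xC (maskOf (fun u => u / C.n == g && a.testBit (u % C.n)) (C.k * C.n)) := by
    intro g hg a ha
    rw [ev_maskOf, additive_eq_ev C.n (L g) (hLadd g hg) a ha, ev]
    have key : ∀ m, ∑ u ∈ Finset.range (m * C.n),
        (if u / C.n == g && a.testBit (u % C.n) then xC u else 0) =
        if g < m then ∑ i ∈ Finset.range C.n, bit a i * L g (2 ^ i) else 0 := by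
      intro m
      induction m with
      | zero => simp
      | succ m ih =>
        rw [Nat.succ_mul, Finset.sum_range_add, ih]
        have e : ∀ j ∈ Finset.range C.n,
            (if (m * C.n + j) / C.n == g && a.testBit ((m * C.n + j) % C.n) then xC (m * C.n + j) else 0)
            = if m = g then bit a j * L g (2 ^ j) else 0 := by
          intro j hj
          have hj' := Finset.mem_range.1 hj
          rw [hxC hj', Nat.mul_comm m, Nat.mul_add_div hn0, Nat.div_eq_of_lt hj', add_zero,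
            Nat.mul_add_mod, Nat.mod_eq_of_lt hj']
          unfold bit
          by_cases hmg : m = g
          · subst hmg; cases a.testBit j <;> simp
          · simp [hmg]
        rw [Finset.sum_congr rfl e]
        rcases lt_trichotomy g m with h | h | h
        · simp [h, Nat.lt_succ_of_lt h, Nat.ne_of_gt h]
        · subst h; simp
        · simp [Nat.not_lt_of_gt h, Nat.ne_of_lt h, show ¬ g < m + 1 by omega]
    rw [key C.k, if_pos hg]
  have hWord : ∀ r : List ℕ, (∀ g ∈ r, g < C.k) → ∀ a < 2 ^ C.n,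
      ∃ k ∈ τ.ker, (r.map T).prod⁻¹ * S C.n a * (r.map T).prod =
        S C.n (r.foldl (fun a g => C.op g a) a) * k ∧ kap k = ev (C.k * C.n) xC (C.wordMask r a) := by
    intro r
    induction r with
    | nil =>
      intro _ a _
      exact ⟨1, one_mem _, by simp, by simp [Data.wordMask, ev_zero, kap_one]⟩
    | cons g r ih =>
      intro hr a ha
      simp only [List.mem_cons, forall_eq_or_imp] at hr
      obtain ⟨k, hk, he, hkap⟩ := ih hr.2 (C.op g a) (hop g a)
      set l := (S C.n (C.op g a))⁻¹ * ((T g)⁻¹ * S C.n a * T g) with hl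
      have hlk : l ∈ τ.ker := hLker g hr.1 a ha
      refine ⟨k * l, mul_mem hk hlk, ?_, ?_⟩
      · rw [List.map_cons, List.prod_cons, List.foldl_cons, mul_inv_rev,
          show (r.map T).prod⁻¹ * (T g)⁻¹ * S C.n a * (T g * (r.map T).prod) =
            (r.map T).prod⁻¹ * S C.n (C.op g a) * (l * (r.map T).prod) by rw [hl]; group,
          ← kc hlk, ← mul_assoc, he, mul_assoc]
      · rw [kap_mul h2 hk hlk, hkap, Data.wordMask, ev_xor, ← hLev g hr.1 a ha, add_comm]
  have hCeq : ∀ m ∈ C.eqsC, ev (C.k * C.n) xC m = 0 := by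
    intro m hm
    simp only [Data.eqsC, List.mem_map, List.mem_flatMap, List.mem_range] at hm
    obtain ⟨r, hr, i, hi, rfl⟩ := hm
    obtain ⟨hrk, hfix⟩ := hrels r hr
    obtain ⟨k, hk, he, hkap⟩ := hWord r hrk _ (hpow hi)
    rw [hfix i (List.mem_range.2 hi)] at he
    have hWk : (r.map T).prod ∈ τ.ker := by
      rw [MonoidHom.mem_ker, map_list_prod, List.map_map, show τ ∘ T = M from funext hT, hrel r hr]
    rw [mul_assoc, kc hWk, ← mul_assoc, inv_mul_cancel, one_mul, left_eq_mul] at he
    rw [← hkap, he, kap_one]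
  -- the corrected section
  haveI : Finite τ.ker := Nat.finite_of_card_ne_zero (by omega)
  obtain ⟨z, hz, hzne⟩ : ∃ z ∈ τ.ker, z ≠ 1 := by
    haveI : Nontrivial τ.ker := Finite.one_lt_card_iff_nontrivial.1 (by omega)
    obtain ⟨z, hz⟩ := exists_ne (1 : τ.ker)
    exact ⟨z, z.2, fun h => hz (Subtype.ext h)⟩
  let pz : ZMod 2 → E := fun c => if c = 0 then 1 else z
  have hpzk : ∀ c, pz c ∈ τ.ker := fun c => by simp only [pz]; split; exacts [one_mem _, hz]
  have hkpz : ∀ c, kap (pz c) = c := fun c => by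
    simp only [pz]
    split
    · rename_i h; rw [h, kap_one]
    · rename_i h
      rw [(by decide : ∀ c : ZMod 2, c ≠ 0 → c = 1) c h]
      simp [kap, hzne]
  have hinjk : ∀ {u v : E}, u ∈ τ.ker → v ∈ τ.ker → kap u = kap v → u = v := by
    intro u v hu hv he
    have : kap (u * v) = 0 := by rw [kap_mul h2 hu hv, he, CharTwo.add_self_eq_zero]
    have h1 := kap_eq_zero.1 this
    rw [eq_inv_of_mul_eq_one_left h1]
    exact inv_eq_of_mul_eq_one_right (D.sq hv)
  let δ : ℕ → ZMod 2 := fun a => ev (C.k * C.n) xC (lin C.n C.R a)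
  have hδadd : ∀ a b, δ (a ^^^ b) = δ a + δ b := fun a b => by
    show ev _ _ _ = _; rw [lin_xor, ev_xor]
  have hcob : ∀ g < C.k, ∀ a < 2 ^ C.n, L g a + δ (C.op g a) + δ a = 0 := by
    intro g hg a ha
    have hf : ∀ u < 2 ^ C.n, ∀ v < 2 ^ C.n, L g (u ^^^ v) + δ (C.op g (u ^^^ v)) + δ (u ^^^ v) =
        (L g u + δ (C.op g u) + δ u) + (L g v + δ (C.op g v) + δ v) := by
      intro u hu v hv
      rw [hLadd g hg u hu v hv, C.op_xor, hδadd, hδadd]; ring
    rw [additive_eq_ev C.n (fun u => L g u + δ (C.op g u) + δ u) hf a ha, ev]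
    refine Finset.sum_eq_zero fun i hi => ?_
    have hi' := Finset.mem_range.1 hi
    have ht := vanish hcC hCeq (2 ^ (g * C.n + i) ^^^ (lin C.n C.R (C.img g i) ^^^ C.R.getD i 0)) (by
      simp only [Data.targetsC, List.mem_flatMap, List.mem_map, List.mem_range]
      exact ⟨g, hg, i, hi', rfl⟩)
    have hδu : δ (2 ^ i) = ev (C.k * C.n) xC (C.R.getD i 0) := by
      show ev _ _ (lin C.n C.R (2 ^ i)) = _
      rw [ev_lin, Finset.sum_eq_single i]
      · rw [bit_two_pow, if_pos rfl, one_mul]
      · intro b _ hb; rw [bit_two_pow, if_neg (Ne.symm hb), zero_mul]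
      · exact fun h => absurd hi h
    rw [ev_xor, ev_xor, ev_two_pow _ (hgi hg hi'), hxC hi', ← hδu] at ht
    show bit a i * (L g (2 ^ i) + δ (C.op g (2 ^ i)) + δ (2 ^ i)) = 0
    rw [C.op_unit g i hi', show δ (C.img g i) = ev (C.k * C.n) xC (lin C.n C.R (C.img g i)) from rfl,
      add_assoc, ht, mul_zero]
  refine ⟨fun a => S C.n a * pz (δ a), fun a ha => ?_, fun a ha b hb => ?_, fun g hg x hx a ha => ?_⟩
  · show τ (S C.n a * pz (δ a)) = ε a
    rw [map_mul, hSτ _ _ ha, MonoidHom.mem_ker.1 (hpzk _), mul_one]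
  · show S C.n (a ^^^ b) * pz (δ (a ^^^ b)) = S C.n a * pz (δ a) * (S C.n b * pz (δ b))
    rw [hSadd _ le_rfl, show pz (δ (a ^^^ b)) = pz (δ a) * pz (δ b) from hinjk (hpzk _)
      (mul_mem (hpzk _) (hpzk _)) (by rw [kap_mul h2 (hpzk _) (hpzk _), hkpz, hkpz, hkpz, hδadd]),
      show S C.n a * pz (δ a) * (S C.n b * pz (δ b)) = S C.n a * (pz (δ a) * S C.n b) * pz (δ b) by group,
      ← kc (hpzk (δ a)) (S C.n b)]
    group
  · obtain ⟨c, hc, rfl⟩ : ∃ c ∈ τ.ker, x = T g * c :=
      ⟨(T g)⁻¹ * x, by rw [MonoidHom.mem_ker, map_mul, map_inv, hT, hx, inv_mul_cancel],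
        (mul_inv_cancel_left _ _).symm⟩
    set l := (S C.n (C.op g a))⁻¹ * ((T g)⁻¹ * S C.n a * T g) with hl
    have hlk : l ∈ τ.ker := hLker g hg a ha
    have e1 : (T g * c)⁻¹ * (S C.n a * pz (δ a)) * (T g * c) = S C.n (C.op g a) * (l * pz (δ a)) := by
      calc (T g * c)⁻¹ * (S C.n a * pz (δ a)) * (T g * c)
          = c⁻¹ * ((T g)⁻¹ * S C.n a * (pz (δ a) * T g)) * c := by group
        _ = c⁻¹ * (((T g)⁻¹ * S C.n a * T g * pz (δ a)) * c) := by rw [← kc (hpzk _) (T g)]; group
        _ = (T g)⁻¹ * S C.n a * T g * pz (δ a) := by rw [kc hc, inv_mul_cancel_left]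
        _ = _ := by rw [hl]; group
    show (T g * c)⁻¹ * (S C.n a * pz (δ a)) * (T g * c) = S C.n (C.op g a) * pz (δ (C.op g a))
    rw [e1]
    refine congrArg _ (hinjk (mul_mem hlk (hpzk _)) (hpzk _) ?_)
    rw [kap_mul h2 hlk (hpzk _), hkpz, hkpz]
    refine CharTwo.add_eq_zero.1 ?_
    rw [← hcob g hg a ha]
    show L g a + δ a + δ (C.op g a) = _
    ring

end CfsgLib.Schur.ModuleSplit
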