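import Cfsg.Agent.Lib.Schur.OmegaPlus
import Cfsg.Agent.Lib.Chev.StMultiplier
import Cfsg.Agent.Lib.Chev.StCenterE
import Cfsg.Agent.Lib.Chev.OrderData
import Cfsg.Agent.S1082

/-!
# The bound for eight dimensions of plus type, from the Steinberg cover of type `D4`
-/

set_option autoImplicit false
set_option maxRecDepth 100000

namespace CfsgLib.Schur.OmegaD4

open CfsgLib.Orth CfsgLib.Chev Cfsg.Lie

/-- The relations of type `D4` over three elements, with the table named. -/
theorem rel_threeD4.{a, b} {K : Type a} [Field K] [Fintype K] (hF : Fintype.card K = 3)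
    (Z : Type b) [Group Z] (Y : CfsgLib.Chev.Ext chevD4 K Z) : ∃ L : CfsgLib.Chev.Rel chevD4 tabD4 K Z, L.π = Y.θ := by
  have : CharP K 3 := charP_of_card Nat.prime_three (k := 1) (by rw [hF, pow_one])
  have E1 : Units.Enough K 1 := Units.enough_of_fintype (by omega)
  have hprime := natCast_surjective_of_card (F := K) hF
  refine Y.rel_of_torus_or certD4 E1 pairsStD4_ok.1 (fun e he => ?_) pairsStD4_ok.2.2
    fun r hr => Y.Z_self_of_prime certD4 hr hprime
  have hswap : ∀ s ∈ [5, 10, 11], ∀ w : List ℕ, (w.all fun i => decide (i < tabD4.l)) = true →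
      tabD4.chkZero 3 23 s = true → rword tabD4 w 23 = s → rword tabD4 w s = 23 →
      tabD4.etaW w 23 * tabD4.etaW w s = 1 → Y.Z 23 s := by
    intro s _ w hw hz h1 h2 h3
    have hb : 23 < tabD4.n ∧ s < tabD4.n := by
      simp only [Tab.chkZero, Bool.and_eq_true, decide_eq_true_eq] at hz
      exact ⟨hz.1.1, hz.1.2.1⟩
    exact Y.Z_of_swap certD4 (p := 3) (by decide) hprime hb.1 hb.2
      (Ext.commute_of_chkZero certD4 hz)
      (fun i hi => by simpa using List.all_eq_true.1 hw i hi) h1 h2 h3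
  simp only [pairsStD4, List.mem_cons, List.not_mem_nil, or_false] at he
  rcases he with rfl | rfl | rfl | rfl | rfl
  · exact Or.inl (by decide +kernel)
  · exact Or.inr ⟨by decide +kernel, hswap 5 (by simp) [0, 1, 3, 2, 1, 0] (by decide +kernel)
      (by decide +kernel) (by decide +kernel) (by decide +kernel) (by decide +kernel)⟩
  · exact Or.inr ⟨by decide +kernel, hswap 10 (by simp) [2, 1, 3, 0, 1, 2] (by decide +kernel)
      (by decide +kernel) (by decide +kernel) (by decide +kernel) (by decide +kernel)⟩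
  · exact Or.inr ⟨by decide +kernel, hswap 11 (by simp) [3, 1, 2, 0, 1, 3] (by decide +kernel)
      (by decide +kernel) (by decide +kernel) (by decide +kernel) (by decide +kernel)⟩
  · exact Or.inl (by decide +kernel)


universe uF

variable {F : Type uF} [Field F] [Fintype F]

theorem card_ker_cartan_le :
    Nat.card (matHom (G := Fˣ) (cartanT tabD4)).ker ≤ 4 := by
  classical
  rw [card_ker_matHom (cartanT tabD4) (matOf _ snfUD4) (matOf _ snfUiD4) (matOf _ snfVD4)
    (matOf _ snfViD4) (fun i => [1, 1, 2, 2].getD i.1 0) (by decide +kernel)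
    (by decide +kernel) (by decide +kernel)]
  show ∏ i : Fin 4, Nat.gcd (Nat.card Fˣ) ([1, 1, 2, 2].getD i.1 0) ≤ 4
  simp [Fin.prod_univ_succ, -Nat.card_eq_fintype_card]
  exact Nat.mul_le_mul (Nat.le_of_dvd (by norm_num : 0 < 2) (Nat.gcd_dvd_right _ 2))
    (Nat.le_of_dvd (by norm_num : 0 < 2) (Nat.gcd_dvd_right _ 2))

/-- The bound for `Ω₈⁺`, `q ≠ 2`. -/
theorem bound (hq : Fintype.card F = 3) {Q : QuadraticForm F (Fin 4 ⊕ Fin 4 → F)}
    (hQ : ⇑Q = Cfsg.quadFormPlus 4 F) (hB : Nondeg Q) (h2 : (2 : F) ≠ 0) :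
    CfsgLib.Schur.OmegaMult.Bound Q := by
  classical
  intro Γ _ _ σ hs hc hΓ
  have hnb : Rel.Nbr tabD4 := by unfold Rel.Nbr; decide +kernel
  have h := certD4
  obtain ⟨e₀⟩ : Nonempty (↥(chevD4.group F) ≃* Cfsg.POmega F ⇑Q) := by
    rw [hQ]; exact Cfsg.Agent.S1082.result
  let f : Γ →* Cfsg.POmega F ⇑Q :=
    (QuotientGroup.mk' (Subgroup.center (Cfsg.Omega F ⇑Q))).comp σ
  have hf : Function.Surjective f := (QuotientGroup.mk'_surjective _).comp hs
  have hfc : f.ker ≤ Subgroup.center Γ := by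
    intro k hk
    have hk' : σ k ∈ Subgroup.center (Cfsg.Omega F ⇑Q) := by
      rwa [MonoidHom.mem_ker, MonoidHom.comp_apply, QuotientGroup.mk'_apply,
        QuotientGroup.eq_one_iff] at hk
    refine CfsgLib.Chev.central_of_perfect hΓ fun y => hc (MonoidHom.mem_ker.2 ?_)
    rw [map_commutatorElement, commutatorElement_eq_one_iff_mul_comm]
    exact (Subgroup.mem_center_iff.1 hk' (σ y)).symm
  let θ : Γ →* GL chevD4.Idx F := (chevD4.group F).subtype.comp (e₀.symm.toMonoidHom.comp f)
  have hθ : ∀ z, θ z = 1 ↔ f z = 1 := fun z => by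
    show ((e₀.symm (f z) : chevD4.group F) : GL chevD4.Idx F) = 1 ↔ _
    rw [OneMemClass.coe_eq_one, map_eq_one_iff _ e₀.symm.injective]
  let Y : CfsgLib.Chev.Ext chevD4 F Γ :=
    { θ := θ
      central := fun z hz => hfc ((hθ z).1 hz)
      range_eq := by
        rw [MonoidHom.range_comp, MonoidHom.range_eq_top.2 (e₀.symm.surjective.comp hf),
          ← MonoidHom.range_eq_map, Subgroup.range_subtype]
      perfect := hΓ }
  obtain ⟨ρ, hρ, hπ⟩ := h.exists_surjection hnb (rel_threeD4.{uF, uF} hq) Y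
  set L := h.relOf (R := chevD4.steinbergRelsAB F) le_rfl (steinbergRelsAB_subset chevD4 F)
  have hmul := L.mult_of_finite h hnb
  haveI := h.finite_cover hnb (K := F)
  -- the centre of the cover has order at most four
  have hle : f.ker ≤ (Subgroup.center (chevD4.SteinbergCover F)).map ρ := by
    intro z hz
    obtain ⟨y, rfl⟩ := hρ z
    refine ⟨y, ?_, rfl⟩
    show y ∈ Subgroup.center _
    rw [← L.ker_eq_center h hnb, MonoidHom.mem_ker, ← hπ, ← MonoidHom.mem_ker]
    exact (hθ (ρ y)).2 hz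
  have hZ : Subgroup.center (chevD4.SteinbergCover F) ≤
      (matHom (G := Fˣ) (cartanT tabD4)).ker.map (L.torG h hnb hmul) := by
    rw [← L.ker_eq_center h hnb]
    exact L.ker_le_map h hnb hmul
  have h4 : Nat.card f.ker ≤ 4 :=
    calc Nat.card f.ker ≤ Nat.card ((Subgroup.center (chevD4.SteinbergCover F)).map ρ) :=
          Subgroup.card_le_of_le hle
      _ ≤ Nat.card (Subgroup.center (chevD4.SteinbergCover F)) :=
          Nat.le_of_dvd Nat.card_pos (Subgroup.card_map_dvd _ _)
      _ ≤ Nat.card ((matHom (G := Fˣ) (cartanT tabD4)).ker.map (L.torG h hnb hmul)) :=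
          Subgroup.card_le_of_le hZ
      _ ≤ Nat.card (matHom (G := Fˣ) (cartanT tabD4)).ker :=
          Nat.le_of_dvd Nat.card_pos (Subgroup.card_map_dvd _ _)
      _ ≤ 4 := card_ker_cartan_le
  -- `-1` lies in the kernel over `PΩ`
  have hn : 5 ≤ Module.finrank F (Fin 4 ⊕ Fin 4 → F) := by simp
  obtain ⟨g, hg, hgm⟩ :=
    (OmegaPlus.neg_iff rfl h2 (l := 4) (by norm_num) hQ hB).2 (Or.inl (by decide))
  have hz2 : Nat.card (Subgroup.center (Cfsg.Omega F ⇑Q)) = 2 := by
    refine (card_center_omega hB hn).2 ⟨g, hg, fun e => h2 ?_, hgm⟩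
    rw [e] at hgm
    have := congrFun (congrFun hgm (.inl 0)) (.inl 0)
    simp at this
    linear_combination this
  let ψ : f.ker →* Subgroup.center (Cfsg.Omega F ⇑Q) :=
    (σ.comp f.ker.subtype).codRestrict _ fun k => by
      have := MonoidHom.mem_ker.1 k.2
      rwa [MonoidHom.comp_apply, QuotientGroup.mk'_apply, QuotientGroup.eq_one_iff] at this
  have hψs : Function.Surjective ψ := fun c => by
    obtain ⟨k, hk⟩ := hs c.1
    refine ⟨⟨k, ?_⟩, Subtype.ext hk⟩
    rw [MonoidHom.mem_ker, MonoidHom.comp_apply, QuotientGroup.mk'_apply, QuotientGroup.eq_one_iff,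
      hk]
    exact c.2
  have hcard : Nat.card ψ.ker * 2 = Nat.card f.ker := by
    rw [← Subgroup.card_mul_index ψ.ker, Subgroup.index_ker, MonoidHom.range_eq_top.2 hψs,
      Subgroup.card_top, hz2]
  have hker : Nat.card σ.ker = Nat.card ψ.ker := by
    refine Nat.card_congr
      { toFun := fun k => ⟨⟨k.1, ?_⟩, ?_⟩
        invFun := fun k => ⟨k.1.1, ?_⟩
        left_inv := fun k => rfl
        right_inv := fun k => rfl }
    · rw [MonoidHom.mem_ker, MonoidHom.comp_apply, MonoidHom.mem_ker.1 k.2, map_one]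
    · exact Subtype.ext (MonoidHom.mem_ker.1 k.2)
    · exact congrArg Subtype.val (MonoidHom.mem_ker.1 k.2)
  omega

end CfsgLib.Schur.OmegaD4
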