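import Cfsg.Agent.Lib.Schur.Spin
import Cfsg.Agent.Lib.Classical.OrthDisc
import Cfsg.Agent.Lib.Classical.OrthPOrder
import Cfsg.Prelude.Def_KGroupFacts

/-!
# The multiplier of `PΩ` in odd characteristic
-/

set_option autoImplicit false
set_option linter.unusedSectionVars false

namespace CfsgLib.Schur.OmegaMult

open CfsgLib.Orth CfsgLib.Schur.Spin
open scoped commutatorElement

/-- A finite perfect group without stem extensions gives the multiplier of its central quotients. -/
theorem hasSchurMultiplier_of_cover {S G : Type*} [Group S] [Group G] [Finite S]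
    (hperf : commutator S = ⊤) (f : S →* G) (hs : Function.Surjective f)
    (hc : f.ker ≤ Subgroup.center S) {A : Type*} [CommGroup A] (e : Nonempty (A ≃* f.ker))
    {Γ : Type*} [Group Γ] [Finite Γ]
    (hinj : ∀ Δ : Subgroup (S × Γ), Cfsg.IsStemExtension ((MonoidHom.fst S Γ).comp Δ.subtype) →
      Function.Injective ((MonoidHom.fst S Γ).comp Δ.subtype))
    {τ : Γ →* G} (hτ : Cfsg.IsStemExtension τ) :
    ∃ π : A →* τ.ker, Function.Surjective π := by
  obtain ⟨e⟩ := e
  obtain ⟨φ, hφ⟩ := CfsgLib.Schur.SpFam.exists_lift_hom hperf hinj f hτ.1 hτ.2.1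
  have hcom : commutator Γ ≤ φ.range := by
    rw [commutator_def, Subgroup.commutator_le]
    intro a _ b _
    obtain ⟨x, hx⟩ := hs (τ a)
    obtain ⟨y, hy⟩ := hs (τ b)
    rw [commutatorElement_congr τ hτ.2.1 (a' := φ x) (b' := φ y) (by rw [hφ, hx])
      (by rw [hφ, hy]), ← map_commutatorElement]
    exact ⟨_, rfl⟩
  let π : f.ker →* τ.ker := MonoidHom.mk' (fun z => ⟨φ z.1, by
    rw [MonoidHom.mem_ker, hφ]; exact z.2⟩) (fun a b => Subtype.ext (map_mul φ _ _))
  have hπ : Function.Surjective π := fun z => by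
    obtain ⟨x, hx⟩ := hcom (hτ.2.2 z.2)
    exact ⟨⟨x, by rw [MonoidHom.mem_ker, ← hφ, hx]; exact z.2⟩, Subtype.ext hx⟩
  exact ⟨π.comp e.toMonoidHom, hπ.comp e.surjective⟩

/-- A stem extension of a perfect group is perfect. -/
theorem perfect_of_stem {Γ G : Type*} [Group Γ] [Group G] {σ : Γ →* G}
    (hσ : Cfsg.IsStemExtension σ) (hG : commutator G = ⊤) : commutator Γ = ⊤ := by
  obtain ⟨hs, -, hk⟩ := hσ
  rw [← sup_of_le_left hk, ← Subgroup.comap_map_eq, commutator_def, Subgroup.map_commutator,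
    Subgroup.map_top_of_surjective σ hs, ← commutator_def, hG, Subgroup.comap_top]

universe uF

variable {F : Type uF} [Field F] [Finite F] {ι : Type} [Fintype ι] [DecidableEq ι]
variable {Q : QuadraticForm F (ι → F)}

/-- Every perfect central extension has kernel of order at most two. -/
def Bound (Q : QuadraticForm F (ι → F)) : Prop :=
  ∀ {Γ : Type uF} [Group Γ] [Finite Γ] (σ : Γ →* Cfsg.Omega F ⇑Q), Function.Surjective σ →
    σ.ker ≤ Subgroup.center Γ → commutator Γ = ⊤ → Nat.card σ.ker ≤ 2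

variable (hB : Nondeg Q) (h2 : (2 : F) ≠ 0) (hn : 5 ≤ Module.finrank F (ι → F))
include hB h2 hn

theorem finite_spin : Finite (spin Q) := by
  haveI : Finite (Cfsg.Omega F ⇑Q) := inferInstance
  have h := finite_commutator_of_finite (Spin.proj hB h2 hn) (Spin.ker_le_center hB h2 hn)
  rw [Spin.commutator_eq_top hB h2 hn] at h
  exact Finite.of_equiv _ Subgroup.topEquiv.toEquiv

theorem proj_neg_one {m : spin Q} (hm : ((m : (CliffordAlgebra Q)ˣ) : CliffordAlgebra Q) = -1) :
    m ≠ 1 ∧ Spin.proj hB h2 hn m = 1 := by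
  haveI : Invertible (2 : F) := invertibleOfNonzero h2
  refine ⟨fun e => ?_, Subtype.ext (Spin.proj_eq hB h2 hn (g := 1) fun x => ?_)⟩
  · rw [e, Subgroup.coe_one, Units.val_one] at hm
    exact h2 ((algebraMap F (CliffordAlgebra Q)).injective (by
      rw [map_zero, show (2 : F) = 1 + 1 by norm_num, map_add, map_one]
      conv_lhs => arg 1; rw [hm]
      rw [neg_add_cancel]))
  · have h1 : ((m : (CliffordAlgebra Q)ˣ)⁻¹ : (CliffordAlgebra Q)ˣ) =
        (m : (CliffordAlgebra Q)ˣ) := inv_eq_of_mul_eq_one_right (Units.ext (by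
      rw [Units.val_mul, hm]; simp))
    rw [h1, hm, ap_one]
    simp

/-- The kernel of the projection is `±1` when the bound holds. -/
theorem ker_eq {Qb : Bound Q} {m : spin Q}
    (hm : ((m : (CliffordAlgebra Q)ˣ) : CliffordAlgebra Q) = -1) :
    Nat.card (Spin.proj hB h2 hn).ker = 2 ∧ ∀ k ∈ (Spin.proj hB h2 hn).ker, k = 1 ∨ k = m := by
  haveI := finite_spin hB h2 hn
  obtain ⟨h1, h2'⟩ := proj_neg_one hB h2 hn hm
  have hle := Qb (Spin.proj hB h2 hn) (Spin.proj_surjective hB h2 hn) (Spin.ker_le_center hB h2 hn)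
    (Spin.commutator_eq_top hB h2 hn)
  have hne : (1 : (Spin.proj hB h2 hn).ker) ≠ ⟨m, h2'⟩ := fun e => h1 (congrArg Subtype.val e).symm
  have hge : 2 ≤ Nat.card (Spin.proj hB h2 hn).ker := by
    haveI : Nontrivial (Spin.proj hB h2 hn).ker := ⟨⟨_, _, hne⟩⟩
    exact Finite.one_lt_card
  have hc : Nat.card (Spin.proj hB h2 hn).ker = 2 := le_antisymm hle hge
  refine ⟨hc, fun k hk => ?_⟩
  obtain ⟨y, hy, huniv⟩ := (Nat.card_eq_two_iff' (1 : (Spin.proj hB h2 hn).ker)).1 hc
  by_cases hk1 : k = 1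
  · exact Or.inl hk1
  right
  have e1 := huniv ⟨m, h2'⟩ hne.symm
  have e2 := huniv ⟨k, hk⟩ (fun e => hk1 (congrArg Subtype.val e))
  exact congrArg Subtype.val (e2.trans e1.symm)

/-- The multiplier in the presence of the bound, from the order of the centre of `Ω`. -/
theorem hasSchurMultiplier (Qb : Bound Q) {A : Type*} [CommGroup A]
    (hA : ∀ m : spin Q, ((m : (CliffordAlgebra Q)ˣ) : CliffordAlgebra Q) = -1 →
      Nonempty (A ≃* ((QuotientGroup.mk' (Subgroup.center (Cfsg.Omega F ⇑Q))).comp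
        (Spin.proj hB h2 hn)).ker)) :
    Cfsg.HasSchurMultiplier (Cfsg.POmega F ⇑Q) A := by
  haveI := finite_spin hB h2 hn
  obtain ⟨m, hm⟩ := exists_neg_one hB h2 hn
  obtain ⟨hcard, -⟩ := ker_eq hB h2 hn (Qb := Qb) hm
  have hperf := Spin.commutator_eq_top hB h2 hn
  set f := (QuotientGroup.mk' (Subgroup.center (Cfsg.Omega F ⇑Q))).comp (Spin.proj hB h2 hn) with hf
  have hfs : Function.Surjective f :=
    (QuotientGroup.mk'_surjective _).comp (Spin.proj_surjective hB h2 hn)
  have hfc : f.ker ≤ Subgroup.center (spin Q) := by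
    intro k hk
    rw [hf, MonoidHom.mem_ker, MonoidHom.comp_apply, QuotientGroup.mk'_apply,
      QuotientGroup.eq_one_iff] at hk
    -- conjugation is trivial modulo the kernel, so trivial on the perfect group
    have hconj : ((MulAut.conj k).toMonoidHom : spin Q →* spin Q) = MonoidHom.id _ := by
      refine CfsgLib.Schur.CoverGraph.eq_of_perfect hperf (Spin.ker_le_center hB h2 hn) fun x => ?_
      show Spin.proj hB h2 hn (k * x * k⁻¹) = Spin.proj hB h2 hn x
      rw [map_mul, map_mul, map_inv, ← Subgroup.mem_center_iff.1 hk, mul_inv_cancel_right]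
    rw [Subgroup.mem_center_iff]
    intro x
    have : k * x * k⁻¹ = x := DFunLike.congr_fun hconj x
    exact (mul_inv_eq_iff_eq_mul.1 this).symm
  refine ⟨⟨spin Q, inferInstance, inferInstance, f, ⟨hfs, hfc, by rw [hperf]; exact le_top⟩,
    ⟨(hA m hm).some.symm⟩⟩, fun Γ _ _ τ hτ => ?_⟩
  refine hasSchurMultiplier_of_cover hperf f hfs hfc (hA m hm) (fun Δ hΔ => ?_) hτ
  set p := (MonoidHom.fst (spin Q) Γ).comp Δ.subtype
  have hΔp : commutator Δ = ⊤ := perfect_of_stem hΔ hperf
  let q := (Spin.proj hB h2 hn).comp p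
  have hqc : q.ker ≤ Subgroup.center Δ := by
    intro x hx
    have hconj : ((MulAut.conj x).toMonoidHom : Δ →* Δ) = MonoidHom.id _ := by
      refine CfsgLib.Schur.CoverGraph.eq_of_perfect hΔp hΔ.2.1 fun y => ?_
      show p (x * y * x⁻¹) = p y
      rw [map_mul, map_mul, map_inv, ← Subgroup.mem_center_iff.1 (Spin.ker_le_center hB h2 hn hx) (p y),
        mul_inv_cancel_right]
    rw [Subgroup.mem_center_iff]
    intro y
    exact (mul_inv_eq_iff_eq_mul.1 (DFunLike.congr_fun hconj y)).symm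
  have hle := Qb q ((Spin.proj_surjective hB h2 hn).comp hΔ.1) hqc hΔp
  let ψ : q.ker → (Spin.proj hB h2 hn).ker := fun x => ⟨p x.1, x.2⟩
  have hψ : Function.Surjective ψ := fun k => by
    obtain ⟨x, hx⟩ := hΔ.1 k.1
    exact ⟨⟨x, by show Spin.proj hB h2 hn (p x) = 1; rw [hx]; exact k.2⟩, Subtype.ext hx⟩
  have hψi : Function.Injective ψ := (hψ.bijective_of_nat_card_le (by omega)).1
  rw [← MonoidHom.ker_eq_bot_iff, Subgroup.eq_bot_iff_forall]
  intro x hx
  have h1 : x ∈ q.ker := by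
    show Spin.proj hB h2 hn (p x) = 1
    rw [MonoidHom.mem_ker.1 hx, map_one]
  exact congrArg Subtype.val (hψi (a₁ := ⟨x, h1⟩) (a₂ := 1) (Subtype.ext (by
    show p x = p 1
    rw [map_one]; exact hx)))

theorem mem_ker_iff {k : spin Q} :
    k ∈ ((QuotientGroup.mk' (Subgroup.center (Cfsg.Omega F ⇑Q))).comp (Spin.proj hB h2 hn)).ker ↔
      Spin.proj hB h2 hn k ∈ Subgroup.center (Cfsg.Omega F ⇑Q) := by
  rw [MonoidHom.mem_ker, MonoidHom.comp_apply, QuotientGroup.mk'_apply, QuotientGroup.eq_one_iff]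

/-- Without `-1` in `Ω` the kernel over `PΩ` has order two. -/
theorem iso_two (Qb : Bound Q)
    (hneg : ¬ ∃ g : Grp Q, g ∈ Cfsg.Omega F ⇑Q ∧ ((g : GL ι F) : Matrix ι ι F) = -1)
    {A : Type*} [CommGroup A] (hA : Nat.card A = 2) {m : spin Q}
    (hm : ((m : (CliffordAlgebra Q)ˣ) : CliffordAlgebra Q) = -1) :
    Nonempty (A ≃* ((QuotientGroup.mk' (Subgroup.center (Cfsg.Omega F ⇑Q))).comp
      (Spin.proj hB h2 hn)).ker) := by
  haveI : Fact (Nat.Prime 2) := ⟨Nat.prime_two⟩
  have hc := (card_center_omega hB hn).1 fun g hg hgm => absurd ⟨g, hg, hgm⟩ hneg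
  have he : ((QuotientGroup.mk' (Subgroup.center (Cfsg.Omega F ⇑Q))).comp
      (Spin.proj hB h2 hn)).ker = (Spin.proj hB h2 hn).ker := by
    ext k
    rw [mem_ker_iff hB h2 hn, MonoidHom.mem_ker]
    refine ⟨fun h => ?_, fun h => by rw [h]; exact one_mem _⟩
    exact Subgroup.mem_bot.1 (Subgroup.eq_bot_of_card_eq _ hc ▸ h)
  refine ⟨mulEquivOfPrimeCardEq (p := 2) hA ?_⟩
  rw [he]
  exact (ker_eq hB h2 hn (Qb := Qb) hm).1

omit hn in
/-- An orthonormal frame when the discriminant is a square. -/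
theorem exists_unit_frame {l : ℕ} (hl : 1 ≤ l) (hn2 : Module.finrank F (ι → F) = 2 * l)
    (hneg : ∃ g : Grp Q, g ∈ Cfsg.Omega F ⇑Q ∧ ((g : GL ι F) : Matrix ι ι F) = -1) :
    ∃ x : Fin (2 * l) → ι → F, (∀ i, Q (x i) = 1) ∧
      ∀ i j, i ≠ j → QuadraticMap.polar ⇑Q (x i) (x j) = 0 := by
  classical
  -- adding a vector to a frame
  have ext' : ∀ (k : ℕ) (x : Fin k → ι → F), (∀ i, Q (x i) = 1) →
      (∀ i j, i ≠ j → QuadraticMap.polar ⇑Q (x i) (x j) = 0) →
      NondegOn Q (orth Q (Submodule.span F (Set.range x))) ∧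
        Module.finrank F (orth Q (Submodule.span F (Set.range x))) + k =
          Module.finrank F (ι → F) := by
    intro k x h1 h2'
    have hli := linearIndependent_frame h2 x (fun i => by rw [h1]; exact one_ne_zero) h2'
    refine ⟨nondegOn_orth hB ?_, ?_⟩
    · intro w hw h
      rw [Submodule.mem_span_range_iff_exists_fun] at hw
      obtain ⟨g, rfl⟩ := hw
      refine Finset.sum_eq_zero fun i _ => ?_
      have := h (x i) (Submodule.subset_span ⟨i, rfl⟩)
      rw [b_sum_left, Finset.sum_eq_single i (fun j _ hj => by rw [b_smul_left, h2' j i hj, mul_zero])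
        (by simp), b_smul_left, b_self, h1, mul_one] at this
      rw [(mul_eq_zero.1 this).resolve_right h2, zero_smul]
    · have := finrank_orth hB (Submodule.span F (Set.range x))
      rw [finrank_span_eq_card hli, Fintype.card_fin] at this
      omega
  have snoc : ∀ (k : ℕ) (x : Fin k → ι → F), (∀ i j, i ≠ j → QuadraticMap.polar ⇑Q (x i) (x j) = 0) →
      ∀ y ∈ orth Q (Submodule.span F (Set.range x)), ∀ i j : Fin (k + 1), i ≠ j →
        QuadraticMap.polar ⇑Q ((Fin.snoc x y : Fin (k + 1) → ι → F) i)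
          ((Fin.snoc x y : Fin (k + 1) → ι → F) j) = 0 := by
    intro k x hx y hy i j hij
    have hy' : ∀ i, QuadraticMap.polar ⇑Q (x i) y = 0 := fun i =>
      mem_orth.1 hy _ (Submodule.subset_span ⟨i, rfl⟩)
    induction i using Fin.lastCases with
    | last =>
      induction j using Fin.lastCases with
      | last => exact absurd rfl hij
      | cast j => rw [Fin.snoc_last, Fin.snoc_castSucc, b_comm]; exact hy' j
    | cast i =>
      induction j using Fin.lastCases with
      | last => rw [Fin.snoc_last, Fin.snoc_castSucc]; exact hy' i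
      | cast j =>
        rw [Fin.snoc_castSucc, Fin.snoc_castSucc]
        exact hx i j fun e => hij (by rw [e])
  have build : ∀ k, k + 1 ≤ 2 * l → ∃ x : Fin k → ι → F, (∀ i, Q (x i) = 1) ∧
      ∀ i j, i ≠ j → QuadraticMap.polar ⇑Q (x i) (x j) = 0 := by
    intro k
    induction k with
    | zero => exact fun _ => ⟨Fin.elim0, fun i => i.elim0, fun i => i.elim0⟩
    | succ k ih =>
      intro hk
      obtain ⟨x, h1, h2'⟩ := ih (by omega)
      obtain ⟨hnd, hd⟩ := ext' k x h1 h2'
      obtain ⟨y, hy, hy1⟩ := univ_of_dim (Q := Q) (R := orth Q (Submodule.span F (Set.range x)))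
        (by
          rw [(Submodule.eq_bot_iff _).2 fun z (hz : z ∈ orth Q (Submodule.span F (Set.range x)) ⊓
            orth Q (orth Q (Submodule.span F (Set.range x)))) => nondeg_inf hnd hz.1 hz.2, finrank_bot]
          omega) 1 one_ne_zero
      refine ⟨Fin.snoc x y, fun i => ?_, snoc k x h2' y hy⟩
      induction i using Fin.lastCases with
      | last => rw [Fin.snoc_last]; exact hy1
      | cast i => rw [Fin.snoc_castSucc]; exact h1 i
  obtain ⟨k, hk⟩ : ∃ k, 2 * l = k + 1 := ⟨2 * l - 1, by omega⟩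
  obtain ⟨x, h1, h2'⟩ := build k (by omega)
  obtain ⟨hnd, hd⟩ := ext' k x h1 h2'
  obtain ⟨y, hy, hy0⟩ := (orth Q (Submodule.span F (Set.range x))).exists_mem_ne_zero_of_ne_bot
    fun e => by rw [e, finrank_bot] at hd; omega
  have hspan : Submodule.span F {y} = orth Q (Submodule.span F (Set.range x)) := by
    refine Submodule.eq_of_le_of_finrank_eq ((Submodule.span_singleton_le_iff_mem _ _).2 hy) ?_
    rw [finrank_span_singleton hy0]
    omega
  have hQy : Q y ≠ 0 := fun e => hy0 (hnd y hy fun z hz => by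
    rw [← hspan, Submodule.mem_span_singleton] at hz
    obtain ⟨r, rfl⟩ := hz
    rw [b_smul_right, b_self_zero e, mul_zero])
  have hall : ∀ i, Q ((Fin.snoc x y : Fin (k + 1) → ι → F) i) ≠ 0 := fun i => by
    induction i using Fin.lastCases with
    | last => rw [Fin.snoc_last]; exact hQy
    | cast i => rw [Fin.snoc_castSucc, h1]; exact one_ne_zero
  have hsq := (neg_one_mem_omega_iff hB h2 (by rw [Fintype.card_fin]; omega)
    (by rw [Fintype.card_fin, ← hk]; exact even_two_mul l) (by omega)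
    (Fin.snoc x y : Fin (k + 1) → ι → F) hall (snoc k x h2' y hy)).1 hneg
  rw [Fin.prod_univ_castSucc] at hsq
  simp only [Fin.snoc_castSucc, Fin.snoc_last, h1, Finset.prod_const_one, one_mul] at hsq
  obtain ⟨d, hd'⟩ := hsq
  have hd0 : d ≠ 0 := fun e => hQy (by rw [hd', e, mul_zero])
  rw [hk]
  refine ⟨Fin.snoc x (d⁻¹ • y), fun i => ?_, snoc k x h2' _ (Submodule.smul_mem _ _ hy)⟩
  induction i using Fin.lastCases with
  | last => rw [Fin.snoc_last, q_smul, hd']; field_simp
  | cast i => rw [Fin.snoc_castSucc]; exact h1 i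

theorem exists_z {l : ℕ} (hl : 1 ≤ l) (hn2 : Module.finrank F (ι → F) = 2 * l)
    (hneg : ∃ g : Grp Q, g ∈ Cfsg.Omega F ⇑Q ∧ ((g : GL ι F) : Matrix ι ι F) = -1) :
    ∃ z : spin Q, (((z * z : spin Q) : (CliffordAlgebra Q)ˣ) : CliffordAlgebra Q) = (-1) ^ l ∧
      ((((Spin.proj hB h2 hn z : Cfsg.Omega F ⇑Q) : Grp Q) : GL ι F) : Matrix ι ι F) = -1 := by
  classical
  obtain ⟨x, hx, hp⟩ := exists_unit_frame hB h2 hl hn2 hneg
  have sqx : ∀ i, CliffordAlgebra.ι Q (x i) * CliffordAlgebra.ι Q (x i) = 1 := fun i => by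
    rw [sq_smul, hx, one_smul]
  have key : ∀ k, k ≤ l → ∃ z : spin Q,
      (((z * z : spin Q) : (CliffordAlgebra Q)ˣ) : CliffordAlgebra Q) = (-1) ^ k ∧
      ∀ j : Fin (2 * l), ((z : (CliffordAlgebra Q)ˣ) : CliffordAlgebra Q) * CliffordAlgebra.ι Q (x j) =
        (if (j : ℕ) < 2 * k then (-1 : F) else 1) • (CliffordAlgebra.ι Q (x j) *
          ((z : (CliffordAlgebra Q)ˣ) : CliffordAlgebra Q)) := by
    intro k
    induction k with
    | zero => exact fun _ => ⟨1, by simp, fun j => by simp⟩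
    | succ k ih =>
      intro hk
      obtain ⟨z, hz2, hz⟩ := ih (by omega)
      let a : Fin (2 * l) := ⟨2 * k, by omega⟩
      let b : Fin (2 * l) := ⟨2 * k + 1, by omega⟩
      have hab : a ≠ b := fun e => by simp [a, b] at e
      obtain ⟨p, hpab⟩ := pair_mem hB h2 hn (hp a b hab) (by rw [hx, hx, one_mul])
      set A := CliffordAlgebra.ι Q (x a) with hA
      set Bb := CliffordAlgebra.ι Q (x b) with hBb
      set Z := ((z : (CliffordAlgebra Q)ˣ) : CliffordAlgebra Q) with hZ
      have za : Z * A = A * Z := by rw [hz a, if_neg (by simp [a]), one_smul]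
      have zb : Z * Bb = Bb * Z := by rw [hz b, if_neg (by simp [b]), one_smul]
      have hab2 : Bb * A = -(A * Bb) := anti (hp b a hab.symm)
      have pp : A * Bb * (A * Bb) = -1 := by
        rw [mul_assoc A, ← mul_assoc Bb A, hab2, neg_mul, mul_neg, mul_assoc A Bb, sqx b, mul_one,
          sqx a]
      refine ⟨z * p, ?_, fun j => ?_⟩
      · show Z * ((p : (CliffordAlgebra Q)ˣ) : CliffordAlgebra Q) *
          (Z * ((p : (CliffordAlgebra Q)ˣ) : CliffordAlgebra Q)) = _
        rw [hpab]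
        calc Z * (A * Bb) * (Z * (A * Bb)) = Z * (A * (Bb * Z)) * (A * Bb) := by
              simp only [mul_assoc]
          _ = Z * (A * Z * Bb) * (A * Bb) := by rw [← zb]; simp only [mul_assoc]
          _ = Z * Z * (A * Bb * (A * Bb)) := by rw [← za]; simp only [mul_assoc]
          _ = (-1) ^ (k + 1) := by
              rw [pp, show Z * Z = (-1) ^ k from hz2, pow_succ]
      · show Z * ((p : (CliffordAlgebra Q)ˣ) : CliffordAlgebra Q) * CliffordAlgebra.ι Q (x j) =
          _ • (_ * (Z * ((p : (CliffordAlgebra Q)ˣ) : CliffordAlgebra Q)))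
        rw [hpab]
        set J := CliffordAlgebra.ι Q (x j) with hJ
        by_cases hja : j = a
        · subst hja
          rw [if_pos (show 2 * k < 2 * (k + 1) by omega), neg_one_smul]
          calc Z * (A * Bb) * A = Z * A * (Bb * A) := by simp only [mul_assoc]
            _ = _ := by rw [hab2, za, mul_neg, mul_assoc A Z]
        by_cases hjb : j = b
        · subst hjb
          rw [if_pos (show 2 * k + 1 < 2 * (k + 1) by omega), neg_one_smul]
          calc Z * (A * Bb) * Bb = Z * (A * (Bb * Bb)) := by simp only [mul_assoc]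
            _ = A * Z := by rw [sqx b, mul_one, za]
            _ = -(Bb * (Z * (A * Bb))) := by
              rw [← mul_assoc Bb, ← zb, mul_assoc Z, ← mul_assoc Bb, hab2, neg_mul, mul_neg, neg_neg,
                mul_assoc A Bb, sqx b, mul_one, za]
        have hlt : ((j : ℕ) < 2 * (k + 1)) ↔ ((j : ℕ) < 2 * k) := by
          have h1 : (j : ℕ) ≠ 2 * k := fun e => hja (Fin.ext e)
          have h2 : (j : ℕ) ≠ 2 * k + 1 := fun e => hjb (Fin.ext e)
          omega
        simp only [hlt]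
        have jb : Bb * J = -(J * Bb) := anti (hp b j (Ne.symm hjb))
        have ja : A * J = -(J * A) := anti (hp a j (Ne.symm hja))
        calc Z * (A * Bb) * J = Z * (A * (Bb * J)) := by simp only [mul_assoc]
          _ = Z * J * (A * Bb) := by
              rw [jb, mul_neg, ← mul_assoc A J, ja, neg_mul, neg_neg]
              simp only [mul_assoc]
          _ = _ := by rw [hz j, smul_mul_assoc, mul_assoc J]
  obtain ⟨z, hz2, hz⟩ := key l le_rfl
  refine ⟨z, hz2, ?_⟩
  have hneg' : ∀ j, ap (Spin.proj hB h2 hn z : Grp Q) (x j) = -x j := fun j => by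
    refine iota_injective hB h2 ?_
    rw [← Spin.proj_spec hB h2 hn z, hz j, if_pos j.2, neg_one_smul, neg_mul, mul_assoc,
      Units.mul_inv, mul_one, map_neg]
  have hli := linearIndependent_frame h2 x (fun i => by rw [hx]; exact one_ne_zero) hp
  haveI : Nonempty (Fin (2 * l)) := ⟨⟨0, by omega⟩⟩
  let bb := basisOfLinearIndependentOfCardEqFinrank hli (by rw [Fintype.card_fin, hn2])
  refine Matrix.ext_iff_mulVec.mpr fun v => ?_
  have hlin : Matrix.toLin' ((((Spin.proj hB h2 hn z : Cfsg.Omega F ⇑Q) : Grp Q) : GL ι F) :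
      Matrix ι ι F) = -LinearMap.id := bb.ext fun i => by
    rw [Matrix.toLin'_apply, LinearMap.neg_apply, LinearMap.id_apply,
      coe_basisOfLinearIndependentOfCardEqFinrank]
    exact hneg' i
  rw [← Matrix.toLin'_apply, hlin, Matrix.neg_mulVec, Matrix.one_mulVec]
  rfl

/-- With `-1` in `Ω` the kernel over `PΩ` has order four and the type is decided by the rank. -/
theorem iso_four (Qb : Bound Q) {l : ℕ} (hl : 1 ≤ l) (hn2 : Module.finrank F (ι → F) = 2 * l)
    (hneg : ∃ g : Grp Q, g ∈ Cfsg.Omega F ⇑Q ∧ ((g : GL ι F) : Matrix ι ι F) = -1)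
    {A : Type*} [CommGroup A] (hA : Nat.card A = 4)
    (hA' : (Odd l → IsCyclic A) ∧ (Even l → IsKleinFour A)) {m : spin Q}
    (hm : ((m : (CliffordAlgebra Q)ˣ) : CliffordAlgebra Q) = -1) :
    Nonempty (A ≃* ((QuotientGroup.mk' (Subgroup.center (Cfsg.Omega F ⇑Q))).comp
      (Spin.proj hB h2 hn)).ker) := by
  classical
  haveI := finite_spin hB h2 hn
  obtain ⟨hker, hkm⟩ := ker_eq hB h2 hn (Qb := Qb) hm
  obtain ⟨hm1, hmp⟩ := proj_neg_one hB h2 hn hm
  obtain ⟨z, hz2, hzn⟩ := exists_z hB h2 hn hl hn2 hneg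
  set K := ((QuotientGroup.mk' (Subgroup.center (Cfsg.Omega F ⇑Q))).comp
    (Spin.proj hB h2 hn)).ker with hK
  have hne : ∀ g : Cfsg.Omega F ⇑Q, (((g : Grp Q) : GL ι F) : Matrix ι ι F) = -1 → g ≠ 1 := by
    intro g hg e
    haveI : Nonempty ι := by
      by_contra hne
      rw [not_nonempty_iff] at hne
      rw [Module.finrank_pi, Fintype.card_eq_zero] at hn
      omega
    obtain ⟨i⟩ := (inferInstance : Nonempty ι)
    rw [e] at hg
    have := congrFun (congrFun hg i) i
    simp at this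
    exact h2 (by linear_combination this)
  have hscal : ∀ g ∈ Subgroup.center (Cfsg.Omega F ⇑Q), g = 1 ∨ g = Spin.proj hB h2 hn z := by
    intro g hg
    rcases commute_El_scalar hB hn (x := (g : Grp Q)) (fun a ha => congrArg Subtype.val
      (Subgroup.mem_center_iff.1 hg ⟨a, omega_eq_El hB hn ▸ ha⟩)) with h | h
    · exact Or.inl (Subtype.ext h)
    · exact Or.inr (Subtype.ext (Subtype.ext (Units.ext (h.trans hzn.symm))))
  have hzc : Spin.proj hB h2 hn z ∈ Subgroup.center (Cfsg.Omega F ⇑Q) := by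
    rw [Subgroup.mem_center_iff]
    intro a
    refine Subtype.ext (Subtype.ext (Units.ext ?_))
    show ((((a : Grp Q)) : GL ι F) : Matrix ι ι F) *
        (((Spin.proj hB h2 hn z : Grp Q) : GL ι F) : Matrix ι ι F) =
      (((Spin.proj hB h2 hn z : Grp Q) : GL ι F) : Matrix ι ι F) *
        ((((a : Grp Q)) : GL ι F) : Matrix ι ι F)
    rw [hzn, mul_neg, mul_one, neg_mul, one_mul]
  have hmem : ∀ k ∈ K, k = 1 ∨ k = m ∨ k = z ∨ k = z * m := by
    intro k hk
    rcases hscal _ ((mem_ker_iff hB h2 hn).1 hk) with h | h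
    · rcases hkm k h with h | h
      · exact Or.inl h
      · exact Or.inr (Or.inl h)
    · rcases hkm (z⁻¹ * k) (by rw [MonoidHom.mem_ker, map_mul, map_inv, h, inv_mul_cancel]) with h | h
      · exact Or.inr (Or.inr (Or.inl (inv_mul_eq_one.1 h).symm))
      · exact Or.inr (Or.inr (Or.inr (inv_mul_eq_iff_eq_mul.1 h)))
  have hzK : z ∈ K := (mem_ker_iff hB h2 hn).2 hzc
  have hmK : m ∈ K := (mem_ker_iff hB h2 hn).2 (by rw [hmp]; exact one_mem _)
  have hzne : z ≠ 1 ∧ z ≠ m := by
    refine ⟨fun e => hne _ hzn ?_, fun e => hne _ hzn ?_⟩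
    · rw [e, map_one]
    · rw [e, hmp]
  have hmm : m * m = 1 := Subtype.ext (Units.ext (by
    show ((m : (CliffordAlgebra Q)ˣ) : CliffordAlgebra Q) *
      ((m : (CliffordAlgebra Q)ˣ) : CliffordAlgebra Q) = 1
    rw [hm, neg_one_mul, neg_neg]))
  have hmz : m * z = z * m := Subtype.ext (Units.ext (by
    show ((m : (CliffordAlgebra Q)ˣ) : CliffordAlgebra Q) *
        ((z : (CliffordAlgebra Q)ˣ) : CliffordAlgebra Q) =
      ((z : (CliffordAlgebra Q)ˣ) : CliffordAlgebra Q) *
        ((m : (CliffordAlgebra Q)ˣ) : CliffordAlgebra Q)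
    rw [hm, neg_one_mul, mul_neg_one]))
  have hK4 : Nat.card K = 4 := by
    let f : Fin 4 → K := ![1, ⟨m, hmK⟩, ⟨z, hzK⟩, ⟨z, hzK⟩ * ⟨m, hmK⟩]
    have d1 : z * m ≠ 1 := fun e => hzne.2 ((eq_inv_of_mul_eq_one_left e).trans
      (inv_eq_of_mul_eq_one_right hmm))
    have d2 : z * m ≠ m := fun e => hzne.1 (mul_eq_right.1 e)
    have d3 : z * m ≠ z := fun e => hm1 (mul_eq_left.1 e)
    have hf : Function.Bijective f := by
      refine ⟨fun i j e => ?_, fun k => ?_⟩
      · have e' := congrArg Subtype.val e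
        fin_cases i <;> fin_cases j <;>
          simp [f, hm1, hm1.symm, hzne.1, hzne.1.symm, hzne.2, hzne.2.symm, d1, d1.symm, d2,
            d2.symm, d3, d3.symm] at e' ⊢
      · rcases hmem k.1 k.2 with h | h | h | h
        · exact ⟨0, Subtype.ext (by simp [f, h])⟩
        · exact ⟨1, Subtype.ext (by simp [f, h])⟩
        · exact ⟨2, Subtype.ext (by simp [f, h])⟩
        · exact ⟨3, Subtype.ext (by simp [f, h])⟩
    rw [← Nat.card_eq_of_bijective f hf, Nat.card_eq_fintype_card, Fintype.card_fin]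
  rcases Nat.even_or_odd l with hev | hod
  · haveI := hA'.2 hev
    have hzz : z * z = 1 := Subtype.ext (Units.ext (hz2.trans hev.neg_one_pow))
    have hexp : ∀ k : K, k * k = 1 := fun k => by
      refine Subtype.ext ?_
      show k.1 * k.1 = 1
      rcases hmem k.1 k.2 with h | h | h | h <;> rw [h]
      · exact mul_one 1
      · exact hmm
      · exact hzz
      · rw [mul_assoc, ← mul_assoc m, hmz, mul_assoc z m, hmm, mul_one, hzz]
    haveI : IsKleinFour K := ⟨hK4, by
      haveI : Nontrivial K := Finite.one_lt_card_iff_nontrivial.1 (by omega)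
      rw [Monoid.exponent_eq_prime_iff Nat.prime_two]
      intro g hg
      exact orderOf_eq_prime (by rw [sq]; exact hexp g) hg⟩
    exact IsKleinFour.nonempty_mulEquiv
  · haveI := hA'.1 hod
    haveI : IsCyclic K := by
      refine isCyclic_of_orderOf_eq_card (⟨z, hzK⟩ : K) ?_
      rw [hK4, Subgroup.orderOf_mk]
      have hzz : z * z = m := Subtype.ext (Units.ext (hz2.trans (hod.neg_one_pow.trans hm.symm)))
      refine orderOf_eq_prime_pow (p := 2) (n := 1) ?_ ?_
      · rw [pow_one, sq, hzz]; exact hm1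
      · rw [show (2 : ℕ) ^ (1 + 1) = 2 * 2 by norm_num, pow_mul, sq, sq, hzz, hmm]
    exact ⟨mulEquivOfCyclicCardEq (hA.trans hK4.symm)⟩

end CfsgLib.Schur.OmegaMult
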