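import Cfsg.Agent.Lib.Schur.SpStab
import Cfsg.Agent.Lib.Schur.SpTwo
import Cfsg.Agent.Lib.Schur.SpFour
import Cfsg.Agent.Lib.Schur.OmegaOdd
import Cfsg.Agent.Lib.Schur.OmegaMult
import Cfsg.Agent.Lib.Classical.OrthCenter
import Cfsg.Agent.Lib.Classical.OrthForms
import Cfsg.Agent.Lib.Classical.Forms

/-!
# Central extensions of `Ω` in characteristic two

The stabiliser of a vector of norm one is the symplectic group of two dimensions less, so a perfect
central extension splits over it, and the graph of these vectors with polar value one trivialises the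
extension.
-/

set_option autoImplicit false
set_option linter.unusedSectionVars false

namespace CfsgLib.Schur.OmegaEven

open CfsgLib.Orth CfsgLib.Schur.OmegaGraph CfsgLib.Schur.CoverLocal
open scoped commutatorElement

variable {F : Type*} [Field F] [Finite F] {ι : Type} [Fintype ι] [DecidableEq ι]
variable {Q : QuadraticForm F (ι → F)}

local notation "B" => QuadraticMap.polar (DFunLike.coe Q)

theorem neg_self (h2 : (2 : F) = 0) (x : F) : -x = x := by linear_combination (-x) * h2

theorem exists_sqrt (h2 : (2 : F) = 0) : ∃ r : F ≃+* F, ∀ x, r x * r x = x := by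
  haveI : CharP F 2 := CharTwo.of_one_ne_zero_of_two_eq_zero one_ne_zero h2
  refine ⟨(frobeniusEquiv F 2).symm, fun x => ?_⟩
  rw [← sq]
  exact frobenius_apply_frobeniusEquiv_symm F 2 x

/-- A line through a vector of nonzero norm is universal. -/
theorem univ_line (h2 : (2 : F) = 0) {v : ι → F} (hv : Q v = 1) :
    Univ Q (Submodule.span F {v}) := fun a _ => by
  obtain ⟨r, hr⟩ := exists_sqrt h2
  exact ⟨r a • v, Submodule.smul_mem _ _ (Submodule.mem_span_singleton_self v),
    by rw [q_smul, hr, hv, mul_one]⟩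

/-- Every value is taken on a coset of a subspace that is not totally isotropic. -/
theorem exists_in_coset (h2 : (2 : F) = 0) {R : Submodule F (ι → F)}
    (hR : ¬ R ≤ orth Q R) (w : ι → F) (a : F) : ∃ r ∈ R, Q (w + r) = a := by
  obtain ⟨f, hf, hf'⟩ := SetLike.not_le_iff_exists.1 hR
  obtain ⟨e, he, hef⟩ : ∃ e ∈ R, B e f ≠ 0 := by
    by_contra h
    push Not at h
    exact hf' (mem_orth.2 h)
  obtain ⟨e', he', he1⟩ : ∃ e' ∈ R, B e' f = 1 :=
    ⟨(B e f)⁻¹ • e, R.smul_mem _ he, by rw [b_smul_left, inv_mul_cancel₀ hef]⟩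
  have hee : ∀ x, B x x = 0 := fun x => by rw [b_self, h2, zero_mul]
  set w' := w + B w f • e' + B w e' • f with hw'
  clear_value w'
  have h1 : B w' e' = 0 := by
    rw [hw', b_add_left, b_add_left, b_smul_left, b_smul_left, hee, b_comm f e', he1]
    linear_combination (B w e') * h2
  have h1' : B w' f = 0 := by
    rw [hw', b_add_left, b_add_left, b_smul_left, b_smul_left, hee, he1]
    linear_combination (B w f) * h2
  suffices h : ∃ s t : F, Q (w' + (s • e' + t • f)) = a by
    obtain ⟨s, t, h⟩ := h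
    refine ⟨B w f • e' + B w e' • f + (s • e' + t • f), ?_, by rw [← h, hw']; congr 1; abel⟩
    exact R.add_mem (R.add_mem (R.smul_mem _ he') (R.smul_mem _ hf))
      (R.add_mem (R.smul_mem _ he') (R.smul_mem _ hf))
  have hval : ∀ s t : F, Q (w' + (s • e' + t • f)) = Q w' + (s * s * Q e' + t * t * Q f + s * t) :=
    fun s t => by
      simp only [q_add, q_smul, b_add_right, b_smul_right, b_smul_left, h1, h1', he1]
      ring
  by_cases hQ : Q e' = 0
  · exact ⟨a - Q w' - Q f, 1, by rw [hval, hQ]; ring⟩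
  · obtain ⟨r, hr⟩ := exists_sqrt h2
    exact ⟨r ((a - Q w') / Q e'), 0, by rw [hval, hr]; field_simp; ring⟩

variable (h2 : (2 : F) = 0) (hB : Nondeg Q) (hn : 8 ≤ Module.finrank F (ι → F))
include h2 hB hn

/-- A vertex with prescribed inner products. -/
theorem exists_vtx {k : ℕ} {p : Fin k → ι → F} (hp : LinearIndependent F p)
    (hk : k ≤ 3 ∨ k ≤ 4 ∧ ∃ i j, B (p i) (p j) ≠ 0) (f : Fin k → F) :
    ∃ w : Vtx Q (1 : F), ∀ i, B (p i) w.vec = f i := by
  obtain ⟨w, hw⟩ := exists_prescribed hB hp f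
  set P := Submodule.span F (Set.range p)
  have hP : Module.finrank F P = k := by
    rw [finrank_span_eq_card hp, Fintype.card_fin]
  have h1 := finrank_orth hB P
  have hR : ¬ orth Q P ≤ orth Q (orth Q P) := fun hle => by
    rw [orth_orth hB] at hle
    have h3 : Module.finrank F (orth Q P) ≤ Module.finrank F ↥(P ⊓ orth Q P) :=
      Submodule.finrank_mono (le_inf hle le_rfl)
    rcases hk with hk | ⟨hk, i, j, hij⟩
    · have := Submodule.finrank_mono (inf_le_left : P ⊓ orth Q P ≤ P)
      omega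
    · have hpl : IsPlane Q (p i) (p j) := by
        simp [IsPlane, b_self, h2, hij]
      have := finrank_rad_le hB hpl (P := P) (Submodule.subset_span ⟨i, rfl⟩)
        (Submodule.subset_span ⟨j, rfl⟩)
      omega
  obtain ⟨r, hr, hQ⟩ := exists_in_coset h2 hR w 1
  exact ⟨⟨w + r, hQ⟩, fun i => by
    show B (p i) (w + r) = f i
    rw [b_add_right, hw, mem_orth.1 hr _ (Submodule.subset_span ⟨i, rfl⟩), add_zero]⟩

omit hB hn in
theorem hD : 4 * (1 : F) * 1 - (1 : F) * 1 ≠ 0 := by
  rw [show (4 : F) = 2 * 2 by norm_num, h2]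
  simp

omit hB hn in
theorem vtx_ne_zero (x : Vtx Q (1 : F)) : x.vec ≠ 0 := fun e =>
  one_ne_zero (α := F) (by rw [← x.norm, e, QuadraticMap.map_zero])

omit hB hn in
theorem self_zero (x : ι → F) : B x x = 0 := by rw [b_self, h2, zero_mul]

omit hB hn in
theorem eq_of_smul {x y : Vtx Q (1 : F)} {a : F} (e : a • x.vec = y.vec) : y = x := by
  have h := congrArg Q e
  rw [q_smul, x.norm, y.norm, mul_one] at h
  have ha : a = 1 := by
    rcases mul_self_eq_one_iff.1 h with h | h
    · exact h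
    · rw [h, neg_self h2]
  rw [ha, one_smul] at e
  exact Vtx.ext e.symm

omit hB hn in
theorem indep_two {x y : Vtx Q (1 : F)} (hne : x ≠ y) : LinearIndependent F ![x.vec, y.vec] :=
  (LinearIndependent.pair_iff' (vtx_ne_zero h2 x)).2 fun _ e => hne (eq_of_smul h2 e).symm

theorem exists_edge_vtx (v : Vtx Q (1 : F)) : ∃ u, Adj 1 v u := by
  obtain ⟨u, hu⟩ := exists_vtx h2 hB hn (p := ![v.vec])
    (linearIndependent_unique_iff.2 (vtx_ne_zero h2 v)) (Or.inl (by omega)) (fun _ => 1)
  exact ⟨u, hu 0⟩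

theorem exists_common (v x : Vtx Q (1 : F)) : ∃ z, Adj 1 v z ∧ Adj 1 z x := by
  by_cases hvx : v = x
  · obtain ⟨u, hu⟩ := exists_edge_vtx h2 hB hn v
    exact ⟨u, hu, by subst hvx; unfold Adj at hu ⊢; rwa [b_comm]⟩
  obtain ⟨w, hw⟩ := exists_vtx h2 hB hn (indep_two h2 hvx) (Or.inl (by omega)) (fun _ => 1)
  refine ⟨w, hw 0, ?_⟩
  show B w.vec x.vec = 1
  rw [b_comm]; exact hw 1

omit hB hn in
theorem indep_three {a : ι → F} {x y : Vtx Q (1 : F)} (hxy : x ≠ y)
    (ha : a ∉ Submodule.span F ({x.vec, y.vec} : Set (ι → F))) :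
    LinearIndependent F ![a, x.vec, y.vec] := by
  refine linearIndependent_finCons.2 ⟨indep_two h2 hxy, ?_⟩
  rwa [Matrix.range_cons, Matrix.range_cons, Matrix.range_empty, Set.union_empty,
    ← Set.insert_eq]

theorem three (v : Vtx Q (1 : F)) : CoverGraph.Three (Adj (1 : F)) v := by
  intro x y h
  have hsymm : ∀ {a b : Vtx Q (1 : F)}, Adj 1 a b → Adj 1 b a := fun h => by
    unfold Adj at h ⊢; rwa [b_comm]
  have hne : ∀ {a b : Vtx Q (1 : F)}, Adj 1 a b → a ≠ b := fun {a b} h e => by
    subst e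
    exact one_ne_zero (α := F) (h.symm.trans (self_zero h2 _))
  have com : ∀ a b, Adj 1 a b →
      v.vec ∉ Submodule.span F ({a.vec, b.vec} : Set (ι → F)) →
      CoverGraph.Com (Adj (1 : F)) v a b := fun a b hab hv => by
    obtain ⟨w, hw⟩ := exists_vtx h2 hB hn (indep_three h2 (hne hab) hv) (Or.inl le_rfl) (fun _ => 1)
    exact ⟨w, hw 0, hsymm (hw 1), hsymm (hw 2)⟩
  by_cases hv : v.vec ∈ Submodule.span F ({x.vec, y.vec} : Set (ι → F))
  swap
  · exact Or.inl (com x y h hv)
  by_cases hvxy : v = x ∨ v = y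
  · left
    obtain ⟨w, hw⟩ := exists_vtx h2 hB hn (indep_two h2 (hne h)) (Or.inl (by omega)) (fun _ => 1)
    refine ⟨w, ?_, hsymm (hw 0), hsymm (hw 1)⟩
    rcases hvxy with rfl | rfl
    · exact hw 0
    · exact hw 1
  push Not at hvxy
  right
  -- a vertex outside the plane adjacent to both ends
  have hlt : Submodule.span F ({x.vec, y.vec} : Set (ι → F)) ≠ ⊤ := fun e => by
    have := CfsgLib.Schur.OmegaOdd.finrank_span_pair_le (F := F) x.vec y.vec
    rw [e, finrank_top] at this
    omega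
  obtain ⟨e, -, he⟩ := SetLike.exists_of_lt (lt_top_iff_ne_top.2 hlt)
  obtain ⟨p, hp⟩ := exists_vtx h2 hB hn (indep_three h2 (hne h) he) (Or.inl le_rfl)
    ![B e (x.vec + y.vec) + 1, 1, 1]
  have hp0 : B e p.vec = B e (x.vec + y.vec) + 1 := hp 0
  have hp1 : B x.vec p.vec = 1 := hp 1
  have hp2 : B y.vec p.vec = 1 := hp 2
  have hpn : p.vec ∉ Submodule.span F ({x.vec, y.vec} : Set (ι → F)) := by
    intro hmem
    obtain ⟨s, t, hst⟩ := Submodule.mem_span_pair.1 hmem
    have hxy : B x.vec y.vec = 1 := h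
    have hs := hp2
    have ht := hp1
    rw [← hst, b_add_right, b_smul_right, b_smul_right, b_comm y.vec x.vec, hxy,
      self_zero h2, mul_one, mul_zero, add_zero] at hs
    rw [← hst, b_add_right, b_smul_right, b_smul_right, hxy,
      self_zero h2, mul_one, mul_zero, zero_add] at ht
    rw [← hst, hs, ht, one_smul, one_smul] at hp0
    exact one_ne_zero (α := F) (by linear_combination -hp0)
  -- `v` avoids the two new planes
  have hout : ∀ a, a ≠ v → a.vec ∈ Submodule.span F ({x.vec, y.vec} : Set (ι → F)) →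
      v.vec ∉ Submodule.span F ({a.vec, p.vec} : Set (ι → F)) := by
    intro a hav ha hmem
    obtain ⟨s, t, hst⟩ := Submodule.mem_span_pair.1 hmem
    by_cases ht : t = 0
    · rw [ht, zero_smul, add_zero] at hst
      exact hav (eq_of_smul h2 hst).symm
    · refine hpn ?_
      rw [show p.vec = t⁻¹ • (v.vec - s • a.vec) by
        rw [← hst, add_sub_cancel_left, smul_smul, inv_mul_cancel₀ ht, one_smul]]
      exact Submodule.smul_mem _ _ (Submodule.sub_mem _ hv (Submodule.smul_mem _ _ ha))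
  refine ⟨p, hp1, hsymm hp2, com x p hp1 (hout x hvxy.1.symm (Submodule.subset_span (by simp))), ?_⟩
  have := hout y hvxy.2.symm (Submodule.subset_span (by simp))
  exact com p y (hsymm hp2) (by rwa [Set.pair_comm])

theorem chain (v : Vtx Q (1 : F)) :
    ∀ x z z' : Vtx Q (1 : F), Adj 1 v z → Adj 1 z x → Adj 1 v z' → Adj 1 z' x → ¬ Adj 1 v x →
      Relation.ReflTransGen (fun a b => Adj 1 a b ∧ Adj 1 v b ∧ Adj 1 b x) z z' := by
  intro x z z' hvz hzx hvz' hz'x hvx
  have hsymm : ∀ {a b : Vtx Q (1 : F)}, Adj 1 a b → Adj 1 b a := fun h => by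
    unfold Adj at h ⊢; rwa [b_comm]
  have hne : ∀ {a b : Vtx Q (1 : F)}, Adj 1 a b → a ≠ b := fun {a b} h e => by
    subst e
    exact one_ne_zero (α := F) (h.symm.trans (self_zero h2 _))
  by_cases hxv : v = x
  · subst hxv
    by_cases hmem : z'.vec ∈ Submodule.span F ({v.vec, z.vec} : Set (ι → F))
    · obtain ⟨s, t, hst⟩ := Submodule.mem_span_pair.1 hmem
      have k1 : B v.vec z.vec = 1 := hvz
      have h1 : t = 1 := by
        have h' : B v.vec z'.vec = 1 := hvz'
        rwa [← hst, b_add_right, b_smul_right, b_smul_right, self_zero h2, k1, mul_zero, zero_add,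
          mul_one] at h'
      subst h1
      by_cases hs : s = 0
      · rw [hs, zero_smul, one_smul, zero_add] at hst
        obtain rfl : z = z' := Vtx.ext hst
        exact .refl
      · have hQ := z'.norm
        rw [← hst, one_smul, q_add, q_smul, b_smul_left, v.norm, z.norm, k1] at hQ
        have hs1 : s = 1 := by
          have h0 : s * (s + 1) = 0 := by linear_combination hQ
          linear_combination (mul_eq_zero.1 h0).resolve_left hs - h2
        refine .single ⟨?_, hvz', hz'x⟩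
        show B z.vec z'.vec = 1
        rw [← hst, hs1, one_smul, one_smul, b_add_right, self_zero h2, add_zero, b_comm, k1]
    · obtain ⟨w, hw⟩ := exists_vtx h2 hB hn (indep_three h2 (hne hvz) hmem) (Or.inl le_rfl)
        (fun _ => 1)
      exact .tail (.single (b := w) ⟨hw 2, hw 1, hsymm (hw 1)⟩) ⟨hsymm (hw 0), hvz', hz'x⟩
  -- the common neighbours are outside the plane
  set P2 := Submodule.span F ({v.vec, x.vec} : Set (ι → F)) with hP2
  have hout : ∀ a, Adj 1 v a → Adj 1 a x → a.vec ∉ P2 := by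
    intro a hva hax hmem
    obtain ⟨s, t, hst⟩ := Submodule.mem_span_pair.1 hmem
    set β := B v.vec x.vec with hβ
    have e1 : t * β = 1 := by
      have h' : B v.vec a.vec = 1 := hva
      rwa [← hst, b_add_right, b_smul_right, b_smul_right, self_zero h2, mul_zero, zero_add] at h'
    have e2 : s * β = 1 := by
      have h' : B a.vec x.vec = 1 := hax
      rwa [← hst, b_add_left, b_smul_left, b_smul_left, self_zero h2, mul_zero, add_zero] at h'
    have hQ := a.norm
    rw [← hst, q_add, q_smul, q_smul, b_smul_left, b_smul_right, v.norm, x.norm] at hQ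
    refine hvx ?_
    show β = 1
    have hst' : s = t := mul_right_cancel₀ (fun e => one_ne_zero (α := F) (by rw [← e1, e, mul_zero]))
      (e2.trans e1.symm)
    subst hst'
    linear_combination (-β) * hQ + (s * β + 1) * e1 + (s * s * β) * h2
  have ind : ∀ a, Adj 1 v a → Adj 1 a x → LinearIndependent F ![a.vec, v.vec, x.vec] :=
    fun a h h' => indep_three h2 hxv (hout a h h')
  have mid : ∀ a b, Adj 1 v a → Adj 1 a x → Adj 1 v b → Adj 1 b x →
      b.vec ∉ Submodule.span F (Set.range ![a.vec, v.vec, x.vec]) →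
      Relation.ReflTransGen (fun a b => Adj 1 a b ∧ Adj 1 v b ∧ Adj 1 b x) a b := by
    intro a b hva hax hvb hbx hb
    obtain ⟨w, hw⟩ := exists_vtx h2 hB hn (p := ![b.vec, a.vec, v.vec, x.vec])
      (linearIndependent_finCons.2 ⟨ind a hva hax, hb⟩)
      (Or.inr ⟨le_rfl, 2, 1, by
        show B v.vec a.vec ≠ 0
        rw [show B v.vec a.vec = 1 from hva]; exact one_ne_zero⟩) (fun _ => 1)
    exact .tail (.single (b := w) ⟨hw 1, hw 2, hsymm (hw 3)⟩) ⟨hsymm (hw 0), hvb, hbx⟩
  set P3 := Submodule.span F (Set.range ![z.vec, v.vec, x.vec]) with hP3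
  have hd3 : Module.finrank F P3 = 3 := by
    rw [hP3, finrank_span_eq_card (ind z hvz hzx), Fintype.card_fin]
  by_cases hz' : z'.vec ∈ P3
  swap
  · exact mid z z' hvz hzx hvz' hz'x hz'
  -- go through a common neighbour outside `P3`
  obtain ⟨e, he, he'⟩ : ∃ e ∈ orth Q P3, e ∉ P3 := by
    refine SetLike.not_le_iff_exists.1 fun hle => ?_
    have h1 := finrank_orth hB P3
    have h3 := Submodule.finrank_mono hle
    omega
  obtain ⟨w, hw⟩ := exists_vtx h2 hB hn (p := ![e, z.vec, v.vec, x.vec])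
    (linearIndependent_finCons.2 ⟨ind z hvz hzx, he'⟩)
    (Or.inr ⟨le_rfl, 2, 1, by
      show B v.vec z.vec ≠ 0
      rw [show B v.vec z.vec = 1 from hvz]; exact one_ne_zero⟩) (fun _ => 1)
  have hwP : w.vec ∉ P3 := fun h => one_ne_zero (α := F) ((hw 0).symm.trans (by
    show B e w.vec = 0
    rw [b_comm]
    exact mem_orth.1 he _ h))
  refine .head (b := w) ⟨hw 1, hw 2, hsymm (hw 3)⟩ (mid w z' (hw 2) (hsymm (hw 3)) hvz' hz'x ?_)
  intro h
  -- the two spans have dimension three, so `w` would lie in `P3`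
  have hle : Submodule.span F (Set.range ![z'.vec, v.vec, x.vec]) ≤
      Submodule.span F (Set.range ![w.vec, v.vec, x.vec]) := by
    rw [Submodule.span_le]
    rintro _ ⟨i, rfl⟩
    fin_cases i
    · exact h
    · exact Submodule.subset_span ⟨1, rfl⟩
    · exact Submodule.subset_span ⟨2, rfl⟩
  have hle' : Submodule.span F (Set.range ![z'.vec, v.vec, x.vec]) ≤ P3 := by
    rw [Submodule.span_le]
    rintro _ ⟨i, rfl⟩
    fin_cases i
    · exact hz'
    · exact Submodule.subset_span ⟨1, rfl⟩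
    · exact Submodule.subset_span ⟨2, rfl⟩
  have e1 := Submodule.eq_of_le_of_finrank_eq hle (by
    rw [finrank_span_eq_card (ind z' hvz' hz'x),
      finrank_span_eq_card (ind w (hw 2) (hsymm (hw 3)))])
  have hw0 : w.vec ∈ Submodule.span F (Set.range ![w.vec, v.vec, x.vec]) :=
    Submodule.subset_span ⟨0, rfl⟩
  exact hwP (hle' (e1.symm ▸ hw0))


/-! ### The stabiliser of a vertex -/

open Matrix CfsgLib.Classical.SympTrans

/-- Symplectic coordinates on the orthogonal of an edge. -/
theorem exists_coords (v u : Vtx Q (1 : F)) (hu : Adj 1 v u) :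
    ∃ (m : ℕ) (L : (Fin m ⊕ Fin m → F) →ₗ[F] ι → F) (P : (ι → F) →ₗ[F] Fin m ⊕ Fin m → F),
      2 * m + 2 = Module.finrank F (ι → F) ∧ (∀ y, P (L y) = y) ∧
      (∀ y, B v.vec (L y) = 0) ∧ (∀ y, B u.vec (L y) = 0) ∧
      (∀ y z, B (L y) (L z) = Cfsg.sympForm m F y z) ∧ P v.vec = 0 ∧ P u.vec = 0 ∧
      ∀ x, B v.vec x = 0 → x = L (P x) + B u.vec x • v.vec := by
  classical
  have hvu : B v.vec u.vec = 1 := hu
  set E := Submodule.span F (Set.range ![v.vec, u.vec]) with hE
  have hEn : NondegOn Q E := nondegOn_pair (hD h2) hB (by omega) hu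
  set W := orth Q E with hW
  have hWn : NondegOn Q W := nondegOn_orth hB hEn
  obtain ⟨m, b, b1, b2, b3⟩ := CfsgLib.Forms.exists_symplectic_basis_nondeg
    (LinearMap.BilinForm.restrict (QuadraticMap.polarBilin Q) W)
    (fun x => by
      show B (x : ι → F) (x : ι → F) = 0
      exact self_zero h2 _)
    (fun x hx => Subtype.ext (hWn x.1 x.2 fun y hy => hx ⟨y, hy⟩))
  have hbb : ∀ s t, B (b s : ι → F) (b t : ι → F) = if s = t.swap then (1 : F) else 0 := by
    rintro (i | i) (j | j)
    · simpa using b2 i j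
    · simpa using b1 i j
    · have : B (b (.inl j) : ι → F) (b (.inr i) : ι → F) = if j = i then 1 else 0 := b1 j i
      rw [b_comm, this]
      simp [eq_comm]
    · simpa using b3 i j
  let L : (Fin m ⊕ Fin m → F) →ₗ[F] ι → F := W.subtype ∘ₗ b.equivFun.symm.toLinearMap
  let P : (ι → F) →ₗ[F] Fin m ⊕ Fin m → F :=
    LinearMap.pi fun s => QuadraticMap.polarBilin Q (b s.swap : ι → F)
  have hPa : ∀ x s, P x s = B (b s.swap : ι → F) x := fun x s => rfl
  have hL : ∀ y, L y = ∑ s, y s • (b s : ι → F) := fun y => by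
    simp [L, Module.Basis.equivFun_symm_apply]
  have hLb : ∀ y t, B (L y) (b t : ι → F) = y t.swap := fun y t => by
    rw [hL, b_sum_left, Finset.sum_eq_single t.swap (fun s _ hs => by
      rw [b_smul_left, hbb, if_neg hs, mul_zero]) (by simp), b_smul_left, hbb, if_pos rfl, mul_one]
  have hbE : ∀ (w : W), B v.vec w = 0 ∧ B u.vec w = 0 := fun w =>
    ⟨mem_orth.1 w.2 _ (Submodule.subset_span ⟨0, rfl⟩),
      mem_orth.1 w.2 _ (Submodule.subset_span ⟨1, rfl⟩)⟩
  have hLW : ∀ y, L y ∈ W := fun y => (b.equivFun.symm y).2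
  refine ⟨m, L, P, ?_, fun y => ?_, fun y => (hbE ⟨_, hLW y⟩).1, fun y => (hbE ⟨_, hLW y⟩).2,
    fun y z => ?_, ?_, ?_, fun x hx => ?_⟩
  · have h1 := finrank_orth hB E
    have h3 : Module.finrank F E = 2 := by
      rw [hE, finrank_span_eq_card (plane_indep (isPlane (hD h2) hu)), Fintype.card_fin]
    have h4 : Module.finrank F W = m + m := by
      rw [Module.finrank_eq_card_basis b, Fintype.card_sum, Fintype.card_fin]
    rw [← hW] at h1
    omega
  · funext s
    rw [hPa, b_comm, hLb, Sum.swap_swap]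
  · rw [hL z, b_comm, b_sum_left, f_apply, Fintype.sum_sum_type, ← Finset.sum_add_distrib]
    refine Finset.sum_congr rfl fun i _ => ?_
    rw [b_smul_left, b_smul_left, b_comm (b _ : ι → F), hLb, b_comm (b _ : ι → F), hLb]
    simp only [Sum.swap_inl, Sum.swap_inr]
    linear_combination (y (.inl i) * z (.inr i)) * h2
  · funext s
    rw [hPa, b_comm]
    exact (hbE (b s.swap)).1
  · funext s
    rw [hPa, b_comm]
    exact (hbE (b s.swap)).2
  · -- the difference is orthogonal to everything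
    refine sub_eq_zero.1 ?_
    set d := x - (L (P x) + B u.vec x • v.vec) with hd
    have hW0 : ∀ t, B (b t : ι → F) d = 0 := fun t => by
      rw [hd, b_sub_right, b_add_right, b_smul_right, b_comm _ (L (P x)), hLb, hPa, Sum.swap_swap,
        b_comm (b t : ι → F) v.vec, (hbE (b t)).1, mul_zero, add_zero, sub_self]
    have hv0 : B v.vec d = 0 := by
      rw [hd, b_sub_right, b_add_right, b_smul_right, hx, (hbE ⟨_, hLW (P x)⟩).1, self_zero h2,
        mul_zero, add_zero, sub_zero]
    have hu0 : B u.vec d = 0 := by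
      rw [hd, b_sub_right, b_add_right, b_smul_right, (hbE ⟨_, hLW (P x)⟩).2, b_comm u.vec v.vec,
        hvu, mul_one, zero_add, sub_self]
    refine hB d fun y => ?_
    obtain ⟨a, ha, w, hw, rfl⟩ := exists_decomp hB hEn y
    rw [hE, Submodule.mem_span_range_iff_exists_fun] at ha
    obtain ⟨c, rfl⟩ := ha
    rw [b_comm, b_add_left, b_sum_left]
    have hwd : B w d = 0 := by
      have e := b.equivFun.symm_apply_apply ⟨w, hw⟩
      have e' : L (b.equivFun ⟨w, hw⟩) = w := congrArg Subtype.val e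
      rw [← e', hL, b_sum_left]
      exact Finset.sum_eq_zero fun s _ => by rw [b_smul_left, hW0, mul_zero]
    rw [hwd, add_zero]
    refine Finset.sum_eq_zero fun i _ => ?_
    rw [b_smul_left]
    fin_cases i <;> simp [hv0, hu0]

/-- The stabiliser of a vertex is the symplectic group of two dimensions less, reflection pairs
becoming transvections. -/
theorem exists_stab_equiv_vtx (v u : Vtx Q (1 : F)) (hu : Adj 1 v u) :
    ∃ (m : ℕ) (Φ : MulAction.stabilizer (Cfsg.Omega F ⇑Q) v ≃* symplecticGroup (Fin m) F)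
      (a : (Fin m ⊕ Fin m → F) → Vtx Q (1 : F)),
      2 * m + 2 = Module.finrank F (ι → F) ∧
      (∀ y, B v.vec (a y).vec = 0) ∧
      (∀ y z, B (a y).vec (a z).vec = Cfsg.sympForm m F y z) ∧
      (∀ z : Vtx Q (1 : F), B v.vec z.vec = 0 →
        ∃ y, z = a y ∧ (B z.vec u.vec = 0 → y ≠ 0)) ∧
      (∀ y g, g.1 • a y = a y ↔ app (Φ g) y = y) ∧
      ∀ y g, (∀ x, ap (g.1 : Grp Q) x =
          x + B v.vec x • v.vec + B (a y).vec x • (a y).vec) → Φ g = T y (1 : F) := by
  classical
  obtain ⟨m, L, P, hm, hPL, hvL, huL, hform, hPv, hPu, hdec⟩ := exists_coords h2 hB hn v u hu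
  have hvu : B v.vec u.vec = 1 := hu
  set S := MulAction.stabilizer (Cfsg.Omega F ⇑Q) v with hS
  have hgv : ∀ g : S, ap (g.1 : Grp Q) v.vec = v.vec := fun g =>
    (smul_eq_iff g.1 v v).1 g.2
  have hgp : ∀ (g : S) x, B v.vec (ap (g.1 : Grp Q) x) = B v.vec x := fun g x => by
    conv_lhs => rw [← hgv g, ap_b]
  -- the coordinates are blind to `v`
  have hP : ∀ x, B v.vec x = 0 → ∀ g : S,
      P (ap (g.1 : Grp Q) x) = P (ap (g.1 : Grp Q) (L (P x))) := fun x hx g => by
    conv_lhs => rw [hdec x hx]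
    rw [ap_add, ap_smul, hgv, map_add, map_smul, hPv, smul_zero, add_zero]
  let l : S → (Fin m ⊕ Fin m → F) →ₗ[F] (Fin m ⊕ Fin m → F) := fun g =>
    P ∘ₗ Matrix.mulVecLin (((g.1 : Grp Q) : GL ι F) : Matrix ι ι F) ∘ₗ L
  have hl : ∀ g y, l g y = P (ap (g.1 : Grp Q) (L y)) := fun g y => rfl
  have hmem : ∀ g : S, LinearMap.toMatrix' (l g) ∈ symplecticGroup (Fin m) F := fun g => by
    rw [mem_iff_f]
    intro y z
    rw [← Matrix.toLin'_apply, ← Matrix.toLin'_apply, Matrix.toLin'_toMatrix', hl, hl, ← hform,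
      ← hform]
    have e : ∀ y, B v.vec (ap (g.1 : Grp Q) (L y)) = 0 := fun y => by rw [hgp, hvL]
    conv_rhs => rw [← ap_b (g.1 : Grp Q), hdec _ (e y), hdec _ (e z)]
    rw [b_add_left, b_add_right, b_add_right, b_smul_left, b_smul_left, b_smul_right, b_smul_right,
      b_comm _ v.vec, hvL, hvL, self_zero h2]
    ring
  let φ₀ : S → symplecticGroup (Fin m) F := fun g => ⟨_, hmem g⟩
  have happ : ∀ g y, app (φ₀ g) y = P (ap (g.1 : Grp Q) (L y)) := fun g y => by
    show LinearMap.toMatrix' (l g) *ᵥ y = _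
    rw [← Matrix.toLin'_apply, Matrix.toLin'_toMatrix', hl]
  let φ : S →* symplecticGroup (Fin m) F := MonoidHom.mk' φ₀ fun g h => ext_app fun y => by
    rw [app_mul, happ, happ, happ, ← hP _ (by rw [hgp, hvL]) g]
    show P (ap ((g.1 : Grp Q) * (h.1 : Grp Q)) (L y)) = _
    rw [ap_mul]
  have happ' : ∀ g y, app (φ g) y = P (ap (g.1 : Grp Q) (L y)) := happ
  have hall : ∀ x, x = L (P (x - B v.vec x • u.vec)) + B u.vec (x - B v.vec x • u.vec) • v.vec +
      B v.vec x • u.vec := fun x => by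
    rw [← hdec _ (by rw [b_sub_right, b_smul_right, hvu, mul_one, sub_self]), sub_add_cancel]
  have hinj : Function.Injective φ := by
    rw [injective_iff_map_eq_one]
    intro g hg
    have hW : ∀ y, ap (g.1 : Grp Q) (L y) = L y := fun y => by
      have e := hdec (ap (g.1 : Grp Q) (L y)) (by rw [hgp, hvL])
      rw [← happ' g y, hg, app_one] at e
      have h := congrArg Q e
      rw [ap_q, q_add, q_smul, v.norm, b_smul_right, b_comm _ v.vec, hvL, mul_zero, add_zero,
        mul_one, left_eq_add] at h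
      rw [e, mul_self_eq_zero.1 h, zero_smul, add_zero]
    set x := ap (g.1 : Grp Q) u.vec - u.vec with hx
    have hvx : B v.vec x = 0 := by rw [hx, b_sub_right, hgp, sub_self]
    have hPx : P x = 0 := by
      rw [← hPL (P x)]
      have hLx : ∀ y, B (L y) x = 0 := fun y => by
        rw [hx, b_sub_right]
        conv_lhs => arg 1; rw [← hW y, ap_b]
        rw [sub_self]
      have h0 : ∀ y, Cfsg.sympForm m F y (P x) = (0 : F) := fun y => by
        have e := hLx y
        rwa [hdec x hvx, b_add_right, hform, b_smul_right, b_comm _ v.vec, hvL, mul_zero,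
          add_zero] at e
      have : P x = 0 := by
        funext s
        rcases s with i | i
        · have h := h0 (Pi.single (.inr i) 1)
          rw [f_apply, Finset.sum_eq_single i (fun j _ hj => by simp [hj]) (by simp)] at h
          simpa using h
        · have h := h0 (Pi.single (.inl i) 1)
          rw [f_apply, Finset.sum_eq_single i (fun j _ hj => by simp [hj]) (by simp)] at h
          simpa using h
      rw [hPL, this]
    have hxv := hdec x hvx
    rw [hPx, map_zero, zero_add] at hxv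
    set a := B u.vec x with ha
    have hgu : ap (g.1 : Grp Q) u.vec = u.vec + a • v.vec := by rw [← hxv, hx]; abel
    have hQ : Q (u.vec + a • v.vec) = Q u.vec := by rw [← hgu, ap_q]
    rw [q_add, q_smul, v.norm, b_smul_right, b_comm u.vec v.vec, hvu, mul_one, add_assoc,
      add_eq_left] at hQ
    have hext : ∀ w : Grp Q, ap w v.vec = v.vec → (∀ y, ap w (L y) = L y) →
        ap w u.vec = u.vec + a • v.vec → (g.1 : Grp Q) = w := fun w h1 h2' h3 => ext_ap fun y => by
      rw [hall y]
      simp only [ap_add, ap_smul, hgv, hW, hgu, h1, h2', h3]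
    by_cases ha0 : a = 0
    · exact Subtype.ext (Subtype.ext (hext 1 (ap_one _) (fun y => ap_one _)
        (by rw [ap_one, ha0, zero_smul, add_zero])))
    · exfalso
      have ha1 : a = 1 := by
        have h0 : a * (a + 1) = 0 := by linear_combination hQ
        linear_combination (mul_eq_zero.1 h0).resolve_left ha0 - h2
      obtain ⟨r, hr⟩ := exists_refl hB (v := v.vec) (by rw [v.norm]; exact one_ne_zero)
      have hgr : (g.1 : Grp Q) = r := hext r
        (by rw [refl_self hr]; exact funext fun i => neg_self h2 _)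
        (fun y => refl_fix hr (hvL y))
        (by rw [hr.2, v.norm, hvu, inv_one, one_mul, ha1, sub_eq_add_neg]
            congr 1
            exact funext fun i => neg_self h2 _)
      have hker := omega_eq_ker_dickson hB h2 (by omega) (by omega)
      have h1 : dickson hB r = 1 := by
        rw [← MonoidHom.mem_ker, ← hker, ← hgr]; exact g.1.2
      rw [dickson_refl hB hr] at h1
      exact absurd h1 (by decide)
  have hsurj : Function.Surjective φ := by
    intro s
    obtain ⟨r, hr⟩ := exists_sqrt h2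
    have hra : ∀ a b : F, r (a + b) = r a + r b := map_add r
    -- the correction along `v`
    let al : (Fin m ⊕ Fin m → F) →ₗ[F] F :=
      { toFun := fun y => r (Q (L (app s y)) + Q (L y))
        map_add' := fun y z => by
          rw [← hra]
          simp only [app_add, L.map_add, q_add, hform, f_app]
          congr 1
          linear_combination (Cfsg.sympForm m F y z) * h2
        map_smul' := fun c y => by
          simp only [app_smul, L.map_smul, q_smul, ← mul_add]
          rw [map_mul, map_mul, hr]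
          rfl }
    have hal : ∀ y, al y * al y = Q (L (app s y)) + Q (L y) := fun y => hr _
    set X := orth Q (Submodule.span F {v.vec}) with hX
    have hXv : ∀ x : X, B v.vec x.1 = 0 := fun x =>
      mem_orth.1 x.2 _ (Submodule.mem_span_singleton_self _)
    let ls : (Fin m ⊕ Fin m → F) →ₗ[F] (Fin m ⊕ Fin m → F) :=
      Matrix.mulVecLin (s : Matrix (Fin m ⊕ Fin m) (Fin m ⊕ Fin m) F)
    let ψ : X →ₗ[F] ι → F :=
      ((L ∘ₗ ls ∘ₗ P) + ((QuadraticMap.polarBilin Q u.vec) + al ∘ₗ P).smulRight v.vec) ∘ₗ X.subtype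
    have hψ : ∀ x : X, ψ x = L (app s (P x.1)) + (B u.vec x.1 + al (P x.1)) • v.vec := fun x => rfl
    have hψi : Function.Injective ψ := by
      rw [injective_iff_map_eq_zero]
      intro x hx
      rw [hψ] at hx
      have e1 := congrArg P hx
      rw [map_add, map_smul, hPL, hPv, smul_zero, add_zero, map_zero] at e1
      have hP0 : P x.1 = 0 := by
        by_contra hne
        exact app_ne_zero s hne e1
      rw [hP0] at hx
      rw [show app s (0 : Fin m ⊕ Fin m → F) = 0 from mulVec_zero _, map_zero, map_zero, zero_add,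
        add_zero] at hx
      refine Subtype.ext ?_
      rw [hdec x.1 (hXv x), hP0, map_zero, zero_add, hx]
      rfl
    have hψQ : ∀ x : X, Q (ψ x) = Q x.1 := fun x => by
      conv_rhs => rw [hdec x.1 (hXv x)]
      rw [hψ, q_add, q_add, q_smul, q_smul, v.norm, b_smul_right, b_smul_right, b_comm _ v.vec,
        b_comm _ v.vec, hvL, hvL]
      linear_combination hal (P x.1) + (B u.vec x.1 * al (P x.1) + Q (L (app s (P x.1)))) * h2
    obtain ⟨g, hg, hgX⟩ := exists_omega_map hB (by omega) ψ hψi hψQ (by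
      rw [hX, orth_orth hB]; exact univ_line h2 v.norm)
    have hgv' : ap g v.vec = v.vec := by
      have hvX : v.vec ∈ X := mem_orth_span.2 (by rintro _ rfl; exact self_zero h2 _)
      rw [hgX ⟨v.vec, hvX⟩, hψ]
      show L (app s (P v.vec)) + (B u.vec v.vec + al (P v.vec)) • v.vec = v.vec
      rw [hPv, show app s (0 : Fin m ⊕ Fin m → F) = 0 from mulVec_zero _, map_zero, map_zero,
        add_zero, zero_add, b_comm, hvu, one_smul]
    refine ⟨⟨⟨g, hg⟩, (smul_eq_iff _ _ _).2 hgv'⟩, ext_app fun y => ?_⟩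
    rw [happ']
    show P (ap g (L y)) = _
    rw [hgX ⟨L y, mem_orth_span.2 (by rintro _ rfl; exact hvL y)⟩, hψ, map_add, map_smul, hPv,
      smul_zero, add_zero, hPL]
    show app s (P (L y)) = _
    rw [hPL]
  obtain ⟨r, hr⟩ := exists_sqrt h2
  have hav : ∀ y, B v.vec (L y + r (Q (L y) + 1) • v.vec) = 0 := fun y => by
    rw [b_add_right, b_smul_right, hvL, self_zero h2, mul_zero, add_zero]
  have hQa : ∀ y, Q (L y + r (Q (L y) + 1) • v.vec) = (1 : F) := fun y => by
    rw [q_add, q_smul, hr, v.norm, b_smul_right, b_comm _ v.vec, hvL, mul_zero, add_zero, mul_one]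
    linear_combination Q (L y) * h2
  let a : (Fin m ⊕ Fin m → F) → Vtx Q (1 : F) := fun y => ⟨_, hQa y⟩
  have hPa : ∀ y, P (a y).vec = y := fun y => by
    show P (L y + r (Q (L y) + 1) • v.vec) = y
    rw [map_add, map_smul, hPL, hPv, smul_zero, add_zero]
  -- a vertex orthogonal to `v` is determined by its coordinates
  have huniq : ∀ z : Vtx Q (1 : F), B v.vec z.vec = 0 → z = a (P z.vec) := fun z hvz => by
    have e := hdec z.vec hvz
    have hQ := z.norm
    rw [e, q_add, q_smul, v.norm, b_smul_right, b_comm _ v.vec, hvL, mul_zero, add_zero,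
      mul_one] at hQ
    refine Vtx.ext ?_
    show z.vec = L (P z.vec) + r (Q (L (P z.vec)) + 1) • v.vec
    conv_lhs => rw [e]
    congr 2
    have h' : r (Q (L (P z.vec)) + 1) * r (Q (L (P z.vec)) + 1) = B u.vec z.vec * B u.vec z.vec := by
      rw [hr]
      linear_combination (-hQ) + Q (L (P z.vec)) * h2
    rcases mul_self_eq_mul_self_iff.1 h' with h | h
    · exact h.symm
    · rw [h, neg_self h2]
  refine ⟨m, MulEquiv.ofBijective φ ⟨hinj, hsurj⟩, a, hm, hav, fun y z => ?_, fun z hvz =>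
    ⟨P z.vec, huniq z hvz, fun hzu e => ?_⟩, fun y g => ?_, fun y g hg => ext_app fun w => ?_⟩
  · show B (L y + _ • v.vec) (L z + _ • v.vec) = _
    rw [b_add_left, b_add_right, b_add_right, b_smul_left, b_smul_left, b_smul_right, b_smul_right,
      b_comm _ v.vec, hvL, hvL, self_zero h2, hform]
    ring
  · refine vtx_ne_zero h2 z ?_
    rw [hdec z.vec hvz, e, map_zero, b_comm u.vec, hzu, zero_smul, add_zero]
  · rw [smul_eq_iff]
    show _ ↔ app (φ g) _ = _
    rw [happ']
    have hP' : P (ap (g.1 : Grp Q) (a y).vec) = P (ap (g.1 : Grp Q) (L y)) := by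
      rw [hP _ (hav y) g, hPa]
    refine ⟨fun h => by rw [← hP', h, hPa], fun h => ?_⟩
    have e : g.1 • a y = a y := by
      rw [huniq (g.1 • a y) (by rw [smul_vec, hgp]; exact hav y), smul_vec, hP', h]
    exact (smul_eq_iff _ _ _).1 e
  · show app (φ g) w = _
    rw [happ', hg, app_T, map_add, map_add, map_smul, map_smul, hPL, hPv, smul_zero, add_zero, hPa,
      one_mul]
    congr 2
    show B (L y + _ • v.vec) (L w) = _
    rw [b_add_left, b_smul_left, hvL, mul_zero, add_zero, hform, f_swap, neg_self h2]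

/-- The stabiliser of a vertex is the symplectic group of two dimensions less. -/
theorem exists_stab_equiv (v u : Vtx Q (1 : F)) (hu : Adj 1 v u) :
    ∃ (m : ℕ) (Φ : MulAction.stabilizer (Cfsg.Omega F ⇑Q) v ≃* symplecticGroup (Fin m) F),
      2 * m + 2 = Module.finrank F (ι → F) ∧
      ∀ z : Vtx Q (1 : F), B z.vec v.vec = 0 → B z.vec u.vec = 0 →
        ∃ f : Fin m ⊕ Fin m → F, f ≠ 0 ∧ ∀ g, g.1 • z = z ↔ app (Φ g) f = f := by
  obtain ⟨m, Φ, a, hm, -, -, hsur, hfix, -⟩ := exists_stab_equiv_vtx h2 hB hn v u hu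
  refine ⟨m, Φ, hm, fun z hzv hzu => ?_⟩
  obtain ⟨y, rfl, hy⟩ := hsur z (by rw [b_comm]; exact hzv)
  exact ⟨y, hy hzu, hfix y⟩

end CfsgLib.Schur.OmegaEven

namespace CfsgLib.Schur.OmegaEven

open Matrix CfsgLib.Classical.SympTrans CfsgLib.Orth CfsgLib.Schur.OmegaGraph CfsgLib.Schur.CoverLocal
open scoped commutatorElement

universe uF uG

/-- Central extensions of symplectic groups in characteristic two. -/
theorem sp_injective {F : Type uF} [Field F] [Finite F] (h2 : (2 : F) = 0) {m : ℕ} (hm : 3 ≤ m)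
    (hq : (∃ t : F, t ≠ 0 ∧ t ≠ 1) ∨ 4 ≤ m) :
    commutator (symplecticGroup (Fin m) F) = ⊤ ∧
    ∀ {Γ : Type uG} [Group Γ] [Finite Γ] (σ : Γ →* symplecticGroup (Fin m) F),
      Function.Surjective σ → σ.ker ≤ Subgroup.center Γ → commutator Γ = ⊤ → Function.Injective σ := by
  classical
  refine ⟨commutator_of_card (Or.inl hm), fun {Γ} _ _ σ hs hc hΓ => ?_⟩
  by_cases hq' : ∃ t : F, t ≠ 0 ∧ t ≠ 1
  · obtain ⟨k, rfl⟩ : ∃ k, m = k + 2 := ⟨m - 2, by omega⟩
    cases nonempty_fintype F
    have hcard : Fintype.card F ≠ 2 := fun e => by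
      obtain ⟨t, ht0, ht1⟩ := hq'
      have h3 : ({0, 1, t} : Finset F).card = 3 :=
        Finset.card_eq_three.2 ⟨0, 1, t, zero_ne_one, ht0.symm, ht1.symm, rfl⟩
      have := Finset.card_le_univ ({0, 1, t} : Finset F)
      omega
    have h1 : 1 < Fintype.card F := Fintype.one_lt_card
    refine CfsgLib.Schur.SpFam.injective_of_four ?_ (fun Δ' hΔ' =>
      CfsgLib.Schur.SpFour.injective_of_stem hcard _ hΔ') hq' _ hs hc hΓ
    exact commutator_of_card (Or.inr (Or.inl ⟨rfl, by rw [Nat.card_eq_fintype_card]; omega⟩))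
  · have hm4 := hq.resolve_left hq'
    push Not at hq'
    obtain ⟨n, rfl⟩ : ∃ n, m = 1 + n := ⟨m - 1, by omega⟩
    refine CfsgLib.Schur.SpFam.injective_two (fun c => ?_) (by omega)
      (commutator_of_card (Or.inl (by omega))) _ hs hc hΓ
    by_cases h : c = 0
    · exact Or.inl h
    · exact Or.inr (hq' c h)

variable {F : Type uF} [Field F] [Finite F] {ι : Type} [Fintype ι] [DecidableEq ι]
variable {Q : QuadraticForm F (ι → F)}

/-- Perfect central extensions of `Ω` in characteristic two are trivial. -/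
theorem injective (h2 : (2 : F) = 0) (hB : Nondeg Q) (hn : 8 ≤ Module.finrank F (ι → F))
    (hq : (∃ t : F, t ≠ 0 ∧ t ≠ 1) ∨ 10 ≤ Module.finrank F (ι → F))
    {Γ : Type uG} [Group Γ] [Finite Γ] (σ : Γ →* Cfsg.Omega F ⇑Q) (hs : Function.Surjective σ)
    (hc : σ.ker ≤ Subgroup.center Γ) (hΓ : commutator Γ = ⊤) : Function.Injective σ := by
  classical
  obtain ⟨v, hv⟩ : ∃ v : ι → F, Q v = 1 := by
    obtain ⟨x, hx⟩ := exists_aniso hB (by omega)
    obtain ⟨r, hr⟩ := exists_sqrt h2
    exact ⟨r (Q x)⁻¹ • x, by rw [q_smul, hr, inv_mul_cancel₀ hx]⟩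
  let v₀ : Vtx Q (1 : F) := ⟨v, hv⟩
  obtain ⟨u₀, hu₀⟩ := exists_edge_vtx h2 hB hn v₀
  obtain ⟨m, Φ, hm, -⟩ := exists_stab_equiv h2 hB hn v₀ u₀ hu₀
  have hq' : (∃ t : F, t ≠ 0 ∧ t ≠ 1) ∨ 4 ≤ m := hq.imp_right fun h => by omega
  obtain ⟨hperf, hinj⟩ := sp_injective.{uF, uG} h2 (m := m) (by omega) hq'
  set S := MulAction.stabilizer (Cfsg.Omega F ⇑Q) v₀ with hS
  have hSp : ⁅S, S⁆ = S := by
    have h : commutator S = ⊤ := by
      rw [commutator_def, ← Subgroup.map_top_of_surjective Φ.symm.toMonoidHom Φ.symm.surjective,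
        ← Subgroup.map_commutator, ← commutator_def, hperf]
    rw [← Subgroup.map_subtype_commutator, h, ← MonoidHom.range_eq_map, Subgroup.range_subtype]
  have hthird : ∀ u z, Third 1 v₀ u z →
      S ⊓ MulAction.stabilizer (Cfsg.Omega F ⇑Q) z ≤
        ⁅S ⊓ MulAction.stabilizer (Cfsg.Omega F ⇑Q) z, S ⊓ MulAction.stabilizer _ z⁆ := by
    rintro u z ⟨huv, hzv, hzu⟩
    obtain ⟨m', Φ', hm', hfix⟩ := exists_stab_equiv h2 hB hn v₀ u huv
    obtain ⟨f, hf, hiff⟩ := hfix z hzv hzu
    let ψ : symplecticGroup (Fin m') F →* Cfsg.Omega F ⇑Q := S.subtype.comp Φ'.symm.toMonoidHom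
    have he : (SpStab.fixer f).map ψ = S ⊓ MulAction.stabilizer (Cfsg.Omega F ⇑Q) z := by
      ext x
      constructor
      · rintro ⟨s, hs', rfl⟩
        refine ⟨(Φ'.symm s).2, ?_⟩
        show (Φ'.symm s).1 • z = z
        rw [hiff, Φ'.apply_symm_apply]
        exact hs'
      · rintro ⟨hx, hxz⟩
        refine ⟨Φ' ⟨x, hx⟩, (hiff ⟨x, hx⟩).1 hxz, ?_⟩
        show (Φ'.symm (Φ' ⟨x, hx⟩)).1 = x
        rw [Φ'.symm_apply_apply]
    rw [← he, ← Subgroup.map_commutator]
    exact Subgroup.map_mono (SpStab.fixer_perfect h2 (by omega)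
      (hq.imp_right fun h => by omega) hf)
  -- the extension splits over the stabiliser
  have hL : ∀ k ∈ L σ S, σ k = 1 → k = 1 := by
    intro k hk hk1
    let σ' : L σ S →* symplecticGroup (Fin m) F := Φ.toMonoidHom.comp
      ((σ.comp (L σ S).subtype).codRestrict S fun k => L_sigma (σ := σ) k.2)
    have hker : ∀ a, σ' a = 1 ↔ σ a.1 = 1 := fun a => by
      show Φ _ = 1 ↔ _
      rw [map_eq_one_iff _ Φ.injective, Subtype.ext_iff]
      rfl
    have hs' : Function.Surjective σ' := fun g => by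
      obtain ⟨a, ha, ea⟩ := Subgroup.mem_map.1 (show (Φ.symm g).1 ∈ (L σ S).map σ by
        rw [map_L hs, hSp]; exact (Φ.symm g).2)
      refine ⟨⟨a, ha⟩, ?_⟩
      show Φ _ = g
      rw [← Φ.eq_symm_apply]
      exact Subtype.ext ea
    have hc' : σ'.ker ≤ Subgroup.center (L σ S) := fun a ha => by
      rw [MonoidHom.mem_ker, hker] at ha
      rw [Subgroup.mem_center_iff]
      exact fun x => Subtype.ext (Subgroup.mem_center_iff.1 (hc ha) x.1)
    have := hinj σ' hs' hc' (OmegaOdd.L_perfect hs hc hSp) (a₁ := ⟨k, hk⟩) (a₂ := 1)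
      (by rw [map_one, hker]; exact hk1)
    exact congrArg Subtype.val this
  have H := loc (hD h2) hB (by omega) one_ne_zero v₀ ⟨u₀, hu₀⟩ hs hSp hthird hL
  exact CoverLocal.injective H hc hΓ
    (fun n hn' _ _ => CoverGraph.quad_of_chain hn' (chain h2 hB hn v₀))
    (three h2 hB hn v₀) (exists_common h2 hB hn v₀)

/-- The multiplier of `PΩ` in characteristic two, once perfect central extensions are trivial. -/
theorem hasSchurMultiplier_of_injective (h2 : (2 : F) = 0) (hB : Nondeg Q) (hn : 8 ≤ Module.finrank F (ι → F))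
    (hinj : ∀ {Γ : Type uF} [Group Γ] [Finite Γ] (σ : Γ →* Cfsg.Omega F ⇑Q), Function.Surjective σ →
      σ.ker ≤ Subgroup.center Γ → commutator Γ = ⊤ → Function.Injective σ)
    {A : Type*} [CommGroup A] (hA : Nat.card A = 1) :
    Cfsg.HasSchurMultiplier (Cfsg.POmega F ⇑Q) A := by
  classical
  haveI := (Nat.card_eq_one_iff_unique.1 hA).1
  set f := QuotientGroup.mk' (Subgroup.center (Cfsg.Omega F ⇑Q)) with hf
  have hZ : Subgroup.center (Cfsg.Omega F ⇑Q) = ⊥ := by
    refine Subgroup.eq_bot_of_card_eq _ ((card_center_omega hB (by omega)).1 fun g _ hg => ?_)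
    refine Subtype.ext (Units.ext ?_)
    rw [hg]
    exact Matrix.ext fun i j => by rw [Matrix.neg_apply, neg_self h2]; rfl
  have hker : f.ker = ⊥ := by rw [hf, QuotientGroup.ker_mk', hZ]
  haveI : Subsingleton f.ker := by rw [hker]; infer_instance
  have hperf : commutator (Cfsg.Omega F ⇑Q) = ⊤ :=
    Subgroup.map_injective (Subgroup.subtype_injective _) (by
      rw [Subgroup.map_subtype_commutator, omega_perfect hB (by omega), ← MonoidHom.range_eq_map,
        Subgroup.range_subtype])
  let e : A ≃* f.ker :=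
    { toFun := fun _ => 1, invFun := fun _ => 1, left_inv := fun _ => Subsingleton.elim _ _,
      right_inv := fun _ => Subsingleton.elim _ _, map_mul' := fun _ _ => Subsingleton.elim _ _ }
  have hsurj : Function.Surjective f := QuotientGroup.mk'_surjective _
  have hfc : f.ker ≤ Subgroup.center (Cfsg.Omega F ⇑Q) := by rw [hker]; exact bot_le
  refine ⟨⟨Cfsg.Omega F ⇑Q, inferInstance, inferInstance, f,
    ⟨hsurj, hfc, by rw [hker]; exact bot_le⟩, ⟨e.symm⟩⟩, fun Γ _ _ τ hτ => ?_⟩
  refine OmegaMult.hasSchurMultiplier_of_cover hperf f hsurj hfc ⟨e⟩ (fun Δ hΔ => ?_) hτ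
  exact hinj _ hΔ.1 hΔ.2.1 (OmegaMult.perfect_of_stem hΔ hperf)

/-- The multiplier of `PΩ` in characteristic two is trivial. -/
theorem hasSchurMultiplier (h2 : (2 : F) = 0) (hB : Nondeg Q) (hn : 8 ≤ Module.finrank F (ι → F))
    (hq : (∃ t : F, t ≠ 0 ∧ t ≠ 1) ∨ 10 ≤ Module.finrank F (ι → F))
    {A : Type*} [CommGroup A] (hA : Nat.card A = 1) :
    Cfsg.HasSchurMultiplier (Cfsg.POmega F ⇑Q) A :=
  hasSchurMultiplier_of_injective h2 hB hn (fun σ hs hc hΓ => injective h2 hB hn hq σ hs hc hΓ) hA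

end CfsgLib.Schur.OmegaEven
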