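import Cfsg.Agent.Lib.Schur.CoverLocal
import Cfsg.Agent.Lib.Classical.OrthConfig

/-!
# The graph of vectors of fixed norm

Vertices are the vectors `x` with `Q x = c`, edges the pairs with polar value `b`, and the third
vertices of an edge are the vertices orthogonal to both ends.
-/

set_option autoImplicit false
set_option linter.unusedSectionVars false

namespace CfsgLib.Schur.OmegaGraph

open CfsgLib.Orth

variable {F : Type*} [Field F] [Finite F] {ι : Type} [Fintype ι] [DecidableEq ι]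
variable {Q : QuadraticForm F (ι → F)} {c b : F}

/-- The vertices. -/
@[ext] structure Vtx (Q : QuadraticForm F (ι → F)) (c : F) where
  /-- The vector. -/
  vec : ι → F
  norm : Q vec = c

instance instVtxAction : MulAction (Cfsg.Omega F ⇑Q) (Vtx Q c) where
  smul g x := ⟨ap (g : Grp Q) x.vec, by rw [ap_q, x.norm]⟩
  one_smul x := Vtx.ext (ap_one x.vec)
  mul_smul g h x := Vtx.ext (ap_mul (g : Grp Q) (h : Grp Q) x.vec)

theorem smul_vec (g : Cfsg.Omega F ⇑Q) (x : Vtx Q c) : (g • x).vec = ap (g : Grp Q) x.vec := rfl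

theorem smul_eq_iff (g : Cfsg.Omega F ⇑Q) (x y : Vtx Q c) :
    g • x = y ↔ ap (g : Grp Q) x.vec = y.vec := by
  rw [Vtx.ext_iff, smul_vec]

/-- The edges. -/
def Adj (b : F) (x y : Vtx Q c) : Prop := QuadraticMap.polar ⇑Q x.vec y.vec = b

/-- The third vertices. -/
def Third (b : F) (x y z : Vtx Q c) : Prop :=
  Adj b x y ∧ QuadraticMap.polar ⇑Q z.vec x.vec = 0 ∧ QuadraticMap.polar ⇑Q z.vec y.vec = 0

theorem polar_self_vtx (x : Vtx Q c) : QuadraticMap.polar ⇑Q x.vec x.vec = 2 * c := by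
  rw [b_self, x.norm]

theorem univ_mono {k : ℕ} {p : Fin k → ι → F} {s : Finset (ι → F)} (h : ∀ i, p i ∈ s)
    (hu : Univ Q (orth Q (Submodule.span F (s : Set (ι → F))))) :
    Univ Q (orth Q (Submodule.span F (Set.range p))) := fun a ha => by
  obtain ⟨x, hx, hxa⟩ := hu a ha
  exact ⟨x, orth_le (Submodule.span_mono (Set.range_subset_iff.2 h)) hx, hxa⟩

variable (hD : 4 * c * c - b * b ≠ 0)
include hD

theorem isPlane {x y : Vtx Q c} (h : Adj b x y) : IsPlane Q x.vec y.vec := by
  rw [IsPlane, polar_self_vtx, polar_self_vtx, h]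
  intro e
  exact hD (by linear_combination e)

theorem third_indep (hc : c ≠ 0) {x y z : Vtx Q c} (h : Third b x y z) :
    LinearIndependent F ![x.vec, y.vec, z.vec] := by
  obtain ⟨hxy, hzx, hzy⟩ := h
  rw [Fintype.linearIndependent_iff]
  intro g hg
  simp only [Fin.sum_univ_three, Matrix.cons_val_zero, Matrix.cons_val_one, Matrix.cons_val_two,
    Matrix.tail_cons, Matrix.head_cons] at hg
  have e1 := congrArg (fun w => QuadraticMap.polar (⇑Q) w x.vec) hg
  have e2 := congrArg (fun w => QuadraticMap.polar (⇑Q) w y.vec) hg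
  simp only [b_add_left, b_smul_left, b_zero_left, hzx, mul_zero, add_zero,
    b_comm y.vec x.vec] at e1
  simp only [b_add_left, b_smul_left, b_zero_left, hzy, mul_zero, add_zero] at e2
  obtain ⟨h0, h1⟩ := plane_coeff (isPlane hD hxy) e1 e2
  rw [h0, h1, zero_smul, zero_smul, zero_add, zero_add] at hg
  have hz : g 2 = 0 := (smul_eq_zero.1 hg).resolve_right fun e => hc (by
    rw [← z.norm, e, QuadraticMap.map_zero])
  intro i
  fin_cases i <;> assumption

theorem pair_indep (hc : c ≠ 0) {x y z : Vtx Q c} (h : Third b x y z) :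
    LinearIndependent F ![z.vec, x.vec] := by
  obtain ⟨hxy, hzx, hzy⟩ := h
  have hxy' : QuadraticMap.polar ⇑Q x.vec y.vec = b := hxy
  rw [LinearIndependent.pair_iff]
  intro s t e
  have ey := congrArg (fun w => QuadraticMap.polar (⇑Q) w y.vec) e
  have ex := congrArg (fun w => QuadraticMap.polar (⇑Q) w x.vec) e
  have ez := congrArg (fun w => QuadraticMap.polar (⇑Q) w z.vec) e
  simp only [b_add_left, b_smul_left, b_zero_left, hzy, hxy', mul_zero, zero_add] at ey
  simp only [b_add_left, b_smul_left, b_zero_left, hzx, polar_self_vtx, mul_zero, zero_add] at ex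
  simp only [b_add_left, b_smul_left, b_zero_left, b_comm x.vec z.vec, hzx, polar_self_vtx,
    mul_zero, add_zero] at ez
  have ht : t = 0 := (mul_eq_zero.1 (show t * (4 * c * c - b * b) = 0 by
    linear_combination (2 * c) * ex - b * ey)).resolve_right hD
  rw [ht, zero_smul, add_zero] at e
  exact ⟨(smul_eq_zero.1 e).resolve_right fun e0 => hc (by
    rw [← z.norm, e0, QuadraticMap.map_zero]), ht⟩

variable (hB : Nondeg Q) (hn : 7 ≤ Module.finrank F (ι → F))
include hB hn

theorem univ_span {x y : Vtx Q c} (h : Adj b x y) (s : Finset (ι → F)) (hx : x.vec ∈ s)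
    (hy : y.vec ∈ s) (hs : s.card ≤ 3) :
    Univ Q (orth Q (Submodule.span F (s : Set (ι → F)))) :=
  univ_orth hB (isPlane hD h) s hx hy hs (by omega)

theorem exists_perp_vtx {x y : Vtx Q c} (hc : c ≠ 0) (h : Adj b x y) (s : Finset (ι → F))
    (hx : x.vec ∈ s) (hy : y.vec ∈ s) (hs : s.card ≤ 3) :
    ∃ z : Vtx Q c, ∀ w ∈ s, QuadraticMap.polar ⇑Q z.vec w = 0 := by
  obtain ⟨z, hz, hzc⟩ := univ_span hD hB hn h s hx hy hs c hc
  exact ⟨⟨z, hzc⟩, fun w hw => by
    rw [b_comm]; exact mem_orth.1 hz w (Submodule.subset_span hw)⟩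

/-- The fixer of a non-degenerate subspace is perfect. -/
theorem fix_perfect {P : Submodule F (ι → F)} (hP : NondegOn Q P)
    (hd : 5 + Module.finrank F P ≤ Module.finrank F (ι → F)) {H : Subgroup (Cfsg.Omega F ⇑Q)}
    (hH : ∀ G, G ∈ H ↔ ∀ x ∈ P, ap (G : Grp Q) x = x) : ⁅H, H⁆ = H := by
  obtain ⟨m, e, f, -, -, -, -, -, -, h2, hp⟩ := exists_omega_orth hB (by omega) hP hd
  have e' : H = f.range := by ext G; rw [hH, h2]
  rw [e', MonoidHom.range_eq_map, ← Subgroup.map_commutator, ← commutator_def, hp]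

theorem nondegOn_pair {x y : Vtx Q c} (h : Adj b x y) :
    NondegOn Q (Submodule.span F (Set.range ![x.vec, y.vec])) := by
  intro w hw hperp
  rw [Submodule.mem_span_range_iff_exists_fun] at hw
  obtain ⟨a, rfl⟩ := hw
  simp only [Fin.sum_univ_two, Matrix.cons_val_zero, Matrix.cons_val_one] at hperp ⊢
  have e1 := hperp x.vec (Submodule.subset_span ⟨0, rfl⟩)
  have e2 := hperp y.vec (Submodule.subset_span ⟨1, rfl⟩)
  rw [b_add_left, b_smul_left, b_smul_left] at e1 e2
  obtain ⟨h0, h1⟩ := plane_coeff (isPlane hD h) (by rwa [b_comm y.vec x.vec] at e1) e2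
  rw [h0, h1, zero_smul, zero_smul, add_zero]

theorem edge_perfect {x y : Vtx Q c} (h : Adj b x y) :
    ⁅MulAction.stabilizer (Cfsg.Omega F ⇑Q) x ⊓ MulAction.stabilizer _ y,
      MulAction.stabilizer (Cfsg.Omega F ⇑Q) x ⊓ MulAction.stabilizer _ y⁆ =
      MulAction.stabilizer (Cfsg.Omega F ⇑Q) x ⊓ MulAction.stabilizer _ y := by
  refine fix_perfect hD hB hn (nondegOn_pair hD hB hn h) ?_ fun G => ?_
  · rw [finrank_span_eq_card (plane_indep (isPlane hD h)), Fintype.card_fin]; omega
  · rw [Subgroup.mem_inf, MulAction.mem_stabilizer_iff, MulAction.mem_stabilizer_iff, smul_eq_iff,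
      smul_eq_iff]
    refine ⟨fun ⟨hx, hy⟩ w hw => ?_, fun hw =>
      ⟨hw _ (Submodule.subset_span ⟨0, rfl⟩), hw _ (Submodule.subset_span ⟨1, rfl⟩)⟩⟩
    rw [Submodule.mem_span_range_iff_exists_fun] at hw
    obtain ⟨a, rfl⟩ := hw
    simp only [Fin.sum_univ_two, Matrix.cons_val_zero, Matrix.cons_val_one]
    rw [ap_add, ap_smul, ap_smul, hx, hy]

/-- `Ω` is transitive on the vertices. -/
theorem pretransitive (hc : c ≠ 0) : MulAction.IsPretransitive (Cfsg.Omega F ⇑Q) (Vtx Q c) := by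
  classical
  refine ⟨fun x y => ?_⟩
  have hne : ∀ x : Vtx Q c, x.vec ≠ 0 := fun x e => hc (by
    rw [← x.norm, e, QuadraticMap.map_zero])
  obtain ⟨g, hg⟩ := exists_omega_config hB (by omega) (p := ![x.vec]) (p' := ![y.vec])
    (linearIndependent_unique_iff.2 (hne x)) (linearIndependent_unique_iff.2 (hne y))
    (fun i => by fin_cases i; simp [x.norm, y.norm])
    (fun i j => by fin_cases i; fin_cases j; simp [b_self, x.norm, y.norm])
    (univ_of_dim (by
      have hr : Module.finrank F (Submodule.span F (Set.range ![x.vec])) = 1 := by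
        rw [finrank_span_eq_card (linearIndependent_unique_iff.2 (hne x)), Fintype.card_fin]
      have h1 := finrank_orth hB (Submodule.span F (Set.range ![x.vec]))
      have h2 := Submodule.finrank_mono (inf_le_right :
        orth Q (Submodule.span F (Set.range ![x.vec])) ⊓
          orth Q (orth Q (Submodule.span F (Set.range ![x.vec]))) ≤ _)
      rw [orth_orth hB, hr] at h2
      rw [hr] at h1
      rw [orth_orth hB]
      omega))
  exact ⟨g, Vtx.ext (hg 0)⟩

/-- The local data of the graph. -/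
theorem loc_of_lift (hc : c ≠ 0) (v : Vtx Q c) (hedge : ∃ u, Adj b v u) {Γ : Type*} [Group Γ]
    {σ : Γ →* Cfsg.Omega F ⇑Q} (hs : Function.Surjective σ)
    (hperf : ⁅MulAction.stabilizer (Cfsg.Omega F ⇑Q) v, MulAction.stabilizer _ v⁆ =
      MulAction.stabilizer (Cfsg.Omega F ⇑Q) v)
    (hthird : ∀ u z, Third b v u z →
      ∀ k ∈ CoverLocal.L σ (MulAction.stabilizer (Cfsg.Omega F ⇑Q) z), σ k • v = v →
        k ∈ CoverLocal.L σ (MulAction.stabilizer (Cfsg.Omega F ⇑Q) v))
    (hinj : ∀ k ∈ CoverLocal.L σ (MulAction.stabilizer _ v), σ k = 1 → k = 1) :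
    CoverLocal.Loc σ (Adj b) (Third b) v := by
  classical
  obtain ⟨u₀, hu₀⟩ := hedge
  have hsymm : ∀ x y : Vtx Q c, Adj b x y → Adj b y x := fun x y h => by
    unfold Adj at h ⊢; rwa [b_comm]
  have hsm : ∀ (g : Cfsg.Omega F ⇑Q) (x y : Vtx Q c), Adj b x y → Adj b (g • x) (g • y) :=
    fun g x y h => by unfold Adj at h ⊢; rwa [smul_vec, smul_vec, ap_b]
  refine ⟨hs, hsm, hsymm, fun x y z h => h.1, fun g x y z ⟨h1, h2, h3⟩ => ⟨hsm g x y h1, ?_, ?_⟩,
    fun x y z ⟨h1, h2, h3⟩ => ⟨hsymm x y h1, h3, h2⟩, ⟨u₀, hu₀⟩, fun u hu => ?_,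
    fun u z z' hz hz' => ?_, ⟨fun x y => ?_⟩, fun u z hz => ?_, fun u u' hu hu' => ?_,
    fun u w hu hw huw => ?_, hperf, fun u hu => (edge_perfect hD hB hn hu).ge, hthird, hinj⟩
  · rw [smul_vec, smul_vec, ap_b, h2]
  · rw [smul_vec, smul_vec, ap_b, h3]
  · obtain ⟨z, hz⟩ := exists_perp_vtx hD hB hn hc hu {v.vec, u.vec} (by simp) (by simp)
      (Finset.card_le_two.trans (by omega))
    exact ⟨z, hu, hz _ (by simp), hz _ (by simp)⟩
  · -- third vertices of a fixed edge
    obtain ⟨g, hg⟩ := exists_omega_config hB (by omega) (third_indep hD hc hz) (third_indep hD hc hz')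
      (fun i => by fin_cases i <;> simp [v.norm, u.norm, z.norm, z'.norm])
      (fun i j => by
        obtain ⟨h1, h2, h3⟩ := hz
        obtain ⟨g1, g2, g3⟩ := hz'
        fin_cases i <;> fin_cases j <;>
          simp [b_self, v.norm, u.norm, z.norm, z'.norm, h1.symm.trans g1, h2, h3, g2, g3, b_comm v.vec z.vec, b_comm u.vec z.vec,
            b_comm v.vec z'.vec, b_comm u.vec z'.vec])
      (univ_mono (s := {v.vec, u.vec, z.vec}) (fun i => by fin_cases i <;> simp)
        (univ_span hD hB hn hz.1 _ (by simp) (by simp) Finset.card_le_three))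
    exact ⟨g, Vtx.ext (hg 0), Vtx.ext (hg 1), Vtx.ext (hg 2)⟩
  · exact (pretransitive hD hB hn hc).exists_smul_eq x y
  · -- moving an edge around a third vertex
    have hT' : Third b u v z := ⟨hsymm _ _ hz.1, hz.2.2, hz.2.1⟩
    obtain ⟨g, hg⟩ := exists_omega_config hB (by omega) (pair_indep hD hc hz) (pair_indep hD hc hT')
      (fun i => by fin_cases i <;> simp [v.norm, u.norm])
      (fun i j => by
        obtain ⟨h1, h2, h3⟩ := hz
        fin_cases i <;> fin_cases j <;>
          simp [b_self, v.norm, u.norm, z.norm, h2, h3, b_comm v.vec z.vec, b_comm u.vec z.vec])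
      (univ_mono (s := {v.vec, u.vec, z.vec}) (fun i => by fin_cases i <;> simp)
        (univ_span hD hB hn hz.1 _ (by simp) (by simp) Finset.card_le_three))
    exact ⟨g, Vtx.ext (hg 0), Vtx.ext (hg 1)⟩
  · obtain ⟨g, hg⟩ := exists_omega_config hB (by omega) (plane_indep (isPlane hD hu))
      (plane_indep (isPlane hD hu'))
      (fun i => by fin_cases i <;> simp [v.norm, u.norm, u'.norm])
      (fun i j => by
        have h1 : QuadraticMap.polar ⇑Q v.vec u.vec = b := hu
        have h2 : QuadraticMap.polar ⇑Q v.vec u'.vec = b := hu'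
        fin_cases i <;> fin_cases j <;>
          simp [b_self, v.norm, u.norm, u'.norm, h1, h2, b_comm u.vec v.vec, b_comm u'.vec v.vec])
      (univ_mono (s := {v.vec, u.vec}) (fun i => by fin_cases i <;> simp)
        (univ_span hD hB hn hu _ (by simp) (by simp) (Finset.card_le_two.trans (by omega))))
    exact ⟨g, Vtx.ext (hg 0), Vtx.ext (hg 1)⟩
  · obtain ⟨z, hz⟩ := exists_perp_vtx hD hB hn hc hu {v.vec, u.vec, w.vec} (by simp) (by simp)
      Finset.card_le_three
    exact ⟨z, ⟨hu, hz _ (by simp), hz _ (by simp)⟩, ⟨huw, hz _ (by simp), hz _ (by simp)⟩,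
      ⟨hw, hz _ (by simp), hz _ (by simp)⟩⟩

/-- The local data of the graph with perfect stabilisers of third vertices. -/
theorem loc (hc : c ≠ 0) (v : Vtx Q c) (hedge : ∃ u, Adj b v u) {Γ : Type*} [Group Γ]
    {σ : Γ →* Cfsg.Omega F ⇑Q} (hs : Function.Surjective σ)
    (hperf : ⁅MulAction.stabilizer (Cfsg.Omega F ⇑Q) v, MulAction.stabilizer _ v⁆ =
      MulAction.stabilizer (Cfsg.Omega F ⇑Q) v)
    (hthird : ∀ u z, Third b v u z →
      MulAction.stabilizer (Cfsg.Omega F ⇑Q) v ⊓ MulAction.stabilizer _ z ≤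
      ⁅MulAction.stabilizer (Cfsg.Omega F ⇑Q) v ⊓ MulAction.stabilizer _ z,
        MulAction.stabilizer (Cfsg.Omega F ⇑Q) v ⊓ MulAction.stabilizer _ z⁆)
    (hinj : ∀ k ∈ CoverLocal.L σ (MulAction.stabilizer _ v), σ k = 1 → k = 1) :
    CoverLocal.Loc σ (Adj b) (Third b) v := by
  have htr : MulAction.IsPretransitive (Cfsg.Omega F ⇑Q) (Vtx Q c) := pretransitive hD hB hn hc
  exact loc_of_lift hD hB hn hc v hedge hs hperf (fun u z hz k hk hkv =>
    CoverLocal.mem_of_perfect_inf hs (CoverLocal.inj_of_trans hs hinj z) (hthird u z hz) hk hkv) hinj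

end CfsgLib.Schur.OmegaGraph
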