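import Cfsg.Agent.Lib.Schur.OmegaPlus
import Cfsg.Agent.Lib.Schur.OmegaMinusTwo

/-!
# The elliptic forms
-/

set_option autoImplicit false
set_option linter.unusedSectionVars false

namespace CfsgLib.Schur.OmegaMinus

open CfsgLib.Orth CfsgLib.Schur.OmegaStd CfsgLib.Schur.OmegaMult CfsgLib.Schur.OmegaPlus

variable {F : Type*} [Field F] [Fintype F] {q : ℕ} {a b : F}
  (hab : ∀ z₁ z₂ : F, z₁ ^ 2 + a * z₁ * z₂ + b * z₂ ^ 2 = 0 → z₁ = 0 ∧ z₂ = 0)
include hab

theorem not_square (h2 : (2 : F) ≠ 0) : ¬ IsSquare (a ^ 2 - 4 * b) := by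
  rintro ⟨s, hs⟩
  exact h2 (hab (-a + s) 2 (by linear_combination -hs)).2

theorem two_elem (hF : ∀ c : F, c = 0 ∨ c = 1) : a = 1 ∧ b = 1 := by
  have hb : b ≠ 0 := fun e => one_ne_zero (α := F) (hab 0 1 (by rw [e]; ring)).2
  have hb1 := (hF b).resolve_left hb
  refine ⟨(hF a).resolve_left fun e => one_ne_zero (α := F) (hab 1 1 ?_).1, hb1⟩
  have h11 : (1 : F) + 1 = 0 := (hF (1 + 1)).resolve_right fun h => one_ne_zero (α := F)
    (by linear_combination h)
  rw [e, hb1]
  linear_combination h11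

/-- The bound for the elliptic forms. -/
theorem bound_minus (hF : Fintype.card F = q) (h2 : (2 : F) ≠ 0) {k : ℕ} (hk : 3 ≤ k)
    {Q : QuadraticForm F ((Fin k ⊕ Fin k) ⊕ Fin 2 → F)}
    (hQ : ⇑Q = Cfsg.quadFormMinus k F a b) (hB : Nondeg Q) : Bound Q := by
  obtain ⟨j, rfl⟩ : ∃ j, k = 3 + j := ⟨k - 3, by omega⟩
  have hn : Module.finrank F ((Fin (3 + j) ⊕ Fin (3 + j)) ⊕ Fin 2 → F) = 2 * (3 + j) + 2 := by
    simp; omega
  have hq := odd_of_two_ne hF h2
  have h3 : 2 ≤ Fintype.card F := Fintype.one_lt_card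
  have hcard : Nat.card F = q := by rw [Nat.card_eq_fintype_card, hF]
  let i : (Fin (3 + j) ⊕ Fin (3 + j) → F) →ₗ[F] ((Fin (3 + j) ⊕ Fin (3 + j)) ⊕ Fin 2 → F) :=
    { toFun := fun x => Sum.elim x 0
      map_add' := fun x y => funext fun s => by rcases s with s | s <;> simp
      map_smul' := fun c x => funext fun s => by rcases s with s | s <;> simp }
  let e := i ∘ₗ e3 (F := F) (3 + j)
  have he : Function.Injective e := fun x y h =>
    e3_injective (by omega) (funext fun s => congrFun h (.inl s))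
  have hG : CfsgLib.Schur.OmegaSix.Good Q (LinearMap.range e) := by
    by_cases h4 : 4 < q
    · exact Or.inl ⟨by omega, by omega⟩
    · by_cases hj : j = 0
      · subst hj
        refine Or.inr (Or.inl ⟨by omega, by omega, ?_⟩)
        have horth : ∀ z : (Fin 3 ⊕ Fin 3) ⊕ Fin 2 → F, (∀ s, z (.inl s) = 0) →
            z ∈ orth Q (LinearMap.range e) := by
          intro z hz
          rw [mem_orth]
          rintro _ ⟨x, rfl⟩
          rw [hQ, polar_minus]
          simp [e, i, hz]
        obtain ⟨h1, h0⟩ : 4 * b - a ^ 2 = 1 ∧ (2 : F) ≠ 0 := by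
          refine ⟨?_, h2⟩
          by_contra hne
          refine not_square hab h2 ?_
          have hcases : ∀ x : F, x = 0 ∨ x = 1 ∨ x = -1 := by
            classical
            intro x
            by_contra hx
            push Not at hx
            have h11 : (1 : F) ≠ -1 := fun h => h2 (by linear_combination h)
            have : ({0, 1, -1, x} : Finset F).card = 4 := by
              rw [Finset.card_insert_of_notMem (by simp [hx.1.symm]),
                Finset.card_insert_of_notMem (by simp [h11, hx.2.1.symm]),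
                Finset.card_insert_of_notMem (by simp [hx.2.2.symm]), Finset.card_singleton]
            have := Finset.card_le_univ ({0, 1, -1, x} : Finset F)
            omega
          rcases hcases (4 * b - a ^ 2) with h | h | h
          · exact absurd h (aniso_disc hab)
          · exact absurd h hne
          · exact ⟨1, by linear_combination -h⟩
        refine ⟨Pi.single (.inr 0) 1, horth _ (fun s => by simp),
          Pi.single (.inr 0) (-a) + Pi.single (.inr 1) 2, horth _ (fun s => by simp), ?_, ?_, ?_⟩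
        · rw [hQ]; simp [Cfsg.quadFormMinus]
        · rw [hQ]; simp [Cfsg.quadFormMinus]; linear_combination -h1
        · rw [hQ, polar_minus]; simp; ring
      · exact Or.inr (Or.inr ⟨by omega, by omega⟩)
  have Qb : Bound Q := bound_of_embedding h2 hB e he (fun x => by
    rw [hQ, ← e3_form j x]
    simp [Cfsg.quadFormMinus, Cfsg.quadFormPlus, e, i]) hG
  exact @Qb

/-- `-1` in `Ω` for the elliptic forms. -/
theorem neg_iff (hF : Fintype.card F = q) (h2 : (2 : F) ≠ 0) {k : ℕ}
    {Q : QuadraticForm F ((Fin k ⊕ Fin k) ⊕ Fin 2 → F)}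
    (hQ : ⇑Q = Cfsg.quadFormMinus k F a b) (hB : Nondeg Q) :
    (∃ g : Grp Q, g ∈ Cfsg.Omega F ⇑Q ∧
      ((g : GL ((Fin k ⊕ Fin k) ⊕ Fin 2) F) :
        Matrix ((Fin k ⊕ Fin k) ⊕ Fin 2) ((Fin k ⊕ Fin k) ⊕ Fin 2) F) = -1) ↔
      (Even k ∧ q % 4 = 3) := by
  obtain ⟨e, he, hp, hprod⟩ := frame_minus h2 k hab hQ
  rw [neg_one_mem_omega_iff hB h2 (by simp) (by simp [Nat.even_add]) (by simp) e he hp, hprod]
  have hns := not_square hab h2
  have hd : a ^ 2 - 4 * b ≠ 0 := fun h => hns (h ▸ IsSquare.zero)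
  have hsq : ∀ x : F, x ≠ 0 → (IsSquare (x * (a ^ 2 - 4 * b)) ↔ ¬ IsSquare x) := fun x hx => by
    rw [← sqc_eq_one, ← sqc_eq_one, sqc_mul hx hd]
    rcases Int.units_eq_one_or (sqc (a ^ 2 - 4 * b)) with h | h
    · exact absurd (sqc_eq_one.1 h) hns
    · rcases Int.units_eq_one_or (sqc x) with h' | h' <;> rw [h, h'] <;> decide
  rw [show (-1 : F) ^ k * (4 * b - a ^ 2) = (-1) ^ (k + 1) * (a ^ 2 - 4 * b) by rw [pow_succ]; ring,
    hsq _ (pow_ne_zero _ (neg_ne_zero.2 one_ne_zero))]
  rcases Nat.even_or_odd k with hev | hod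
  · rw [hev.add_one.neg_one_pow, FiniteField.isSquare_neg_one_iff, hF, not_not]
    exact ⟨fun h => ⟨hev, h⟩, And.right⟩
  · rw [hod.add_one.neg_one_pow]
    exact ⟨fun h => absurd IsSquare.one h, fun h => absurd h.1 (Nat.not_even_iff_odd.2 hod)⟩

end CfsgLib.Schur.OmegaMinus
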