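import Cfsg.Agent.Lib.Schur.OmegaStd
import Cfsg.Agent.Lib.Schur.OmegaEven

/-!
# The hyperbolic forms
-/

set_option autoImplicit false
set_option linter.unusedSectionVars false

namespace CfsgLib.Schur.OmegaPlus

open CfsgLib.Orth CfsgLib.Schur.OmegaStd CfsgLib.Schur.OmegaMult

variable {F : Type*} [Field F] [Fintype F] {q : ℕ}

theorem exists_ne_two (hF : Fintype.card F = q) (h : q ≠ 2) : ∃ t : F, t ≠ 0 ∧ t ≠ 1 := by
  classical
  by_contra hc
  push Not at hc
  have h1 : 1 < Fintype.card F := Fintype.one_lt_card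
  have h2 := Finset.card_le_card (show (Finset.univ : Finset F) ⊆ {0, 1} from fun t _ => by
    simp only [Finset.mem_insert, Finset.mem_singleton]
    by_cases ht : t = 0
    · exact Or.inl ht
    · exact Or.inr (hc t ht))
  have h3 : ({0, 1} : Finset F).card ≤ 2 := Finset.card_le_two
  rw [Finset.card_univ] at h2
  omega

theorem odd_of_two_ne (hF : Fintype.card F = q) (h2 : (2 : F) ≠ 0) : q % 2 = 1 :=
  hF ▸ FiniteField.odd_card_of_char_ne_two (fun e => h2 (by
    have := CharP.cast_eq_zero F (ringChar F)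
    rwa [e, Nat.cast_ofNat] at this))

theorem even_of_two_eq (hF : Fintype.card F = q) (h2 : (2 : F) = 0) : q % 2 = 0 := by
  rcases Nat.even_or_odd q with h | h
  · exact Nat.even_iff.1 h
  · exact absurd h2 (odd_two_ne hF h)

/-- The bound for the hyperbolic forms, except for eight dimensions over three elements. -/
theorem bound_plus (hF : Fintype.card F = q) (h2 : (2 : F) ≠ 0) {l : ℕ} (hl : 4 ≤ l)
    (hexc : ¬ (l = 4 ∧ q = 3)) {Q : QuadraticForm F (Fin l ⊕ Fin l → F)}
    (hQ : ⇑Q = Cfsg.quadFormPlus l F) (hB : Nondeg Q) : Bound Q := by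
  obtain ⟨j, rfl⟩ : ∃ j, l = 3 + j := ⟨l - 3, by omega⟩
  have hn : Module.finrank F (Fin (3 + j) ⊕ Fin (3 + j) → F) = 2 * (3 + j) := by simp; omega
  have hq := odd_of_two_ne hF h2
  have h3 : 2 ≤ Fintype.card F := Fintype.one_lt_card
  have hcard : Nat.card F = q := by rw [Nat.card_eq_fintype_card, hF]
  have hG : CfsgLib.Schur.OmegaSix.Good Q (LinearMap.range (e3 (F := F) (3 + j))) := by
    by_cases h4 : 4 < q
    · exact Or.inl ⟨by omega, by omega⟩
    · have : j ≠ 1 := fun h => hexc ⟨by omega, by omega⟩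
      exact Or.inr (Or.inr ⟨by omega, by omega⟩)
  have Qb : Bound Q := bound_of_embedding h2 hB (e3 (F := F) (3 + j))
    (fun x y h => e3_injective (by omega) h) (fun x => by rw [hQ, e3_form j x]) hG
  exact @Qb

/-- `-1` in `Ω` is decided by the parity of the rank and `q` modulo four. -/
theorem neg_iff (hF : Fintype.card F = q) (h2 : (2 : F) ≠ 0) {l : ℕ} (hl : 1 ≤ l)
    {Q : QuadraticForm F (Fin l ⊕ Fin l → F)} (hQ : ⇑Q = Cfsg.quadFormPlus l F) (hB : Nondeg Q) :
    (∃ g : Grp Q, g ∈ Cfsg.Omega F ⇑Q ∧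
      ((g : GL (Fin l ⊕ Fin l) F) : Matrix (Fin l ⊕ Fin l) (Fin l ⊕ Fin l) F) = -1) ↔
      (Even l ∨ q % 4 ≠ 3) := by
  obtain ⟨e, he, hp, hprod⟩ := frame_plus h2 l hQ
  rw [neg_one_mem_omega_iff hB h2 (by simp) (by simp) (by simp; omega) e he hp, hprod]
  rcases Nat.even_or_odd l with hev | hod
  · rw [hev.neg_one_pow]
    exact ⟨fun _ => Or.inl hev, fun _ => IsSquare.one⟩
  · rw [hod.neg_one_pow, FiniteField.isSquare_neg_one_iff, hF]
    exact ⟨Or.inr, fun h => h.resolve_left (Nat.not_even_iff_odd.2 hod)⟩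

theorem card_gcd (n k : ℕ) :
    Nat.card (Multiplicative (ZMod (Nat.gcd n k))) = Nat.gcd n k := by
  rw [Nat.card_congr Multiplicative.toAdd, Nat.card_zmod]

end CfsgLib.Schur.OmegaPlus
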