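import Cfsg.Agent.Lib.E8.Reduction
import Cfsg.Agent.Lib.Schur.OmegaMult
import Cfsg.Agent.Lib.Schur.OmegaD4

/-!
# The fourfold cover of `Ω₈⁺(2)`

Pairs of an element of the spin group over three elements and an element of the derived group of
the isometries of the `E₈` lattice with the same reduction.
-/

set_option autoImplicit false
set_option linter.unusedSectionVars false

namespace CfsgLib.Schur.OmegaPlusTwo

open CfsgLib.Orth CfsgLib.Schur.Spin CfsgLib.Schur.OmegaMult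
open scoped commutatorElement

section Spin

variable {K : Type*} [Field K] [Finite K] {ι : Type} [Fintype ι] [DecidableEq ι]
variable {Q : QuadraticForm K (ι → K)}

local notation "ı" => CliffordAlgebra.ι Q

theorem inv_pair {A C : ι → K} (hA : Q A = 1) (hC : Q C = 1) {s : (CliffordAlgebra Q)ˣ}
    (hs : (s : CliffordAlgebra Q) = ı A * ı C) :
    ((s⁻¹ : (CliffordAlgebra Q)ˣ) : CliffordAlgebra Q) = ı C * ı A := by
  refine Units.inv_eq_of_mul_eq_one_right ?_
  rw [hs, mul_assoc, ← mul_assoc (ı C), sq_smul, hC, one_smul, one_mul, sq_smul, hA, one_smul]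

theorem induces_pair {A C : ι → K} (hA : Q A = 1) (hC : Q C = 1) {r t : Grp Q} (hr : IsRefl A r)
    (ht : IsRefl C t) {s : (CliffordAlgebra Q)ˣ} (hs : (s : CliffordAlgebra Q) = ı A * ı C) :
    Induces s (r * t) := by
  intro x
  rw [inv_pair hA hC hs, hs]
  calc ı A * ı C * ı x * (ı C * ı A) = ı A * (ı C * ı x * ı C) * ı A := by simp only [mul_assoc]
    _ = ı (ap (r * t) x) := by
      rw [CliffordAlgebra.ι_mul_ι_mul_ι, CliffordAlgebra.ι_mul_ι_mul_ι, hC, hA, ap_mul, ht.2 x,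
        hr.2, hC, hA]
      congr 1
      simp only [b_sub_right, b_smul_right]
      module

theorem comm_pairs {A C D : ι → K} (hA : Q A = 1) (hC : Q C = 1) (hD : Q D = 1)
    (hAC : QuadraticMap.polar ⇑Q A C = 0) (hAD : QuadraticMap.polar ⇑Q A D = 0)
    (hCD : QuadraticMap.polar ⇑Q C D = 0) {s t : (CliffordAlgebra Q)ˣ}
    (hs : (s : CliffordAlgebra Q) = ı A * ı C) (ht : (t : CliffordAlgebra Q) = ı A * ı D) :
    ((⁅s, t⁆ : (CliffordAlgebra Q)ˣ) : CliffordAlgebra Q) = -1 := by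
  rw [commutatorElement_def, Units.val_mul, Units.val_mul, Units.val_mul, inv_pair hA hC hs,
    inv_pair hA hD ht, hs, ht]
  have aa : ı A * ı A = 1 := by rw [sq_smul, hA, one_smul]
  have cc : ı C * ı C = 1 := by rw [sq_smul, hC, one_smul]
  have dd : ı D * ı D = 1 := by rw [sq_smul, hD, one_smul]
  have ca : ı C * ı A = -(ı A * ı C) := anti (by rwa [b_comm])
  have ad : ı A * ı D = -(ı D * ı A) := anti hAD
  have dc : ı D * ı C = -(ı C * ı D) := anti (by rwa [b_comm])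
  have e1 : ı A * ı C * (ı A * ı D) = -(ı C * ı D) := by
    rw [mul_assoc, ← mul_assoc (ı C), ca, neg_mul, mul_neg, mul_assoc (ı A) (ı C), ← mul_assoc (ı A),
      aa, one_mul]
  have e2 : ı C * ı A * (ı D * ı A) = -(ı C * ı D) := by
    rw [mul_assoc, ← mul_assoc (ı A), ad, neg_mul, mul_neg, mul_assoc (ı D) (ı A), aa, mul_one]
  rw [mul_assoc (ı A * ı C * (ı A * ı D)), e1, e2, neg_mul_neg, mul_assoc, ← mul_assoc (ı D), dc,
    neg_mul, mul_neg, mul_assoc (ı C) (ı D), dd, mul_one, cc]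

theorem ker_proj_center (hB : Nondeg Q) (h2 : (2 : K) ≠ 0) (hn : 5 ≤ Module.finrank K (ι → K))
    {s : spin Q} (hs : Spin.proj hB h2 hn s ∈ Subgroup.center (Cfsg.Omega K ⇑Q)) :
    s ∈ Subgroup.center (spin Q) := by
  refine CfsgLib.Chev.central_of_perfect (Spin.commutator_eq_top hB h2 hn) fun y =>
    Spin.ker_le_center hB h2 hn (MonoidHom.mem_ker.2 ?_)
  rw [map_commutatorElement, commutatorElement_eq_one_iff_mul_comm]
  exact (Subgroup.mem_center_iff.1 hs _).symm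

end Spin

open CfsgLib.E8

universe u

variable {F : Type u} [Field F] [Finite F] (hF : ∀ c : F, c = 0 ∨ c = 1)
variable {Q : QuadraticForm F (Ix → F)} (hQ : ⇑Q = Cfsg.quadFormPlus 4 F) (hB : Nondeg Q)
include hF hQ hB

theorem exists_cover : ∃ (S : Type u) (_ : Group S) (_ : Finite S) (p : S →* Cfsg.Omega F ⇑Q),
    Cfsg.IsStemExtension p ∧ Nonempty (Multiplicative (ZMod 2 × ZMod 2) ≃* p.ker) := by
  classical
  let K := ULift.{u} (ZMod 3)
  haveI : Fintype K := Fintype.ofEquiv _ Equiv.ulift.symm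
  have hK : Fintype.card K = 3 := by rw [Fintype.card_congr Equiv.ulift, ZMod.card]
  haveI : CharP K 3 := CfsgLib.Chev.charP_of_card Nat.prime_three (k := 1) (by rw [hK, pow_one])
  have h6 : (6 : K) = 0 := by
    rw [show (6 : K) = ((6 : ℕ) : K) by norm_num, CharP.cast_eq_zero_iff K 3]; norm_num
  have h2 : (2 : K) ≠ 0 := by
    rw [show (2 : K) = ((2 : ℕ) : K) by norm_num, Ne, CharP.cast_eq_zero_iff K 3]; norm_num
  have hS : Function.Surjective ((↑) : ℤ → K) := fun c => by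
    obtain ⟨k, hk⟩ := CfsgLib.Chev.natCast_surjective_of_card (F := K) hK c
    exact ⟨k, by rw [← hk]; norm_cast⟩
  obtain ⟨Q₃, hQ₃, hB₃⟩ := exists_quadForm_plus (F := K) 4
  have hn : 5 ≤ Module.finrank K (Ix → K) := by simp
  obtain ⟨ρ, hρ⟩ := exists_red (six_eq hF) hQ (cast_surjective hF)
  obtain ⟨ρ₃, hρ₃⟩ := exists_red h6 hQ₃ hS
  have Qb : Bound Q₃ := OmegaD4.bound.{u} hK hQ₃ hB₃ h2
  let π₂ : commutator W →* Cfsg.Omega F ⇑Q :=
    (ρ.comp (commutator W).subtype).codRestrict _ fun g => map_mem_omega ρ g.2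
  let π₃ : commutator W →* Cfsg.Omega K ⇑Q₃ :=
    (ρ₃.comp (commutator W).subtype).codRestrict _ fun g => map_mem_omega ρ₃ g.2
  let pr := Spin.proj hB₃ h2 hn
  let Γ : Subgroup (spin Q₃ × commutator W) :=
    MonoidHom.eqLocus (pr.comp (MonoidHom.fst _ _)) (π₃.comp (MonoidHom.snd _ _))
  let p : Γ →* Cfsg.Omega F ⇑Q := π₂.comp ((MonoidHom.snd _ _).comp Γ.subtype)
  let ν : commutator W := ⟨negW, negW_mem⟩
  have hp : ∀ x : Γ, p x = 1 ↔ x.1.2 = 1 ∨ x.1.2 = ν := fun x => by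
    rw [Subtype.ext_iff]
    show ρ (x.1.2 : W) = 1 ↔ _
    rw [red_eq_one hF hQ hB hρ]
    exact ⟨fun h => h.imp (fun h => Subtype.ext h) (fun h => Subtype.ext h),
      fun h => h.imp (congrArg Subtype.val) (congrArg Subtype.val)⟩
  have hps : Function.Surjective p := fun g => by
    obtain ⟨w, hw, e⟩ := omega_le_map hF hQ hB hρ g.2
    obtain ⟨s, hs⟩ := Spin.proj_surjective hB₃ h2 hn (π₃ ⟨w, hw⟩)
    exact ⟨⟨(s, ⟨w, hw⟩), hs⟩, Subtype.ext e⟩
  -- the image of `-1`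
  have hν : ((((π₃ ν : Cfsg.Omega K ⇑Q₃) : Grp Q₃) : GL Ix K) : Matrix Ix Ix K) = -1 := by
    refine Matrix.ext_iff_mulVec.mpr fun v => ?_
    obtain ⟨x, rfl⟩ := cv_surjective h6 hQ₃ hS v
    show ap (ρ₃ negW) (cv K x) = _
    rw [hρ₃, act_negW, Matrix.neg_mulVec, Matrix.one_mulVec]
    exact funext fun i => Int.cast_neg _
  have hν1 : π₃ ν ≠ 1 := fun e => h2 (by
    rw [e] at hν
    have := congrFun (congrFun hν (.inl 0)) (.inl 0)
    simp at this
    linear_combination this)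
  have hνc : π₃ ν ∈ Subgroup.center (Cfsg.Omega K ⇑Q₃) := by
    rw [Subgroup.mem_center_iff]
    intro b
    refine Subtype.ext (Subtype.ext (Units.ext ?_))
    show (((b : Grp Q₃) : GL Ix K) : Matrix Ix Ix K) *
        (((π₃ ν : Grp Q₃) : GL Ix K) : Matrix Ix Ix K) =
      (((π₃ ν : Grp Q₃) : GL Ix K) : Matrix Ix Ix K) * (((b : Grp Q₃) : GL Ix K) : Matrix Ix Ix K)
    rw [hν, mul_neg, mul_one, neg_mul, one_mul]
  have hcen : ∀ c ∈ Subgroup.center (Cfsg.Omega K ⇑Q₃), c = 1 ∨ c = π₃ ν := by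
    intro g hg
    rcases commute_El_scalar hB₃ hn (x := (g : Grp Q₃)) (fun a ha => congrArg Subtype.val
      (Subgroup.mem_center_iff.1 hg ⟨a, omega_eq_El hB₃ hn ▸ ha⟩)) with h | h
    · exact Or.inl (Subtype.ext h)
    · exact Or.inr (Subtype.ext (Subtype.ext (Units.ext (h.trans hν.symm))))
  -- the kernel
  set f := (QuotientGroup.mk' (Subgroup.center (Cfsg.Omega K ⇑Q₃))).comp pr with hf
  have hker : ∀ x : Γ, x ∈ p.ker → pr x.1.1 ∈ Subgroup.center (Cfsg.Omega K ⇑Q₃) := by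
    intro x hx
    rw [show pr x.1.1 = π₃ x.1.2 from x.2]
    rcases (hp x).1 hx with h | h <;> rw [h]
    · rw [map_one]; exact one_mem _
    · exact hνc
  let ψ : p.ker →* f.ker :=
    (((MonoidHom.fst _ _).comp Γ.subtype).comp p.ker.subtype).codRestrict _
      fun x => (mem_ker_iff hB₃ h2 hn).2 (hker x.1 x.2)
  have hψ : Function.Bijective ψ := by
    refine ⟨(injective_iff_map_eq_one ψ).2 fun x e => ?_, fun k => ?_⟩
    · have e1 : x.1.1.1 = 1 := congrArg Subtype.val e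
      have e2 : π₃ x.1.1.2 = 1 := by rw [← show pr x.1.1.1 = π₃ x.1.1.2 from x.1.2, e1, map_one]
      refine Subtype.ext (Subtype.ext (Prod.ext e1 ?_))
      rcases (hp x.1).1 x.2 with h | h
      · exact h
      · exact absurd (h ▸ e2) hν1
    · rcases hcen _ ((mem_ker_iff hB₃ h2 hn).1 k.2) with h | h
      · exact ⟨⟨⟨(k.1, 1), h.trans (map_one π₃).symm⟩, (hp _).2 (Or.inl rfl)⟩, rfl⟩
      · exact ⟨⟨⟨(k.1, ν), h⟩, (hp _).2 (Or.inr rfl)⟩, rfl⟩
  obtain ⟨m, hm⟩ := exists_neg_one hB₃ h2 hn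
  haveI := finite_spin hB₃ h2 hn
  haveI : Finite W := Finite.of_injective (fun g : W => (ρ g, ρ₃ g)) fun g g' e => by
    obtain ⟨e2, e3⟩ := Prod.mk.injEq .. ▸ e
    have h1 : ρ (g⁻¹ * g') = 1 := by rw [map_mul, map_inv, e2, inv_mul_cancel]
    rcases (red_eq_one hF hQ hB hρ).1 h1 with h | h
    · exact inv_mul_eq_one.1 h
    · refine absurd ?_ hν1
      refine Subtype.ext ?_
      show ρ₃ negW = 1
      rw [← h, map_mul, map_inv, e3, inv_mul_cancel]
  obtain ⟨e⟩ := iso_four hB₃ h2 hn Qb (l := 4) (by norm_num) (by simp)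
    ((OmegaPlus.neg_iff hK h2 (by norm_num) hQ₃ hB₃).2 (Or.inl (by decide)))
    (A := Multiplicative (ZMod 2 × ZMod 2)) (by simp)
    ⟨fun h => absurd h (by decide), fun _ => inferInstance⟩ hm
  let e' : Multiplicative (ZMod 2 × ZMod 2) ≃* p.ker := e.trans (MulEquiv.ofBijective ψ hψ).symm
  refine ⟨Γ, inferInstance, inferInstance, p, ⟨hps, fun x hx => ?_, ?_⟩, ⟨e'⟩⟩
  · rw [Subgroup.mem_center_iff]
    refine fun y => Subtype.ext (Prod.ext ?_ ?_)
    · exact Subgroup.mem_center_iff.1 (ker_proj_center hB₃ h2 hn (hker x hx)) y.1.1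
    · rcases (hp x).1 hx with h | h
      · show y.1.2 * x.1.2 = x.1.2 * y.1.2
        rw [h, mul_one, one_mul]
      · show y.1.2 * x.1.2 = x.1.2 * y.1.2
        rw [h]
        exact Subtype.ext (Subgroup.mem_center_iff.1 negW_central _)
  -- both generators are commutators
  have hq : ∀ k : Fin 8, Q₃ (cv K (a k)) = 1 := fun k => by
    rw [q_cv h6 hQ₃, a_norm, Int.cast_one]
  have hb : ∀ k l : Fin 8, k ≠ l → QuadraticMap.polar ⇑Q₃ (cv K (a k)) (cv K (a l)) = 0 :=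
    fun k l h => by rw [b_cv h6 hQ₃, orth' k l h, Int.cast_zero]
  have hr : ∀ k : Fin 8, IsRefl (cv K (a k)) (ρ₃ (fr k)) := fun k => red_refl h6 hQ₃ hS hρ₃ _
  have hlift : ∀ k l : Fin 8, k ≠ l → ∃ x : Γ, (x.1.2 : W) = fr k * fr l ∧
      (((x.1.1 : spin Q₃) : (CliffordAlgebra Q₃)ˣ) : CliffordAlgebra Q₃) =
        CliffordAlgebra.ι Q₃ (cv K (a k)) * CliffordAlgebra.ι Q₃ (cv K (a l)) := by
    intro k l h
    obtain ⟨s, hs⟩ := Spin.pair_mem hB₃ h2 hn (hb k l h) (by rw [hq, hq, one_mul])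
    refine ⟨⟨(s, ⟨_, E8.pair_mem hF hQ hB hρ (a_norm k) (a_norm l)⟩), Subtype.ext ?_⟩, rfl, hs⟩
    show ((pr s : Cfsg.Omega K ⇑Q₃) : Grp Q₃) = ρ₃ (fr k * fr l)
    rw [map_mul]
    exact Spin.proj_eq hB₃ h2 hn (induces_pair (hq k) (hq l) (hr k) (hr l) hs)
  obtain ⟨x, hx2, hx1⟩ := hlift 0 1 (by decide)
  obtain ⟨y, hy2, hy1⟩ := hlift 0 2 (by decide)
  set C₁ := ⁅x, y⁆ with hC₁
  have c11 : (((C₁.1.1 : spin Q₃) : (CliffordAlgebra Q₃)ˣ) : CliffordAlgebra Q₃) = -1 :=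
    comm_pairs (hq 0) (hq 1) (hq 2) (hb 0 1 (by decide)) (hb 0 2 (by decide)) (hb 1 2 (by decide))
      hx1 hy1
  have c12 : C₁.1.2 = 1 := Subtype.ext (by
    show ⁅(x.1.2 : W), (y.1.2 : W)⁆ = 1
    rw [hx2, hy2, commutatorElement_eq_one_iff_mul_comm]
    have hc : ∀ k l : Fin 8, k ≠ l → fr k * fr l = fr l * fr k := fun k l h => ext_act fun v => by
      simp only [fr, act_mul, act_refl, bil_sub_right, bil_smul_right, orth' k l h,
        orth' l k h.symm, mul_zero, sub_zero]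
      abel
    exact (((Commute.refl (fr 0)).mul_right (hc 0 2 (by decide))).mul_left
      ((show Commute (fr 1) (fr 0) from hc 1 0 (by decide)).mul_right (hc 1 2 (by decide)))).eq)
  -- lifts of the swap and of the half frame
  have hmem : ∀ w : W, w ∈ commutator W → ∃ x : Γ, (x.1.2 : W) = w := fun w hw => by
    obtain ⟨s, hs⟩ := Spin.proj_surjective hB₃ h2 hn (π₃ ⟨w, hw⟩)
    exact ⟨⟨(s, ⟨w, hw⟩), hs⟩, rfl⟩
  have hpm := fun {x y : Ix → ℤ} (hx : q x = 1) (hy : q y = 1) => E8.pair_mem hF hQ hB hρ hx hy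
  obtain ⟨z, hz⟩ := hmem swapW (by
    rw [swapW, mul_assoc]; exact mul_mem (hpm _ _) (hpm _ _))
  obtain ⟨t, ht⟩ := hmem half (by
    rw [half, mul_assoc]; exact mul_mem (hpm _ _) (hpm _ _))
  set C₂ := ⁅z, t⁆ with hC₂
  have c22 : C₂.1.2 = ν := Subtype.ext (by
    show ⁅(z.1.2 : W), (t.1.2 : W)⁆ = negW
    rw [hz, ht, commutator_swap])
  have hν' : ν ≠ 1 := fun e => hν1 (by rw [e, map_one])
  have hm1 : C₁ ≠ 1 := fun e => (proj_neg_one hB₃ h2 hn hm).1 (by
    rw [← show C₁.1.1 = m from Subtype.ext (Units.ext (c11.trans hm.symm)), e]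
    rfl)
  have hk1 : C₁ ∈ p.ker := (hp _).2 (Or.inl c12)
  have hk2 : C₂ ∈ p.ker := (hp _).2 (Or.inr c22)
  have h4 : Nat.card p.ker = 4 := by rw [← Nat.card_congr e'.toEquiv]; simp
  set H := (commutator Γ).subgroupOf p.ker with hH
  suffices hH4 : H = ⊤ by
    exact fun k hk => (show (⟨k, hk⟩ : p.ker) ∈ H from hH4 ▸ Subgroup.mem_top _)
  refine Subgroup.eq_top_of_card_eq H ?_
  have hdvd : Nat.card H ∣ 4 := by
    have h := Subgroup.card_subgroup_dvd_card H
    rwa [h4] at h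
  have hcomm : ∀ a b : Γ, ⁅a, b⁆ ∈ commutator Γ := fun a b =>
    Subgroup.commutator_mem_commutator (Subgroup.mem_top _) (Subgroup.mem_top _)
  let three : Fin 3 → H := ![1, ⟨⟨C₁, hk1⟩, hcomm x y⟩, ⟨⟨C₂, hk2⟩, hcomm z t⟩]
  have hi : Function.Injective three := by
    have d1 : C₂ ≠ 1 := fun e => hν' (by rw [← c22, e]; rfl)
    have d2 : C₂ ≠ C₁ := fun e => hν' (by rw [← c22, e, c12])
    intro i j e
    have e' := congrArg (fun w : H => (w.1 : Γ)) e
    fin_cases i <;> fin_cases j <;>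
      simp [three, hm1, hm1.symm, d1, d1.symm, d2, d2.symm] at e' ⊢
  have h3 := Nat.card_le_card_of_injective three hi
  rw [Nat.card_eq_fintype_card, Fintype.card_fin] at h3
  rw [h4]
  have := Nat.le_of_dvd (by norm_num) hdvd
  rcases (show Nat.card H = 3 ∨ Nat.card H = 4 by omega) with h | h
  · rw [h] at hdvd; exact absurd hdvd (by norm_num)
  · exact h

end CfsgLib.Schur.OmegaPlusTwo
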