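import Cfsg.Agent.Lib.Schur.OmegaThree
import Cfsg.Agent.Lib.Schur.SpLift
import Cfsg.Agent.Lib.Schur.SLLift
import Cfsg.Agent.Lib.Schur.SLRank
import Cfsg.Agent.Lib.Classical.Klein

/-!
# The multiplier of `Ω` in odd characteristic is at most two
-/

set_option autoImplicit false
set_option linter.unusedSectionVars false

namespace CfsgLib.Schur.OmegaSix

open CfsgLib.Orth CfsgLib.Schur.OmegaGraph CfsgLib.Schur.CoverLocal CfsgLib.Schur.OmegaOdd

open Matrix in
/-- The kernel of a perfect central extension of `Ω₆⁺` has at most two elements. -/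
theorem ker_six_plus {F : Type*} [Field F] [Finite F] (h2 : (2 : F) ≠ 0) {Γ : Type*}
    [Group Γ] [Finite Γ] (σ : Γ →* Cfsg.Omega F (Cfsg.quadFormPlus 3 F))
    (hs : Function.Surjective σ) (hc : σ.ker ≤ Subgroup.center Γ) (hΓ : commutator Γ = ⊤) :
    Nat.card σ.ker ≤ 2 := by
  classical
  cases nonempty_fintype F
  have hperf := CfsgLib.Classical.commutator_SL_eq_top (F := F) (ι := Fin 4) (Or.inl (by simp))
  have hinj : ∀ Δ : Subgroup (SpecialLinearGroup (Fin 4) F × Γ),
      Cfsg.IsStemExtension ((MonoidHom.fst (SpecialLinearGroup (Fin 4) F) Γ).comp Δ.subtype) →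
      Function.Injective ((MonoidHom.fst (SpecialLinearGroup (Fin 4) F) Γ).comp Δ.subtype) := by
    intro Δ hΔ
    have hq : ¬ (4 = 4 ∧ Fintype.card F = 2) := fun h => h2 (by
      have := FiniteField.cast_card_eq_zero F
      rwa [h.2, Nat.cast_ofNat] at this)
    obtain ⟨Y, R⟩ := CfsgLib.Schur.SLFam.exists_fam hΔ.1 hΔ.2.1 hΔ.2.2 (by norm_num) (by omega) (by omega) hq
    exact R.injective (by norm_num)
  obtain ⟨f, hf, -⟩ := CfsgLib.Classical.Klein.exists_onto (F := F)
  obtain ⟨φ, hφ⟩ := CfsgLib.Schur.SpFam.exists_lift_hom hperf hinj f hs hc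
  have hcom : ∀ γ : Γ, γ ∈ φ.range := fun γ => by
    have h : commutator Γ ≤ φ.range := by
      rw [commutator_def, Subgroup.commutator_le]
      intro a _ b _
      obtain ⟨x, hx⟩ := hf (σ a)
      obtain ⟨y, hy⟩ := hf (σ b)
      rw [commutatorElement_congr σ hc (a' := φ x) (b' := φ y) (by rw [hφ, hx]) (by rw [hφ, hy]),
        ← map_commutatorElement]
      exact ⟨_, rfl⟩
    exact h (hΓ ▸ Subgroup.mem_top γ)
  have h1 : Nat.card σ.ker ≤ Nat.card f.ker := by
    refine Nat.card_le_card_of_surjective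
      (fun x : f.ker => (⟨φ x.1, by rw [MonoidHom.mem_ker, hφ]; exact x.2⟩ : σ.ker)) fun z => ?_
    obtain ⟨x, hx⟩ := hcom z.1
    exact ⟨⟨x, by rw [MonoidHom.mem_ker, ← hφ, hx]; exact z.2⟩, Subtype.ext hx⟩
  -- compare with the Klein map
  obtain ⟨ψ, hψ⟩ := CfsgLib.Classical.Klein.exists_hom (F := F)
  have hrange : ψ.range ≤ Cfsg.Omega F (Cfsg.quadFormPlus 3 F) := by
    rw [MonoidHom.range_eq_map, ← hperf]
    show _ ≤ commutator _
    rw [commutator_def, commutator_def, Subgroup.map_commutator]
    exact Subgroup.commutator_mono le_top le_top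
  have h3 : Nat.card ψ.ker ≤ 2 := by
    have hsc : ∀ g ∈ ψ.ker, ∃ c : F, c * c = 1 ∧ g.1 = c • (1 : Matrix (Fin 4) (Fin 4) F) :=
      fun g hg => CfsgLib.Classical.Klein.ker_scalar g.1 (by
        rw [← hψ, MonoidHom.mem_ker.1 hg]; rfl)
    choose sc hsc hg using hsc
    have hb : ∀ g hg', sc g hg' = 1 ∨ sc g hg' = -1 := fun g hg' => mul_self_eq_one_iff.1 (hsc g hg')
    have hinjb : Function.Injective fun g : ψ.ker => decide (sc g.1 g.2 = 1) := fun a b e => by
      refine Subtype.ext (Subtype.ext ?_)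
      have e' : sc a.1 a.2 = 1 ↔ sc b.1 b.2 = 1 := decide_eq_decide.1 e
      rcases hb a.1 a.2 with ha | ha <;> rcases hb b.1 b.2 with hb' | hb'
      · rw [hg a.1 a.2, hg b.1 b.2, ha, hb']
      · rw [hg a.1 a.2, hg b.1 b.2, ha, e'.1 ha]
      · rw [hg a.1 a.2, hg b.1 b.2, hb', e'.2 hb']
      · rw [hg a.1 a.2, hg b.1 b.2, ha, hb']
    exact (Nat.card_le_card_of_injective _ hinjb).trans (by simp)
  have h4 : Nat.card ψ.range ≤ Nat.card (Cfsg.Omega F (Cfsg.quadFormPlus 3 F)) :=
    Nat.card_le_card_of_injective (Subgroup.inclusion hrange) (Subgroup.inclusion_injective hrange)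
  have h5 := Subgroup.card_mul_index f.ker
  have h6 := Subgroup.card_mul_index ψ.ker
  rw [Subgroup.index_ker, MonoidHom.range_eq_top.2 hf, Subgroup.card_top] at h5
  rw [Subgroup.index_ker] at h6
  have h7 : Nat.card f.ker * Nat.card (Cfsg.Omega F (Cfsg.quadFormPlus 3 F)) ≤
      2 * Nat.card (Cfsg.Omega F (Cfsg.quadFormPlus 3 F)) := by
    rw [h5, ← h6]
    exact Nat.mul_le_mul h3 h4
  exact h1.trans (Nat.le_of_mul_le_mul_right h7 Nat.card_pos)

/-- The same for a form equal to the hyperbolic one. -/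
theorem ker_six_plus' {F : Type*} [Field F] [Finite F] (h2 : (2 : F) ≠ 0)
    {Qf : (Fin 3 ⊕ Fin 3 → F) → F} (h : Qf = Cfsg.quadFormPlus 3 F) {Γ : Type*}
    [Group Γ] [Finite Γ] (σ : Γ →* Cfsg.Omega F Qf)
    (hs : Function.Surjective σ) (hc : σ.ker ≤ Subgroup.center Γ) (hΓ : commutator Γ = ⊤) :
    Nat.card σ.ker ≤ 2 := by
  subst h
  exact ker_six_plus h2 σ hs hc hΓ

universe uF

variable {F : Type uF} [Field F] [Finite F]

/-- The cases reached by the induction. -/
def Good {ι : Type} [Fintype ι] [DecidableEq ι] (Q : QuadraticForm F (ι → F))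
    (U : Submodule F (ι → F)) : Prop :=
  (7 ≤ Module.finrank F (ι → F) ∧ 4 < Nat.card F) ∨
    (Nat.card F = 3 ∧ Module.finrank F (ι → F) = 8 ∧ ∃ x ∈ orth Q U, ∃ y ∈ orth Q U,
      Q x ≠ 0 ∧ Q x = Q y ∧ QuadraticMap.polar ⇑Q x y = 0) ∨
    (Nat.card F = 3 ∧ 9 ≤ Module.finrank F (ι → F))

theorem injective_of_six (h2 : (2 : F) ≠ 0) : ∀ (N : ℕ) {ι : Type} [Fintype ι] [DecidableEq ι]
    {Q : QuadraticForm F (ι → F)}, Module.finrank F (ι → F) = N → Nondeg Q →
    ∀ {U : Submodule F (ι → F)}, NondegOn Q U → Module.finrank F U = 6 → Good Q U →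
    ∀ {Γ : Type*} [Group Γ] (σ : Γ →* Cfsg.Omega F ⇑Q), Function.Surjective σ →
      σ.ker ≤ Subgroup.center Γ → commutator Γ = ⊤ →
      (∀ k ∈ L σ (fixOrth Q U), σ k = 1 → k = 1) → Function.Injective σ := by
  intro N
  induction N using Nat.strong_induction_on with
  | _ N ih =>
    intro ι _ _ Q hN hB U hU hU6 hG Γ _ σ hs hc hΓ hinj
    classical
    have hd := finrank_orth hB U
    have hn7 : 7 ≤ Module.finrank F (ι → F) := by
      rcases hG with h | ⟨-, h, -⟩ | ⟨-, h⟩ <;> omega
    have hR := nondegOn_orth hB hU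
    have hq : ∀ c : F, 8 ≤ Module.finrank F (ι → F) ∨ ∃ t : F, t ≠ 0 ∧ 4 * c * c - t * t ≠ 0 := by
      intro c
      rcases hG with ⟨-, h4⟩ | ⟨-, h, -⟩ | ⟨-, h⟩
      swap
      · left; omega
      swap
      · left; omega
      right
      cases nonempty_fintype F
      rw [Nat.card_eq_fintype_card] at h4
      obtain ⟨t, -, ht⟩ := Finset.exists_mem_notMem_of_card_lt_card
        (s := ({0, 2 * c, -(2 * c)} : Finset F)) (t := Finset.univ)
        (lt_of_le_of_lt Finset.card_le_three (by rw [Finset.card_univ]; omega))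
      simp only [Finset.mem_insert, Finset.mem_singleton, not_or] at ht
      refine ⟨t, ht.1, fun e => ?_⟩
      rcases mul_eq_zero.1 (show (t - 2 * c) * (t + 2 * c) = 0 by linear_combination -e) with h | h
      · exact ht.2.1 (sub_eq_zero.1 h)
      · exact ht.2.2 (eq_neg_of_add_eq_zero_left h)
    by_cases h7 : Module.finrank F (ι → F) = 7
    · -- the orthogonal of `U` is a line
      have hR1 : Module.finrank F (orth Q U) = 1 := by omega
      obtain ⟨a, ha, ha0⟩ := (orth Q U).exists_mem_ne_zero_of_ne_bot fun e => by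
        rw [e, finrank_bot] at hR1; omega
      have hspan : Submodule.span F {a} = orth Q U := by
        refine Submodule.eq_of_le_of_finrank_eq ((Submodule.span_singleton_le_iff_mem _ _).2 ha) ?_
        rw [finrank_span_singleton ha0, hR1]
      have hQa : Q a ≠ 0 := fun e => ha0 (hR a ha fun y hy => by
        rw [← hspan, Submodule.mem_span_singleton] at hy
        obtain ⟨r, rfl⟩ := hy
        rw [b_smul_right, b_self_zero e, mul_zero])
      refine step h2 hB hn7 hQa (hq _) ⟨a, rfl⟩ hs hc hΓ fun k hk => hinj k (L_mono ?_ hk)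
      intro G hG'
      rw [MulAction.mem_stabilizer_iff, smul_eq_iff] at hG'
      rw [mem_fixOrth, ← hspan]
      intro w hw
      obtain ⟨r, rfl⟩ := Submodule.mem_span_singleton.1 hw
      rw [ap_smul, hG']
    -- descend to the orthogonal of a vector
    have key : ∀ v ∈ orth Q U, Q v ≠ 0 →
        (∀ {m : ℕ} {e : (Fin m → F) →ₗ[F] ι → F}, m + 1 = Module.finrank F (ι → F) →
          Function.Injective e → LinearMap.range e = orth Q (Submodule.span F {v}) →
          Good (Q.comp e) (U.comap e)) → Function.Injective σ := by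
      intro v hv hQv hgood
      refine step h2 hB hn7 hQv (hq _) ⟨v, rfl⟩ hs hc hΓ fun k hk hk1 => ?_
      obtain ⟨m, e, σ', hm, hB', he, hr, hUr, hs', hc', hΔ, hker, -, hinj'⟩ :=
        descend h2 hB hn7 hQv ⟨v, rfl⟩ hv hs hc hinj
      have hbe : ∀ a b, QuadraticMap.polar (⇑(Q.comp e)) a b = QuadraticMap.polar (⇑Q) (e a) (e b) :=
        fun a b => by simp [QuadraticMap.polar]
      have hmap : (U.comap e).map e = U := Submodule.map_comap_eq_self hUr
      have hU' : NondegOn (Q.comp e) (U.comap e) := fun x hx h => he (by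
        rw [map_zero]
        refine hU _ hx fun y hy => ?_
        obtain ⟨y', rfl⟩ := hUr hy
        rw [← hbe]
        exact h y' hy)
      have hU6' : Module.finrank F (U.comap e) = 6 := by
        rw [(Submodule.equivMapOfInjective e he (U.comap e)).finrank_eq, hmap, hU6]
      have hm' : Module.finrank F (Fin m → F) = m := Module.finrank_fin_fun F
      have hi := ih m (by omega) hm' hB' hU' hU6' (hgood hm he hr) σ' hs' hc' hΔ hinj'
      exact congrArg Subtype.val (hi (a₁ := ⟨k, hk⟩) (a₂ := 1) (by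
        rw [map_one]; exact (hker _).2 hk1))
    have hlift : ∀ {m : ℕ} {e : (Fin m → F) →ₗ[F] ι → F} {v : ι → F},
        LinearMap.range e = orth Q (Submodule.span F {v}) → ∀ x ∈ orth Q U,
        QuadraticMap.polar (⇑Q) v x = 0 → ∃ x', e x' = x ∧ x' ∈ orth (Q.comp e) (U.comap e) := by
      intro m e v hr x hx hvx
      obtain ⟨x', rfl⟩ : x ∈ LinearMap.range e := by
        rw [hr]; exact mem_orth_span.2 (by rintro _ rfl; exact hvx)
      refine ⟨x', rfl, mem_orth.2 fun u hu => ?_⟩
      rw [show QuadraticMap.polar (⇑(Q.comp e)) u x' = QuadraticMap.polar (⇑Q) (e u) (e x') by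
        simp [QuadraticMap.polar]]
      exact mem_orth.1 hx _ hu
    have hzero : (orth Q U) ⊓ orth Q (orth Q U) = ⊥ :=
      (Submodule.eq_bot_iff _).2 fun x hx => nondeg_inf hR hx.1 hx.2
    have hunivR : 2 ≤ Module.finrank F (orth Q U) → Univ Q (orth Q U) := fun h =>
      univ_of_dim (by rw [hzero, finrank_bot]; omega)
    rcases hG with ⟨-, h4⟩ | ⟨h3, h8, x, hx, y, hy, hx0, hxy, hb⟩ | ⟨h3, h9⟩
    · obtain ⟨v, hv, hQv⟩ := hunivR (by omega) 1 one_ne_zero
      exact key v hv (by rw [hQv]; exact one_ne_zero) fun hm _ _ =>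
        Or.inl ⟨by rw [Module.finrank_fin_fun]; omega, h4⟩
    · let v₀ : Vtx Q (Q x) := ⟨x, rfl⟩
      let w : Vtx Q (Q x) := ⟨y, hxy.symm⟩
      refine step h2 hB hn7 hx0 (hq _) v₀ hs hc hΓ
        (OmegaThree.stab_inj h3 hB h8 hx0 v₀ w hb hs hc fun k hk => hinj k (L_mono ?_ hk))
      have hsp : Submodule.span F {x, y} = orth Q U := by
        refine Submodule.eq_of_le_of_finrank_eq (Submodule.span_le.2 (by
          rintro _ (rfl | rfl) <;> assumption)) ?_
        have hli : LinearIndependent F ![x, y] := plane_indep (show IsPlane Q x y by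
          rw [IsPlane, b_self, b_self, hb, ← hxy, mul_zero, sub_zero]
          exact mul_ne_zero (mul_ne_zero h2 hx0) (mul_ne_zero h2 hx0))
        have h := finrank_span_eq_card hli
        rw [Fintype.card_fin, show Set.range ![x, y] = ({x, y} : Set (ι → F)) by
          ext a; simp; tauto] at h
        omega
      show fixOrth Q (orth Q (Submodule.span F {x, y})) ≤ fixOrth Q U
      intro G hG' a ha
      refine hG' a ?_
      rw [orth_orth hB, hsp]
      exact ha
    · by_cases h9' : Module.finrank F (ι → F) = 9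
      · -- choose the vector so that the orthogonal has minus type
        obtain ⟨x, hx, hQx⟩ := hunivR (by omega) 1 one_ne_zero
        set R' := orth Q U ⊓ orth Q (Submodule.span F {x}) with hR'
        have hxx : QuadraticMap.polar (⇑Q) x x ≠ 0 := by
          rw [b_self, hQx]; exact mul_ne_zero h2 one_ne_zero
        have hsplit : ∀ r ∈ orth Q U,
            r - ((QuadraticMap.polar (⇑Q) x x)⁻¹ * QuadraticMap.polar (⇑Q) x r) • x ∈ R' :=
          fun r hr => ⟨Submodule.sub_mem _ hr (Submodule.smul_mem _ _ hx), mem_orth_span.2 (by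
            rintro s rfl
            rw [b_sub_right, b_smul_right, mul_comm _ (QuadraticMap.polar (⇑Q) s r), mul_assoc,
              inv_mul_cancel₀ hxx, mul_one, sub_self])⟩
        have hR'2 : 2 ≤ Module.finrank F R' := by
          have hsup : orth Q U ≤ R' ⊔ Submodule.span F {x} := fun r hr => Submodule.mem_sup.2
            ⟨_, hsplit r hr, _, Submodule.smul_mem _ _ (Submodule.mem_span_singleton_self x),
              sub_add_cancel _ _⟩
          have e1 := Submodule.finrank_mono hsup
          have e2 := Submodule.finrank_add_le_finrank_add_finrank R' (Submodule.span F {x})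
          rw [finrank_span_singleton (ne_zero_of_b hxx)] at e2
          omega
        have hR'0 : R' ⊓ orth Q R' = ⊥ := by
          rw [Submodule.eq_bot_iff]
          rintro z ⟨hz, hz'⟩
          refine hR z hz.1 fun r hr => ?_
          have h1 := mem_orth.1 hz' _ (hsplit r hr)
          rw [b_sub_left, b_smul_left, mem_orth.1 hz.2 x (Submodule.mem_span_singleton_self x),
            mul_zero, sub_zero] at h1
          rw [b_comm]
          exact h1
        obtain ⟨y, hy, hQy⟩ := univ_of_dim (Q := Q) (R := R') (by rw [hR'0, finrank_bot]; omega) 1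
          one_ne_zero
        have hxy : QuadraticMap.polar (⇑Q) x y = 0 :=
          mem_orth.1 hy.2 x (Submodule.mem_span_singleton_self x)
        obtain ⟨v, ⟨hv, hv'⟩, hv0⟩ := (orth Q U ⊓ orth Q (Submodule.span F {x, y})).exists_mem_ne_zero_of_ne_bot
          fun e => by
            have e1 := Submodule.finrank_sup_add_finrank_inf_eq (orth Q U)
              (orth Q (Submodule.span F {x, y}))
            rw [e, finrank_bot] at e1
            have e2 := Submodule.finrank_le (orth Q U ⊔ orth Q (Submodule.span F {x, y}))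
            have e3 := finrank_orth hB (Submodule.span F ({x, y} : Set (ι → F)))
            have e4 := finrank_span_pair_le (F := F) x y
            omega
        have hvx : QuadraticMap.polar (⇑Q) x v = 0 := mem_orth.1 hv' x (Submodule.subset_span (by simp))
        have hvy : QuadraticMap.polar (⇑Q) y v = 0 := mem_orth.1 hv' y (Submodule.subset_span (by simp))
        have hyy : QuadraticMap.polar (⇑Q) y y ≠ 0 := by
          rw [b_self, hQy]; exact mul_ne_zero h2 one_ne_zero
        refine key v hv ?_ ?_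
        · intro h0
          refine hv0 (hR v hv fun r hr => ?_)
          -- `x, y, v` span the orthogonal of `U`
          have hli : LinearIndependent F ![x, y, v] := by
            rw [Fintype.linearIndependent_iff]
            intro g hg
            simp only [Fin.sum_univ_three, Matrix.cons_val_zero, Matrix.cons_val_one,
              Matrix.cons_val_two, Matrix.tail_cons, Matrix.head_cons] at hg
            have g0 := congrArg (QuadraticMap.polar (⇑Q) x) hg
            have g1 := congrArg (QuadraticMap.polar (⇑Q) y) hg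
            simp only [b_add_right, b_smul_right, hxy, hvx, mul_zero, add_zero, b_zero_right] at g0
            simp only [b_add_right, b_smul_right, b_comm y x, hxy, hvy, mul_zero, zero_add, add_zero,
              b_zero_right] at g1
            rw [(mul_eq_zero.1 g0).resolve_right hxx, (mul_eq_zero.1 g1).resolve_right hyy, zero_smul,
              zero_smul, zero_add, zero_add] at hg
            intro i
            fin_cases i
            · exact (mul_eq_zero.1 g0).resolve_right hxx
            · exact (mul_eq_zero.1 g1).resolve_right hyy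
            · exact (smul_eq_zero.1 hg).resolve_right hv0
          have hsp : Submodule.span F (Set.range ![x, y, v]) = orth Q U := by
            refine Submodule.eq_of_le_of_finrank_eq (Submodule.span_le.2 (by
              rintro _ ⟨i, rfl⟩; fin_cases i
              · exact hx
              · exact hy.1
              · exact hv)) ?_
            rw [finrank_span_eq_card hli, Fintype.card_fin]
            omega
          rw [← hsp, Submodule.mem_span_range_iff_exists_fun] at hr
          obtain ⟨g, rfl⟩ := hr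
          simp [Fin.sum_univ_three, b_add_right, b_smul_right, b_comm v x, b_comm v y, hvx, hvy,
            b_self_zero h0]
        · intro m e hm he hr
          obtain ⟨x', hx', hx''⟩ := hlift hr x hx (by rw [b_comm]; exact hvx)
          obtain ⟨y', hy', hy''⟩ := hlift hr y hy.1 (by rw [b_comm]; exact hvy)
          refine Or.inr (Or.inl ⟨h3, by rw [Module.finrank_fin_fun]; omega, x', hx'', y', hy'', ?_, ?_, ?_⟩)
          · rw [QuadraticMap.comp_apply, hx', hQx]; exact one_ne_zero
          · rw [QuadraticMap.comp_apply, QuadraticMap.comp_apply, hx', hy', hQx, hQy]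
          · simpa [QuadraticMap.polar, hx', hy'] using hxy
      · obtain ⟨v, hv, hQv⟩ := hunivR (by omega) 1 one_ne_zero
        exact key v hv (by rw [hQv]; exact one_ne_zero) fun hm _ _ =>
          Or.inr (Or.inr ⟨h3, by rw [Module.finrank_fin_fun]; omega⟩)

variable {ι : Type} [Fintype ι] [DecidableEq ι] {Q : QuadraticForm F (ι → F)}

/-- The kernel of a perfect central extension has at most two elements. -/
theorem card_ker_le_two (h2 : (2 : F) ≠ 0) (hB : Nondeg Q)
    (e : (Fin 3 ⊕ Fin 3 → F) →ₗ[F] ι → F) (he : Function.Injective e)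
    (heQ : ⇑(Q.comp e) = Cfsg.quadFormPlus 3 F) (hB' : Nondeg (Q.comp e))
    (hG : Good Q (LinearMap.range e)) {Γ : Type*} [Group Γ] [Finite Γ]
    (σ : Γ →* Cfsg.Omega F ⇑Q) (hs : Function.Surjective σ) (hc : σ.ker ≤ Subgroup.center Γ)
    (hΓ : commutator Γ = ⊤) : Nat.card σ.ker ≤ 2 := by
  classical
  have hbe : ∀ a b, QuadraticMap.polar (⇑(Q.comp e)) a b = QuadraticMap.polar (⇑Q) (e a) (e b) :=
    fun a b => by simp [QuadraticMap.polar]
  have hU : NondegOn Q (LinearMap.range e) := by
    rintro _ ⟨a, rfl⟩ h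
    rw [hB' a fun b => by rw [hbe]; exact h _ ⟨b, rfl⟩, map_zero]
  have h6 : Module.finrank F (Fin 3 ⊕ Fin 3 → F) = 6 := by simp
  have hn : 5 ≤ Module.finrank F (ι → F) := by rcases hG with h | ⟨-, h, -⟩ | ⟨-, h⟩ <;> omega
  obtain ⟨f, hf, -, hrange⟩ := exists_omega_extend hB hn hU he hB' (by omega)
  set U := LinearMap.range e with hUdef
  set S := fixOrth Q U with hS
  have hSr : S = f.range := by ext G; rw [hrange]; rfl
  have hperf : commutator (Cfsg.Omega F ⇑(Q.comp e)) = ⊤ :=
    Subgroup.map_injective (Subgroup.subtype_injective _) (by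
      rw [Subgroup.map_subtype_commutator, omega_perfect hB' (by omega), ← MonoidHom.range_eq_map,
        Subgroup.range_subtype])
  have hSS : ⁅S, S⁆ = S := by
    rw [hSr, MonoidHom.range_eq_map, ← Subgroup.map_commutator, ← commutator_def, hperf]
  set Z := σ.ker ⊓ L σ S with hZ
  -- `Z` is the kernel of an extension of the six-space group
  have hZ2 : Nat.card Z ≤ 2 := by
    have hmem : ∀ k : L σ S, σ k.1 ∈ f.range := fun k => hSr ▸ L_sigma k.2
    let σ' : L σ S →* Cfsg.Omega F ⇑(Q.comp e) :=
      (MonoidHom.ofInjective hf).symm.toMonoidHom.comp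
        ((σ.comp (L σ S).subtype).codRestrict f.range hmem)
    have hfσ : ∀ k, f (σ' k) = σ k.1 := fun k =>
      congrArg Subtype.val ((MonoidHom.ofInjective hf).apply_symm_apply ⟨σ k.1, hmem k⟩)
    have hker : ∀ k, σ' k = 1 ↔ σ k.1 = 1 := fun k => by rw [← hfσ, map_eq_one_iff f hf]
    have hs' : Function.Surjective σ' := fun g => by
      obtain ⟨k, hk, ek⟩ := Subgroup.mem_map.1 (show f g ∈ (L σ S).map σ by
        rw [map_L hs, hSS, hSr]; exact ⟨g, rfl⟩)
      exact ⟨⟨k, hk⟩, hf (by rw [hfσ, ← ek])⟩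
    have hc' : σ'.ker ≤ Subgroup.center (L σ S) := fun k hk => by
      rw [MonoidHom.mem_ker, hker] at hk
      rw [Subgroup.mem_center_iff]
      exact fun x => Subtype.ext (Subgroup.mem_center_iff.1 (hc hk) x.1)
    have hb : Nat.card σ'.ker ≤ 2 :=
      ker_six_plus' h2 heQ σ' hs' hc' (L_perfect hs hc hSS)
    refine le_trans (Nat.card_le_card_of_injective
      (fun z : Z => (⟨⟨z.1, z.2.2⟩, (hker _).2 z.2.1⟩ : σ'.ker)) fun a b h => ?_) hb
    exact Subtype.ext (congrArg (fun x : σ'.ker => x.1.1) h)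
  have hn' : Z.Normal := ⟨fun z hz g => by
    rw [Subgroup.mem_center_iff.1 (hc hz.1) g, mul_inv_cancel_right]; exact hz⟩
  let σb : Γ ⧸ Z →* Cfsg.Omega F ⇑Q := QuotientGroup.lift Z σ inf_le_left
  have hσb : ∀ γ, σb (QuotientGroup.mk' Z γ) = σ γ := fun γ => rfl
  have hsb : Function.Surjective σb := fun g => by
    obtain ⟨γ, rfl⟩ := hs g
    exact ⟨_, hσb γ⟩
  have hcb : σb.ker ≤ Subgroup.center (Γ ⧸ Z) := fun x hx => by
    obtain ⟨γ, rfl⟩ := QuotientGroup.mk'_surjective Z x
    rw [MonoidHom.mem_ker, hσb] at hx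
    rw [Subgroup.mem_center_iff]
    intro y
    obtain ⟨δ, rfl⟩ := QuotientGroup.mk'_surjective Z y
    rw [← map_mul, ← map_mul, Subgroup.mem_center_iff.1 (hc hx) δ]
  have hΓb : commutator (Γ ⧸ Z) = ⊤ := by
    rw [commutator_def, ← Subgroup.map_top_of_surjective _ (QuotientGroup.mk'_surjective Z),
      ← Subgroup.map_commutator, ← commutator_def, hΓ]
  have hinjb : ∀ k ∈ L σb S, σb k = 1 → k = 1 := by
    intro k hk hk1
    have hpre : S.comap σb = (S.comap σ).map (QuotientGroup.mk' Z) := by
      ext x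
      obtain ⟨γ, rfl⟩ := QuotientGroup.mk'_surjective Z x
      refine ⟨fun h => ⟨γ, h, rfl⟩, ?_⟩
      rintro ⟨δ, hδ, e'⟩
      show σb _ ∈ S
      rw [← e', hσb]
      exact hδ
    unfold CoverLocal.L at hk
    rw [hpre, ← Subgroup.map_commutator] at hk
    obtain ⟨γ, hγ, rfl⟩ := hk
    rw [hσb] at hk1
    exact (QuotientGroup.eq_one_iff γ).2 ⟨hk1, hγ⟩
  have hi := injective_of_six h2 _ rfl hB hU (by rw [hUdef, LinearMap.finrank_range_of_inj he, h6])
    hG σb hsb hcb hΓb hinjb
  have hle : σ.ker ≤ Z := fun γ hγ =>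
    (QuotientGroup.eq_one_iff γ).1 (hi (a₂ := 1) (by rw [map_one]; exact hγ))
  exact le_trans (Nat.card_le_card_of_injective (Subgroup.inclusion hle)
    (Subgroup.inclusion_injective hle)) hZ2

end CfsgLib.Schur.OmegaSix
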