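import Cfsg.Agent.Lib.Schur.OmegaMult
import Cfsg.Agent.Lib.Classical.OrthForms

/-!
# Hyperbolic six-spaces inside the standard forms
-/

set_option autoImplicit false
set_option linter.unusedSectionVars false

namespace CfsgLib.Schur.OmegaStd

open CfsgLib.Orth CfsgLib.Schur.OmegaSix CfsgLib.Schur.OmegaMult

universe uF

variable {F : Type uF} [Field F] [Finite F]

/-- The first three hyperbolic pairs. -/
def e3 (m : ℕ) : (Fin 3 ⊕ Fin 3 → F) →ₗ[F] (Fin m ⊕ Fin m → F) where
  toFun x := Sum.elim (fun i => if h : (i : ℕ) < 3 then x (.inl ⟨i, h⟩) else 0)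
    (fun i => if h : (i : ℕ) < 3 then x (.inr ⟨i, h⟩) else 0)
  map_add' x y := funext fun s => by
    rcases s with i | i <;> by_cases h : (i : ℕ) < 3 <;> simp [h]
  map_smul' a x := funext fun s => by
    rcases s with i | i <;> by_cases h : (i : ℕ) < 3 <;> simp [h]

theorem e3_form (j : ℕ) (x : Fin 3 ⊕ Fin 3 → F) :
    Cfsg.quadFormPlus (3 + j) F (e3 (3 + j) x) = Cfsg.quadFormPlus 3 F x := by
  simp [Cfsg.quadFormPlus, e3, Fin.sum_univ_add]

theorem e3_injective {m : ℕ} (hm : 3 ≤ m) : Function.Injective (e3 (F := F) m) := fun x y h => by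
  funext s
  rcases s with i | i
  · have := congrFun h (.inl ⟨i, by omega⟩)
    simpa [e3] using this
  · have := congrFun h (.inr ⟨i, by omega⟩)
    simpa [e3] using this

theorem nondeg_six {ι : Type} [Fintype ι] [DecidableEq ι] {Q : QuadraticForm F (ι → F)}
    {e : (Fin 3 ⊕ Fin 3 → F) →ₗ[F] ι → F} (h : ⇑(Q.comp e) = Cfsg.quadFormPlus 3 F) :
    Nondeg (Q.comp e) := by
  obtain ⟨Q₀, hQ₀, hB₀⟩ := exists_quadForm_plus (F := F) 3
  rwa [DFunLike.coe_injective (h.trans hQ₀.symm)]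

/-- The bound from an embedding of the hyperbolic six-space. -/
theorem bound_of_embedding {ι : Type} [Fintype ι] [DecidableEq ι] {Q : QuadraticForm F (ι → F)}
    (h2 : (2 : F) ≠ 0) (hB : Nondeg Q) (e : (Fin 3 ⊕ Fin 3 → F) →ₗ[F] ι → F)
    (he : Function.Injective e) (h : ∀ x, Q (e x) = Cfsg.quadFormPlus 3 F x)
    (hG : Good Q (LinearMap.range e)) : Bound Q := fun {_} _ _ σ hs hc hΓ =>
  card_ker_le_two h2 hB e he (funext h) (nondeg_six (funext h)) hG σ hs hc hΓ

theorem odd_two_ne {F : Type*} [Field F] [Fintype F] {q : ℕ} (hF : Fintype.card F = q) (hq : Odd q) :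
    (2 : F) ≠ 0 := fun e => by
  have h1 := FiniteField.odd_card_of_char_ne_two (F := F)
  obtain ⟨p, hp⟩ := CharP.exists F
  obtain ⟨n, hprime, hn⟩ := FiniteField.card F p
  have : p ∣ 2 := (CharP.cast_eq_zero_iff F p 2).1 (by simpa using e)
  obtain rfl : p = 2 := (Nat.prime_dvd_prime_iff_eq hprime Nat.prime_two).1 this
  rw [hF] at hn
  rw [hn, Nat.odd_pow_iff n.pos.ne'] at hq
  exact absurd hq (by decide)

end CfsgLib.Schur.OmegaStd
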