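import Cfsg.Agent.Lib.Schur.OmegaOdd

/-!
# `Ω₈⁻(3)`

The exceptional triple cover of `Ω₇(3)` does not extend: two paths of length two agree because an
inner element permutes three midpoints cyclically and an element of the ambient group swaps two of
them.
-/

set_option autoImplicit false
set_option linter.unusedSectionVars false

namespace CfsgLib.Schur.OmegaThree

open CfsgLib.Orth CfsgLib.Schur.OmegaGraph CfsgLib.Schur.CoverLocal CfsgLib.Schur.OmegaOdd

section abstract_part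

variable {G Γ : Type*} [Group G] [Group Γ] {X : Type*} [MulAction G X]
variable {σ : Γ →* G} {adj : X → X → Prop} {v : X} {K : Subgroup Γ} {n : Γ}

/-- The lifted end of a path of length two through `z`. -/
def Ends (σ : Γ →* G) (v : X) (K : Subgroup Γ) (n : Γ) (z : X) (γ : Γ) : Prop :=
  ∃ η, σ η • v = z ∧ CoverGraph.Edge K n 1 η ∧ CoverGraph.Edge K n η γ

/-- Homomorphisms respecting the preimages respect `L`. -/
theorem L_hom (α : Γ →* Γ) {S T : Subgroup G} (h : ∀ q, σ q ∈ S → σ (α q) ∈ T) {d : Γ}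
    (hd : d ∈ L σ S) : α d ∈ L σ T := by
  have hle : (S.comap σ).map α ≤ T.comap σ := by
    rintro _ ⟨q, hq, rfl⟩
    exact h q hq
  have hm := Subgroup.mem_map_of_mem α hd
  unfold CoverLocal.L at hm
  rw [Subgroup.map_commutator] at hm
  exact Subgroup.commutator_mono hle hle hm

variable (H : CoverGraph.Hyp σ adj v K n)
include H

theorem ends_unique {z : X} {γ γ' : Γ} (h : Ends σ v K n z γ) (h' : Ends σ v K n z γ')
    (e : σ γ • v = σ γ' • v) : γ⁻¹ * γ' ∈ K := by
  obtain ⟨η, hη, a, b⟩ := h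
  obtain ⟨η', hη', a', b'⟩ := h'
  have hk := CoverGraph.edge_unique H a a' (by rw [hη, hη'])
  exact CoverGraph.edge_unique H
    (CoverGraph.Edge.symm' H ((CoverGraph.Edge.symm' H b).congr_right hk)) b' e

theorem ends_exists {z x : X} (h1 : adj v z) (h2 : adj z x) :
    ∃ γ, σ γ • v = x ∧ Ends σ v K n z γ := by
  obtain ⟨η, hη, a⟩ := CoverGraph.exists_edge H (γ := 1) (u := z) (by rwa [map_one, one_smul])
  obtain ⟨γ, hγ, b⟩ := CoverGraph.exists_edge H (γ := η) (u := x) (by rwa [hη])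
  exact ⟨γ, hγ, η, hη, a, b⟩

theorem ends_congr {z : X} {γ k : Γ} (h : Ends σ v K n z γ) (hk : k ∈ K) :
    Ends σ v K n z (γ * k) := by
  obtain ⟨η, hη, a, b⟩ := h
  exact ⟨η, hη, a, b.congr_right (by rwa [inv_mul_cancel_left])⟩

theorem ends_edge {γ η : Γ} (h : Ends σ v K n (σ η • v) γ) (hη : CoverGraph.Edge K n 1 η) :
    CoverGraph.Edge K n η γ := by
  obtain ⟨η', e, a, b⟩ := h
  exact CoverGraph.Edge.symm' H
    ((CoverGraph.Edge.symm' H b).congr_right (CoverGraph.edge_unique H a hη e))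

theorem ends_path {γ : Γ} {z z' : X} (h : Ends σ v K n z γ) (hv : adj v z')
    (hp : Relation.ReflTransGen (fun a b => adj a b ∧ adj v b ∧ adj b (σ γ • v)) z z') :
    Ends σ v K n z' γ := by
  obtain ⟨η, hη, a, b⟩ := h
  obtain ⟨η', hη', a'⟩ := CoverGraph.exists_edge H (γ := 1) (u := z') (by rwa [map_one, one_smul])
  exact ⟨η', hη', a', CoverGraph.indep_of_path H a b a' (by rwa [hη, hη'])⟩

/-- A symmetry carries ends to ends. -/
theorem ends_map (α : Γ →* Γ) (π : X → X) (hv : π v = v) (hK : ∀ k ∈ K, α k ∈ K)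
    (hn : ∃ k ∈ K, ∃ k' ∈ K, α n = k * n * k') (hπ : ∀ γ x, σ (α γ) • π x = π (σ γ • x))
    {z : X} {γ : Γ} (h : Ends σ v K n z γ) :
    σ (α γ) • v = π (σ γ • v) ∧ Ends σ v K n (π z) (α γ) := by
  have hE : ∀ {a b : Γ}, CoverGraph.Edge K n a b → CoverGraph.Edge K n (α a) (α b) := by
    intro a b ⟨k, hk, k', hk', e⟩
    obtain ⟨p, hp, p', hp', en⟩ := hn
    refine ⟨α k * p, mul_mem (hK k hk) hp, p' * α k', mul_mem hp' (hK k' hk'), ?_⟩
    rw [← map_inv, ← map_mul, e, map_mul, map_mul, en]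
    simp only [mul_assoc]
  obtain ⟨η, hη, a, b⟩ := h
  have h1 : ∀ γ, σ (α γ) • v = π (σ γ • v) := fun γ => by
    conv_lhs => rw [← hv]
    exact hπ γ v
  exact ⟨h1 γ, α η, by rw [h1, hη], map_one α ▸ hE a, hE b⟩

/-- A rotation of three midpoints and a swap of two of them force two paths to end together. -/
theorem ends_of_rot_swap (hc : σ.ker ≤ Subgroup.center Γ) {z z' z3 x : X} {γ : Γ} (hx : σ γ • v = x)
    (hends : Ends σ v K n z γ) (h1 : adj v z') (h2 : adj z' x)
    (α β : Γ →* Γ) (π ρ : X → X) (hπv : π v = v) (hρv : ρ v = v) (hπx : π x = x) (hρx : ρ x = x)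
    (hαK : ∀ k ∈ K, α k ∈ K) (hβK : ∀ k ∈ K, β k ∈ K)
    (hαn : ∃ k ∈ K, ∃ k' ∈ K, α n = k * n * k') (hβn : ∃ k ∈ K, ∃ k' ∈ K, β n = k * n * k')
    (hα : ∀ γ x, σ (α γ) • π x = π (σ γ • x)) (hβ : ∀ γ x, σ (β γ) • ρ x = ρ (σ γ • x))
    (hαz : ∀ d, σ d = 1 → α d = d) (hβz : ∀ d, σ d = 1 → β d = d)
    (p1 : π z = z') (p2 : π z' = z3) (p3 : π z3 = z) (r1 : ρ z = z') (r2 : ρ z' = z) :
    Ends σ v K n z' γ := by
  obtain ⟨γ', hγ', hends'⟩ := ends_exists H (z := z') (x := x) h1 h2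
  obtain ⟨k₀, hk₀, hσk₀⟩ := H.onto (σ (γ'⁻¹ * γ)) (by
    rw [map_mul, map_inv, mul_smul, inv_smul_eq_iff, hγ', hx])
  set ε := k₀⁻¹ * (γ'⁻¹ * γ) with hεdef
  have hε1 : σ ε = 1 := by rw [hεdef, map_mul, map_inv, hσk₀, inv_mul_cancel]
  have hstart : Ends σ v K n z' (γ * ε⁻¹) := by
    have := ends_congr H hends' hk₀
    rwa [show γ' * k₀ = γ * ε⁻¹ by rw [hεdef]; group] at this
  have hs : ∀ d, σ d = 1 → σ (γ * d) • v = x := fun d hd => by rw [map_mul, hd, mul_one, hx]
  have hεi : σ ε⁻¹ = 1 := by rw [map_inv, hε1, inv_one]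
  -- a symmetry moving the first midpoint to the second shifts by the error term
  have push : ∀ (φ : Γ →* Γ) (μ : X → X), μ v = v → μ x = x → (∀ k ∈ K, φ k ∈ K) →
      (∃ k ∈ K, ∃ k' ∈ K, φ n = k * n * k') → (∀ γ x, σ (φ γ) • μ x = μ (σ γ • x)) →
      (∀ d, σ d = 1 → φ d = d) → μ z = z' →
      ∀ y d, σ d = 1 → Ends σ v K n y (γ * d) → Ends σ v K n (μ y) (γ * (ε⁻¹ * d)) := by
    intro φ μ hμv hμx hφK hφn hφ hφz hμz y d hd hy
    obtain ⟨e1, f1⟩ := ends_map H φ μ hμv hφK hφn hφ hends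
    rw [hμz] at f1
    rw [hx, hμx] at e1
    have hu := ends_unique H f1 hstart (by rw [e1, hs _ hεi])
    obtain ⟨-, f2⟩ := ends_map H φ μ hμv hφK hφn hφ hy
    have hdc : ∀ a, a * d = d * a := fun a => Subgroup.mem_center_iff.1 (hc hd) a
    have := ends_congr H f2 hu
    rw [map_mul, hφz d hd, mul_assoc (φ γ), ← hdc, ← mul_assoc (φ γ) _ d, mul_inv_cancel_left,
      mul_assoc γ] at this
    exact this
  -- uniqueness turns a shift at the first midpoint into a relation
  have close : ∀ d, σ d = 1 → Ends σ v K n z (γ * d) → d = 1 := by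
    intro d hd hy
    have := ends_unique H hends hy (by rw [hx, hs d hd])
    rw [inv_mul_cancel_left] at this
    exact H.inj d this hd
  have h2' := push α π hπv hπx hαK hαn hα hαz p1 z' ε⁻¹ hεi hstart
  rw [p2] at h2'
  have hεε : σ (ε⁻¹ * ε⁻¹) = 1 := by rw [map_mul, hεi, mul_one]
  have h3' := push α π hπv hπx hαK hαn hα hαz p1 z3 _ hεε h2'
  rw [p3] at h3'
  have e3 := close _ (by rw [map_mul, hεε, hεi, mul_one]) h3'
  have h4' := push β ρ hρv hρx hβK hβn hβ hβz r1 z' ε⁻¹ hεi hstart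
  rw [r2] at h4'
  have e2 := close _ hεε h4'
  rw [e2, mul_one] at e3
  rwa [e3, mul_one] at hstart

end abstract_part

variable {F : Type*} [Field F] [Finite F] {ι : Type} [Fintype ι] [DecidableEq ι]
variable {Q : QuadraticForm F (ι → F)} {c : F}

theorem cases_three (h3 : Nat.card F = 3) (hc : c ≠ 0) (a : F) : a = 0 ∨ a = c ∨ a = -c := by
  classical
  cases nonempty_fintype F
  rw [Nat.card_eq_fintype_card] at h3
  by_contra h
  push Not at h
  have h2 : c ≠ -c := fun e => hc (by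
    have h3' := FiniteField.cast_card_eq_zero F
    rw [h3, Nat.cast_ofNat] at h3'
    linear_combination c * h3' - e)
  have hle := Finset.card_le_univ ({0, c, -c, a} : Finset F)
  rw [Finset.card_insert_of_notMem (by simp [hc.symm, (neg_ne_zero.2 hc).symm, h.1.symm]),
    Finset.card_insert_of_notMem (by simp [h2, h.2.1.symm]),
    Finset.card_insert_of_notMem (by simp [h.2.2.symm]), Finset.card_singleton, h3] at hle
  omega

theorem bneg (a b : ι → F) :
    QuadraticMap.polar (⇑Q) (-a) b = -QuadraticMap.polar (⇑Q) a b := by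
  rw [← neg_one_smul F a, b_smul_left, neg_one_mul]

/-- Four vertices without a common neighbour are independent. -/
theorem four_indep (hB : Nondeg Q) (h2 : (2 : F) ≠ 0) (hn : 7 ≤ Module.finrank F (ι → F))
    (hc : c ≠ 0) {a b p q : Vtx Q c} (hap : Adj 0 a p)
    (hex : ¬ ∃ y ∈ orth Q (Submodule.span F ({a.vec, b.vec, p.vec, q.vec} : Set (ι → F))), Q y = c) :
    LinearIndependent F ![a.vec, b.vec, p.vec, q.vec] := by
  classical
  obtain ⟨S, hSdef⟩ : ∃ S : Finset (ι → F), S = {a.vec, b.vec, p.vec, q.vec} := ⟨_, rfl⟩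
  have hS : ({a.vec, b.vec, p.vec, q.vec} : Set (ι → F)) = (S : Set (ι → F)) := by
    rw [hSdef]; simp only [Finset.coe_insert, Finset.coe_singleton]
  have hcard : S.card ≤ 4 := hSdef ▸ Finset.card_le_four
  rw [hS] at hex
  have h1 := rad_two_of_no_mid hB hn hc hcard hex
  have h3 := finrank_rad_le hB (isPlane (hD h2 hc) hap)
    (P := Submodule.span F (S : Set (ι → F))) (Submodule.subset_span (by simp [hSdef]))
    (Submodule.subset_span (by simp [hSdef]))
  have h4 : Module.finrank F (Submodule.span F (S : Set (ι → F))) ≤ 4 :=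
    (finrank_span_finset_le_card S).trans hcard
  refine linearIndependent_iff_card_eq_finrank_span.2 ?_
  have hr : Set.range ![a.vec, b.vec, p.vec, q.vec] = (S : Set (ι → F)) := by
    rw [← hS]
    ext y
    simp
    tauto
  rw [Fintype.card_fin, Set.finrank, hr]
  omega

/-- The third midpoint. -/
theorem exists_third (h30 : (3 : F) = 0) {p q : Vtx Q c} (hpq : Adj (-c) p q) :
    ∃ r : Vtx Q c, r.vec = -(p.vec + q.vec) :=
  ⟨⟨-(p.vec + q.vec), by
    rw [QuadraticMap.map_neg, q_add, p.norm, q.norm,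
      show QuadraticMap.polar (⇑Q) p.vec q.vec = -c from hpq]
    ring⟩, rfl⟩

/-- An element of `Ω` permuting three midpoints cyclically. -/
theorem exists_rot (hB : Nondeg Q) (h30 : (3 : F) = 0) (hn : 5 ≤ Module.finrank F (ι → F))
    {a b p q r : Vtx Q c} (hap : Adj 0 a p) (haq : Adj 0 a q) (hpb : Adj 0 p b) (hqb : Adj 0 q b)
    (hpq : Adj (-c) p q) (hr : r.vec = -(p.vec + q.vec))
    (hli : LinearIndependent F ![a.vec, b.vec, p.vec, q.vec]) :
    ∃ G : Cfsg.Omega F ⇑Q, G • a = a ∧ G • b = b ∧ G • p = q ∧ G • q = r ∧ G • r = p := by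
  have k1 : QuadraticMap.polar (⇑Q) a.vec p.vec = 0 := hap
  have k2 : QuadraticMap.polar (⇑Q) a.vec q.vec = 0 := haq
  have k3 : QuadraticMap.polar (⇑Q) p.vec b.vec = 0 := hpb
  have k4 : QuadraticMap.polar (⇑Q) q.vec b.vec = 0 := hqb
  have k5 : QuadraticMap.polar (⇑Q) p.vec q.vec = -c := hpq
  have br : ∀ w, QuadraticMap.polar (⇑Q) w r.vec =
      -(QuadraticMap.polar (⇑Q) w p.vec + QuadraticMap.polar (⇑Q) w q.vec) := fun w => by
    rw [hr, b_comm, bneg, b_comm, b_add_right]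
  have r1 : QuadraticMap.polar (⇑Q) a.vec r.vec = 0 := by rw [br, k1, k2, add_zero, neg_zero]
  have r2 : QuadraticMap.polar (⇑Q) b.vec r.vec = 0 := by
    rw [br, b_comm b.vec, k3, b_comm b.vec, k4, add_zero, neg_zero]
  have r3 : QuadraticMap.polar (⇑Q) q.vec r.vec = -c := by
    rw [br, b_comm q.vec p.vec, k5, polar_self_vtx]; ring
  have hli' : LinearIndependent F ![a.vec, b.vec, q.vec, r.vec] := by
    rw [Fintype.linearIndependent_iff] at hli ⊢
    intro g hg
    have h := hli ![g 0, g 1, -g 3, g 2 - g 3] (by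
      rw [← hg]
      simp only [Fin.sum_univ_four, Matrix.cons_val_zero, Matrix.cons_val_one, Matrix.cons_val_two,
        Matrix.cons_val_three, Matrix.tail_cons, Matrix.head_cons, hr]
      module)
    have h3 : g 3 = 0 := neg_eq_zero.1 (h 2)
    have h2 : g 2 = 0 := (sub_eq_zero.1 (h 3)).trans h3
    intro i
    fin_cases i
    · exact h 0
    · exact h 1
    · exact h2
    · exact h3
  obtain ⟨g, hg⟩ := exists_grp_config hB hli hli'
    (fun i => by fin_cases i <;> simp [a.norm, b.norm, p.norm, q.norm, r.norm])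
    (fun i j => by
      fin_cases i <;> fin_cases j <;>
        simp [b_self, a.norm, b.norm, p.norm, q.norm, r.norm, k1, k2, k3, k4, k5, r1, r2, r3,
          b_comm p.vec a.vec, b_comm q.vec a.vec, b_comm r.vec a.vec, b_comm b.vec p.vec,
          b_comm b.vec q.vec, b_comm r.vec b.vec, b_comm q.vec p.vec, b_comm r.vec q.vec])
  have ga : ap g a.vec = a.vec := hg 0
  have gb : ap g b.vec = b.vec := hg 1
  have gp : ap g p.vec = q.vec := hg 2
  have gq : ap g q.vec = r.vec := hg 3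
  have gr : ap g r.vec = p.vec := by
    rw [hr, ← neg_one_smul F (p.vec + q.vec), ap_smul, ap_add, gp, gq, hr]
    module
  refine ⟨⟨g * g * (g * g), mul_mem (sq_mem_omega hB hn g) (sq_mem_omega hB hn g)⟩,
    ?_, ?_, ?_, ?_, ?_⟩ <;> rw [smul_eq_iff] <;>
    simp only [ap_mul, ga, gb, gp, gq, gr]

/-- An element of `Ω` preserving the line of `v₀` and swapping two midpoints. -/
theorem exists_swap (h3 : Nat.card F = 3) (hB : Nondeg Q) (h2 : (2 : F) ≠ 0)
    (hn : Module.finrank F (ι → F) = 8) (hc : c ≠ 0) {v₀ a b p q : Vtx Q c}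
    (hva : Adj 0 v₀ a) (hvb : Adj 0 v₀ b) (hvp : Adj 0 v₀ p) (hvq : Adj 0 v₀ q)
    (hap : Adj 0 a p) (haq : Adj 0 a q) (hpb : Adj 0 p b) (hqb : Adj 0 q b)
    (hli : LinearIndependent F ![v₀.vec, a.vec, b.vec, p.vec, q.vec])
    (hex : ∀ y, (∀ w ∈ ({v₀.vec, a.vec, b.vec, p.vec, q.vec} : Set (ι → F)),
      QuadraticMap.polar (⇑Q) w y = 0) → Q y ≠ c) :
    ∃ T : Cfsg.Omega F ⇑Q, (ap (T : Grp Q) v₀.vec = v₀.vec ∨ ap (T : Grp Q) v₀.vec = -v₀.vec) ∧
      T • a = a ∧ T • b = b ∧ T • p = q ∧ T • q = p := by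
  classical
  set X := Submodule.span F ({v₀.vec, a.vec, b.vec, p.vec, q.vec} : Set (ι → F)) with hX
  have hmem : ∀ w ∈ ({v₀.vec, a.vec, b.vec, p.vec, q.vec} : Set (ι → F)), w ∈ X :=
    fun w hw => Submodule.subset_span hw
  obtain ⟨y, hy, hyc⟩ : ∃ y ∈ orth Q X, Q y ≠ 0 := by
    by_contra hall
    push Not at hall
    have hsub : orth Q X ≤ X ⊓ orth Q X := by
      refine le_inf ?_ le_rfl
      have := le_orth_of_singular hall
      rwa [orth_orth hB] at this
    have h1 := Submodule.finrank_mono hsub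
    have h3' := finrank_orth hB X
    have h4 := finrank_rad_le_triple hB h2 hc hva hvp hap (hD h2 hc) (P := X)
      (hmem _ (by simp)) (hmem _ (by simp)) (hmem _ (by simp))
    have h5 : Module.finrank F X ≤ 5 := by
      have h := finrank_span_finset_le_card (R := F)
        ({v₀.vec, a.vec, b.vec, p.vec, q.vec} : Finset (ι → F))
      have e : ((({v₀.vec, a.vec, b.vec, p.vec, q.vec} : Finset (ι → F)) : Set (ι → F))) =
          {v₀.vec, a.vec, b.vec, p.vec, q.vec} := by simp only [Finset.coe_insert, Finset.coe_singleton]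
      rw [Set.finrank, e, ← hX] at h
      exact h.trans Finset.card_le_five
    omega
  have hy' : ∀ w ∈ ({v₀.vec, a.vec, b.vec, p.vec, q.vec} : Set (ι → F)),
      QuadraticMap.polar (⇑Q) w y = 0 := fun w hw => mem_orth.1 hy w (hmem w hw)
  have hyc' : Q y = -c := by
    rcases cases_three h3 hc (Q y) with h | h | h
    · exact absurd h hyc
    · exact absurd h (hex y hy')
    · exact h
  obtain ⟨rv, hrv⟩ := exists_refl hB (v := v₀.vec) (by rw [v₀.norm]; exact hc)
  obtain ⟨ry, hry⟩ := exists_refl hB hyc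
  have hrn : ap rv (-v₀.vec) = v₀.vec := by
    rw [← neg_one_smul F v₀.vec, ap_smul, refl_self hrv, smul_neg, neg_one_smul, neg_neg]
  have hyv : ap ry v₀.vec = v₀.vec := refl_fix hry (by rw [b_comm]; exact hy' _ (by simp))
  let M : Subgroup (Grp Q) := Subgroup.closure {rv, ry}
  have hM : ∀ h ∈ M, (ap h v₀.vec = v₀.vec ∨ ap h v₀.vec = -v₀.vec) ∧
      ∀ w, QuadraticMap.polar (⇑Q) v₀.vec w = 0 → QuadraticMap.polar (⇑Q) y w = 0 → ap h w = w := by
    intro h hh
    induction hh using Subgroup.closure_induction with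
    | mem r hr =>
        rcases hr with rfl | rfl
        · exact ⟨Or.inr (refl_self hrv), fun w hw _ => refl_fix hrv hw⟩
        · exact ⟨Or.inl hyv, fun w _ hw => refl_fix hry hw⟩
    | one => exact ⟨Or.inl (ap_one _), fun w _ _ => ap_one w⟩
    | mul g g' _ _ ha hb =>
        refine ⟨?_, fun w h1 h2 => by rw [ap_mul, hb.2 w h1 h2, ha.2 w h1 h2]⟩
        have hneg : ap g (-v₀.vec) = -ap g v₀.vec := by
          rw [← neg_one_smul F v₀.vec, ap_smul, neg_one_smul]
        rw [ap_mul]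
        rcases hb.1 with e1 | e1 <;> rcases ha.1 with e2 | e2 <;> rw [e1]
        · exact Or.inl e2
        · exact Or.inr e2
        · exact Or.inr (by rw [hneg, e2])
        · exact Or.inl (by rw [hneg, e2, neg_neg])
    | inv g _ ha =>
        refine ⟨?_, fun w h1 h2 => by conv_lhs => rw [← ha.2 w h1 h2, ap_inv_ap]⟩
        rcases ha.1 with e1 | e1
        · left; conv_lhs => rw [← e1, ap_inv_ap]
        · right
          refine ap_inj g ?_
          rw [ap_ap_inv, ← neg_one_smul F v₀.vec, ap_smul, e1, neg_one_smul, neg_neg]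
  have hli' : LinearIndependent F ![v₀.vec, a.vec, b.vec, q.vec, p.vec] := by
    have := hli.comp (Equiv.swap (3 : Fin 5) 4) (Equiv.injective _)
    convert this using 1
    funext i
    fin_cases i <;> rfl
  have k0 : QuadraticMap.polar (⇑Q) v₀.vec a.vec = 0 := hva
  have k0b : QuadraticMap.polar (⇑Q) v₀.vec b.vec = 0 := hvb
  have k0p : QuadraticMap.polar (⇑Q) v₀.vec p.vec = 0 := hvp
  have k0q : QuadraticMap.polar (⇑Q) v₀.vec q.vec = 0 := hvq
  have k1 : QuadraticMap.polar (⇑Q) a.vec p.vec = 0 := hap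
  have k2 : QuadraticMap.polar (⇑Q) a.vec q.vec = 0 := haq
  have k3 : QuadraticMap.polar (⇑Q) p.vec b.vec = 0 := hpb
  have k4 : QuadraticMap.polar (⇑Q) q.vec b.vec = 0 := hqb
  obtain ⟨t₀, ht₀⟩ := exists_grp_config hB hli hli'
    (fun i => by fin_cases i <;> simp [p.norm, q.norm])
    (fun i j => by
      fin_cases i <;> fin_cases j <;>
        simp [b_self, v₀.norm, a.norm, b.norm, p.norm, q.norm, k0, k0b, k0p, k0q, k1, k2, k3, k4,
          b_comm a.vec v₀.vec, b_comm b.vec v₀.vec, b_comm p.vec v₀.vec, b_comm q.vec v₀.vec,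
          b_comm p.vec a.vec, b_comm q.vec a.vec, b_comm b.vec p.vec, b_comm b.vec q.vec,
          b_comm q.vec p.vec, b_comm b.vec a.vec])
  obtain ⟨h, hh, hmem'⟩ := exists_adjust_mem hB (by omega) M (fun a ha => by
    rcases cases_three h3 hc a with rfl | rfl | rfl
    · exact absurd rfl ha
    · exact ⟨v₀.vec, rv, Subgroup.subset_closure (by simp), hrv, by rw [v₀.norm]; exact ⟨_, rfl⟩⟩
    · exact ⟨y, ry, Subgroup.subset_closure (by simp), hry, by rw [hyc']; exact ⟨_, rfl⟩⟩) t₀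
  obtain ⟨h5, hfix⟩ := hM h hh
  have hT : ∀ w : Vtx Q c, Adj 0 v₀ w → w.vec ∈ ({v₀.vec, a.vec, b.vec, p.vec, q.vec} : Set (ι → F)) →
      ap (t₀ * h) w.vec = ap t₀ w.vec := fun w h1 hw => by
    rw [ap_mul, hfix w.vec h1 (by rw [b_comm]; exact hy' _ hw)]
  refine ⟨⟨t₀ * h, hmem'⟩, ?_, ?_, ?_, ?_, ?_⟩
  · show ap (t₀ * h) v₀.vec = _ ∨ ap (t₀ * h) v₀.vec = _
    have h0 : ap t₀ v₀.vec = v₀.vec := ht₀ 0
    rw [ap_mul]
    rcases h5 with h5 | h5
    · left; rw [h5, h0]
    · right; rw [h5, ← neg_one_smul F v₀.vec, ap_smul, h0]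
  · rw [smul_eq_iff]; exact (hT a hva (by simp)).trans (ht₀ 1)
  · rw [smul_eq_iff]; exact (hT b hvb (by simp)).trans (ht₀ 2)
  · rw [smul_eq_iff]; exact (hT p hvp (by simp)).trans (ht₀ 3)
  · rw [smul_eq_iff]; exact (hT q hvq (by simp)).trans (ht₀ 4)

/-- The hard case: two midpoints with inner product `-c` and no common neighbour. -/
theorem ends_core (h3 : Nat.card F = 3) (hB : Nondeg Q) (h2 : (2 : F) ≠ 0)
    (hn : Module.finrank F (ι → F) = 8) (hc : c ≠ 0) {v₀ : Vtx Q c} {m : ℕ}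
    {e : (Fin m → F) →ₗ[F] ι → F} (hB' : Nondeg (Q.comp e)) (hm : m = 7) (he : Function.Injective e)
    (hr : LinearMap.range e = orth Q (Submodule.span F {v₀.vec})) {Γ : Type*} [Group Γ]
    {σ : Γ →* Cfsg.Omega F ⇑Q} (hs : Function.Surjective σ) (hcen : σ.ker ≤ Subgroup.center Γ)
    {σ' : L σ (MulAction.stabilizer _ v₀) →* Cfsg.Omega F ⇑(Q.comp e)}
    (hcen' : σ'.ker ≤ Subgroup.center _) (hker : ∀ k, σ' k = 1 ↔ σ k.1 = 1)
    (hcomm : ∀ k y, ap (σ k.1 : Grp Q) (e y) = e (ap (σ' k : Grp (Q.comp e)) y))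
    {W : Vtx (Q.comp e) c} (H : Loc σ' (Adj (0 : F)) (Third (0 : F)) W)
    {n : L σ (MulAction.stabilizer _ v₀)}
    (Hn : CoverGraph.Hyp σ' (Adj (0 : F)) W (L σ' (MulAction.stabilizer _ W)) n)
    (hkey : ∀ m u z, Third (0 : F) W u z → m ∈ L σ' (MulAction.stabilizer _ z) → σ' m • W = u →
      ∃ k ∈ L σ' (MulAction.stabilizer _ W), ∃ k' ∈ L σ' (MulAction.stabilizer _ W), m = k * n * k')
    (hn0 : ∃ u z, Third (0 : F) W u z ∧ n ∈ L σ' (MulAction.stabilizer _ z) ∧ σ' n • W = u)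
    {z z' x : Vtx (Q.comp e) c} {γ : L σ (MulAction.stabilizer _ v₀)} (hx : σ' γ • W = x)
    (hWz : Adj 0 W z) (hzx : Adj 0 z x) (hWz' : Adj 0 W z') (hz'x : Adj 0 z' x)
    (hτ : Adj (-c) z z')
    (hex : ¬ ∃ y ∈ orth (Q.comp e) (Submodule.span F
      ({W.vec, x.vec, z.vec, z'.vec} : Set (Fin m → F))), (Q.comp e) y = c)
    (hends : Ends σ' W (L σ' (MulAction.stabilizer _ W)) n z γ) :
    Ends σ' W (L σ' (MulAction.stabilizer _ W)) n z' γ := by
  classical
  have h30 : (3 : F) = 0 := by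
    cases nonempty_fintype F
    have h := FiniteField.cast_card_eq_zero F
    rw [Nat.card_eq_fintype_card] at h3
    rwa [h3, Nat.cast_ofNat] at h
  have hn' : Module.finrank F (Fin m → F) = 7 := by rw [Module.finrank_fin_fun]; omega
  have hbe : ∀ a b, QuadraticMap.polar (⇑(Q.comp e)) a b = QuadraticMap.polar (⇑Q) (e a) (e b) :=
    fun a b => by simp [QuadraticMap.polar]
  have hperp : ∀ y, QuadraticMap.polar (⇑Q) v₀.vec (e y) = 0 := fun y => by
    have h : e y ∈ LinearMap.range e := ⟨y, rfl⟩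
    rw [hr] at h
    exact mem_orth.1 h _ (Submodule.mem_span_singleton_self _)
  have hrange : ∀ a, QuadraticMap.polar (⇑Q) v₀.vec a = 0 → a ∈ LinearMap.range e := fun a ha => by
    rw [hr]
    exact mem_orth_span.2 (by rintro _ rfl; exact ha)
  have hli := four_indep hB' h2 (by omega) hc hWz hex
  -- the rotation
  obtain ⟨z3, hz3⟩ := exists_third h30 hτ
  obtain ⟨G, gW, gx, gz, gz', gz3⟩ :=
    exists_rot hB' h30 (by omega) hWz hWz' hzx hz'x hτ hz3 hli
  obtain ⟨k, hk, hσk⟩ := exists_in H (perfect_all H W) (g := G) gW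
  -- the swap
  let up : Vtx (Q.comp e) c → Vtx Q c := fun a => ⟨e a.vec, a.norm⟩
  have hup : ∀ {t : F} {a b : Vtx (Q.comp e) c}, Adj t a b → Adj t (up a) (up b) := fun h => by
    unfold Adj at h ⊢; rwa [← hbe]
  have hli5 : LinearIndependent F ![v₀.vec, (up W).vec, (up x).vec, (up z).vec, (up z').vec] := by
    rw [Fintype.linearIndependent_iff] at hli ⊢
    intro g hg
    simp only [Fin.sum_univ_five, Matrix.cons_val_zero, Matrix.cons_val_one, Matrix.cons_val_two,
      Matrix.cons_val_three, Matrix.cons_val_four, Matrix.tail_cons, Matrix.head_cons, up] at hg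
    have h0 : g 0 = 0 := by
      have h := congrArg (QuadraticMap.polar (⇑Q) v₀.vec) hg
      simp only [b_add_right, b_smul_right, hperp, b_zero_right, mul_zero, add_zero,
        polar_self_vtx] at h
      exact (mul_eq_zero.1 h).resolve_right (mul_ne_zero h2 hc)
    have h := hli ![g 1, g 2, g 3, g 4] (he (by
      rw [map_zero]
      rw [h0, zero_smul, zero_add] at hg
      simpa [Fin.sum_univ_four, map_add, map_smul, add_assoc] using hg))
    intro i
    fin_cases i
    · exact h0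
    · exact h 0
    · exact h 1
    · exact h 2
    · exact h 3
  obtain ⟨T, hTv, tW, tx, tz, tz'⟩ := exists_swap h3 hB h2 hn hc (v₀ := v₀) (a := up W) (b := up x)
    (p := up z) (q := up z') (hperp _) (hperp _) (hperp _) (hperp _) (hup hWz) (hup hWz') (hup hzx)
    (hup hz'x) hli5 (fun y hy hyc => by
      obtain ⟨y', rfl⟩ := hrange y (hy _ (by simp))
      refine hex ⟨y', mem_orth_span.2 fun q hq => ?_, hyc⟩
      rw [hbe]
      rcases hq with rfl | rfl | rfl | rfl <;> exact hy _ (by simp [up]))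
  have hTn : ap (T : Grp Q) (-v₀.vec) = -ap (T : Grp Q) v₀.vec := by
    rw [← neg_one_smul F v₀.vec, ap_smul, neg_one_smul]
  have hTb : ∀ a, ∃ b, e b = ap (T : Grp Q) (e a) := fun a => by
    refine hrange _ ?_
    have h := ap_b (T : Grp Q) v₀.vec (e a)
    rw [hperp] at h
    rcases hTv with e1 | e1
    · rwa [e1] at h
    · rwa [e1, bneg, neg_eq_zero] at h
  choose tb htb using hTb
  let ρ : Vtx (Q.comp e) c → Vtx (Q.comp e) c := fun a => ⟨tb a.vec, by
    rw [QuadraticMap.comp_apply, htb, ap_q]; exact a.norm⟩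
  obtain ⟨t, ht⟩ := hs T
  have hΔt : ∀ d ∈ L σ (MulAction.stabilizer (Cfsg.Omega F ⇑Q) v₀),
      t * d * t⁻¹ ∈ L σ (MulAction.stabilizer (Cfsg.Omega F ⇑Q) v₀) := fun d hd => by
    have h := L_conj_stab t hd
    rw [ht] at h
    refine L_mono ?_ h
    intro q hq
    rw [MulAction.mem_stabilizer_iff, smul_eq_iff] at hq ⊢
    change ap (q : Grp Q) (ap (T : Grp Q) v₀.vec) = ap (T : Grp Q) v₀.vec at hq
    rcases hTv with e1 | e1
    · rwa [e1] at hq
    · rw [e1, ← neg_one_smul F v₀.vec, ap_smul, neg_one_smul, neg_one_smul, neg_inj] at hq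
      exact hq
  let β : L σ (MulAction.stabilizer (Cfsg.Omega F ⇑Q) v₀) →*
      L σ (MulAction.stabilizer (Cfsg.Omega F ⇑Q) v₀) :=
    MonoidHom.mk' (fun d => ⟨t * d.1 * t⁻¹, hΔt d.1 d.2⟩) fun a b =>
      Subtype.ext (by show t * (a.1 * b.1) * t⁻¹ = t * a.1 * t⁻¹ * (t * b.1 * t⁻¹); group)
  have hρ : ∀ d a, σ' (β d) • ρ a = ρ (σ' d • a) := fun d a => by
    refine Vtx.ext (he ?_)
    show e (ap (σ' (β d) : Grp (Q.comp e)) (tb a.vec)) =
      e (tb (ap (σ' d : Grp (Q.comp e)) a.vec))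
    rw [← hcomm, htb, htb, ← hcomm]
    show ap (σ (t * d.1 * t⁻¹) : Grp Q) (ap (T : Grp Q) (e a.vec)) =
      ap (T : Grp Q) (ap (σ d.1 : Grp Q) (e a.vec))
    rw [← ap_mul, ← ap_mul, map_mul, map_mul, map_inv, ht]
    push_cast
    rw [inv_mul_cancel_right]
  have hρe : ∀ a b : Vtx (Q.comp e) c, T • up a = up b → ρ a = b := fun a b h =>
    Vtx.ext (he (by show e (tb a.vec) = _; rw [htb]; exact congrArg Vtx.vec h))
  have hρb : ∀ a b : Vtx (Q.comp e) c, QuadraticMap.polar (⇑(Q.comp e)) (ρ a).vec (ρ b).vec =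
      QuadraticMap.polar (⇑(Q.comp e)) a.vec b.vec := fun a b => by
    rw [hbe, hbe]
    show QuadraticMap.polar (⇑Q) (e (tb a.vec)) (e (tb b.vec)) = _
    rw [htb, htb, ap_b]
  have hβL : ∀ (a : Vtx (Q.comp e) c) (d : L σ (MulAction.stabilizer _ v₀)),
      d ∈ L σ' (MulAction.stabilizer _ a) → β d ∈ L σ' (MulAction.stabilizer _ (ρ a)) := by
    intro a d hd
    refine L_hom β (fun q hq => ?_) hd
    show σ' (β q) • ρ a = ρ a
    rw [hρ, show σ' q • a = a from hq]
  have hρW : ρ W = W := hρe W W tW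
  refine ends_of_rot_swap Hn hcen' hx hends hWz' hz'x (MulAut.conj k).toMonoidHom β
    (fun a => G • a) ρ gW hρW gx (hρe x x tx) (fun a ha => mul_mem (mul_mem hk ha) (inv_mem hk))
    (fun d hd => by rw [← hρW]; exact hβL W d hd) ⟨k, hk, k⁻¹, inv_mem hk, rfl⟩ ?_ ?_ hρ ?_ ?_
    gz gz' gz3 (hρe z z' tz) (hρe z' z tz')
  · obtain ⟨u₀, z₀, hT0, hn0', hnu⟩ := hn0
    refine hkey (β n) (ρ u₀) (ρ z₀) ?_ (hβL z₀ n hn0') ?_
    · obtain ⟨a1, a2, a3⟩ := hT0
      refine ⟨?_, ?_, ?_⟩
      · show QuadraticMap.polar (⇑(Q.comp e)) W.vec (ρ u₀).vec = 0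
        rw [← hρW, hρb]; exact a1
      · rw [← hρW, hρb]; exact a2
      · rw [hρb]; exact a3
    · rw [← hnu, ← hρ, hρW]
  · intro d a
    show σ' (k * d * k⁻¹) • G • a = G • σ' d • a
    rw [map_mul, map_mul, map_inv, hσk, mul_smul, mul_smul, inv_smul_smul]
  · intro d hd
    show k * d * k⁻¹ = d
    rw [Subgroup.mem_center_iff.1 (hcen' hd) k, mul_inv_cancel_right]
  · intro d hd
    refine Subtype.ext ?_
    show t * d.1 * t⁻¹ = d.1
    rw [Subgroup.mem_center_iff.1 (hcen ((hker d).1 hd)) t, mul_inv_cancel_right]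

/-- The splitting over the common stabiliser of two orthogonal vectors of the same norm extends to
the stabiliser of each. -/
theorem stab_inj (h3 : Nat.card F = 3) (hB : Nondeg Q) (hn : Module.finrank F (ι → F) = 8)
    (hc : c ≠ 0) (v₀ w : Vtx Q c) (hvw : Adj 0 v₀ w) {Γ : Type*} [Group Γ]
    {σ : Γ →* Cfsg.Omega F ⇑Q} (hs : Function.Surjective σ) (hcen : σ.ker ≤ Subgroup.center Γ)
    (hinj : ∀ k ∈ L σ (fixOrth Q (orth Q (Submodule.span F {v₀.vec, w.vec}))), σ k = 1 → k = 1) :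
    ∀ k ∈ L σ (MulAction.stabilizer _ v₀), σ k = 1 → k = 1 := by
  classical
  have h30 : (3 : F) = 0 := by
    cases nonempty_fintype F
    have h := FiniteField.cast_card_eq_zero F
    rw [Nat.card_eq_fintype_card] at h3
    rwa [h3, Nat.cast_ofNat] at h
  have h2 : (2 : F) ≠ 0 := fun e => one_ne_zero (show (1 : F) = 0 by linear_combination h30 - e)
  have hvU : v₀.vec ∈ orth Q (orth Q (Submodule.span F {v₀.vec, w.vec})) := by
    rw [orth_orth hB]; exact Submodule.subset_span (by simp)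
  obtain ⟨m, e, σ', hm, hB', he, hr, hUr, hs', hcen', hperf, hker, hcomm, hinjU⟩ :=
    descend h2 hB (by omega) hc v₀ hvU hs hcen hinj
  have hn' : Module.finrank F (Fin m → F) = 7 := by rw [Module.finrank_fin_fun]; omega
  have hbe : ∀ a b, QuadraticMap.polar (⇑(Q.comp e)) a b = QuadraticMap.polar (⇑Q) (e a) (e b) :=
    fun a b => by simp [QuadraticMap.polar]
  obtain ⟨w', hw'⟩ : w.vec ∈ LinearMap.range e := by
    rw [hr]
    exact mem_orth_span.2 (by rintro _ rfl; exact hvw)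
  let W : Vtx (Q.comp e) c := ⟨w', by rw [QuadraticMap.comp_apply, hw', w.norm]⟩
  -- the stabiliser of `W` is covered by the hypothesis
  have hW : MulAction.stabilizer (Cfsg.Omega F ⇑(Q.comp e)) W ≤
      fixOrth (Q.comp e) ((orth Q (Submodule.span F {v₀.vec, w.vec})).comap e) := by
    intro G hG
    rw [MulAction.mem_stabilizer_iff, smul_eq_iff] at hG
    rw [mem_fixOrth]
    intro y hy
    have hey : e y ∈ orth Q (orth Q (Submodule.span F {v₀.vec, w.vec})) := mem_orth.2 fun u hu => by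
      obtain ⟨u', rfl⟩ := hUr hu
      rw [← hbe]
      exact mem_orth.1 hy u' hu
    rw [orth_orth hB, Submodule.mem_span_pair] at hey
    obtain ⟨a, b, hab⟩ := hey
    have ha : a = 0 := by
      have h : e y ∈ LinearMap.range e := ⟨y, rfl⟩
      rw [hr] at h
      have := mem_orth.1 h _ (Submodule.mem_span_singleton_self _)
      rw [← hab, b_add_right, b_smul_right, b_smul_right, polar_self_vtx,
        show QuadraticMap.polar (⇑Q) v₀.vec w.vec = 0 from hvw, mul_zero, add_zero] at this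
      exact (mul_eq_zero.1 this).resolve_right (mul_ne_zero h2 hc)
    have hy' : y = b • w' := he (by rw [map_smul, hw', ← hab, ha, zero_smul, zero_add])
    rw [hy', ap_smul, hG]
  suffices hi : Function.Injective σ' by
    intro k hk hk1
    exact congrArg Subtype.val (hi (a₁ := ⟨k, hk⟩) (a₂ := 1) (by
      rw [map_one]; exact (hker _).2 hk1))
  have hsymm : ∀ {a b : Vtx (Q.comp e) c}, Adj 0 a b → Adj 0 b a := fun h => by
    unfold Adj at h ⊢; rwa [b_comm]
  have hD' := hD (c := c) h2 hc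
  have hedge : ∃ u, Adj 0 W u := by
    obtain ⟨z, hz, -⟩ := exists_common hB' (by omega) hc W W
    exact ⟨z, hz⟩
  have H := loc hD' hB' (by omega) hc W hedge hs' (stab_perfect h2 hB' (by omega) hc W)
    (fun u z hz => (edge_perfect hD' hB' (by omega) (x := W) (y := z) (hsymm hz.2.1)).ge)
    (fun k hk => hinjU k (L_mono hW hk))
  refine CoverLocal.injective H hcen' hperf (fun n Hn hkey hn0 => ?_) (three h2 hB' (by omega) hc W)
    (exists_common hB' (by omega) hc W)
  intro γ ζ ζ' h1 hq h1' hadj _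
  have hv1 : σ' 1 • W = W := by rw [map_one, one_smul]
  have a1 : Adj 0 W (σ' ζ • W) := by have := CoverGraph.Edge.adj' Hn h1; rwa [hv1] at this
  have a1' : Adj 0 W (σ' ζ' • W) := by have := CoverGraph.Edge.adj' Hn h1'; rwa [hv1] at this
  have a2 : Adj 0 (σ' ζ • W) (σ' γ • W) := CoverGraph.Edge.adj' Hn hq
  refine ends_edge Hn ?_ h1'
  have hends : Ends σ' W (L σ' (MulAction.stabilizer _ W)) n (σ' ζ • W) γ := ⟨ζ, rfl, h1, hq⟩
  generalize hzdef : σ' ζ • W = z at hends a1 a2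
  generalize hzdef' : σ' ζ' • W = z' at a1' hadj
  generalize hxdef : σ' γ • W = x at a2 hadj
  clear h1 hq h1'
  have path := fun {p q : Vtx (Q.comp e) c} (h : Ends σ' W (L σ' (MulAction.stabilizer _ W)) n p γ)
    (hq1 : Adj 0 W q) (hp : Relation.ReflTransGen
      (fun a b => Adj 0 a b ∧ Adj 0 W b ∧ Adj 0 b x) p q) =>
      ends_path Hn h hq1 (by rw [hxdef]; exact hp)
  by_cases hex : ∃ y ∈ orth (Q.comp e) (Submodule.span F
      ({W.vec, x.vec, z.vec, z'.vec} : Set (Fin m → F))), (Q.comp e) y = c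
  · exact path hends a1' (path_mid a1' hadj hex)
  rcases cases_three h3 hc (QuadraticMap.polar (⇑(Q.comp e)) z.vec z'.vec) with hτ | hτ | hτ
  · exact path hends a1' (.single ⟨hτ, a1', hadj⟩)
  · -- change the sign of the first midpoint
    let nz : Vtx (Q.comp e) c := ⟨-z.vec, by rw [QuadraticMap.map_neg]; exact z.norm⟩
    have n1 : Adj 0 W nz := by
      show QuadraticMap.polar (⇑(Q.comp e)) W.vec (-z.vec) = 0
      rw [b_comm, bneg, b_comm, show QuadraticMap.polar (⇑(Q.comp e)) W.vec z.vec = 0 from a1,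
        neg_zero]
    have n2 : Adj 0 nz x := by
      show QuadraticMap.polar (⇑(Q.comp e)) (-z.vec) x.vec = 0
      rw [bneg, show QuadraticMap.polar (⇑(Q.comp e)) z.vec x.vec = 0 from a2, neg_zero]
    have n3 : Adj (-c) nz z' := by
      show QuadraticMap.polar (⇑(Q.comp e)) (-z.vec) z'.vec = -c
      rw [bneg, hτ]
    refine ends_core h3 hB h2 hn hc hB' (by omega) he hr hs hcen hcen' hker hcomm H Hn hkey hn0
      hxdef n1 n2 a1' hadj n3 (fun ⟨y, hy, hyc⟩ => hex ⟨y, ?_, hyc⟩) (path hends n1 (path_mid n1 n2 ?_))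
    · rw [mem_orth_span] at hy ⊢
      intro q hq
      simp only [Set.mem_insert_iff, Set.mem_singleton_iff] at hq
      rcases hq with h | h | h | h <;> rw [h]
      · exact hy W.vec (by simp)
      · exact hy x.vec (by simp)
      · have := hy nz.vec (by simp)
        rwa [bneg, neg_eq_zero] at this
      · exact hy z'.vec (by simp)
    · obtain ⟨y, hy⟩ := exists_perp_vtx hD' hB' (by omega) hc a1
        {W.vec, x.vec, z.vec} (by simp) (by simp) Finset.card_le_three
      refine ⟨y.vec, mem_orth_span.2 fun q hq => ?_, y.norm⟩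
      simp only [Set.mem_insert_iff, Set.mem_singleton_iff] at hq
      rw [b_comm]
      rcases hq with h | h | h | h <;> rw [h]
      · exact hy W.vec (by simp)
      · exact hy x.vec (by simp)
      · exact hy z.vec (by simp)
      · rw [b_comm, bneg, b_comm, hy z.vec (by simp), neg_zero]
  · exact ends_core h3 hB h2 hn hc hB' (by omega) he hr hs hcen hcen' hker hcomm H Hn hkey hn0
      hxdef a1 a2 a1' hadj hτ hex hends

end CfsgLib.Schur.OmegaThree
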