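import Cfsg.Agent.Lib.Schur.LinearMulti

/-!
# Several generators for tables inside a group of packed permutations
-/

set_option autoImplicit false

open scoped commutatorElement

namespace CfsgLib.Schur.PermTable

open CfsgLib.Schur.LinTable
open CfsgLib.Chev (allBelow allBelow_eq_true)

variable {G : Type*} [Group G] {E : Elts} {ρ : G →* Equiv.Perm (Fin E.m)}

/-- What a table inside a group of packed permutations gives. -/
theorem link_facts [Finite G] (hρ : Function.Injective ρ) (h0 : ∃ x, Acts ρ x (E.P 0))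
    (h1 : ∃ x, Acts ρ x (E.P 1)) (hprog : (List.range E.prog.length).all E.progAt = true) {T : Tab}
    {C : LatCert} (K : Link) (hok : T.ok = true)
    (hhead : K.headOK E T = true) (hel : (List.range T.N).all (K.elAt E T) = true)
    (hconj : K.conjOK E T C = true) {M ℓ : ℕ} (hcard : T.N * M = Nat.card G) (hM : ¬ ℓ ∣ M)
    {Γ : Type*} [Group Γ] [Finite Γ] (σ : Γ →* G) (hσ : Function.Surjective σ)
    (hc : σ.ker ≤ Subgroup.center Γ) :
    ∃ (U : Subgroup G) (g : ℕ → G), ¬ ℓ ∣ U.index ∧ (∀ i < T.d, ((T.word i).map g).prod = 1) ∧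
      (∀ t < T.N, T.elt g t = 1 → t = 0) ∧
      (∀ a b a' b', Rel.pair a b a' b' ∈ C.rels → ∃ h : G,
        h * T.elt g a = T.elt g a' * h ∧ h * T.elt g b = T.elt g b' * h) ∧
      ∀ x ∈ U, ∃ t < T.N, T.elt g t = x := by
  classical
  simp only [Link.headOK, Bool.and_eq_true, decide_eq_true_eq, List.all_eq_true, List.mem_range] at hhead
  obtain ⟨⟨hgid, hwords⟩, hmono⟩ := hhead
  choose x hx using exists_acts h0 h1 hprog
  let g : ℕ → G := fun j => if h : K.gid.getD j 0 < E.prog.length + 2 then x _ h else 1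
  have hg : ∀ j < T.k, Acts ρ (g j) (E.P (K.gid.getD j 0)) := fun j hj => by
    simp only [g, dif_pos (hgid j hj)]; exact hx _ _
  choose L hL using fun j => hσ (g j)
  have hw : ∀ i < T.d, ((T.word i).map g).prod = 1 := fun i hi => hρ (Equiv.ext fun p => Fin.ext (by
    rw [acts_word (P := fun j => E.P (K.gid.getD j 0)) (fun j hj => hg j ((hwords i hi).1 j hj)),
      Nat.eq_of_beq_eq_true (allBelow_eq_true (hwords i hi).2 p p.isLt), map_one]
    rfl))
  obtain ⟨⟨hN, hp0⟩, -, hfacts⟩ := Tab.facts hok hc hL hw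
  have helt : ∀ t < T.N, K.el t < 2 ^ (8 * E.m) ∧ K.srt (K.rank t) = t ∧ K.rank t < T.N ∧
      Acts ρ (T.elt g t) (K.el t) := fun t ht => by
    have h := List.all_eq_true.1 hel t (List.mem_range.2 ht)
    simp only [Link.elAt, Bool.and_eq_true, decide_eq_true_eq, Nat.beq_eq, Nat.blt_eq] at h
    refine ⟨h.1.1.1, h.1.1.2, h.1.2, fun p => ?_⟩
    have e := allBelow_eq_true h.2 p p.isLt
    rw [Nat.beq_eq] at e
    rw [e, Tab.elt, acts_word (P := fun j => E.P (K.gid.getD j 0))
      fun j hj => hg j ((hfacts t ht).1 j hj)]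
  have hlt : ∀ b a, a < b → b < T.N → K.el (K.srt a) < K.el (K.srt b) := by
    intro b
    induction b with
    | zero => intro a ha; omega
    | succ b ih =>
      intro a ha hb
      have h := hmono b (by omega)
      rw [Nat.blt_eq] at h
      rcases Nat.lt_or_ge a b with hab | hab
      · exact lt_trans (ih a hab (by omega)) h
      · rwa [show a = b by omega]
  have hinj : ∀ a < T.N, ∀ b < T.N, T.elt g a = T.elt g b → a = b := by
    intro a ha b hb e
    obtain ⟨la, sa, ra, aa⟩ := helt a ha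
    obtain ⟨lb, sb, rb, ab⟩ := helt b hb
    rw [e] at aa
    have := eq_of_ap la lb fun p hp => (aa ⟨p, hp⟩).symm.trans (ab ⟨p, hp⟩)
    rcases Nat.lt_trichotomy (K.rank a) (K.rank b) with h | h | h
    · have h2 := hlt _ _ h rb; rw [sa, sb] at h2; omega
    · rw [← sa, h, sb]
    · have h2 := hlt _ _ h ra; rw [sa, sb] at h2; omega
  set U : Subgroup G := Subgroup.closure {e | ∃ j < T.k, e = g j}
  have hU := Tab.closure_eq hok hσ hc hw
  refine ⟨U, g, ?_, hw, (fun t ht e => hinj t ht 0 hN (by rw [e, Tab.elt, hp0]; rfl)), ?_, hU⟩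
  · have hmem : ∀ t < T.N, T.elt g t ∈ U := fun t ht => list_prod_mem fun y hy => by
      obtain ⟨j, hj, rfl⟩ := List.mem_map.1 hy
      exact Subgroup.subset_closure ⟨j, (hfacts t ht).1 j hj, rfl⟩
    have hcardU : Nat.card U = T.N := by
      rw [← Nat.card_fin T.N]
      refine (Nat.card_eq_of_bijective (fun t : Fin T.N => (⟨_, hmem t t.2⟩ : U)) ⟨?_, ?_⟩).symm
      · intro a b e
        exact Fin.ext (hinj _ a.2 _ b.2 (congrArg Subtype.val e))
      · rintro ⟨y, hy⟩
        obtain ⟨t, ht, rfl⟩ := hU y hy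
        exact ⟨⟨t, ht⟩, rfl⟩
    have h := U.card_mul_index
    rw [hcardU, ← hcard] at h
    rw [Nat.eq_of_mul_eq_mul_left hN h]
    exact hM
  · intro a b a' b' hm
    obtain ⟨l, hl, he⟩ := List.getElem_of_mem hm
    have h := List.all_eq_true.1 hconj l (List.mem_range.2 hl)
    rw [List.getD_eq_getElem?_getD, List.getElem?_eq_getElem hl, Option.getD_some, he] at h
    simp only [Bool.and_eq_true, decide_eq_true_eq] at h
    obtain ⟨⟨⟨⟨⟨hh, ha⟩, hb⟩, ha'⟩, hb'⟩, hall⟩ := h
    refine ⟨x _ hh, ?_, ?_⟩ <;> refine hρ (Equiv.ext fun p => Fin.ext ?_)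
    · have e := (allBelow_eq_true hall p p.isLt)
      simp only [Bool.and_eq_true, Nat.beq_eq] at e
      rw [map_mul, map_mul, Equiv.Perm.mul_apply, Equiv.Perm.mul_apply, hx _ hh, (helt a ha).2.2.2,
        (helt a' ha').2.2.2, hx _ hh]
      exact e.1
    · have e := (allBelow_eq_true hall p p.isLt)
      simp only [Bool.and_eq_true, Nat.beq_eq] at e
      rw [map_mul, map_mul, Equiv.Perm.mul_apply, Equiv.Perm.mul_apply, hx _ hh, (helt b hb).2.2.2,
        (helt b' hb').2.2.2, hx _ hh]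
      exact e.2

/-- The bound given by a table and several generators. -/
theorem bound_of_link_multi [Finite G] (hρ : Function.Injective ρ) (h0 : ∃ x, Acts ρ x (E.P 0))
    (h1 : ∃ x, Acts ρ x (E.P 1)) (hprog : (List.range E.prog.length).all E.progAt = true) {T : Tab}
    {C : MultiCert} (K : Link) (hok : T.ok = true) (hC : T.multiOK C = true)
    (hhead : K.headOK E T = true) (hel : (List.range T.N).all (K.elAt E T) = true)
    (hconj : K.conjOK E T C.base = true) {M ℓ : ℕ} (hcard : T.N * M = Nat.card G) (hM : ¬ ℓ ∣ M)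
    {Γ : Type*} [Group Γ] [Finite Γ] (σ : Γ →* G) (hσ : Function.Surjective σ)
    (hc : σ.ker ≤ Subgroup.center Γ) :
    ∃ U : Subgroup G, ¬ ℓ ∣ U.index ∧ ∃ w : ℕ → Γ, (∀ s, w s ∈ σ.ker ∧ w s ^ C.n = 1) ∧
      ∀ z ∈ σ.ker, z ∈ ⁅U.comap σ, U.comap σ⁆ → z ∈ Subgroup.closure (w '' {s | s < C.r}) := by
  obtain ⟨U, g, hU, hw, hone, hcj, hcov⟩ := link_facts (C := C.base) hρ h0 h1 hprog K hok hhead hel
    hconj hcard hM σ hσ hc
  exact ⟨U, hU, Tab.exists_multi_bound hok C hC σ hσ hc g hw hone hcj U hcov⟩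

end CfsgLib.Schur.PermTable
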