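import Mathlib
import Cfsg.Prelude.Def_KGroupFacts
import Cfsg.Agent.Lib.Schur.Hopf

/-!
The multiplier of a direct product.
-/

set_option autoImplicit false
set_option linter.style.haveILetI false
set_option linter.unusedSectionVars false

open scoped commutatorElement TensorProduct

namespace CfsgLib.Schur

universe u v w

/-- Groups twisted by a biadditive map. -/
@[ext] structure Twist {G₁ G₂ T : Type*} [Group G₁] [Group G₂] [AddCommGroup T]
    (β : Additive G₁ →+ Additive G₂ →+ T) where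
  x : G₁
  y : G₂
  t : T

namespace Twist

variable {G₁ G₂ T : Type*} [Group G₁] [Group G₂] [AddCommGroup T]
  {β : Additive G₁ →+ Additive G₂ →+ T}

instance : One (Twist β) := ⟨⟨1, 1, 0⟩⟩
instance : Mul (Twist β) :=
  ⟨fun a b => ⟨a.x * b.x, a.y * b.y, a.t + b.t + β (Additive.ofMul a.x) (Additive.ofMul b.y)⟩⟩
instance : Inv (Twist β) :=
  ⟨fun a => ⟨a.x⁻¹, a.y⁻¹, -a.t + β (Additive.ofMul a.x) (Additive.ofMul a.y)⟩⟩

theorem mul_def (a b : Twist β) : a * b =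
    ⟨a.x * b.x, a.y * b.y, a.t + b.t + β (Additive.ofMul a.x) (Additive.ofMul b.y)⟩ := rfl
theorem one_def : (1 : Twist β) = ⟨1, 1, 0⟩ := rfl
theorem inv_def (a : Twist β) : a⁻¹ =
    ⟨a.x⁻¹, a.y⁻¹, -a.t + β (Additive.ofMul a.x) (Additive.ofMul a.y)⟩ := rfl

instance : Group (Twist β) :=
  Group.ofLeftAxioms
    (fun a b c => by
      ext
      · simp [mul_def, mul_assoc]
      · simp [mul_def, mul_assoc]
      · simp only [mul_def, ofMul_mul, map_add, AddMonoidHom.add_apply]; abel)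
    (fun a => by ext <;> simp [mul_def, one_def])
    (fun a => by
      ext
      · simp [mul_def, one_def, inv_def]
      · simp [mul_def, one_def, inv_def]
      · simp [mul_def, one_def, inv_def, ofMul_inv])

def equivProd (β : Additive G₁ →+ Additive G₂ →+ T) : Twist β ≃ G₁ × G₂ × T where
  toFun a := (a.x, a.y, a.t)
  invFun a := ⟨a.1, a.2.1, a.2.2⟩
  left_inv _ := rfl
  right_inv _ := rfl

instance [Finite G₁] [Finite G₂] [Finite T] : Finite (Twist β) :=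
  Finite.of_equiv _ (equivProd β).symm

end Twist

abbrev AbTensor (Q₁ : Type u) (Q₂ : Type v) [Group Q₁] [Group Q₂] : Type max u v :=
  TensorProduct ℤ (Additive (Abelianization Q₁)) (Additive (Abelianization Q₂))

theorem finite_abTensor (Q₁ : Type u) (Q₂ : Type v) [Group Q₁] [Group Q₂] [Finite Q₁] [Finite Q₂] :
    Finite (AbTensor Q₁ Q₂) := by
  haveI : AddGroup.FG (AbTensor Q₁ Q₂) := by
    refine AddGroup.fg_iff.mpr ⟨Set.range fun u :
      Additive (Abelianization Q₁) × Additive (Abelianization Q₂) => u.1 ⊗ₜ[ℤ] u.2,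
      ?_, Set.finite_range _⟩
    rw [eq_top_iff]
    intro t _
    induction t using TensorProduct.induction_on with
    | zero => exact zero_mem _
    | tmul a b => exact AddSubgroup.subset_closure ⟨(a, b), rfl⟩
    | add a b ha hb => exact add_mem (ha trivial) (hb trivial)
  refine AddCommGroup.finite_of_fg_isAddTorsion _ fun t => ?_
  rw [isOfFinAddOrder_iff_nsmul_eq_zero]
  refine ⟨Nat.card (Abelianization Q₁), Nat.card_pos, ?_⟩
  induction t using TensorProduct.induction_on with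
  | zero => exact nsmul_zero _
  | tmul a b =>
    rw [← natCast_zsmul, TensorProduct.smul_tmul', natCast_zsmul,
      show Nat.card (Abelianization Q₁) • a = 0 from
        congrArg Additive.ofMul (pow_card_eq_one' (x := a.toMul)), TensorProduct.zero_tmul]
  | add a b ha hb => rw [nsmul_add, ha, hb, add_zero]

/-- Congruence of the multiplier. -/
theorem hasSchurMultiplier_congr {G : Type u} [Group G] {A : Type*} [CommGroup A] {B : Type*}
    [CommGroup B] (e : A ≃* B) (h : Cfsg.HasSchurMultiplier G A) :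
    Cfsg.HasSchurMultiplier G B := by
  obtain ⟨⟨Γ, hg, hf, σ, hσ, ⟨k⟩⟩, hb⟩ := h
  refine ⟨⟨Γ, hg, hf, σ, hσ, ⟨k.trans e⟩⟩, fun Δ _ _ τ hτ => ?_⟩
  obtain ⟨f, hf'⟩ := hb Δ τ hτ
  exact ⟨f.comp e.symm.toMonoidHom, hf'.comp e.symm.surjective⟩

theorem prod_exists {Q₁ : Type u} {Q₂ : Type v} [Group Q₁] [Group Q₂] [Finite Q₁] [Finite Q₂]
    {A B : Type*} [CommGroup A] [CommGroup B] {Γ₁ : Type u} [Group Γ₁] [Finite Γ₁] {σ₁ : Γ₁ →* Q₁}
    {Γ₂ : Type v} [Group Γ₂] [Finite Γ₂] {σ₂ : Γ₂ →* Q₂}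
    (h₁ : Cfsg.IsStemExtension σ₁) (h₂ : Cfsg.IsStemExtension σ₂)
    (k₁ : σ₁.ker ≃* A) (k₂ : σ₂.ker ≃* B) :
    ∃ (Γ : Type max u v) (_ : Group Γ) (_ : Finite Γ) (σ : Γ →* Q₁ × Q₂),
      Cfsg.IsStemExtension σ ∧
        Nonempty (σ.ker ≃* A × B × Multiplicative (AbTensor Q₁ Q₂)) := by
  haveI := finite_abTensor Q₁ Q₂
  let o₁ : Additive Γ₁ →+ Additive (Abelianization Q₁) :=
    MonoidHom.toAdditive (Abelianization.of.comp σ₁)
  let o₂ : Additive Γ₂ →+ Additive (Abelianization Q₂) :=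
    MonoidHom.toAdditive (Abelianization.of.comp σ₂)
  let β : Additive Γ₁ →+ Additive Γ₂ →+ AbTensor Q₁ Q₂ :=
    AddMonoidHom.mk' (fun a => AddMonoidHom.mk' (fun b => o₁ a ⊗ₜ[ℤ] o₂ b)
      (fun b b' => by rw [map_add, TensorProduct.tmul_add]))
      (fun a a' => AddMonoidHom.ext fun b => by
        simp only [AddMonoidHom.mk'_apply, AddMonoidHom.add_apply, map_add, TensorProduct.add_tmul])
  have hβ : ∀ a b, β (Additive.ofMul a) (Additive.ofMul b) =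
      Additive.ofMul (Abelianization.of (σ₁ a)) ⊗ₜ[ℤ] Additive.ofMul (Abelianization.of (σ₂ b)) :=
    fun a b => rfl
  have hβl : ∀ a ∈ σ₁.ker, ∀ b, β (Additive.ofMul a) (Additive.ofMul b) = 0 := fun a ha b => by
    rw [hβ, MonoidHom.mem_ker.mp ha, map_one, ofMul_one, TensorProduct.zero_tmul]
  have hβr : ∀ b ∈ σ₂.ker, ∀ a, β (Additive.ofMul a) (Additive.ofMul b) = 0 := fun b hb a => by
    rw [hβ, MonoidHom.mem_ker.mp hb, map_one, ofMul_one, TensorProduct.tmul_zero]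
  let σ : Twist β →* Q₁ × Q₂ :=
    { toFun := fun a => (σ₁ a.x, σ₂ a.y)
      map_one' := by simp [Twist.one_def]
      map_mul' := fun a b => by simp [Twist.mul_def] }
  have hker : ∀ a : Twist β, a ∈ σ.ker ↔ a.x ∈ σ₁.ker ∧ a.y ∈ σ₂.ker := fun a => by
    simp [σ, MonoidHom.mem_ker, Prod.ext_iff]
  let i₁ : Γ₁ →* Twist β :=
    { toFun := fun a => ⟨a, 1, 0⟩
      map_one' := rfl
      map_mul' := fun a b => by ext <;> simp [Twist.mul_def] }
  let i₂ : Γ₂ →* Twist β :=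
    { toFun := fun a => ⟨1, a, 0⟩
      map_one' := rfl
      map_mul' := fun a b => by ext <;> simp [Twist.mul_def] }
  refine ⟨Twist β, inferInstance, inferInstance, σ, ⟨?_, ?_, ?_⟩, ?_⟩
  · intro q
    obtain ⟨a, ha⟩ := h₁.1 q.1
    obtain ⟨b, hb⟩ := h₂.1 q.2
    exact ⟨⟨a, b, 0⟩, Prod.ext ha hb⟩
  · intro a ha
    obtain ⟨hx, hy⟩ := (hker a).mp ha
    rw [Subgroup.mem_center_iff]
    intro b
    ext
    · simpa [Twist.mul_def] using Subgroup.mem_center_iff.mp (h₁.2.1 hx) b.x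
    · simpa [Twist.mul_def] using Subgroup.mem_center_iff.mp (h₂.2.1 hy) b.y
    · simp only [Twist.mul_def, hβl a.x hx, hβr a.y hy, add_zero]
      exact add_comm _ _
  · intro a ha
    obtain ⟨hx, hy⟩ := (hker a).mp ha
    have hmap₁ : ∀ {g : Γ₁}, g ∈ commutator Γ₁ → i₁ g ∈ commutator (Twist β) := fun {g} hg => by
      have h1 := Subgroup.mem_map_of_mem i₁ hg
      rw [commutator_def, Subgroup.map_commutator] at h1
      exact Subgroup.commutator_mono le_top le_top h1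
    have hmap₂ : ∀ {g : Γ₂}, g ∈ commutator Γ₂ → i₂ g ∈ commutator (Twist β) := fun {g} hg => by
      have h1 := Subgroup.mem_map_of_mem i₂ hg
      rw [commutator_def, Subgroup.map_commutator] at h1
      exact Subgroup.commutator_mono le_top le_top h1
    have hT : ∀ t : AbTensor Q₁ Q₂, (⟨1, 1, t⟩ : Twist β) ∈ commutator (Twist β) := by
      intro t
      induction t using TensorProduct.induction_on with
      | zero => exact one_mem _
      | tmul c d =>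
        obtain ⟨q, hq⟩ := Quotient.exists_rep c.toMul
        obtain ⟨q', hq'⟩ := Quotient.exists_rep d.toMul
        obtain ⟨g, rfl⟩ := h₁.1 q
        obtain ⟨g', rfl⟩ := h₂.1 q'
        have e : ⁅i₁ g, i₂ g'⁆ = (⟨1, 1, c ⊗ₜ[ℤ] d⟩ : Twist β) := by
          have hc : Additive.ofMul (Abelianization.of (σ₁ g)) = c := congrArg Additive.ofMul hq
          have hd : Additive.ofMul (Abelianization.of (σ₂ g')) = d := congrArg Additive.ofMul hq'
          simp only [commutatorElement_def, i₁, i₂, MonoidHom.coe_mk, OneHom.coe_mk]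
          ext <;> simp [Twist.mul_def, Twist.inv_def, hβ, hc, hd]
        rw [← e]
        exact Subgroup.commutator_mem_commutator (Subgroup.mem_top _) (Subgroup.mem_top _)
      | add t t' ht ht' =>
        have e : (⟨1, 1, t + t'⟩ : Twist β) = ⟨1, 1, t⟩ * ⟨1, 1, t'⟩ := by
          ext <;> simp [Twist.mul_def]
        rw [e]
        exact mul_mem ht ht'
    have e : a = i₁ a.x * i₂ a.y * ⟨1, 1, a.t⟩ := by
      ext <;> simp [i₁, i₂, Twist.mul_def, hβl a.x hx]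
    rw [e]
    exact mul_mem (mul_mem (hmap₁ (h₁.2.2 hx)) (hmap₂ (h₂.2.2 hy))) (hT _)
  · let K : σ.ker ≃* σ₁.ker × σ₂.ker × Multiplicative (AbTensor Q₁ Q₂) :=
      { toFun := fun a => (⟨a.1.x, ((hker a.1).mp a.2).1⟩, ⟨a.1.y, ((hker a.1).mp a.2).2⟩,
          Multiplicative.ofAdd a.1.t)
        invFun := fun b => ⟨⟨b.1, b.2.1, b.2.2.toAdd⟩, (hker _).mpr ⟨b.1.2, b.2.1.2⟩⟩
        left_inv := fun a => rfl
        right_inv := fun b => rfl
        map_mul' := fun a b => Prod.ext rfl (Prod.ext rfl (congrArg Multiplicative.ofAdd (by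
          show a.1.t + b.1.t + β (Additive.ofMul a.1.x) (Additive.ofMul b.1.y) = _
          rw [hβl a.1.x ((hker a.1).mp a.2).1, add_zero]; rfl))) }
    exact ⟨K.trans (MulEquiv.prodCongr k₁ (MulEquiv.prodCongr k₂ (MulEquiv.refl _)))⟩

theorem prod_bound {Q₁ : Type u} {Q₂ : Type v} [Group Q₁] [Group Q₂] [Finite Q₁] [Finite Q₂]
    {Γ : Type*} [Group Γ] {σ : Γ →* Q₁ × Q₂} (hσ : Cfsg.IsStemExtension σ) :
    ∃ ψ : mult (std Q₁) × mult (std Q₂) × Multiplicative (AbTensor Q₁ Q₂) →* σ.ker,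
      Function.Surjective ψ := by
  set p₁ := proj (std Q₁)
  set p₂ := proj (std Q₂)
  have hp₁ : Function.Surjective p₁ := proj_surjective (std_surjective Q₁)
  have hp₂ : Function.Surjective p₂ := proj_surjective (std_surjective Q₂)
  obtain ⟨f₁, hf₁⟩ : ∃ f : Ext (std Q₁) →* Γ, ∀ x, σ (f x) = (p₁ x, 1) := by
    set H := ((MonoidHom.snd Q₁ Q₂).comp σ).ker
    obtain ⟨φ, hφ⟩ := exists_lift_over (std Q₁) (((MonoidHom.fst Q₁ Q₂).comp σ).comp H.subtype)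
      (fun q => by
        obtain ⟨g, hg⟩ := hσ.1 (q, 1)
        exact ⟨⟨g, show (σ g).2 = 1 by rw [hg]⟩, show (σ g).1 = q by rw [hg]⟩)
      (fun x hx => by
        have hxσ : (x : Γ) ∈ σ.ker := MonoidHom.mem_ker.mpr (Prod.ext hx x.2)
        exact Subgroup.mem_center_iff.mpr fun y =>
          Subtype.ext (Subgroup.mem_center_iff.mp (hσ.2.1 hxσ) y))
    exact ⟨H.subtype.comp φ, fun x => Prod.ext (DFunLike.congr_fun hφ x) (φ x).2⟩
  obtain ⟨f₂, hf₂⟩ : ∃ f : Ext (std Q₂) →* Γ, ∀ x, σ (f x) = (1, p₂ x) := by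
    set H := ((MonoidHom.fst Q₁ Q₂).comp σ).ker
    obtain ⟨φ, hφ⟩ := exists_lift_over (std Q₂) (((MonoidHom.snd Q₁ Q₂).comp σ).comp H.subtype)
      (fun q => by
        obtain ⟨g, hg⟩ := hσ.1 (1, q)
        exact ⟨⟨g, show (σ g).1 = 1 by rw [hg]⟩, show (σ g).2 = q by rw [hg]⟩)
      (fun x hx => by
        have hxσ : (x : Γ) ∈ σ.ker := MonoidHom.mem_ker.mpr (Prod.ext x.2 hx)
        exact Subgroup.mem_center_iff.mpr fun y =>
          Subtype.ext (Subgroup.mem_center_iff.mp (hσ.2.1 hxσ) y))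
    exact ⟨H.subtype.comp φ, fun x => Prod.ext (φ x).2 (DFunLike.congr_fun hφ x)⟩
  letI : CommGroup σ.ker :=
    { (inferInstance : Group σ.ker) with
      mul_comm := fun a b => Subtype.ext (Subgroup.mem_center_iff.mp (hσ.2.1 b.2) a) }
  have hcmem : ∀ a b, ⁅f₁ a, f₂ b⁆ ∈ σ.ker := fun a b => by
    rw [MonoidHom.mem_ker, map_commutatorElement, hf₁, hf₂, commutatorElement_eq_one_iff_mul_comm]
    simp
  let C : Ext (std Q₁) → Ext (std Q₂) → σ.ker := fun a b => ⟨⁅f₁ a, f₂ b⁆, hcmem a b⟩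
  have hCl : ∀ a a' b, C (a * a') b = C a b * C a' b := fun a a' b => Subtype.ext (by
    show ⁅f₁ (a * a'), f₂ b⁆ = ⁅f₁ a, f₂ b⁆ * ⁅f₁ a', f₂ b⁆
    rw [map_mul, show ⁅f₁ a * f₁ a', f₂ b⁆ = (f₁ a * ⁅f₁ a', f₂ b⁆ * (f₁ a)⁻¹) * ⁅f₁ a, f₂ b⁆ by
      simp only [commutatorElement_def]; group,
      Subgroup.mem_center_iff.mp (hσ.2.1 (hcmem a' b)) (f₁ a), mul_inv_cancel_right]
    exact Subgroup.mem_center_iff.mp (hσ.2.1 (hcmem a b)) _)
  have hCr : ∀ a b b', C a (b * b') = C a b * C a b' := fun a b b' => Subtype.ext (by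
    show ⁅f₁ a, f₂ (b * b')⁆ = ⁅f₁ a, f₂ b⁆ * ⁅f₁ a, f₂ b'⁆
    rw [map_mul, show ⁅f₁ a, f₂ b * f₂ b'⁆ = ⁅f₁ a, f₂ b⁆ * (f₂ b * ⁅f₁ a, f₂ b'⁆ * (f₂ b)⁻¹) by
      simp only [commutatorElement_def]; group,
      Subgroup.mem_center_iff.mp (hσ.2.1 (hcmem a b')) (f₂ b), mul_inv_cancel_right])
  let B₀ : Ext (std Q₁) →* (Ext (std Q₂) →* σ.ker) :=
    MonoidHom.mk' (fun a => MonoidHom.mk' (fun b => C a b) (hCr a))
      (fun a a' => MonoidHom.ext fun b => hCl a a' b)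
  have hB₀ : ∀ a b, (B₀ a b : Γ) = ⁅f₁ a, f₂ b⁆ := fun a b => rfl
  have hk₁ : p₁.ker ≤ B₀.ker := fun a ha => MonoidHom.mem_ker.mpr (MonoidHom.ext fun b =>
    Subtype.ext (commutatorElement_eq_one_iff_mul_comm.mpr
      (Subgroup.mem_center_iff.mp (hσ.2.1 (MonoidHom.mem_ker.mpr
        (by rw [hf₁, MonoidHom.mem_ker.mp ha]; rfl))) (f₂ b)).symm))
  let B₁ : Abelianization Q₁ →* (Ext (std Q₂) →* σ.ker) :=
    Abelianization.lift (p₁.liftOfSurjective hp₁ ⟨B₀, hk₁⟩)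
  have hB₁ : ∀ a, B₁ (Abelianization.of (p₁ a)) = B₀ a := fun a => by
    rw [Abelianization.lift_apply_of]
    exact MonoidHom.liftOfRightInverse_comp_apply _ _ _ _ a
  have hk₂ : p₂.ker ≤ B₁.flip.ker := fun b hb => MonoidHom.mem_ker.mpr (MonoidHom.ext fun x => by
    obtain ⟨q, rfl⟩ := Quotient.exists_rep x
    obtain ⟨a, rfl⟩ := hp₁ q
    show B₁ (Abelianization.of (p₁ a)) b = 1
    rw [hB₁]
    exact Subtype.ext (commutatorElement_eq_one_iff_mul_comm.mpr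
      (Subgroup.mem_center_iff.mp (hσ.2.1 (MonoidHom.mem_ker.mpr
        (by rw [hf₂, MonoidHom.mem_ker.mp hb]; rfl))) (f₁ a))))
  let B₂ : Abelianization Q₂ →* (Abelianization Q₁ →* σ.ker) :=
    Abelianization.lift (p₂.liftOfSurjective hp₂ ⟨B₁.flip, hk₂⟩)
  have hB₂ : ∀ a b, B₂ (Abelianization.of (p₂ b)) (Abelianization.of (p₁ a)) = B₀ a b :=
    fun a b => by
      rw [Abelianization.lift_apply_of]
      have h1 := MonoidHom.liftOfRightInverse_comp_apply p₂ (Function.surjInv hp₂)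
        (Function.rightInverse_surjInv hp₂) ⟨B₁.flip, hk₂⟩ b
      rw [show (p₂.liftOfSurjective hp₂ ⟨B₁.flip, hk₂⟩) (p₂ b) = B₁.flip b from h1,
        MonoidHom.flip_apply, hB₁]
  let bil : Additive (Abelianization Q₁) →+ Additive (Abelianization Q₂) →+ Additive σ.ker :=
    AddMonoidHom.mk' (fun x => AddMonoidHom.mk' (fun y => Additive.ofMul (B₂ y.toMul x.toMul))
      (fun y y' => by rw [toMul_add, map_mul, MonoidHom.mul_apply, ofMul_mul]))
      (fun x x' => AddMonoidHom.ext fun y => by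
        simp only [AddMonoidHom.mk'_apply, AddMonoidHom.add_apply, toMul_add, map_mul, ofMul_mul])
  let τ : AbTensor Q₁ Q₂ →+ Additive σ.ker :=
    TensorProduct.liftAddHom bil fun r x y => by
      rw [map_zsmul, map_zsmul, AddMonoidHom.smul_apply]
  let τm : Multiplicative (AbTensor Q₁ Q₂) →* σ.ker := AddMonoidHom.toMultiplicativeLeft τ
  have hτ : ∀ a b, (⁅f₁ a, f₂ b⁆ : Γ) ∈ (σ.ker.subtype.comp τm).range := fun a b =>
    ⟨Multiplicative.ofAdd (Additive.ofMul (Abelianization.of (p₁ a)) ⊗ₜ[ℤ]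
      Additive.ofMul (Abelianization.of (p₂ b))), by
        rw [← hB₀ a b, ← hB₂ a b]
        rfl⟩
  have hz : ∀ t (g : Γ), (τm t : Γ) * g = g * τm t := fun t g =>
    (Subgroup.mem_center_iff.mp (hσ.2.1 (τm t).2) g).symm
  have htriv : ∀ a, ∀ b ∈ commutator (Ext (std Q₂)), f₁ a * f₂ b = f₂ b * f₁ a := fun a b hb =>
    commutatorElement_eq_one_iff_mul_comm.mp (congrArg Subtype.val (MonoidHom.mem_ker.mp
      (Abelianization.commutator_subset_ker (B₀ a) hb)))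
  let E₁ := commutator (Ext (std Q₁))
  let E₂ := commutator (Ext (std Q₂))
  let Φ : E₁ × E₂ × Multiplicative (AbTensor Q₁ Q₂) →* Γ :=
    MonoidHom.mk' (fun z => f₁ z.1 * f₂ z.2.1 * τm z.2.2) (fun z z' => by
      simp only [Prod.fst_mul, Prod.snd_mul, Subgroup.coe_mul, map_mul]
      calc f₁ z.1 * f₁ z'.1 * (f₂ z.2.1 * f₂ z'.2.1) * ((τm z.2.2 : Γ) * τm z'.2.2)
          = f₁ z.1 * (f₁ z'.1 * f₂ z.2.1) * (f₂ z'.2.1 * τm z.2.2) * τm z'.2.2 := by group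
        _ = f₁ z.1 * (f₂ z.2.1 * f₁ z'.1) * (τm z.2.2 * f₂ z'.2.1) * τm z'.2.2 := by
            rw [htriv _ _ z.2.1.2, hz]
        _ = f₁ z.1 * f₂ z.2.1 * (f₁ z'.1 * τm z.2.2) * (f₂ z'.2.1 * τm z'.2.2) := by group
        _ = f₁ z.1 * f₂ z.2.1 * (τm z.2.2 * f₁ z'.1) * (f₂ z'.2.1 * τm z'.2.2) := by
            rw [hz z.2.2 (f₁ z'.1)]
        _ = _ := by group)
  have hΦτ : ∀ g ∈ (σ.ker.subtype.comp τm).range, g ∈ Φ.range := by
    rintro _ ⟨t, rfl⟩
    exact ⟨(1, 1, t), by simp [Φ]⟩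
  have hdec : ∀ g : Γ, ∃ a b, σ g = σ (f₁ a * f₂ b) := fun g => by
    obtain ⟨a, ha⟩ := hp₁ (σ g).1
    obtain ⟨b, hb⟩ := hp₂ (σ g).2
    exact ⟨a, b, by rw [map_mul, hf₁, hf₂, ha, hb]; simp⟩
  have hcomm : commutator Γ ≤ Φ.range := by
    rw [commutator_eq_closure, Subgroup.closure_le]
    rintro _ ⟨g, g', rfl⟩
    obtain ⟨a, b, hg⟩ := hdec g
    obtain ⟨a', b', hg'⟩ := hdec g'
    rw [commutatorElement_congr σ hσ.2.1 hg hg']
    have key : ⁅f₁ a * f₂ b, f₁ a' * f₂ b'⁆ =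
        ⁅f₂ b, f₁ a'⁆ * ⁅f₂ b, f₂ b'⁆ * (⁅f₁ a, f₁ a'⁆ * ⁅f₁ a, f₂ b'⁆) := by
      have hbb : ∀ c, f₁ c * ⁅f₂ b, f₂ b'⁆ = ⁅f₂ b, f₂ b'⁆ * f₁ c := fun c => by
        rw [← map_commutatorElement]
        exact htriv c _ (Subgroup.commutator_mem_commutator (Subgroup.mem_top b) (Subgroup.mem_top b'))
      have hc1 : ∀ x : Γ, x * ⁅f₂ b, f₁ a'⁆ = ⁅f₂ b, f₁ a'⁆ * x := fun x => by
        rw [← commutatorElement_inv (f₁ a') (f₂ b)]
        exact Subgroup.mem_center_iff.mp (inv_mem (hσ.2.1 (hcmem a' b))) x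
      have hc2 := fun x : Γ => Subgroup.mem_center_iff.mp (hσ.2.1 (hcmem a b')) x
      have e1 : ⁅f₂ b, f₁ a' * f₂ b'⁆ = ⁅f₂ b, f₁ a'⁆ * ⁅f₂ b, f₂ b'⁆ := by
        rw [show ⁅f₂ b, f₁ a' * f₂ b'⁆ = ⁅f₂ b, f₁ a'⁆ * (f₁ a' * ⁅f₂ b, f₂ b'⁆ * (f₁ a')⁻¹) by
          simp only [commutatorElement_def]; group, hbb, mul_inv_cancel_right]
      have e2 : ⁅f₁ a, f₁ a' * f₂ b'⁆ = ⁅f₁ a, f₁ a'⁆ * ⁅f₁ a, f₂ b'⁆ := by
        rw [show ⁅f₁ a, f₁ a' * f₂ b'⁆ = ⁅f₁ a, f₁ a'⁆ * (f₁ a' * ⁅f₁ a, f₂ b'⁆ * (f₁ a')⁻¹) by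
          simp only [commutatorElement_def]; group, hc2, mul_inv_cancel_right]
      rw [show ⁅f₁ a * f₂ b, f₁ a' * f₂ b'⁆ =
        (f₁ a * ⁅f₂ b, f₁ a' * f₂ b'⁆ * (f₁ a)⁻¹) * ⁅f₁ a, f₁ a' * f₂ b'⁆ by
          simp only [commutatorElement_def]; group, e1, e2, ← mul_assoc (f₁ a), hc1,
        mul_assoc _ (f₁ a), hbb]
      group
    rw [key]
    refine mul_mem (mul_mem ?_ ?_) (mul_mem ?_ (hΦτ _ (hτ a b')))
    · rw [← commutatorElement_inv]
      exact inv_mem (hΦτ _ (hτ a' b))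
    · exact ⟨(1, ⟨⁅b, b'⁆, Subgroup.commutator_mem_commutator (Subgroup.mem_top b)
        (Subgroup.mem_top b')⟩, 1), by simp [Φ, map_commutatorElement]⟩
    · exact ⟨(⟨⁅a, a'⁆, Subgroup.commutator_mem_commutator (Subgroup.mem_top a)
        (Subgroup.mem_top a')⟩, 1, 1), by simp [Φ, map_commutatorElement]⟩
  have hmem : ∀ z : mult (std Q₁) × mult (std Q₂) × Multiplicative (AbTensor Q₁ Q₂),
      f₁ z.1 * f₂ z.2.1 * τm z.2.2 ∈ σ.ker := fun z => by
    rw [MonoidHom.mem_ker, map_mul, map_mul, hf₁, hf₂, MonoidHom.mem_ker.mp (τm z.2.2).2,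
      show p₁ (z.1 : Ext (std Q₁)) = 1 from mult_le_ker _ z.1.2,
      show p₂ (z.2.1 : Ext (std Q₂)) = 1 from mult_le_ker _ z.2.1.2]
    simp
  refine ⟨(Φ.comp (MonoidHom.prodMap (Subgroup.inclusion (mult_le_commutator (std Q₁)))
    (MonoidHom.prodMap (Subgroup.inclusion (mult_le_commutator (std Q₂)))
      (MonoidHom.id _)))).codRestrict σ.ker hmem, fun k => ?_⟩
  obtain ⟨⟨e₁, e₂, t⟩, he⟩ := hcomm (hσ.2.2 k.2)
  have hσk : σ (Φ (e₁, e₂, t)) = 1 := by rw [he]; exact k.2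
  have h1 : σ (Φ (e₁, e₂, t)) = (p₁ e₁, p₂ e₂) := by
    show σ (f₁ e₁ * f₂ e₂ * τm t) = _
    rw [map_mul, map_mul, hf₁, hf₂, MonoidHom.mem_ker.mp (τm t).2]
    simp
  rw [h1, Prod.ext_iff] at hσk
  exact ⟨(⟨e₁, hσk.1, e₁.2⟩, ⟨e₂, hσk.2, e₂.2⟩, t), Subtype.ext he⟩

theorem hasSchurMultiplier_prod {Q₁ : Type u} {Q₂ : Type v} [Group Q₁] [Group Q₂] [Finite Q₁]
    [Finite Q₂] {A B : Type w} [CommGroup A] [CommGroup B] (hA : Cfsg.HasSchurMultiplier Q₁ A)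
    (hB : Cfsg.HasSchurMultiplier Q₂ B) :
    Cfsg.HasSchurMultiplier (Q₁ × Q₂) (A × B × Multiplicative (AbTensor Q₁ Q₂)) := by
  obtain ⟨eA⟩ := mult_equiv (std_surjective Q₁) hA
  obtain ⟨eB⟩ := mult_equiv (std_surjective Q₂) hB
  obtain ⟨Γ₁, g₁, f₁, σ₁, h₁, ⟨k₁⟩⟩ := hA.1
  obtain ⟨Γ₂, g₂, f₂, σ₂, h₂, ⟨k₂⟩⟩ := hB.1
  obtain ⟨Γ, hg, hf, σ, hσ, hk⟩ := prod_exists h₁ h₂ k₁ k₂
  refine ⟨⟨Γ, hg, hf, σ, hσ, hk⟩, fun Δ _ _ τ hτ => ?_⟩
  obtain ⟨ψ, hψ⟩ := prod_bound hτ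
  exact ⟨ψ.comp (MulEquiv.prodCongr eA (MulEquiv.prodCongr eB (MulEquiv.refl _))).toMonoidHom,
    hψ.comp (MulEquiv.surjective _)⟩

theorem subsingleton_abTensor {Q₁ : Type u} {Q₂ : Type v} [Group Q₁] [Group Q₂] [Finite Q₁]
    [Finite Q₂] (hcop : Nat.Coprime (Nat.card (Abelianization Q₁)) (Nat.card (Abelianization Q₂))) :
    Subsingleton (AbTensor Q₁ Q₂) := by
  refine subsingleton_of_forall_eq 0 fun t => ?_
  induction t using TensorProduct.induction_on with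
  | zero => rfl
  | tmul a b =>
    set m := Nat.card (Abelianization Q₁)
    set n := Nat.card (Abelianization Q₂)
    have hb' := Nat.gcd_eq_gcd_ab m n
    rw [Nat.Coprime.gcd_eq_one hcop] at hb'
    have hm : m • a = 0 := congrArg Additive.ofMul (pow_card_eq_one' (x := a.toMul))
    have hn : n • b = 0 := congrArg Additive.ofMul (pow_card_eq_one' (x := b.toMul))
    have hmz : (m : ℤ) • a = 0 := (natCast_zsmul a m).trans hm
    have hnz : (n : ℤ) • b = 0 := (natCast_zsmul b n).trans hn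
    rw [← one_zsmul (a ⊗ₜ[ℤ] b), show (1 : ℤ) = m * Nat.gcdA m n + n * Nat.gcdB m n by
      exact_mod_cast hb', add_smul, mul_comm (m : ℤ), mul_comm (n : ℤ), mul_smul, mul_smul,
      TensorProduct.smul_tmul' (m : ℤ), hmz, TensorProduct.zero_tmul,
      TensorProduct.smul_tmul' (n : ℤ), TensorProduct.smul_tmul, hnz, TensorProduct.tmul_zero,
      smul_zero, smul_zero, add_zero]
  | add a b ha hb => rw [ha, hb, add_zero]

end CfsgLib.Schur
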