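import Mathlib
import Cfsg.Prelude.Def_KGroupFacts
import Cfsg.Agent.Lib.Chev.All
import Cfsg.Agent.Lib.Ree.Final
import Cfsg.Agent.Lib.Schur.ReeThree
import Cfsg.Agent.Lib.Schur.Eight

/-!
The Schur multiplier of the small Ree groups is trivial.
-/

set_option autoImplicit false
set_option linter.style.haveILetI false
set_option linter.unusedSectionVars false

open scoped commutatorElement

namespace CfsgLib.Schur

universe u

open CfsgLib.Chev CfsgLib.Ree Cfsg.Lie in
theorem hasTrivialMultiplier_ree {K : Type u} [Field K] [Fintype K] {m : ℕ} (hm : 1 ≤ m)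
    (hK : Fintype.card K = 3 ^ (2 * m + 1)) :
    Cfsg.HasCyclicSchurMultiplier ↥(Cfsg.Lie.twistedG2 K (3 ^ m)) 1 := by
  classical
  haveI := CfsgLib.Chev.charThree_G2 hK
  obtain ⟨f, hf, hK'⟩ := CfsgLib.Chev.setupG2 hK
  rw [← CfsgLib.Chev.fix_eq_twistedG2 f hf hK']
  let D := CfsgLib.Ree.reeData f hf hK' (Nat.le_self_pow (by omega) 3)
  refine trivial_multiplier_of_local fun ℓ hℓ => ?_
  haveI := Fact.mk hℓ
  by_cases h2 : ℓ = 2
  · subst h2
    refine ⟨(D.S0 : Subgroup ↥(endoG2 f).fix), D.S0.not_dvd_index, fun Γ _ _ σ hσ hc z hz hzd _ => ?_⟩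
    rw [preimage_commutator_eight σ hσ hc _ D.card_S D.S_sq D.cent_S
      ⟨24, by rw [D.card_NS]⟩] at hzd
    exact Subgroup.mem_bot.mp hzd
  by_cases h3 : ℓ = 3
  · subst h3
    refine ⟨D.U, ?_, fun Γ _ _ σ hσ hc z hz hzd hz3 => ?_⟩
    · have h := D.sylow3.not_dvd_index
      rwa [D.coe_sylow3] at h
    let el : K × K × K → ↥(endoG2 f).fix :=
      fun p => ⟨reeElt (3 ^ m) p, (reeElt_mem f hf hK' p).1⟩
    let tor : Kˣ → ↥(endoG2 f).fix := fun v =>
      ⟨torG2Hom (3 ^ m) v, ((range_torG2Hom f hf hK').le ⟨v, rfl⟩).1⟩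
    let θ : K →+* K := iterateFrobenius K 3 (m + 1)
    have hθ : ∀ x : K, θ x = x ^ 3 ^ (m + 1) := fun x => iterateFrobenius_def ..
    have hθ' : ∀ x : K, θ x = (x ^ 3 ^ m) ^ 3 := fun x => by rw [hθ, ← pow_mul, ← pow_succ]
    have hU : ∀ g, g ∈ D.U ↔ ∃ p, g = el p := by
      intro g
      constructor
      · intro hg
        obtain ⟨p, hp⟩ := (reeEquiv f hf hK').surjective ⟨g, g.2, (mem_unipR f hf).1 hg⟩
        exact ⟨p, Subtype.ext (congrArg Subtype.val hp).symm⟩
      · rintro ⟨p, rfl⟩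
        exact (mem_unipR f hf).2 (reeElt_mem f hf hK' p).2
    have hD : ReeCoord el tor θ := by
      refine ⟨fun t u v t' u' v' => ?_, fun r t u v => ?_, fun a b => Subtype.ext (map_mul _ a b)⟩
      · obtain ⟨⟨t₂, u₂, v₂⟩, hp⟩ := (hU _).1 (D.U.mul_mem ((hU (el (t, u, v))).2 ⟨_, rfl⟩)
          ((hU (el (t', u', v'))).2 ⟨_, rfl⟩))
        rw [hp]
        have h := congrArg Subtype.val hp
        simp only [Subgroup.coe_mul, el] at h
        rw [reeElt_eq f hf, reeElt_eq f hf, reeElt_eq f hf, mul_coordG2] at h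
        obtain ⟨-, e1, -, -, e2, e3⟩ := coordG2_inj h
        refine congrArg el (Prod.ext e1.symm (Prod.ext ?_ ?_))
        · rw [hθ', ← e2]; ring
        · rw [hθ', ← e3]; ring
      · have hmem : tor r * el (t, u, v) * (tor r)⁻¹ ∈ D.U :=
          D.T_norm _ ((mem_torR f hf).2 ((range_torG2Hom f hf hK').le ⟨r, rfl⟩).2) _
            ((hU _).2 ⟨_, rfl⟩)
        obtain ⟨⟨t₂, u₂, v₂⟩, hp⟩ := (hU _).1 hmem
        rw [hp]
        have h := congrArg Subtype.val hp
        simp only [Subgroup.coe_mul, Subgroup.coe_inv, el, tor] at h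
        rw [reeElt_eq f hf, reeElt_eq f hf] at h
        simp only [lowG2, ← conj_mul] at h
        rw [torG2Hom_conj f hf r (by norm_num), torG2Hom_conj f hf r (by norm_num),
          torG2Hom_conj f hf r (by norm_num), torG2Hom_conj f hf r (by norm_num),
          torG2Hom_conj f hf r (by norm_num), torG2Hom_conj f hf r (by norm_num), ← lowG2,
          ← lowG2] at h
        obtain ⟨-, e1, -, -, e2, e3⟩ := coordG2_inj h
        refine congrArg el (Prod.ext ?_ (Prod.ext ?_ ?_))
        · rw [← e1, show tabG2.car 0 6 = -3 by decide +kernel, show tabG2.car 1 6 = 2 by decide +kernel,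
            _root_.zpow_neg, zpow_ofNat, zpow_ofNat, hθ']
          ring
        · rw [← e2, show tabG2.car 0 10 = 3 by decide +kernel,
            show tabG2.car 1 10 = -1 by decide +kernel, zpow_ofNat, _root_.zpow_neg_one, hθ']
          ring
        · rw [← e3, show tabG2.car 0 11 = 0 by decide +kernel,
            show tabG2.car 1 11 = 1 by decide +kernel, zpow_zero, zpow_one, one_mul]
    exact hD.preimage_commutator hm hK hθ D.U hU σ hσ hc hz hzd hz3
  · refine ⟨(default : Sylow ℓ ↥(endoG2 f).fix), Sylow.not_dvd_index _,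
      fun Γ _ _ σ hσ hc z hz hzd _ => ?_⟩
    have h5 : 3 < ℓ := by
      have := hℓ.two_le
      omega
    haveI := D.sylow_cyclic_gt_three h5 (default : Sylow ℓ ↥(endoG2 f).fix)
    rw [preimage_commutator_eq_bot_of_isCyclic σ hc] at hzd
    exact Subgroup.mem_bot.mp hzd

end CfsgLib.Schur
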