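import Mathlib
import Cfsg.Prelude.Def_KGroupFacts
import Cfsg.Agent.Lib.Schur.Hopf

/-!
The rank of the multiplier of a presented group.
-/

set_option autoImplicit false
set_option linter.style.haveILetI false

namespace CfsgLib.Schur

theorem rank_le_relators (n : ℕ) (rels : Finset (FreeGroup (Fin n)))
    [Finite (PresentedGroup (rels : Set (FreeGroup (Fin n))))] {A : Type*} [CommGroup A] [Finite A]
    (hA : Cfsg.HasSchurMultiplier (PresentedGroup (rels : Set (FreeGroup (Fin n)))) A) :
    Group.rank A ≤ rels.card - n := by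
  classical
  set π := PresentedGroup.mk (rels : Set (FreeGroup (Fin n))) with hπdef
  have hπ : Function.Surjective π := PresentedGroup.mk_surjective _
  have hkerπ : π.ker = Subgroup.normalClosure (rels : Set (FreeGroup (Fin n))) :=
    QuotientGroup.ker_mk' _
  obtain ⟨e⟩ := mult_equiv hπ hA
  have hmem : ∀ r ∈ rels, QuotientGroup.mk' (rel π) r ∈ (proj π).ker := fun r hr => by
    rw [MonoidHom.mem_ker, proj_mk, ← MonoidHom.mem_ker, hkerπ]
    exact Subgroup.subset_normalClosure hr
  let x : rels → Additive (proj π).ker := fun r => Additive.ofMul ⟨_, hmem r r.2⟩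
  let g : (rels → ℤ) →ₗ[ℤ] Additive (proj π).ker := Fintype.linearCombination ℤ x
  -- the relators generate the kernel
  have hgen : ∀ y : Additive (proj π).ker, ∃ w, g w = y := by
    have hcl : (proj π).ker ≤
        Subgroup.closure ((QuotientGroup.mk' (rel π)) '' (rels : Set (FreeGroup (Fin n)))) := by
      set K := Subgroup.closure ((QuotientGroup.mk' (rel π)) '' (rels : Set (FreeGroup (Fin n))))
      haveI : K.Normal := normal_of_le_center (by
        rw [Subgroup.closure_le]
        rintro _ ⟨r, hr, rfl⟩
        exact ker_proj_le_center π (hmem r hr))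
      intro y hy
      obtain ⟨f, rfl⟩ := QuotientGroup.mk'_surjective _ y
      rw [MonoidHom.mem_ker, proj_mk, ← MonoidHom.mem_ker, hkerπ] at hy
      exact (Subgroup.normalClosure_le_normal (N := K.comap (QuotientGroup.mk' (rel π)))
        fun r hr => Subgroup.subset_closure ⟨r, hr, rfl⟩) hy
    intro y
    suffices h : ∀ z ∈ Subgroup.closure
        ((QuotientGroup.mk' (rel π)) '' (rels : Set (FreeGroup (Fin n)))),
        ∃ w, ((g w).toMul : Ext π) = z by
      obtain ⟨w, hw⟩ := h _ (hcl y.toMul.2)
      exact ⟨w, Additive.toMul.injective (Subtype.ext hw)⟩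
    intro z hz
    refine Subgroup.closure_induction (p := fun z _ => ∃ w, ((g w).toMul : Ext π) = z) ?_
      ⟨0, by rw [map_zero]; rfl⟩ ?_ ?_ hz
    · rintro _ ⟨r, hr, rfl⟩
      refine ⟨Pi.single ⟨r, hr⟩ 1, ?_⟩
      simp [g, x, Fintype.linearCombination_apply_single]
    · rintro _ _ - - ⟨u, rfl⟩ ⟨v, rfl⟩
      exact ⟨u + v, by rw [map_add]; rfl⟩
    · rintro _ - ⟨u, rfl⟩
      exact ⟨-u, by rw [map_neg]; rfl⟩
  -- the exponent sum map
  let c₀ : FreeGroup (Fin n) →* Multiplicative (Fin n → ℤ) :=
    FreeGroup.lift fun i => Multiplicative.ofAdd (Pi.single i 1)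
  let c : Ext π →* Multiplicative (Fin n → ℤ) := QuotientGroup.lift (rel π) c₀
    ((rel_le_commutator π).trans (Abelianization.commutator_subset_ker c₀))
  have hc : ∀ y ∈ commutator (Ext π), c y = 1 := fun y hy =>
    MonoidHom.mem_ker.mp (Abelianization.commutator_subset_ker c hy)
  let co : Additive (proj π).ker →ₗ[ℤ] (Fin n → ℤ) :=
    (MonoidHom.toAdditiveLeft (c.comp (proj π).ker.subtype)).toIntLinearMap
  let L := co.comp g
  have hcs : Function.Surjective c := by
    intro v
    have htop : c₀.range = ⊤ := by
      rw [eq_top_iff]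
      intro v _
      rw [show v = ∏ i, Multiplicative.ofAdd (Pi.single i (1 : ℤ)) ^ (v.toAdd i) by
        apply Multiplicative.toAdd.injective
        rw [toAdd_prod]
        simp only [toAdd_zpow, toAdd_ofAdd]
        funext j
        simp [Finset.sum_apply, Pi.single_apply]]
      refine Subgroup.prod_mem _ fun i _ => ?_
      refine Subgroup.zpow_mem _ ?_ _
      exact ⟨FreeGroup.of i, FreeGroup.lift_apply_of⟩
    obtain ⟨f, hf⟩ := (MonoidHom.range_eq_top.mp htop) v
    exact ⟨QuotientGroup.mk' (rel π) f, hf⟩
  set k := Nat.card (Abelianization (PresentedGroup (rels : Set (FreeGroup (Fin n))))) with hk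
  have hk0 : (k : ℤ) ≠ 0 := Int.natCast_ne_zero.mpr (Nat.card_pos).ne'
  have hrange : ∀ v : Fin n → ℤ, (k : ℤ) • v ∈ L.range := by
    intro v
    obtain ⟨y, hy⟩ := hcs (Multiplicative.ofAdd v)
    have h1 : proj π (y ^ k) ∈ commutator (PresentedGroup (rels : Set (FreeGroup (Fin n)))) := by
      rw [← Abelianization.ker_of, MonoidHom.mem_ker, map_pow, map_pow, hk]
      exact pow_card_eq_one'
    rw [show commutator (PresentedGroup (rels : Set (FreeGroup (Fin n)))) =
      (commutator (Ext π)).map (proj π) by
        rw [commutator_def, commutator_def, Subgroup.map_commutator,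
          Subgroup.map_top_of_surjective _ (proj_surjective hπ)], ← Subgroup.mem_comap,
      Subgroup.comap_map_eq, sup_comm] at h1
    haveI := normal_of_le_center (ker_proj_le_center π)
    obtain ⟨r, hr, d, hd, hrd⟩ := Subgroup.mem_sup_of_normal_left.mp h1
    obtain ⟨w, hw⟩ := hgen (Additive.ofMul ⟨r, hr⟩)
    refine ⟨w, ?_⟩
    show co (g w) = _
    rw [hw]
    have h2 := congrArg (fun u => Multiplicative.toAdd (c u)) hrd
    simp only [map_mul, hc d hd, mul_one, map_pow, hy, toAdd_pow, toAdd_ofAdd] at h2
    rw [natCast_zsmul]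
    exact h2
  have hn : n ≤ Module.finrank ℤ L.range := by
    let s : (Fin n → ℤ) →ₗ[ℤ] L.range :=
      LinearMap.codRestrict L.range ((k : ℤ) • LinearMap.id) hrange
    have hs : Function.Injective s := fun a b h =>
      smul_right_injective (Fin n → ℤ) hk0 (congrArg Subtype.val h)
    have := LinearMap.finrank_le_finrank_of_injective hs
    simpa using this
  have hrn := Submodule.finrank_quotient_add_finrank L.ker
  rw [L.quotKerEquivRange.finrank_eq, Module.finrank_pi, Fintype.card_coe] at hrn
  -- the multiplier is the image of a submodule of the kernel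
  let M' : AddSubgroup (Additive (proj π).ker) := Subgroup.toAddSubgroup ((mult π).subgroupOf _)
  let K' : Submodule ℤ (rels → ℤ) := L.ker ⊓ (AddSubgroup.toIntSubmodule M').comap g
  have hK' : Module.finrank ℤ K' ≤ rels.card - n := by
    have h1 : Module.finrank ℤ K' ≤ Module.finrank ℤ L.ker :=
      Submodule.finrank_mono inf_le_left
    omega
  let b := Module.finBasis ℤ K'
  let toM : K' →ₗ[ℤ] Additive (mult π) :=
    { toFun := fun w => Additive.ofMul ⟨((g w).toMul : Ext π), w.2.2⟩
      map_add' := fun u v => by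
        refine Additive.toMul.injective (Subtype.ext ?_)
        show ((g ((u : rels → ℤ) + v)).toMul : Ext π) = _
        rw [map_add]; rfl
      map_smul' := fun r u => by
        refine Additive.toMul.injective (Subtype.ext ?_)
        show ((g (r • (u : rels → ℤ))).toMul : Ext π) = _
        rw [map_smul]; rfl }
  have hsurj : Function.Surjective toM := fun m => by
    obtain ⟨w, hw⟩ := hgen (Additive.ofMul ⟨(m.toMul : Ext π), mult_le_ker π m.toMul.2⟩)
    refine ⟨⟨w, ⟨?_, ?_⟩⟩, Additive.toMul.injective (Subtype.ext ?_)⟩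
    · show co (g w) = 0
      rw [hw]
      exact congrArg Multiplicative.toAdd (hc _ (mult_le_commutator π m.toMul.2))
    · show g w ∈ M'
      rw [hw]
      exact m.toMul.2
    · show ((g w).toMul : Ext π) = _
      rw [hw]; rfl
  let gens : Fin (Module.finrank ℤ K') → A := fun i => e.symm (toM (b i)).toMul
  have htop : Subgroup.closure ((Finset.univ.image gens : Finset A) : Set A) = ⊤ := by
    rw [eq_top_iff]
    intro a _
    obtain ⟨w, hw⟩ := hsurj (Additive.ofMul (e a))
    have ha : a = e.symm (toM w).toMul := by rw [hw]; simp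
    rw [ha]
    have hwspan : w ∈ Submodule.span ℤ (Set.range b) := b.span_eq ▸ Submodule.mem_top
    refine Submodule.span_induction (p := fun w _ => e.symm (toM w).toMul ∈
      Subgroup.closure ((Finset.univ.image gens : Finset A) : Set A)) ?_ ?_ ?_ ?_ hwspan
    · rintro _ ⟨i, rfl⟩
      exact Subgroup.subset_closure (Finset.mem_coe.mpr
        (Finset.mem_image.mpr ⟨i, Finset.mem_univ _, rfl⟩))
    · rw [map_zero, toMul_zero, map_one]; exact one_mem _
    · intro u v _ _ hu hv
      rw [map_add, toMul_add, map_mul]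
      exact mul_mem hu hv
    · intro r u _ hu
      rw [map_smul, toMul_zsmul, map_zpow]
      exact Subgroup.zpow_mem _ hu r
  refine (Group.rank_le htop).trans (Finset.card_image_le.trans ?_)
  rw [Finset.card_fin]
  exact hK'

end CfsgLib.Schur
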