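import Mathlib
import Cfsg.Prelude.Def_KGroupFacts
import Cfsg.Agent.Lib.Schur.Hopf

/-!
Restriction and corestriction of Schur multipliers.
-/

set_option autoImplicit false
set_option linter.style.haveILetI false
set_option linter.unusedSectionVars false

open scoped commutatorElement

namespace CfsgLib.Schur

theorem eq_conj_of_comm {M : Type*} [Group M] {a z : M} (h : a * z = z * a) :
    z = a⁻¹ * z * a := by
  rw [mul_assoc, ← h, inv_mul_cancel_left]

variable {F G : Type*} [Group F] [Group G] [Finite G] {π : F →* G}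

/-- Corestriction and the norm map on multipliers. -/
theorem exists_cores (hπ : Function.Surjective π) (U : Subgroup G) :
    ∃ (c : mult (π.subgroupComap U) →* mult π) (N : mult π →* mult (π.subgroupComap U)),
      ∀ m, c (N m) = m ^ U.index := by
  classical
  set FU := U.comap π with hFU
  set πU : FU →* U := π.subgroupComap U with hπU
  have hidx : FU.index = U.index := Subgroup.index_comap_of_surjective U hπ
  haveI : FU.FiniteIndex := ⟨by rw [hidx]; exact Subgroup.index_ne_zero_of_finite⟩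
  letI := FU.fintypeQuotientOfFiniteIndex
  -- corestriction
  have hkerle : rel πU ≤ (rel π).comap FU.subtype := by
    rw [rel, Subgroup.commutator_le]
    intro x hx y _
    rw [Subgroup.mem_comap, map_commutatorElement]
    exact Subgroup.commutator_mem_commutator
      (MonoidHom.mem_ker.mpr (congrArg Subtype.val (MonoidHom.mem_ker.mp hx)))
      (Subgroup.mem_top _)
  let cE : Ext πU →* Ext π := QuotientGroup.map (rel πU) (rel π) FU.subtype hkerle
  have hcm : ∀ x : mult πU, cE x ∈ mult π := by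
    rintro ⟨x, hxk, hxc⟩
    refine ⟨?_, ?_⟩
    · obtain ⟨f, rfl⟩ := QuotientGroup.mk'_surjective _ x
      exact congrArg Subtype.val (MonoidHom.mem_ker.mp hxk)
    · have h1 := Subgroup.mem_map_of_mem cE hxc
      rw [commutator_def, Subgroup.map_commutator] at h1
      exact Subgroup.commutator_mono le_top le_top h1
  let c : mult πU →* mult π := (cE.comp (mult πU).subtype).codRestrict (mult π) hcm
  -- norm
  have hker : ∀ r ∈ π.ker, ∀ f : F, f⁻¹ * r * f ∈ FU := fun r hr f => by
    rw [hFU, Subgroup.mem_comap, map_mul, map_mul, MonoidHom.mem_ker.mp hr, mul_one, map_inv,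
      inv_mul_cancel]
    exact one_mem U
  have hkerU : ∀ (r : π.ker) (f : F), (⟨f⁻¹ * r * f, hker r r.2 f⟩ : FU) ∈ πU.ker := fun r f => by
    refine MonoidHom.mem_ker.mpr (Subtype.ext ?_)
    show π (f⁻¹ * r * f) = 1
    rw [map_mul, map_mul, MonoidHom.mem_ker.mp r.2, mul_one, map_inv, inv_mul_cancel]
  let cv : π.ker → F → (proj πU).ker := fun r f =>
    ⟨QuotientGroup.mk' (rel πU) ⟨f⁻¹ * r * f, hker r r.2 f⟩, hkerU r f⟩
  have hcv : ∀ r f f', (QuotientGroup.mk f : F ⧸ FU) = QuotientGroup.mk f' → cv r f = cv r f' := by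
    intro r f f' h
    obtain ⟨u, hu, rfl⟩ : ∃ u ∈ FU, f' = f * u :=
      ⟨f⁻¹ * f', QuotientGroup.eq.mp h, by group⟩
    refine Subtype.ext ?_
    show QuotientGroup.mk' (rel πU) _ = QuotientGroup.mk' (rel πU) _
    rw [show (⟨(f * u)⁻¹ * r * (f * u), hker r r.2 (f * u)⟩ : FU) =
      ⟨u, hu⟩⁻¹ * ⟨f⁻¹ * r * f, hker r r.2 f⟩ * ⟨u, hu⟩ from Subtype.ext (by
        simp only [Subgroup.coe_mul, Subgroup.coe_inv]; group), map_mul, map_mul, map_inv]
    have hz := Subgroup.mem_center_iff.mp (ker_proj_le_center πU (cv r f).2)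
    exact eq_conj_of_comm (hz _)
  let N₀ : π.ker →* (proj πU).ker :=
    { toFun := fun r => ∏ q : F ⧸ FU, cv r q.out
      map_one' := Finset.prod_eq_one fun q _ => Subtype.ext (by
        show QuotientGroup.mk' (rel πU) _ = 1
        convert map_one (QuotientGroup.mk' (rel πU))
        simp)
      map_mul' := fun r s => by
        rw [← Finset.prod_mul_distrib]
        refine Finset.prod_congr rfl fun q _ => Subtype.ext ?_
        show QuotientGroup.mk' (rel πU) _ = QuotientGroup.mk' (rel πU) _ * QuotientGroup.mk' _ _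
        rw [← map_mul]
        congr 1
        exact Subtype.ext (by simp only [Subgroup.coe_mul]; group) }
  let qk : π.ker →* (proj π).ker :=
    ((QuotientGroup.mk' (rel π)).comp π.ker.subtype).codRestrict (proj π).ker fun r => r.2
  have hqs : Function.Surjective qk := fun y => by
    obtain ⟨f, hf⟩ := QuotientGroup.mk'_surjective (rel π) (y : Ext π)
    exact ⟨⟨f, by rw [MonoidHom.mem_ker, ← proj_mk, hf]; exact y.2⟩, Subtype.ext hf⟩
  have hdesc : qk.ker ≤ N₀.ker := by
    intro r hr
    have hr' : (r : F) ∈ rel π := (QuotientGroup.eq_one_iff _).mp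
      (congrArg Subtype.val (MonoidHom.mem_ker.mp hr))
    suffices h : rel π ≤ N₀.ker.map π.ker.subtype by
      obtain ⟨s, hs, e⟩ := h hr'
      rwa [← π.ker.subtype_injective e]
    rw [rel, Subgroup.commutator_le]
    intro x hx y _
    have hxy : y * x⁻¹ * y⁻¹ ∈ π.ker :=
      (MonoidHom.normal_ker π).conj_mem _ (inv_mem hx) y
    refine ⟨⟨x, hx⟩ * ⟨y * x⁻¹ * y⁻¹, hxy⟩, ?_, by
      simp only [Subgroup.coe_subtype, Subgroup.coe_mul, commutatorElement_def]; group⟩
    have hinv : (⟨y * x⁻¹ * y⁻¹, hxy⟩ : π.ker) =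
        (⟨y * x * y⁻¹, (MonoidHom.normal_ker π).conj_mem _ hx y⟩ : π.ker)⁻¹ :=
      Subtype.ext (by simp only [Subgroup.coe_inv]; group)
    rw [SetLike.mem_coe, MonoidHom.mem_ker, map_mul, hinv, map_inv, mul_inv_eq_one]
    show ∏ q : F ⧸ FU, cv _ q.out = ∏ q : F ⧸ FU, cv _ q.out
    refine Fintype.prod_equiv (MulAction.toPerm y) _ _ fun q => ?_
    have h1 : (QuotientGroup.mk (y * q.out) : F ⧸ FU) =
        QuotientGroup.mk ((MulAction.toPerm y q : F ⧸ FU).out) := by
      rw [QuotientGroup.out_eq', MulAction.toPerm_apply]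
      conv_rhs => rw [← QuotientGroup.out_eq' q]
      rfl
    rw [← hcv _ _ _ h1]
    refine Subtype.ext ?_
    show QuotientGroup.mk' (rel πU) _ = QuotientGroup.mk' (rel πU) _
    congr 1
    exact Subtype.ext (by simp only [mul_inv_rev]; group)
  let N₁ : (proj π).ker →* (proj πU).ker := qk.liftOfSurjective hqs ⟨N₀, hdesc⟩
  have hN₁ : ∀ r, N₁ (qk r) = N₀ r := fun r => MonoidHom.liftOfRightInverse_comp_apply _ _ _ _ r
  have hNm : ∀ m : mult π, (N₁ ⟨m, mult_le_ker π m.2⟩ : Ext πU) ∈ mult πU := by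
    intro m
    refine ⟨(N₁ _).2, ?_⟩
    obtain ⟨r, hr⟩ := hqs ⟨m, mult_le_ker π m.2⟩
    have hrc : (r : F) ∈ commutator F := (mk_mem_commutator_iff π r).mp (by
      have e : QuotientGroup.mk' (rel π) (r : F) = m := congrArg Subtype.val hr
      rw [e]; exact mult_le_commutator π m.2)
    rw [← hr, hN₁]
    refine (Abelianization.ker_of (G := Ext πU)).le (MonoidHom.mem_ker.mpr ?_)
    let ϕ : FU →* Abelianization (Ext πU) :=
      Abelianization.of.comp (QuotientGroup.mk' (rel πU))
    have hV : MonoidHom.transfer ϕ (r : F) = 1 :=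
      MonoidHom.mem_ker.mp (Abelianization.commutator_subset_ker (MonoidHom.transfer ϕ) hrc)
    rw [MonoidHom.transfer_def ϕ default] at hV
    rw [← hV, Subgroup.leftTransversals.diff]
    show (Abelianization.of.comp (proj πU).ker.subtype) (∏ q : F ⧸ FU, cv r q.out) = _
    rw [map_prod]
    refine Fintype.prod_equiv (Equiv.refl _) _ _ fun q => ?_
    simp only [Equiv.refl_apply]
    set T : FU.LeftTransversal := default
    set t : F := (T.2.leftQuotientEquiv q : F) with ht
    have htq : (QuotientGroup.mk t : F ⧸ FU) = q := T.2.leftQuotientEquiv.symm_apply_apply q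
    have hfix : (r : F)⁻¹ • q = q := by
      conv_lhs => rw [← htq]
      conv_rhs => rw [← htq]
      show (QuotientGroup.mk ((r : F)⁻¹ * t) : F ⧸ FU) = QuotientGroup.mk t
      rw [QuotientGroup.eq, show ((r : F)⁻¹ * t)⁻¹ * t = t⁻¹ * r * t by group]
      exact hker r r.2 t
    rw [hcv r q.out t (by rw [QuotientGroup.out_eq', htq])]
    show ϕ ⟨t⁻¹ * r * t, _⟩ = ϕ _
    congr 1
    refine Subtype.ext ?_
    show t⁻¹ * r * t = _
    have hβ : ((((r : F) • T).2.leftQuotientEquiv q : ((r : F) • T : FU.LeftTransversal).1) : F) =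
        (r : F) * t := by
      rw [Subgroup.smul_apply_eq_smul_apply_inv_smul, hfix, smul_eq_mul]
    exact (mul_assoc _ _ _).trans (congrArg (t⁻¹ * ·) hβ.symm)
  let N : mult π →* mult πU :=
    ((proj πU).ker.subtype.comp (N₁.comp (Subgroup.inclusion (mult_le_ker π)))).codRestrict
      (mult πU) hNm
  refine ⟨c, N, fun m => Subtype.ext ?_⟩
  show cE (N₁ ⟨m, mult_le_ker π m.2⟩ : Ext πU) = _
  obtain ⟨r, hr⟩ := hqs ⟨m, mult_le_ker π m.2⟩
  rw [← hr, hN₁, Subgroup.coe_pow]
  let cR : (proj πU).ker →* (proj π).ker :=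
    (cE.comp (proj πU).ker.subtype).codRestrict (proj π).ker fun x => by
      obtain ⟨f, hf⟩ := QuotientGroup.mk'_surjective (rel πU) (x : Ext πU)
      have hx := x.2
      rw [← hf] at hx
      show proj π (cE x) = 1
      rw [← hf]
      exact congrArg Subtype.val (MonoidHom.mem_ker.mp hx)
  suffices h : cR (N₀ r) = qk r ^ U.index by
    have h' := congrArg Subtype.val h
    rw [Subgroup.coe_pow, show ((qk r : (proj π).ker) : Ext π) = m from congrArg Subtype.val hr] at h'
    exact h'
  show cR (∏ q : F ⧸ FU, cv r q.out) = _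
  rw [map_prod]
  have hterm : ∀ q : F ⧸ FU, cR (cv r q.out) = qk r := fun q => Subtype.ext (by
    show QuotientGroup.mk' (rel π) (q.out⁻¹ * r * q.out) = QuotientGroup.mk' (rel π) r
    rw [map_mul, map_mul, map_inv, mul_assoc,
      ← Subgroup.mem_center_iff.mp (ker_proj_le_center π (qk r).2 :
        QuotientGroup.mk' (rel π) (r : F) ∈ Subgroup.center (Ext π)), inv_mul_cancel_left])
  rw [Finset.prod_congr rfl (fun q _ => hterm q), Finset.prod_const, Finset.card_univ,
    ← Nat.card_eq_fintype_card]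
  congr 1

end CfsgLib.Schur
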