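import Cfsg.Agent.Lib.Schur.Table168

/-!
The homomorphism from `SL(2, 7)` onto `SL(3, 2)`.
-/

set_option autoImplicit false

open scoped commutatorElement

namespace CfsgLib.Schur.Cover168

open CfsgLib.OrderType

attribute [local irreducible] fB

abbrev SL27 := Matrix.SpecialLinearGroup (Fin 2) (ZMod 7)

/-- upper transvection -/
def sU : SL27 := ⟨!![1, 1; 0, 1], by decide⟩
/-- lower transvection -/
def sL : SL27 := ⟨!![1, 0; 1, 1], by decide⟩

/-- image of the upper transvection -/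
def tU : SL32 := ⟨bu.toMatrix, by rw [B33.b2z_det, values.2.2.2.2.1]; rfl⟩
/-- image of the lower transvection -/
def tL : SL32 := ⟨bl.toMatrix, by rw [B33.b2z_det, values.2.2.2.2.2]; rfl⟩

/-- the exponents of an element -/
def gexp (g : SL27) : ℕ × ℕ × ℕ × ℕ := expo (g.1 0 0).val (g.1 0 1).val (g.1 1 0).val (g.1 1 1).val

/-- the map -/
def f0 (g : SL27) : SL32 :=
  tU ^ (gexp g).1 * tL ^ (gexp g).2.1 * tU ^ (gexp g).2.2.1 * tL ^ (gexp g).2.2.2

theorem f0_coe (g : SL27) :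
    (f0 g).1 = (fB (g.1 0 0).val (g.1 0 1).val (g.1 1 0).val (g.1 1 1).val).toMatrix := by
  simp only [f0, gexp, fB, Matrix.SpecialLinearGroup.coe_mul, Matrix.SpecialLinearGroup.coe_pow,
    B33.toMatrix_mul, B33.toMatrix_pow]
  rfl

theorem det_val (g : SL27) :
    ((⟨(g.1 0 0).val, ZMod.val_lt _⟩ : Fin 7) : ℕ) * (g.1 1 1).val +
      6 * ((g.1 0 1).val * (g.1 1 0).val) ≡ 1 [MOD 7] := by
  have h : g.1 0 0 * g.1 1 1 - g.1 0 1 * g.1 1 0 = 1 := by rw [← Matrix.det_fin_two, g.2]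
  rw [← ZMod.natCast_eq_natCast_iff]
  push_cast
  simp only [ZMod.natCast_zmod_val]
  have h6 : (6 : ZMod 7) = -1 := by decide
  rw [h6]
  linear_combination h

theorem sU_pow (n : ℕ) : (sU ^ n).1 = !![1, (n : ZMod 7); 0, 1] := by
  induction n with
  | zero => simp [Matrix.one_fin_two]
  | succ n ih =>
    rw [pow_succ, Matrix.SpecialLinearGroup.coe_mul, ih]
    ext i j
    fin_cases i <;> fin_cases j <;> simp [sU, Matrix.mul_apply, Fin.sum_univ_two] <;> ring

theorem sL_pow (n : ℕ) : (sL ^ n).1 = !![1, 0; (n : ZMod 7), 1] := by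
  induction n with
  | zero => simp [Matrix.one_fin_two]
  | succ n ih =>
    rw [pow_succ, Matrix.SpecialLinearGroup.coe_mul, ih]
    ext i j
    fin_cases i <;> fin_cases j <;> simp [sL, Matrix.mul_apply, Fin.sum_univ_two] <;> ring

theorem step' (g : SL27) :
    f0 (g * sU) = f0 g * tU ∧ f0 (g * sL) = f0 g * tL ∧
      g = sU ^ (gexp g).1 * sL ^ (gexp g).2.1 * sU ^ (gexp g).2.2.1 * sL ^ (gexp g).2.2.2 := by
  obtain ⟨h1, h2, e0, e1, e2, e3⟩ := step ⟨_, ZMod.val_lt (g.1 0 0)⟩ ⟨_, ZMod.val_lt (g.1 0 1)⟩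
    ⟨_, ZMod.val_lt (g.1 1 0)⟩ ⟨_, ZMod.val_lt (g.1 1 1)⟩ (det_val g)
  refine ⟨Subtype.ext ?_, Subtype.ext ?_, ?_⟩
  · rw [Matrix.SpecialLinearGroup.coe_mul, f0_coe, f0_coe, show tU.1 = bu.toMatrix from rfl,
      ← B33.toMatrix_mul, ← h1]
    rw [Matrix.SpecialLinearGroup.coe_mul, show sU.1 = !![1, 1; 0, 1] from rfl]
    simp [Matrix.mul_apply, Fin.sum_univ_two, ZMod.val_add]
  · rw [Matrix.SpecialLinearGroup.coe_mul, f0_coe, f0_coe, show tL.1 = bl.toMatrix from rfl,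
      ← B33.toMatrix_mul, ← h2]
    rw [Matrix.SpecialLinearGroup.coe_mul, show sL.1 = !![1, 0; 1, 1] from rfl]
    simp [Matrix.mul_apply, Fin.sum_univ_two, ZMod.val_add]
  · have c0 := congrArg (fun k : ℕ => (k : ZMod 7)) e0
    have c1 := congrArg (fun k : ℕ => (k : ZMod 7)) e1
    have c2 := congrArg (fun k : ℕ => (k : ZMod 7)) e2
    have c3 := congrArg (fun k : ℕ => (k : ZMod 7)) e3
    simp only [ZMod.natCast_mod, Nat.cast_add, Nat.cast_mul, Nat.cast_one, ZMod.natCast_zmod_val]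
      at c0 c1 c2 c3
    refine Subtype.ext ?_
    rw [Matrix.SpecialLinearGroup.coe_mul, Matrix.SpecialLinearGroup.coe_mul,
      Matrix.SpecialLinearGroup.coe_mul, sU_pow, sL_pow, sU_pow, sL_pow]
    ext i j
    fin_cases i <;> fin_cases j <;> simp [Matrix.mul_apply, Fin.sum_univ_two, gexp]
    · linear_combination -c0
    · linear_combination -c1
    · linear_combination -c2
    · linear_combination -c3

theorem f0_mul (x y : SL27) : f0 (x * y) = f0 x * f0 y := by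
  have hU : ∀ (n : ℕ) (x : SL27), f0 (x * sU ^ n) = f0 x * tU ^ n := by
    intro n
    induction n with
    | zero => simp
    | succ n ih => intro x; rw [pow_succ, pow_succ, ← mul_assoc, (step' _).1, ih, mul_assoc]
  have hL : ∀ (n : ℕ) (x : SL27), f0 (x * sL ^ n) = f0 x * tL ^ n := by
    intro n
    induction n with
    | zero => simp
    | succ n ih => intro x; rw [pow_succ, pow_succ, ← mul_assoc, (step' _).2.1, ih, mul_assoc]
  conv_lhs => rw [(step' y).2.2]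
  rw [← mul_assoc, ← mul_assoc, ← mul_assoc, hL, hU, hL, hU]
  simp only [f0, mul_assoc]

/-- `SL(2, 7) → SL(3, 2)` -/
def hom : SL27 →* SL32 := MonoidHom.mk' f0 f0_mul

theorem hom_surjective : Function.Surjective hom := by
  intro t
  obtain ⟨⟨a, b, c, e, f, g, h, i, j⟩, hx⟩ := B33.toMatrix_surjective t.1
  have hd : (⟨a, b, c, e, f, g, h, i, j⟩ : B33).det = true := by
    have h1 := t.2
    rw [← hx, B33.b2z_det] at h1
    exact b2z_injective h1
  obtain ⟨p, q, r, s, hdet, hf⟩ := onto a b c e f g h i j hd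
  obtain ⟨y, hy⟩ : ∃ y : SL27, y.1 = !![((p : ℕ) : ZMod 7), (q : ℕ); (r : ℕ), (s : ℕ)] := by
    refine ⟨⟨!![((p : ℕ) : ZMod 7), (q : ℕ); (r : ℕ), (s : ℕ)], ?_⟩, rfl⟩
    have h1 := congrArg (fun k : ℕ => (k : ZMod 7)) hdet
    simp only [ZMod.natCast_mod, Nat.cast_add, Nat.cast_mul, Nat.cast_one] at h1
    rw [Matrix.det_fin_two_of]
    have h6 : ((6 : ℕ) : ZMod 7) = -1 := by decide
    rw [h6] at h1
    linear_combination h1
  refine ⟨y, Subtype.ext ?_⟩
  show (f0 y).1 = _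
  rw [f0_coe, hy, ← hx, ← hf]
  simp [Nat.mod_eq_of_lt p.2, Nat.mod_eq_of_lt q.2, Nat.mod_eq_of_lt r.2, Nat.mod_eq_of_lt s.2]

theorem neg_one_mem_ker : (-1 : SL27) ∈ hom.ker := by
  refine Subtype.ext ?_
  show (f0 (-1)).1 = _
  rw [f0_coe, Matrix.SpecialLinearGroup.coe_one, ← B33.toMatrix_one, ← values.2.2.2.1]
  simp [Matrix.SpecialLinearGroup.coe_neg]

theorem mem_ker_iff (g : SL27) : g ∈ hom.ker ↔ g = 1 ∨ g = -1 := by
  refine ⟨fun h => ?_, ?_⟩
  · have h0 : f0 g = 1 := MonoidHom.mem_ker.mp h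
    have h1 : (f0 g).1 = (1 : Matrix (Fin 3) (Fin 3) (ZMod 2)) := by rw [h0]; rfl
    rw [f0_coe, ← B33.toMatrix_one] at h1
    have e : ∀ {i j : Fin 2} {k : Fin 7}, (⟨_, ZMod.val_lt (g.1 i j)⟩ : Fin 7) = k →
        g.1 i j = ((k : ℕ) : ZMod 7) := fun hk => by
      rw [← hk]; exact (ZMod.natCast_zmod_val _).symm
    rcases kernel_cases ⟨_, ZMod.val_lt (g.1 0 0)⟩ ⟨_, ZMod.val_lt (g.1 0 1)⟩
      ⟨_, ZMod.val_lt (g.1 1 0)⟩ ⟨_, ZMod.val_lt (g.1 1 1)⟩ (det_val g)
      (B33.toMatrix_injective h1) with ⟨a, b, c, d⟩ | ⟨a, b, c, d⟩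
    · left
      refine Subtype.ext (Matrix.ext fun i j => ?_)
      fin_cases i <;> fin_cases j <;> simp [e a, e b, e c, e d]
    · right
      refine Subtype.ext (Matrix.ext fun i j => ?_)
      fin_cases i <;> fin_cases j <;> simp [e a, e b, e c, e d] <;> decide
  · rintro (rfl | rfl)
    · exact one_mem _
    · exact neg_one_mem_ker

theorem neg_one_mem_commutator : (-1 : SL27) ∈ commutator SL27 := by
  let qi : SL27 := ⟨!![0, 1; -1, 0], by decide⟩
  let qj : SL27 := ⟨!![3, 2; 2, -3], by decide⟩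
  have : (-1 : SL27) = ⁅qi, qj⁆ := by decide +kernel
  rw [this]
  exact Subgroup.commutator_mem_commutator (Subgroup.mem_top _) (Subgroup.mem_top _)

theorem neg_one_mem_center : (-1 : SL27) ∈ Subgroup.center SL27 :=
  Subgroup.mem_center_iff.mpr fun x => by simp

theorem card_ker : Nat.card hom.ker = 2 := by
  rw [Nat.card_eq_two_iff' (1 : hom.ker)]
  refine ⟨⟨-1, neg_one_mem_ker⟩, ?_, ?_⟩
  · intro h
    have h1 : (-1 : SL27) = 1 := congrArg Subtype.val h
    exact absurd h1 (by decide)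
  · rintro ⟨x, hx⟩ hne
    exact Subtype.ext (((mem_ker_iff x).mp hx).resolve_left fun h => hne (Subtype.ext h))

end CfsgLib.Schur.Cover168
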