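import Cfsg.Agent.Lib.Schur.SpLift

/-!
# The stabiliser of a vector in a symplectic group in characteristic two is perfect
-/

set_option autoImplicit false
set_option linter.unusedSectionVars false

namespace CfsgLib.Schur.SpStab

open Matrix CfsgLib.Classical.SympTrans
open scoped commutatorElement

variable {F : Type*} [Field F] {m : ℕ}

/-- The fixer of a vector. -/
def fixer (f : Fin m ⊕ Fin m → F) : Subgroup (symplecticGroup (Fin m) F) where
  carrier := {g | app g f = f}
  one_mem' := app_one f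
  mul_mem' := fun {a b} ha hb => by
    show app (a * b) f = f
    rw [app_mul, hb, ha]
  inv_mem' := fun {a} ha => by
    show app a⁻¹ f = f
    conv_lhs => rw [← ha]
    rw [app_inv]

theorem mem_fixer {f : Fin m ⊕ Fin m → F} {g : symplecticGroup (Fin m) F} :
    g ∈ fixer f ↔ app g f = f := Iff.rfl

theorem T_seven_one (h2 : (2 : F) = 0) (a b c : Fin m ⊕ Fin m → F)
    (hab : Cfsg.sympForm _ _ a b = (0 : F)) (hac : Cfsg.sympForm _ _ a c = (0 : F))
    (hbc : Cfsg.sympForm _ _ b c = (0 : F)) :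
    T a (1 : F) * T b 1 * T c 1 * T (a + b) 1 * T (a + c) 1 * T (b + c) 1 * T (a + b + c) 1 = 1 := by
  refine ext_app fun x => ?_
  simp only [app_mul, app_T, app_one, f_add_left, f_add_right, f_smul_left, f_smul_right, f_self,
    hab, hac, hbc, f_swap a b, f_swap a c, f_swap b c, one_mul, mul_zero, add_zero, zero_add, neg_zero]
  match_scalars
  all_goals
    first
      | ring1
      | linear_combination (2 * Cfsg.sympForm _ _ x a + Cfsg.sympForm _ _ x b +
          Cfsg.sympForm _ _ x c) * h2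
      | linear_combination (Cfsg.sympForm _ _ x a + 2 * Cfsg.sympForm _ _ x b +
          Cfsg.sympForm _ _ x c) * h2
      | linear_combination (Cfsg.sympForm _ _ x a + Cfsg.sympForm _ _ x b +
          2 * Cfsg.sympForm _ _ x c) * h2

theorem fixer_perfect [Finite F] (h2 : (2 : F) = 0)
    (hm2 : 2 ≤ m) (hq : (∃ t : F, t ≠ 0 ∧ t ≠ 1) ∨ 4 ≤ m)
    {f : Fin m ⊕ Fin m → F} (hf : f ≠ 0) : fixer f ≤ ⁅fixer f, fixer f⁆ := by
  classical
  have hm : 0 < m := by
    rcases Nat.eq_zero_or_pos m with h | h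
    · subst h
      exact absurd (funext fun s => by rcases s with i | i <;> exact i.elim0) hf
    · exact h
  set i₀ : Fin m := ⟨0, hm⟩
  suffices key : fixer (Pi.single (.inr i₀) (1 : F) : Fin m ⊕ Fin m → F) ≤
      ⁅fixer (Pi.single (.inr i₀) (1 : F)), fixer (Pi.single (.inr i₀) (1 : F))⁆ by
    obtain ⟨g, hg⟩ := exists_app_eq (v := (Pi.single (.inr i₀) (1 : F) : Fin m ⊕ Fin m → F))
      (fun e => one_ne_zero (α := F) (by simpa using congrFun e (.inr i₀))) hf
    have hmap : (fixer (Pi.single (.inr i₀) (1 : F))).map (MulAut.conj g).toMonoidHom = fixer f := by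
      ext x
      refine ⟨?_, fun hx => ⟨g⁻¹ * x * g, ?_, by simp [mul_assoc]⟩⟩
      · rintro ⟨y, hy, rfl⟩
        show app (g * y * g⁻¹) f = f
        conv_lhs => rw [← hg, app_mul, app_mul, app_inv, mem_fixer.1 hy, hg]
      · show app (g⁻¹ * x * g) _ = _
        rw [app_mul, app_mul, hg, mem_fixer.1 hx, ← hg, app_inv]
    rw [← hmap, ← Subgroup.map_commutator]
    exact Subgroup.map_mono key
  set f₀ : Fin m ⊕ Fin m → F := Pi.single (.inr i₀) 1 with hf0
  set H := fixer f₀ with hH
  set D := ⁅H, H⁆ with hD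
  have hneg : ∀ x : F, -x = x := fun x => by linear_combination (-x) * h2
  have hTH : ∀ z, Cfsg.sympForm _ _ f₀ z = (0 : F) → ∀ c : F, T z c ∈ H := fun z hz c => by
    rw [hH, mem_fixer, app_T, hz, mul_zero, zero_smul, add_zero]
  -- transitivity inside the perpendicular
  have hmove : ∀ z z' : Fin m ⊕ Fin m → F, Cfsg.sympForm _ _ f₀ z = (0 : F) →
      Cfsg.sympForm _ _ f₀ z' = (0 : F) → Cfsg.sympForm _ _ z z' ≠ (0 : F) →
      ∃ h ∈ H, app h z = z' := fun z z' hz hz' h => by
    refine ⟨T (z' - z) (Cfsg.sympForm _ _ z z')⁻¹, hTH _ ?_ _, T_diff h⟩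
    rw [f_sub_right, hz, hz', sub_zero]
  have hcomm : ∀ z, Cfsg.sympForm _ _ f₀ z = (0 : F) → ∀ c, ∀ h ∈ H, T (app h z) c * T z (-c) ∈ D := by
    intro z hz c h hh
    have hm' := Subgroup.commutator_mem_commutator hh (hTH z hz c)
    rwa [commutatorElement_def, conj_T, CfsgLib.Schur.SpFam.T_inv] at hm'
  have hperp : ∀ z, Cfsg.sympForm _ _ f₀ z = (0 : F) → (∀ a : F, z ≠ a • f₀) →
      ∃ y, Cfsg.sympForm _ _ f₀ y = (0 : F) ∧ Cfsg.sympForm _ _ z y = (1 : F) := fun z hz hne => by
    obtain ⟨y, hy, hzy⟩ := exists_perp_f_ne (u := f₀) hne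
    refine ⟨(Cfsg.sympForm _ _ z y)⁻¹ • y, ?_, by rw [f_smul_right, inv_mul_cancel₀ hzy]⟩
    rw [f_smul_right, show Cfsg.sympForm _ _ f₀ y = (0 : F) from hy, mul_zero]
  -- transvections off the line lie in the derived group
  have hoff : ∀ z, Cfsg.sympForm _ _ f₀ z = (0 : F) → (∀ a : F, z ≠ a • f₀) → ∀ c, T z c ∈ D := by
    intro z hz hne c
    by_cases hq' : ∃ t : F, t ≠ 0 ∧ t ≠ 1
    · obtain ⟨t, ht0, ht1⟩ := hq'
      obtain ⟨y, hy, hzy⟩ := hperp z hz hne
      obtain ⟨h₁, hh₁, e₁⟩ := hmove z (z + y) hz (by rw [f_add_right, hz, hy, add_zero])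
        (by rw [f_add_right, f_self, hzy, zero_add]; exact one_ne_zero)
      obtain ⟨h₂, hh₂, e₂⟩ := hmove (z + y) (t • z) (by rw [f_add_right, hz, hy, add_zero])
        (by rw [f_smul_right, hz, mul_zero]) (by
          rw [f_add_left, f_smul_right, f_smul_right, f_self, f_swap z y, hzy, mul_zero, zero_add,
            hneg, mul_one]
          exact ht0)
      have hd : t * t - 1 ≠ 0 := fun e => ht1 (by
        have h := (mul_self_eq_one_iff).1 (show t * t = 1 by linear_combination e)
        rcases h with h | h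
        · exact h
        · rw [h, hneg])
      have := hcomm z hz (c / (t * t - 1)) (h₂ * h₁) (mul_mem hh₂ hh₁)
      rw [app_mul, e₁, e₂, T_smul, T_mul] at this
      rwa [← sub_eq_add_neg, ← sub_one_mul, mul_div_cancel₀ c hd] at this
    · have hm4 : 4 ≤ m := hq.resolve_left hq'
      push Not at hq'
      -- two elements: all these transvections are congruent and seven of them multiply to one
      have hcases : ∀ a : F, a = 0 ∨ a = 1 := fun a => by
        by_cases h : a = 0
        · exact Or.inl h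
        · exact Or.inr (hq' a h)
      rcases hcases c with rfl | rfl
      · rw [T_zero]; exact one_mem D
      have hcong : ∀ w, Cfsg.sympForm _ _ f₀ w = (0 : F) → (∀ a : F, w ≠ a • f₀) →
          T w (1 : F) * T z (1 : F) ∈ D := by
        intro w hw hne'
        obtain ⟨y, hy, hzy⟩ := hperp z hz hne
        obtain ⟨y', hy', hwy⟩ := hperp w hw hne'
        obtain ⟨p, hp, hp1, hp2⟩ : ∃ p, Cfsg.sympForm _ _ f₀ p = (0 : F) ∧
            Cfsg.sympForm _ _ z p ≠ (0 : F) ∧ Cfsg.sympForm _ _ p w ≠ (0 : F) := by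
          have hw' : ∀ p, Cfsg.sympForm _ _ w p ≠ (0 : F) → Cfsg.sympForm _ _ p w ≠ (0 : F) :=
            fun p h => by rwa [f_swap w p, hneg]
          rcases hcases (Cfsg.sympForm _ _ w y) with h | h
          · rcases hcases (Cfsg.sympForm _ _ z y') with h' | h'
            · refine ⟨y + y', by rw [f_add_right, hy, hy', add_zero], ?_, hw' _ ?_⟩
              · rw [f_add_right, hzy, h', add_zero]; exact one_ne_zero
              · rw [f_add_right, h, hwy, zero_add]; exact one_ne_zero
            · exact ⟨y', hy', by rw [h']; exact one_ne_zero, hw' _ (by rw [hwy]; exact one_ne_zero)⟩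
          · exact ⟨y, hy, by rw [hzy]; exact one_ne_zero, hw' _ (by rw [h]; exact one_ne_zero)⟩
        obtain ⟨h₁, hh₁, e₁⟩ := hmove z p hz hp hp1
        obtain ⟨h₂, hh₂, e₂⟩ := hmove p w hp hw hp2
        have := hcomm z hz 1 (h₂ * h₁) (mul_mem hh₂ hh₁)
        rwa [app_mul, e₁, e₂, hneg] at this
      let ev : Fin m → (Fin m ⊕ Fin m → F) := fun i => Pi.single (.inr i) 1
      let i₁ : Fin m := ⟨1, by omega⟩
      let i₂ : Fin m := ⟨2, by omega⟩
      let i₃ : Fin m := ⟨3, by omega⟩
      have hev : ∀ i j, Cfsg.sympForm _ _ (ev i) (ev j) = (0 : F) := fun i j => by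
        show Cfsg.sympForm _ _ (Pi.single (Sum.inr i) (1 : F)) (Pi.single (Sum.inr j) 1) = _
        rw [f_inr]
        simp
      have hp : ∀ i, Cfsg.sympForm _ _ f₀ (ev i) = (0 : F) := fun i => hev i₀ i
      have hn : ∀ (w : Fin m ⊕ Fin m → F) (i : Fin m), i ≠ i₀ → w (.inr i) ≠ 0 →
          ∀ a : F, w ≠ a • f₀ := fun w i hi hw a e => hw (by
        rw [e]; simp [hf0, hi])
      let mk := fun w : Fin m ⊕ Fin m → F => (T w (1 : F))
      have hstep : ∀ (w : Fin m ⊕ Fin m → F) (X : symplecticGroup (Fin m) F) (k : ℕ),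
          Cfsg.sympForm _ _ f₀ w = (0 : F) → (∀ a : F, w ≠ a • f₀) →
          X * (T z (1 : F)) ^ k ∈ D → X * T w 1 * (T z (1 : F)) ^ (k + 1) ∈ D := by
        intro w X k hw hnw hX
        -- conjugates of elements of `D` by `H` stay in `D`
        have hzH := hTH z hz (1 : F)
        have h1 := hcong w hw hnw
        have hnorm : ∀ d ∈ D, ∀ h ∈ H, h * d * h⁻¹ ∈ D := fun d hd h hh => by
          have : (⁅H, H⁆).map (MulAut.conj h).toMonoidHom ≤ ⁅H, H⁆ := by
            rw [Subgroup.map_commutator]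
            refine Subgroup.commutator_mono ?_ ?_ <;>
            · rintro _ ⟨u, hu, rfl⟩
              exact mul_mem (mul_mem hh hu) (inv_mem hh)
          exact this ⟨d, hd, rfl⟩
        have h3 := mul_mem hX (hnorm _ h1 _ (inv_mem (pow_mem hzH k)))
        rwa [inv_inv, ← mul_assoc, ← mul_assoc, mul_inv_cancel_right,
          ← mul_assoc X (T w 1) (T z 1), mul_assoc _ (T z 1), ← pow_succ'] at h3
      have hsum : ∀ i j : Fin m, Cfsg.sympForm _ _ f₀ (ev i + ev j) = (0 : F) := fun i j => by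
        rw [f_add_right, hp, hp, add_zero]
      have h01 : i₁ ≠ i₀ := fun e => by simp [i₁, i₀] at e
      have h02 : i₂ ≠ i₀ := fun e => by simp [i₂, i₀] at e
      have h03 : i₃ ≠ i₀ := fun e => by simp [i₃, i₀] at e
      have s0 : (1 : symplecticGroup (Fin m) F) * (T z (1 : F)) ^ 0 ∈ D := by simp
      have s1 := hstep _ _ _ (hp i₁) (hn _ i₁ h01 (by simp [ev])) s0
      have s2 := hstep _ _ _ (hp i₂) (hn _ i₂ h02 (by simp [ev])) s1
      have s3 := hstep _ _ _ (hp i₃) (hn _ i₃ h03 (by simp [ev])) s2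
      have s4 := hstep _ _ _ (hsum i₁ i₂) (hn _ i₁ h01 (by simp [ev, i₁, i₂])) s3
      have s5 := hstep _ _ _ (hsum i₁ i₃) (hn _ i₁ h01 (by simp [ev, i₁, i₃])) s4
      have s6 := hstep _ _ _ (hsum i₂ i₃) (hn _ i₂ h02 (by simp [ev, i₂, i₃])) s5
      have s7 := hstep (ev i₁ + ev i₂ + ev i₃) _ _
        (by rw [f_add_right, hsum, hp, add_zero])
        (hn _ i₁ h01 (by simp [ev, i₁, i₂, i₃])) s6
      rw [one_mul, T_seven_one h2 _ _ _ (hev _ _) (hev _ _) (hev _ _), one_mul] at s7
      have hsq : T z (1 : F) * T z 1 = 1 := by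
        rw [T_mul, show (1 : F) + 1 = 0 by linear_combination h2, T_zero]
      simpa [pow_succ, mul_assoc, hsq] using s7
  -- the transvections with centre on the line
  have hline : ∀ c : F, T f₀ c ∈ D := by
    by_cases hq' : ∃ t : F, t ≠ 0 ∧ t ≠ 1
    · obtain ⟨t, ht0, ht1⟩ := hq'
      have hm1 : 1 < m := hm2
      set z : Fin m ⊕ Fin m → F := Pi.single (.inr ⟨1, hm1⟩) 1 with hz'
      have hz : Cfsg.sympForm _ _ f₀ z = (0 : F) := by rw [hf0, hz', f_inr]; simp
      have hvz : ∀ a b : F, a ≠ 0 → ∀ r : F, a • z + b • f₀ ≠ r • f₀ := fun a b ha r e => ha (by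
        have := congrFun e (.inr ⟨1, hm1⟩)
        simpa [hz', hf0, i₀] using this)
      have hzp : ∀ a b : F, Cfsg.sympForm _ _ f₀ (a • z + b • f₀) = (0 : F) := fun a b => by
        rw [f_add_right, f_smul_right, f_smul_right, hz, f_self, mul_zero, mul_zero, add_zero]
      have key : ∀ c : F, c ≠ 0 → T f₀ (c - 1) ∈ D := fun c hc => by
        have e := CfsgLib.Schur.SpFam.T_law2 f₀ z hz 1 c
        simp only [one_mul, mul_one] at e
        have e1 : T (z + (1 : F) • f₀) c ∈ D := hoff _
          (by have := hzp 1 1; rwa [one_smul] at this) (by have := hvz 1 1 one_ne_zero; rwa [one_smul] at this) c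
        have e2 : T (c • z + f₀) (1 : F) ∈ D := hoff _
          (by have := hzp c 1; rwa [one_smul] at this) (by have := hvz c 1 hc; rwa [one_smul] at this) 1
        have e3 : T (c • z) (1 : F) ∈ D := hoff _ (by rw [f_smul_right, hz, mul_zero])
          (by have := hvz c 0 hc; rwa [zero_smul, add_zero] at this) 1
        have e4 : T z c ∈ D := hoff _ hz
          (by have := hvz 1 0 one_ne_zero; rwa [one_smul, zero_smul, add_zero] at this) c
        rw [one_smul] at e1 e
        rw [e] at e1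
        have := mul_mem (mul_mem (inv_mem (mul_mem e2 (inv_mem e3))) e1) (inv_mem e4)
        simpa [mul_assoc] using this
      intro c
      by_cases hc : c + 1 = 0
      · have a1 := key t ht0
        have a2 := key (c - (t - 1) + 1) (fun e => ht1 (by linear_combination hc - e))
        have := mul_mem a1 a2
        rwa [T_mul, show t - 1 + (c - (t - 1) + 1 - 1) = c by ring] at this
      · have := key (c + 1) hc
        rwa [add_sub_cancel_right] at this
    · push Not at hq'
      have hm4 : 4 ≤ m := hq.resolve_left fun ⟨t, h, h'⟩ => h' (hq' t h)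
      intro c
      by_cases hc : c = 0
      · rw [hc, T_zero]; exact one_mem D
      rw [hq' c hc]
      set a : Fin m ⊕ Fin m → F := Pi.single (.inr ⟨1, by omega⟩) 1 with ha
      set b : Fin m ⊕ Fin m → F := Pi.single (.inr ⟨2, by omega⟩) 1 with hb
      have h1 : Cfsg.sympForm _ _ f₀ a = (0 : F) := by rw [hf0, ha, f_inr]; simp
      have h2' : Cfsg.sympForm _ _ f₀ b = (0 : F) := by rw [hf0, hb, f_inr]; simp
      have h3 : Cfsg.sympForm _ _ a b = (0 : F) := by rw [ha, hb, f_inr]; simp
      have e := T_seven_one h2 f₀ a b h1 h2' h3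
      have hne : ∀ (w : Fin m ⊕ Fin m → F) (i : Fin m), i ≠ i₀ → w (.inr i) ≠ 0 →
          ∀ r : F, w ≠ r • f₀ := fun w i hi hw r e => hw (by rw [e]; simp [hf0, hi])
      have d1 := hoff a h1 (hne _ ⟨1, by omega⟩ (by simp [i₀]) (by simp [ha])) 1
      have d2 := hoff b h2' (hne _ ⟨2, by omega⟩ (by simp [i₀]) (by simp [hb])) 1
      have d3 := hoff (f₀ + a) (by rw [f_add_right, f_self, h1, add_zero])
        (hne _ ⟨1, by omega⟩ (by simp [i₀]) (by simp [ha, hf0, i₀])) 1
      have d4 := hoff (f₀ + b) (by rw [f_add_right, f_self, h2', add_zero])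
        (hne _ ⟨2, by omega⟩ (by simp [i₀]) (by simp [hb, hf0, i₀])) 1
      have d5 := hoff (a + b) (by rw [f_add_right, h1, h2', add_zero])
        (hne _ ⟨1, by omega⟩ (by simp [i₀]) (by simp [ha, hb])) 1
      have d6 := hoff (f₀ + a + b) (by rw [f_add_right, f_add_right, f_self, h1, h2', add_zero, add_zero])
        (hne _ ⟨1, by omega⟩ (by simp [i₀]) (by simp [ha, hb, hf0, i₀])) 1
      have := mul_mem (one_mem D) (inv_mem (mul_mem (mul_mem (mul_mem (mul_mem (mul_mem d1 d2) d3) d4) d5) d6))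
      rw [← e] at this
      simpa [mul_assoc] using this
  intro g hg
  refine CfsgLib.Schur.SpFam.stab_mem i₀ rfl D (fun z hz d => ?_) g hg
  by_cases h : ∃ a : F, z = a • f₀
  · obtain ⟨a, rfl⟩ := h
    rw [T_smul]
    exact hline _
  · push Not at h
    exact hoff z hz h d

end CfsgLib.Schur.SpStab
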