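import Cfsg.Agent.Lib.Schur.OmegaSix
import Mathlib.LinearAlgebra.CliffordAlgebra.Contraction

/-!
# The spin group

The subgroup of the units of the Clifford algebra generated by the `1 + u v` (`u` singular, `v ⊥ u`)
is a perfect central extension of `Ω`.
-/

set_option autoImplicit false
set_option linter.unusedSectionVars false

namespace CfsgLib.Schur.Spin

open CfsgLib.Orth
open scoped commutatorElement

variable {F : Type*} [Field F] {ι : Type} [Fintype ι] [DecidableEq ι]
variable {Q : QuadraticForm F (ι → F)}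

local notation "Cl" => CliffordAlgebra Q
local notation "ı" => CliffordAlgebra.ι Q

theorem anti {a b : ι → F} (h : QuadraticMap.polar ⇑Q a b = 0) : ı a * ı b = -(ı b * ı a) := by
  have := CliffordAlgebra.ι_mul_ι_add_swap (Q := Q) a b
  rw [h, map_zero] at this
  exact eq_neg_of_add_eq_zero_left this

theorem swap_smul (a b : ι → F) :
    ı a * ı b = QuadraticMap.polar (⇑Q) a b • (1 : Cl) - ı b * ı a := by
  rw [eq_sub_iff_add_eq, CliffordAlgebra.ι_mul_ι_add_swap, Algebra.algebraMap_eq_smul_one]

theorem sq_smul (a : ι → F) : ı a * ı a = Q a • (1 : Cl) := by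
  rw [CliffordAlgebra.ι_sq_scalar, Algebra.algebraMap_eq_smul_one]

theorem nilp {u v : ι → F} (hu : Q u = 0) (h : QuadraticMap.polar ⇑Q u v = 0) (w : ι → F) :
    ı u * ı v * (ı u * ı w) = 0 := by
  rw [mul_assoc (ı u), ← mul_assoc (ı v) (ı u), anti (show QuadraticMap.polar (⇑Q) v u = 0 by
    rwa [b_comm]), neg_mul, mul_neg, mul_assoc (ı u) (ı v), ← mul_assoc (ı u) (ı u), sq_smul, hu,
    zero_smul, zero_mul, neg_zero]

/-- The lifted Siegel element. -/
def lift (u v : ι → F) (hu : Q u = 0) (h : QuadraticMap.polar ⇑Q u v = 0) : Clˣ where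
  val := 1 + ı u * ı v
  inv := 1 - ı u * ı v
  val_inv := by
    rw [add_mul, one_mul, mul_sub, mul_one, nilp hu h v, sub_zero, sub_add_cancel]
  inv_val := by
    rw [sub_mul, one_mul, mul_add, mul_one, nilp hu h v, add_zero, add_sub_cancel_right]

theorem lift_conj (u v : ι → F) (hu : Q u = 0) (h : QuadraticMap.polar ⇑Q u v = 0) (x : ι → F) :
    (1 + ı u * ı v) * ı x * (1 - ı u * ı v) =
      ı (x + QuadraticMap.polar (⇑Q) v x • u - QuadraticMap.polar (⇑Q) u x • v
        - (Q v * QuadraticMap.polar (⇑Q) u x) • u) := by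
  set U := ı u
  set V := ı v
  set X := ı x
  have h1 : U * V * X = QuadraticMap.polar (⇑Q) v x • U - U * X * V := by
    rw [mul_assoc, swap_smul v x, mul_sub, mul_smul_comm, mul_one, mul_assoc]
  have h2 : X * (U * V) = QuadraticMap.polar (⇑Q) u x • V - U * X * V := by
    rw [← mul_assoc, swap_smul x u, sub_mul, smul_one_mul, b_comm x u]
  have h3 : U * V * X * (U * V) = (Q v * QuadraticMap.polar (⇑Q) u x) • U := by
    rw [h1, sub_mul, smul_mul_assoc, ← mul_assoc U U, sq_smul, hu, zero_smul, zero_mul, smul_zero,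
      zero_sub]
    have e1 : U * X * V * (U * V) = -((U * X * U) * (V * V)) := by
      rw [mul_assoc (U * X), ← mul_assoc V U, anti (show QuadraticMap.polar (⇑Q) v u = 0 by
        rwa [b_comm]), neg_mul, mul_neg, mul_assoc U V, ← mul_assoc (U * X) U]
    rw [e1, neg_neg, sq_smul, mul_smul_comm, mul_one]
    have e2 : U * X * U = QuadraticMap.polar (⇑Q) u x • U := by
      rw [CliffordAlgebra.ι_mul_ι_mul_ι, hu, zero_smul, sub_zero, map_smul]
    rw [e2, smul_smul]
  rw [map_sub, map_sub, map_add, map_smul, map_smul, map_smul, ← h3, add_mul, one_mul, mul_sub,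
    mul_one, add_mul, h2]
  rw [show U * V * X = QuadraticMap.polar (⇑Q) v x • U - U * X * V from h1]
  abel

variable [Finite F]

theorem iota_injective (hB : Nondeg Q) (h2 : (2 : F) ≠ 0) : Function.Injective ı := by
  haveI : Invertible (2 : F) := invertibleOfNonzero h2
  rw [injective_iff_map_eq_zero]
  intro v hv
  refine hB v fun w => (algebraMap F Cl).injective ?_
  rw [← CliffordAlgebra.ι_mul_ι_add_swap, hv, zero_mul, mul_zero, add_zero, map_zero]

/-- Units whose conjugation induces an isometry. -/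
def Induces (s : Clˣ) (g : Grp Q) : Prop := ∀ x, (s : Cl) * ı x * ((s⁻¹ : Clˣ) : Cl) = ı (ap g x)

theorem induces_mul {s t : Clˣ} {g h : Grp Q} (hs : Induces s g) (ht : Induces t h) :
    Induces (s * t) (g * h) := fun x => by
  rw [mul_inv_rev, Units.val_mul, Units.val_mul, ap_mul, ← hs, ← ht]
  simp only [mul_assoc]

theorem induces_inv {s : Clˣ} {g : Grp Q} (hs : Induces s g) : Induces s⁻¹ g⁻¹ := fun x => by
  have := hs (ap g⁻¹ x)
  rw [ap_ap_inv] at this
  rw [inv_inv, ← this]
  simp [mul_assoc]

theorem induces_unique (hB : Nondeg Q) (h2 : (2 : F) ≠ 0) {s : Clˣ} {g h : Grp Q}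
    (hg : Induces s g) (hh : Induces s h) : g = h :=
  ext_ap fun x => iota_injective hB h2 (by rw [← hg, ← hh])

/-- The spin group. -/
def spin (Q : QuadraticForm F (ι → F)) : Subgroup (CliffordAlgebra Q)ˣ :=
  Subgroup.closure {s | ∃ (u v : ι → F) (hu : Q u = 0) (h : QuadraticMap.polar ⇑Q u v = 0),
    s = lift u v hu h}

theorem lift_mem {u v : ι → F} (hu : Q u = 0) (h : QuadraticMap.polar ⇑Q u v = 0) :
    lift u v hu h ∈ spin Q := Subgroup.subset_closure ⟨u, v, hu, h, rfl⟩

theorem exists_induces (hB : Nondeg Q) (hn : 5 ≤ Module.finrank F (ι → F)) {s : Clˣ}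
    (hs : s ∈ spin Q) : ∃ g : Cfsg.Omega F ⇑Q, Induces s (g : Grp Q) := by
  induction hs using Subgroup.closure_induction with
  | mem s hs =>
      obtain ⟨u, v, hu, h, rfl⟩ := hs
      obtain ⟨g, hg⟩ := exists_siegel hB hu (v := -v) (by
        rw [← neg_one_smul F v, b_smul_right, h, mul_zero])
      have hgΩ : g ∈ Cfsg.Omega F ⇑Q := by rw [omega_eq_El hB hn]; exact siegel_mem_El hg
      refine ⟨⟨g, hgΩ⟩, fun x => ?_⟩
      show (1 + ı u * ı v) * ı x * (1 - ı u * ı v) = ı (ap g x)
      rw [lift_conj u v hu h, hg.2.2]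
      congr 1
      rw [← neg_one_smul F v, b_smul_right, q_smul, b_comm x v, b_comm x u]
      module
  | one => exact ⟨1, fun x => by simp⟩
  | mul a b _ _ ha hb =>
      obtain ⟨g, hg⟩ := ha
      obtain ⟨g', hg'⟩ := hb
      exact ⟨g * g', induces_mul hg hg'⟩
  | inv a _ ha =>
      obtain ⟨g, hg⟩ := ha
      exact ⟨g⁻¹, induces_inv hg⟩

/-- The projection onto `Ω`. -/
noncomputable def proj (hB : Nondeg Q) (h2 : (2 : F) ≠ 0) (hn : 5 ≤ Module.finrank F (ι → F)) :
    spin Q →* Cfsg.Omega F ⇑Q :=
  MonoidHom.mk' (fun s => (exists_induces hB hn s.2).choose) fun s t => Subtype.ext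
    (induces_unique hB h2 (exists_induces hB hn (s * t).2).choose_spec
      (induces_mul (exists_induces hB hn s.2).choose_spec (exists_induces hB hn t.2).choose_spec))

variable (hB : Nondeg Q) (h2 : (2 : F) ≠ 0) (hn : 5 ≤ Module.finrank F (ι → F))
include hB h2 hn

theorem proj_spec (s : spin Q) : Induces (s : Clˣ) (proj hB h2 hn s : Grp Q) :=
  (exists_induces hB hn s.2).choose_spec

theorem proj_eq {s : spin Q} {g : Grp Q} (h : Induces (s : Clˣ) g) :
    (proj hB h2 hn s : Grp Q) = g := induces_unique hB h2 (proj_spec hB h2 hn s) h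

theorem proj_surjective : Function.Surjective (proj hB h2 hn) := by
  intro g
  have hg : (g : Grp Q) ∈ El Q := by rw [← omega_eq_El hB hn]; exact g.2
  suffices h : ∃ s : spin Q, Induces (s : Clˣ) (g : Grp Q) by
    obtain ⟨s, hs⟩ := h
    exact ⟨s, Subtype.ext (proj_eq hB h2 hn hs)⟩
  generalize (g : Grp Q) = g' at hg
  induction hg using Subgroup.closure_induction with
  | mem a ha =>
      obtain ⟨u, v, h⟩ := ha
      have hv : QuadraticMap.polar (⇑Q) u (-v) = 0 := by
        rw [← neg_one_smul F v, b_smul_right, h.2.1, mul_zero]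
      refine ⟨⟨_, lift_mem h.1 hv⟩, fun x => ?_⟩
      show (1 + ı u * ı (-v)) * ı x * (1 - ı u * ı (-v)) = ı (ap a x)
      rw [lift_conj u (-v) h.1 hv, h.2.2]
      congr 1
      rw [← neg_one_smul F v, b_smul_left, q_smul, b_comm x v, b_comm x u]
      module
  | one => exact ⟨1, fun x => by simp⟩
  | mul a b _ _ ha hb =>
      obtain ⟨s, hs⟩ := ha
      obtain ⟨t, ht⟩ := hb
      exact ⟨s * t, induces_mul hs ht⟩
  | inv a _ ha =>
      obtain ⟨s, hs⟩ := ha
      exact ⟨s⁻¹, induces_inv hs⟩

theorem ker_le_center : (proj hB h2 hn).ker ≤ Subgroup.center (spin Q) := by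
  intro s hs
  have h1 : ∀ x, ((s : Clˣ) : Cl) * ı x = ı x * ((s : Clˣ) : Cl) := fun x => by
    have := proj_spec hB h2 hn s x
    rw [MonoidHom.mem_ker.1 hs] at this
    rw [show ap ((1 : Cfsg.Omega F ⇑Q) : Grp Q) x = x from ap_one x] at this
    conv_rhs => rw [← this]
    simp [mul_assoc]
  rw [Subgroup.mem_center_iff]
  intro t
  refine Subtype.ext (Units.ext ?_)
  show ((t : Clˣ) : Cl) * ((s : Clˣ) : Cl) = ((s : Clˣ) : Cl) * ((t : Clˣ) : Cl)
  induction ((t : Clˣ) : Cl) using CliffordAlgebra.induction with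
  | algebraMap r => exact Algebra.commutes r _
  | ι x => exact (h1 x).symm
  | mul a b ha hb => rw [mul_assoc, hb, ← mul_assoc, ha, mul_assoc]
  | add a b ha hb => rw [add_mul, mul_add, ha, hb]

theorem commutator_eq_top : commutator (spin Q) = ⊤ := by
  set C := (commutator (spin Q)).map (spin Q).subtype with hC
  suffices h : ∀ (u v : ι → F) (hu : Q u = 0) (h : QuadraticMap.polar ⇑Q u v = 0),
      lift u v hu h ∈ C by
    refine Subgroup.map_injective (Subgroup.subtype_injective _) (le_antisymm ?_ ?_)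
    · rw [← MonoidHom.range_eq_map, Subgroup.range_subtype]
      exact Subgroup.map_subtype_le _
    · rw [← MonoidHom.range_eq_map, Subgroup.range_subtype]
      refine (Subgroup.closure_le _).2 ?_
      rintro _ ⟨u, v, hu, h', rfl⟩
      exact h u v hu h'
  intro u v hu h
  -- additivity in the second argument
  have hadd : ∀ a b (ha : QuadraticMap.polar ⇑Q u a = 0) (hb : QuadraticMap.polar ⇑Q u b = 0)
      (hab : QuadraticMap.polar ⇑Q u (a + b) = 0),
      lift u (a + b) hu hab = lift u a hu ha * lift u b hu hb := fun a b ha hb hab => by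
    refine Units.ext ?_
    show 1 + ı u * ı (a + b) = (1 + ı u * ı a) * (1 + ı u * ı b)
    rw [map_add, mul_add, add_mul, one_mul, mul_add (ı u * ı a), mul_one, nilp hu ha b, add_zero]
    abel
  by_cases hu0 : u = 0
  · have : lift u v hu h = 1 := Units.ext (by
      show 1 + ı u * ı v = 1
      rw [hu0, map_zero, zero_mul, add_zero])
    rw [this]
    exact one_mem C
  obtain ⟨f, hf, huf⟩ := exists_partner hB hu hu0
  -- vectors orthogonal to the pair
  have haniso : ∀ a, QuadraticMap.polar (⇑Q) u a = 0 → QuadraticMap.polar (⇑Q) f a = 0 → Q a ≠ 0 →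
      ∀ ha, lift u a hu ha ∈ C := by
    intro a hua hfa hQa ha
    have haa : QuadraticMap.polar (⇑Q) a a ≠ 0 := by rw [b_self]; exact mul_ne_zero h2 hQa
    have hli : ∀ c : F, c ≠ 0 → LinearIndependent F ![u, f, c • a] := fun c hc => by
      rw [Fintype.linearIndependent_iff]
      intro g hg
      simp only [Fin.sum_univ_three, Matrix.cons_val_zero, Matrix.cons_val_one, Matrix.cons_val_two,
        Matrix.tail_cons, Matrix.head_cons] at hg
      have e0 := congrArg (QuadraticMap.polar (⇑Q) f) hg
      have e1 := congrArg (QuadraticMap.polar (⇑Q) u) hg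
      have e2 := congrArg (QuadraticMap.polar (⇑Q) a) hg
      simp only [b_add_right, b_smul_right, b_comm f u, huf, b_self_zero hf, hfa, mul_zero, mul_one,
        add_zero, b_zero_right] at e0
      simp only [b_add_right, b_smul_right, b_self_zero hu, huf, hua, mul_zero, mul_one, zero_add,
        add_zero, b_zero_right] at e1
      simp only [b_add_right, b_smul_right, b_comm a u, b_comm a f, hua, hfa, mul_zero, zero_add,
        b_zero_right] at e2
      intro i
      fin_cases i
      · exact e0
      · exact e1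
      · exact (mul_eq_zero.1 e2).resolve_right (mul_ne_zero hc haa)
    have hu3 : Univ Q (orth Q (Submodule.span F (Set.range ![u, f, (1 : F) • a]))) := by
      have hr : NondegOn Q (Submodule.span F (Set.range ![u, f, (1 : F) • a])) := by
        intro w hw hperp
        rw [Submodule.mem_span_range_iff_exists_fun] at hw
        obtain ⟨g, rfl⟩ := hw
        simp only [Fin.sum_univ_three, Matrix.cons_val_zero, Matrix.cons_val_one,
          Matrix.cons_val_two, Matrix.tail_cons, Matrix.head_cons, one_smul] at hperp ⊢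
        have e0 := hperp f (Submodule.subset_span ⟨1, rfl⟩)
        have e1 := hperp u (Submodule.subset_span ⟨0, rfl⟩)
        have e2 := hperp a (Submodule.subset_span ⟨2, by simp⟩)
        simp only [b_add_left, b_smul_left, huf, b_self_zero hf, b_comm a f, hfa, mul_zero, mul_one,
          add_zero] at e0
        simp only [b_add_left, b_smul_left, b_self_zero hu, b_comm f u, huf, b_comm a u, hua,
          mul_zero, mul_one, zero_add, add_zero] at e1
        simp only [b_add_left, b_smul_left, hua, hfa, mul_zero, zero_add] at e2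
        rw [e0, e1, (mul_eq_zero.1 e2).resolve_right haa]
        simp
      refine univ_of_dim ?_
      have hz : orth Q (Submodule.span F (Set.range ![u, f, (1 : F) • a])) ⊓
          orth Q (orth Q (Submodule.span F (Set.range ![u, f, (1 : F) • a]))) = ⊥ :=
        (Submodule.eq_bot_iff _).2 fun x hx => nondeg_inf (nondegOn_orth hB hr) hx.1 hx.2
      have h3 := finrank_orth hB (Submodule.span F (Set.range ![u, f, (1 : F) • a]))
      rw [finrank_span_eq_card (hli 1 one_ne_zero), Fintype.card_fin] at h3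
      rw [hz, finrank_bot]
      omega
    obtain ⟨g, hg⟩ := exists_omega_config hB (by omega) (hli 1 one_ne_zero)
      (hli (-1) (neg_ne_zero.2 one_ne_zero))
      (fun i => by fin_cases i <;> simp [q_smul])
      (fun i j => by
        fin_cases i <;> fin_cases j <;>
          simp [b_smul_left, b_smul_right, huf, hua, hfa, b_comm f u, b_comm a u, b_comm a f,
            b_self_zero hu, b_self_zero hf]) hu3
    obtain ⟨s, hs⟩ := proj_surjective hB h2 hn g
    have hsi : Induces (s : Clˣ) (g : Grp Q) := hs ▸ proj_spec hB h2 hn s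
    have hgu : ap (g : Grp Q) u = u := hg 0
    have hga : ap (g : Grp Q) a = -a := by simpa using hg 2
    -- `a` is minus twice `a'`
    set a' := (-(2 : F)⁻¹) • a with ha'
    have hua' : QuadraticMap.polar (⇑Q) u a' = 0 := by rw [ha', b_smul_right, hua, mul_zero]
    have hga' : ap (g : Grp Q) a' = -a' := by rw [ha', ap_smul, hga, smul_neg]
    have h1 : (s : Clˣ) * lift u a' hu hua' * (s : Clˣ)⁻¹ = (lift u a' hu hua')⁻¹ := by
      refine Units.ext ?_
      show ((s : Clˣ) : Cl) * (1 + ı u * ı a') * (((s : Clˣ)⁻¹ : Clˣ) : Cl) = 1 - ı u * ı a'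
      rw [mul_add, mul_one, add_mul, Units.mul_inv]
      have : ((s : Clˣ) : Cl) * (ı u * ı a') * (((s : Clˣ)⁻¹ : Clˣ) : Cl) =
          ı (ap (g : Grp Q) u) * ı (ap (g : Grp Q) a') := by
        rw [← hsi, ← hsi]
        simp [mul_assoc]
      rw [this, hgu, hga', map_neg, mul_neg, sub_eq_add_neg]
    have h2' : lift u a hu ha = (lift u a' hu hua')⁻¹ * (lift u a' hu hua')⁻¹ := by
      refine Units.ext ?_
      show 1 + ı u * ı a = (1 - ı u * ı a') * (1 - ı u * ı a')
      rw [mul_sub, mul_one, sub_mul, one_mul, nilp hu hua' a', sub_zero, ha', map_smul, mul_smul_comm]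
      have : -(2 : F)⁻¹ * 2 = -1 := by rw [neg_mul, inv_mul_cancel₀ h2]
      match_scalars
      · norm_num
      · linear_combination this
    rw [h2']
    nth_rewrite 1 [← h1]
    refine ⟨⁅s, ⟨_, lift_mem hu hua'⟩⁆, Subgroup.commutator_mem_commutator (Subgroup.mem_top _)
      (Subgroup.mem_top _), ?_⟩
    rfl
  -- split `v`
  set α := QuadraticMap.polar (⇑Q) f v with hα
  set w := v - α • u with hw
  have huw : QuadraticMap.polar (⇑Q) u w = 0 := by
    rw [hw, b_sub_right, b_smul_right, b_self_zero hu, h, mul_zero, sub_zero]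
  have hfw : QuadraticMap.polar (⇑Q) f w = 0 := by
    rw [hw, b_sub_right, b_smul_right, b_comm f u, huf, mul_one, sub_self]
  have hvw : lift u v hu h = lift u w hu huw := by
    refine Units.ext ?_
    show 1 + ı u * ı v = 1 + ı u * ı w
    rw [hw, map_sub, map_smul, mul_sub, mul_smul_comm, sq_smul, hu, zero_smul, smul_zero, sub_zero]
  rw [hvw]
  by_cases hQw : Q w = 0
  · -- a sum of two anisotropic vectors
    set W := orth Q (Submodule.span F ({u, f} : Set (ι → F))) with hW
    have hP : IsPlane Q u f := by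
      rw [IsPlane, b_self_zero hu, b_self_zero hf, huf, zero_mul, zero_sub, mul_one]
      exact neg_ne_zero.2 one_ne_zero
    have hd : 3 ≤ Module.finrank F W := by
      have h1 := finrank_orth hB (Submodule.span F ({u, f} : Set (ι → F)))
      have h3 := OmegaOdd.finrank_span_pair_le (F := F) u f
      rw [← hW] at h1
      omega
    obtain ⟨z, hz, hzw, hQz⟩ : ∃ z ∈ W, QuadraticMap.polar (⇑Q) w z = 0 ∧ Q z ≠ 0 := by
      by_contra hc
      push Not at hc
      set S := Submodule.span F ({u, f, w} : Set (ι → F))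
      have hsing : ∀ z ∈ orth Q S, Q z = 0 := fun z hz => hc z
        (mem_orth_span.2 fun q hq => mem_orth.1 hz q (Submodule.subset_span (by
          rcases hq with rfl | rfl <;> simp)))
        (mem_orth.1 hz w (Submodule.subset_span (by simp)))
      have hsub : orth Q S ≤ S := by
        have := le_orth_of_singular hsing
        rwa [orth_orth hB] at this
      have h1 := Submodule.finrank_mono (le_inf hsub le_rfl : orth Q S ≤ S ⊓ orth Q S)
      have h3 := finrank_orth hB S
      have h4 := finrank_rad_le hB hP (P := S) (Submodule.subset_span (by simp))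
        (Submodule.subset_span (by simp))
      have h5 : Module.finrank F S ≤ 3 := by
        classical
        have h := finrank_span_finset_le_card (R := F) ({u, f, w} : Finset (ι → F))
        have e : ((({u, f, w} : Finset (ι → F)) : Set (ι → F))) = {u, f, w} := by
          simp only [Finset.coe_insert, Finset.coe_singleton]
        rw [Set.finrank, e] at h
        exact h.trans Finset.card_le_three
      omega
    have huz : QuadraticMap.polar (⇑Q) u z = 0 := mem_orth.1 hz u (Submodule.subset_span (by simp))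
    have hfz : QuadraticMap.polar (⇑Q) f z = 0 := mem_orth.1 hz f (Submodule.subset_span (by simp))
    have h1 : QuadraticMap.polar (⇑Q) u (w - z) = 0 := by rw [b_sub_right, huw, huz, sub_zero]
    have hsplit : lift u w hu huw = lift u (w - z) hu h1 * lift u z hu huz := by
      rw [← hadd _ _ h1 huz (by rw [sub_add_cancel]; exact huw)]
      exact Units.ext (by show _ = 1 + ı u * ı (w - z + z); rw [sub_add_cancel]; rfl)
    rw [hsplit]
    refine mul_mem (haniso _ h1 (by rw [b_sub_right, hfw, hfz, sub_zero]) ?_ h1)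
      (haniso _ huz hfz hQz huz)
    rw [q_sub, hQw, hzw, zero_add, sub_zero]
    exact hQz
  · exact haniso w huw hfw hQw huw

theorem pair_mem {a b : ι → F} (hab : QuadraticMap.polar ⇑Q a b = 0) (h1 : Q a * Q b = 1) :
    ∃ s : spin Q, ((s : Clˣ) : Cl) = ı a * ı b := by
  classical
  have hQa : Q a ≠ 0 := fun e => by rw [e, zero_mul] at h1; exact zero_ne_one h1
  have hQb : Q b ≠ 0 := fun e => by rw [e, mul_zero] at h1; exact zero_ne_one h1
  -- a vector of opposite norm orthogonal to both
  obtain ⟨c, hc, hQc⟩ : ∃ c ∈ orth Q (Submodule.span F ({a, b} : Set (ι → F))), Q c = -Q a := by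
    refine univ_of_dim ?_ _ (neg_ne_zero.2 hQa)
    rw [orth_orth hB]
    have h3 := finrank_orth hB (Submodule.span F ({a, b} : Set (ι → F)))
    have h4 := finrank_rad_le hB (v := a) (u := b) (by
      rw [IsPlane, b_self, b_self, hab, mul_zero, sub_zero]
      exact mul_ne_zero (mul_ne_zero h2 hQa) (mul_ne_zero h2 hQb))
      (P := Submodule.span F ({a, b} : Set (ι → F))) (Submodule.subset_span (by simp))
      (Submodule.subset_span (by simp))
    have h5 := OmegaOdd.finrank_span_pair_le (F := F) a b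
    rw [inf_comm]
    omega
  have hac : QuadraticMap.polar (⇑Q) a c = 0 := mem_orth.1 hc a (Submodule.subset_span (by simp))
  have hbc : QuadraticMap.polar (⇑Q) b c = 0 := mem_orth.1 hc b (Submodule.subset_span (by simp))
  -- a hyperbolic pair `u`, `f` with `a = u + f / Q b`
  obtain ⟨u, hu'⟩ : ∃ u, u = (2 : F)⁻¹ • (a + c) := ⟨_, rfl⟩
  obtain ⟨f, hf'⟩ : ∃ f, f = (Q b * (2 : F)⁻¹) • (a - c) := ⟨_, rfl⟩
  have hu : Q u = 0 := by rw [hu', q_smul, q_add, hQc, hac]; ring
  have hf : Q f = 0 := by rw [hf', q_smul, q_sub, hQc, hac]; ring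
  have huf : QuadraticMap.polar (⇑Q) u f = 1 := by
    rw [hu', hf', b_smul_left, b_smul_right, b_add_left, b_sub_right, b_sub_right, b_self, b_self,
      hQc, b_comm c a, hac]
    have h22 : (2 : F)⁻¹ * 2 = 1 := inv_mul_cancel₀ h2
    linear_combination (Q a * Q b) * ((2 : F)⁻¹ * 2 + 1) * h22 + h1
  have hub : QuadraticMap.polar (⇑Q) u b = 0 := by
    rw [hu', b_smul_left, b_add_left, hab, b_comm c b, hbc, add_zero, mul_zero]
  have hfb : QuadraticMap.polar (⇑Q) f b = 0 := by
    rw [hf', b_smul_left, b_sub_left, hab, b_comm c b, hbc, sub_zero, mul_zero]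
  have hfb' : QuadraticMap.polar (⇑Q) f ((Q b)⁻¹ • b) = 0 := by rw [b_smul_right, hfb, mul_zero]
  set E := ı u * ı b with hE
  set G := ı f * ı ((Q b)⁻¹ • b) with hG
  refine ⟨⟨_, lift_mem hu hub⟩ * ⟨_, lift_mem hf hfb'⟩ * ⟨_, lift_mem hu hub⟩, ?_⟩
  show (1 + E) * (1 + G) * (1 + E) = ı a * ı b
  have hEE : E * E = 0 := nilp hu hub b
  have hEG : E * G = -(ı u * ı f) := by
    rw [hE, hG, map_smul, mul_smul_comm, mul_smul_comm, mul_assoc (ı u), ← mul_assoc (ı b) (ı f),
      anti (show QuadraticMap.polar (⇑Q) b f = 0 by rwa [b_comm]), neg_mul, mul_neg,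
      mul_assoc (ı f), sq_smul, mul_smul_comm, mul_one, mul_smul_comm, smul_neg, smul_smul,
      inv_mul_cancel₀ hQb, one_smul]
  have hGE : G * E = -(ı f * ı u) := by
    rw [hE, hG, map_smul, mul_smul_comm, smul_mul_assoc, mul_assoc (ı f), ← mul_assoc (ı b) (ı u),
      anti (show QuadraticMap.polar (⇑Q) b u = 0 by rwa [b_comm]), neg_mul, mul_neg,
      mul_assoc (ı u), sq_smul, mul_smul_comm, mul_one, mul_smul_comm, smul_neg, smul_smul,
      inv_mul_cancel₀ hQb, one_smul]
  have hsum : ı u * ı f + ı f * ı u = (1 : Cl) := by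
    rw [CliffordAlgebra.ι_mul_ι_add_swap, huf, map_one]
  have hEGE : E * G * E = -E := by
    rw [hEG, hE, neg_mul, ← mul_assoc, CliffordAlgebra.ι_mul_ι_mul_ι, huf, one_smul, hu, zero_smul,
      sub_zero]
  have expand : (1 + E) * (1 + G) * (1 + E) =
      1 + (E + E) + E * E + G + G * E + E * G + E * G * E := by
    simp only [mul_add, add_mul, mul_one, one_mul]
    abel
  have ha : ı a = ı u + (Q b)⁻¹ • ı f := by
    rw [← map_smul, ← map_add]
    congr 1
    rw [hu', hf', smul_smul, ← mul_assoc, inv_mul_cancel₀ hQb, one_mul]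
    have h22 : (2 : F)⁻¹ * 2 = 1 := inv_mul_cancel₀ h2
    match_scalars
    · linear_combination -h22
    · ring
  rw [expand, hEE, hEGE, hEG, hGE, ha, add_mul, smul_mul_assoc]
  rw [show G = (Q b)⁻¹ • (ı f * ı b) by rw [hG, map_smul, mul_smul_comm]]
  linear_combination (norm := abel) -hsum

/-- The element `-1`. -/
theorem exists_neg_one : ∃ m : spin Q, ((m : Clˣ) : Cl) = -1 := by
  classical
  obtain ⟨a, -, hQa⟩ := univ_of_dim (Q := Q) (R := ⊤) (by
    have hz : (⊤ : Submodule F (ι → F)) ⊓ orth Q ⊤ = ⊥ :=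
      (Submodule.eq_bot_iff _).2 fun x hx => hB x fun y => by
        rw [b_comm]; exact mem_orth.1 hx.2 y Submodule.mem_top
    rw [hz, finrank_bot, finrank_top]; omega) 1 one_ne_zero
  have haa : IsPlane Q a a → False := fun h => h (by ring)
  obtain ⟨b, hb, hQb⟩ : ∃ b ∈ orth Q (Submodule.span F {a}), Q b = 1 := by
    have haa' : QuadraticMap.polar (⇑Q) a a ≠ 0 := by rw [b_self, hQa]; exact mul_ne_zero h2 one_ne_zero
    have hr : NondegOn Q (Submodule.span F {a}) := by
      intro w hw h
      obtain ⟨r, rfl⟩ := Submodule.mem_span_singleton.1 hw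
      have := h a (Submodule.mem_span_singleton_self _)
      rw [b_smul_left] at this
      rw [(mul_eq_zero.1 this).resolve_right haa', zero_smul]
    refine univ_of_dim ?_ 1 one_ne_zero
    rw [(Submodule.eq_bot_iff _).2 fun x (hx : x ∈ orth Q (Submodule.span F {a}) ⊓
      orth Q (orth Q (Submodule.span F {a}))) => nondeg_inf (nondegOn_orth hB hr) hx.1 hx.2,
      finrank_bot]
    have h1 := finrank_orth hB (Submodule.span F {a})
    rw [finrank_span_singleton (ne_zero_of_b haa')] at h1
    omega
  have hab : QuadraticMap.polar (⇑Q) a b = 0 := mem_orth.1 hb a (Submodule.mem_span_singleton_self a)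
  obtain ⟨s, hs⟩ := pair_mem hB h2 hn hab (by rw [hQa, hQb, one_mul])
  refine ⟨s * s, ?_⟩
  show ((s : Clˣ) : Cl) * ((s : Clˣ) : Cl) = -1
  rw [hs, mul_assoc, ← mul_assoc (ı b), anti (show QuadraticMap.polar (⇑Q) b a = 0 by rwa [b_comm]),
    neg_mul, mul_neg, mul_assoc (ı a), sq_smul, hQb, one_smul, mul_one, sq_smul, hQa, one_smul]

end CfsgLib.Schur.Spin
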