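import Mathlib
import Cfsg.Prelude.Def_KGroupFacts
import Cfsg.Agent.Lib.Schur.Hopf
import Cfsg.Agent.Lib.Schur.Restriction

/-!
Multipliers of subgroups.
-/

set_option autoImplicit false
set_option linter.style.haveILetI false

namespace CfsgLib.Schur

universe u

/-- A quotient of a finite abelian group embeds in it. -/
theorem exists_injective_of_surjective {B C : Type*} [CommGroup B] [CommGroup C] [Finite B]
    (f : B →* C) (hf : Function.Surjective f) : ∃ g : C →* B, Function.Injective g := by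
  haveI : Finite C := Finite.of_surjective f hf
  haveI : NeZero (Monoid.exponent B) := ⟨Monoid.exponent_ne_zero_of_finite⟩
  haveI : NeZero (Monoid.exponent C) := ⟨Monoid.exponent_ne_zero_of_finite⟩
  obtain ⟨e⟩ := CommGroup.monoidHom_mulEquiv_of_hasEnoughRootsOfUnity B ℂ
  obtain ⟨e'⟩ := CommGroup.monoidHom_mulEquiv_of_hasEnoughRootsOfUnity C ℂ
  let d : (C →* ℂˣ) →* (B →* ℂˣ) :=
    { toFun := fun χ => χ.comp f
      map_one' := rfl
      map_mul' := fun _ _ => rfl }
  have hd : Function.Injective d := fun χ ψ h => MonoidHom.ext fun c => by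
    obtain ⟨b, rfl⟩ := hf c
    exact DFunLike.congr_fun h b
  exact ⟨(e.toMonoidHom.comp d).comp e'.symm.toMonoidHom,
    (e.injective.comp hd).comp e'.symm.injective⟩

theorem exists_cores_of_multipliers {G : Type u} [Group G] [Finite G] (U : Subgroup G)
    {A B : Type*} [CommGroup A] [CommGroup B] (hA : Cfsg.HasSchurMultiplier G A)
    (hB : Cfsg.HasSchurMultiplier U B) :
    ∃ (c : B →* A) (N : A →* B), Finite A ∧ Finite B ∧ ∀ a, c (N a) = a ^ U.index := by
  have hπ := std_surjective G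
  have hπU : Function.Surjective ((std G).subgroupComap U) :=
    MonoidHom.subgroupComap_surjective_of_surjective _ _ hπ
  haveI : (U.comap (std G)).FiniteIndex :=
    ⟨by rw [Subgroup.index_comap_of_surjective U hπ]; exact Subgroup.index_ne_zero_of_finite⟩
  haveI : Group.FG ↥(U.comap (std G)) := Subgroup.fg_of_index_ne_zero _
  obtain ⟨eA⟩ := mult_equiv hπ hA
  obtain ⟨eB⟩ := mult_equiv hπU hB
  obtain ⟨c, N, h⟩ := exists_cores hπ U
  refine ⟨(eA.symm.toMonoidHom.comp c).comp eB.toMonoidHom,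
    (eB.symm.toMonoidHom.comp N).comp eA.toMonoidHom, Finite.of_equiv _ eA.symm.toEquiv,
    Finite.of_equiv _ eB.symm.toEquiv, fun a => ?_⟩
  show eA.symm (c (eB (eB.symm (N (eA a))))) = _
  rw [eB.apply_symm_apply, h, ← map_pow, eA.symm_apply_apply]

theorem powers_embed {G : Type u} [Group G] [Finite G] (U : Subgroup G)
    {A B : Type*} [CommGroup A] [CommGroup B] (hA : Cfsg.HasSchurMultiplier G A)
    (hB : Cfsg.HasSchurMultiplier U B) :
    ∃ C : Subgroup B, Nonempty ((powMonoidHom U.index : A →* A).range ≃* C) := by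
  obtain ⟨c, N, _, _, h⟩ := exists_cores_of_multipliers U hA hB
  set R := (powMonoidHom U.index : A →* A).range
  obtain ⟨g, hg⟩ := exists_injective_of_surjective c.rangeRestrict c.rangeRestrict_surjective
  have hle : R ≤ c.range := by
    rintro _ ⟨a, rfl⟩
    exact ⟨N a, h a⟩
  exact ⟨_, ⟨MonoidHom.ofInjective (f := g.comp (Subgroup.inclusion hle))
    (hg.comp (Subgroup.inclusion_injective hle))⟩⟩

theorem primary_summand {G : Type u} [Group G] [Finite G] (p : ℕ) [hp : Fact p.Prime]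
    (U : Subgroup G) (hU : ¬ p ∣ U.index)
    {A B : Type*} [CommGroup A] [CommGroup B] (hA : Cfsg.HasSchurMultiplier G A)
    (hB : Cfsg.HasSchurMultiplier U B) :
    ∃ C D : Subgroup B, C ⊓ D = ⊥ ∧ C ⊔ D = ⊤ ∧
      Nonempty (CommGroup.primaryComponent A p ≃* C) := by
  obtain ⟨c, N, hfA, _, h⟩ := exists_cores_of_multipliers U hA hB
  haveI := hfA
  set T := CommGroup.primaryComponent A p
  have hTp : ∀ t ∈ T, ∀ k : ℕ, ¬ p ∣ k → t ^ k = 1 → t = 1 := by
    intro t ht k hk hk1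
    obtain ⟨j, hj⟩ := ht
    refine orderOf_eq_one_iff.mp ?_
    exact Nat.eq_one_of_dvd_coprimes ((hp.out.coprime_iff_not_dvd.mpr hk).pow_left j)
      (orderOf_dvd_of_pow_eq_one hj) (orderOf_dvd_of_pow_eq_one hk1)
  let D : Subgroup B :=
    { carrier := {b | ∃ r, ¬ p ∣ r ∧ c b ^ r = 1}
      one_mem' := ⟨1, hp.out.not_dvd_one, by simp⟩
      mul_mem' := fun {u v} ⟨r, hr, hr1⟩ ⟨r', hr', hr1'⟩ => ⟨r * r',
        fun hd => (hp.out.dvd_mul.mp hd).elim hr hr', by
          rw [map_mul, mul_pow, pow_mul, hr1, one_pow, one_mul, mul_comm r, pow_mul, hr1', one_pow]⟩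
      inv_mem' := fun {u} ⟨r, hr, hr1⟩ => ⟨r, hr, by rw [map_inv, inv_pow, hr1, inv_one]⟩ }
  set C := T.map N
  refine ⟨C, D, ?_, ?_, ?_⟩
  · rw [eq_bot_iff]
    rintro _ ⟨⟨t, ht, rfl⟩, r, hr, hr1⟩
    rw [h, ← pow_mul] at hr1
    rw [hTp t ht _ (fun hd => (hp.out.dvd_mul.mp hd).elim hU hr) hr1, map_one]
    exact one_mem _
  · rw [eq_top_iff]
    intro b _
    obtain ⟨a, r, hr, hord⟩ := Nat.exists_eq_pow_mul_and_not_dvd (orderOf_pos (c b)).ne' p
      hp.out.ne_one
    have hk : ¬ p ∣ U.index * r := fun hd => (hp.out.dvd_mul.mp hd).elim hU hr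
    have hco : IsCoprime ((U.index * r : ℕ) : ℤ) ((p ^ a : ℕ) : ℤ) :=
      Nat.isCoprime_iff_coprime.mpr ((hp.out.coprime_iff_not_dvd.mpr hk).symm.pow_right a)
    obtain ⟨x, y, hxy⟩ := hco
    set t := (c b ^ r) ^ x with ht
    have htT : t ∈ T := by
      refine T.zpow_mem ?_ x
      exact ⟨a, by rw [← pow_mul, mul_comm, ← hord, pow_orderOf_eq_one]⟩
    rw [← mul_inv_cancel_left (N t) b]
    refine Subgroup.mul_mem_sup (Subgroup.mem_map_of_mem N htT) ⟨r, hr, ?_⟩
    rw [map_mul, map_inv, h, mul_pow, inv_pow, ← pow_mul, ht]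
    -- `(t^k)^r = (c b)^r`
    have h1 : ((c b ^ r) ^ x) ^ (U.index * r) = c b ^ r := by
      rw [← zpow_natCast (_ ^ x) (U.index * r), ← zpow_mul,
        show x * ((U.index * r : ℕ) : ℤ) = 1 - y * ((p ^ a : ℕ) : ℤ) by linarith, zpow_sub,
        zpow_one, mul_comm y, zpow_mul, zpow_natCast, ← pow_mul (c b), mul_comm r, ← hord,
        pow_orderOf_eq_one, one_zpow, inv_one, mul_one]
    rw [h1, inv_mul_cancel]
  · refine ⟨MulEquiv.ofBijective ((N.comp T.subtype).codRestrict C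
      fun t => Subgroup.mem_map_of_mem N t.2) ⟨(injective_iff_map_eq_one _).mpr fun t ht => ?_, ?_⟩⟩
    · have h1 : N t = 1 := congrArg Subtype.val ht
      refine Subtype.ext (hTp t t.2 _ hU ?_)
      rw [← h, h1, map_one]
    · rintro ⟨_, t, ht, rfl⟩
      exact ⟨⟨t, ht⟩, rfl⟩

end CfsgLib.Schur
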