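import Mathlib

/-!
# Tables for a double cover of the Suzuki group over the field of order eight
-/

set_option autoImplicit false

namespace CfsgLib.Schur.SzEight

/-- A field element. -/
def e8 (n : ℕ) : Fin 8 := ⟨n % 8, Nat.mod_lt _ (by norm_num)⟩

/-- Multiplication of the eight field elements, coded by the bits of polynomials. -/
def mulTab (a b : Fin 8) : Fin 8 := e8 (2821848294356612419217921029917578219971947684264937521152 >>> (3 * (8 * a.val + b.val)))

/-- Addition of the eight field elements. -/
def addTab (a b : Fin 8) : Fin 8 := e8 (128103731026666216992906866963913124190149483821082003080 >>> (3 * (8 * a.val + b.val)))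

/-- Inverses in the field. -/
def invTab (a : Fin 8) : Fin 8 := e8 (9272648 >>> (3 * a.val))

/-- The linear functional. -/
def lTab (a : Fin 8) : Bool := Nat.testBit 240 a.val

/-- The signs of the translations. -/
def sTab (a k : Fin 8) : Bool := Nat.testBit 4902890041765931008 (8 * a.val + k.val)

/-- The matrix over the inversion. -/
def wTab : Matrix (Fin 8) (Fin 8) (ZMod 5) := fun i j =>
  (((1182234088162121995194389949333212253311725396479040590410 >>> (3 * (8 * i.val + j.val))) % 8 : ℕ) : ZMod 5)

/-- The packed data of a rule. -/
def ruleCode (a b : Fin 8) : ℕ :=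
  5688176314518262890926883958818115627553368553779078677873657789017138199649192568871097672014588166061176355424321187744909514880430042598375961640978578233022212726097915281700865241379059549762500778411045301285501613109659522058269573182316278695515443041509599334279203837124391731200 >>> (15 * (8 * a.val + b.val))

/-- For a nontrivial translation `u`, the data `p, n, q` with `w u w = p t^n w q`. -/
def ruleTab (a b : Fin 8) : (Fin 8 × Fin 8) × Fin 7 × (Fin 8 × Fin 8) :=
  ((e8 (ruleCode a b >>> 3), e8 (ruleCode a b)),
    ⟨(ruleCode a b >>> 12) % 8 % 7, Nat.mod_lt _ (by norm_num)⟩,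
    (e8 (ruleCode a b >>> 9), e8 (ruleCode a b >>> 6)))

end CfsgLib.Schur.SzEight
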