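import Mathlib
import Cfsg.Agent.Lib.OrderType.Basic

/-!
Finite checks for the homomorphism from `SL(2, 7)` onto `SL(3, 2)`.
-/

set_option autoImplicit false
set_option maxRecDepth 100000

open scoped commutatorElement

namespace CfsgLib.Schur.Cover168

open CfsgLib.OrderType

/-- image of the upper transvection -/
def bu : B33 := ⟨false, true, true, true, true, false, true, false, false⟩
/-- image of the lower transvection -/
def bl : B33 := ⟨false, true, false, true, false, true, true, false, false⟩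

/-- the exponents of `g = U ^ x * L ^ c * U ^ z * L ^ w` -/
def expo (a b c d : ℕ) : ℕ × ℕ × ℕ × ℕ :=
  if c % 7 = 0 then
    (((a + b) % 7 + 6) * d ^ 5 % 7, d % 7, (d + 6) * d ^ 5 % 7, 6)
  else ((a + 6) * c ^ 5 % 7, c % 7, (d + 6) * c ^ 5 % 7, 0)

/-- the image in bits -/
def fB (a b c d : ℕ) : B33 :=
  let e := expo a b c d
  (((bu.pow e.1).mul (bl.pow e.2.1)).mul (bu.pow e.2.2.1)).mul (bl.pow e.2.2.2)

theorem step : ∀ a b c d : Fin 7, ((a : ℕ) * d + 6 * (b * c)) % 7 = 1 →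
    fB a ((a + b) % 7) c ((c + d) % 7) = (fB a b c d).mul bu ∧
      fB ((a + b) % 7) b ((c + d) % 7) d = (fB a b c d).mul bl ∧
      (let e := expo a b c d
       (1 + e.1 * e.2.1 + (e.2.2.1 + e.1 * (e.2.1 * e.2.2.1 + 1)) * e.2.2.2) % 7 = a ∧
       (e.2.2.1 + e.1 * (e.2.1 * e.2.2.1 + 1)) % 7 = b ∧
       (e.2.1 + (e.2.1 * e.2.2.1 + 1) * e.2.2.2) % 7 = c ∧
       (e.2.1 * e.2.2.1 + 1) % 7 = d) := by
  decide +kernel

theorem kernel_cases : ∀ a b c d : Fin 7, ((a : ℕ) * d + 6 * (b * c)) % 7 = 1 →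
    fB a b c d = B33.one → (a = 1 ∧ b = 0 ∧ c = 0 ∧ d = 1) ∨ (a = 6 ∧ b = 0 ∧ c = 0 ∧ d = 6) := by
  decide +kernel

theorem values : fB 1 0 0 1 = B33.one ∧ fB 1 1 0 1 = bu ∧ fB 1 0 1 1 = bl ∧ fB 6 0 0 6 = B33.one ∧
    bu.det = true ∧ bl.det = true := by
  decide +kernel

theorem onto : ∀ a b c e f g h i j : Bool,
    (⟨a, b, c, e, f, g, h, i, j⟩ : B33).det = true →
      ∃ p q r s : Fin 7, ((p : ℕ) * s + 6 * (q * r)) % 7 = 1 ∧
        fB p q r s = ⟨a, b, c, e, f, g, h, i, j⟩ := by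
  decide +kernel

end CfsgLib.Schur.Cover168
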