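import Mathlib
import Cfsg.Prelude.Def_KGroupFacts
import Cfsg.Agent.Lib.Schur.Hopf
import Cfsg.Agent.Lib.Schur.Cover

/-!
Uniqueness of Schur covers over the group.
-/

set_option autoImplicit false
set_option linter.style.haveILetI false
set_option linter.unusedSectionVars false

open scoped commutatorElement

namespace CfsgLib.Schur

variable {F Q : Type*} [Group F] [Group Q]

theorem proj_pow_card_ab_mem [Finite Q] {π : F →* Q} (hπ : Function.Surjective π) (x : Ext π) :
    x ^ Nat.card (Abelianization Q) ∈ (proj π).ker ⊔ commutator (Ext π) := by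
  have h1 : (proj π x) ^ Nat.card (Abelianization Q) ∈ commutator Q := by
    rw [← Abelianization.ker_of, MonoidHom.mem_ker, map_pow]
    exact pow_card_eq_one'
  rw [← map_pow, show commutator Q = (commutator (Ext π)).map (proj π) by
    rw [commutator_def, commutator_def, Subgroup.map_commutator,
      Subgroup.map_top_of_surjective _ (proj_surjective hπ)], ← Subgroup.mem_comap,
    Subgroup.comap_map_eq, sup_comm] at h1
  exact h1

theorem cover_unique_of_coprime [Finite Q] [IsFreeGroup F] {π : F →* Q}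
    (hπ : Function.Surjective π) {Γ₁ Γ₂ : Type*} [Group Γ₁] [Finite Γ₁] [Group Γ₂] [Finite Γ₂]
    {σ₁ : Γ₁ →* Q} {σ₂ : Γ₂ →* Q} (h₁ : Cfsg.IsStemExtension σ₁) (h₂ : Cfsg.IsStemExtension σ₂)
    (hk₁ : Nat.card (mult π) = Nat.card σ₁.ker) (hk₂ : Nat.card (mult π) = Nat.card σ₂.ker)
    (hcop : Nat.Coprime (Nat.card (Abelianization Q)) (Nat.card σ₂.ker)) :
    ∃ e : Γ₁ ≃* Γ₂, σ₂.comp e.toMonoidHom = σ₁ := by
  set k := Nat.card (Abelianization Q)
  letI : CommGroup σ₂.ker :=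
    { (inferInstance : Group σ₂.ker) with
      mul_comm := fun a b => Subtype.ext (Subgroup.mem_center_iff.mp (h₂.2.1 b.2) a) }
  obtain ⟨φ₁, hφ₁, hs₁, hle₁, hinf₁, hsup₁⟩ := cover_data hπ h₁ hk₁.le
  obtain ⟨φ₂, hφ₂, hs₂, -, -, -⟩ := cover_data hπ h₂ hk₂.le
  set S := φ₁.ker with hS
  let a : S →* Abelianization (Ext π) := Abelianization.of.comp S.subtype
  have hinj : Function.Injective a := (injective_iff_map_eq_one a).mpr fun s hs => by
    have h1 : (s : Ext π) ∈ commutator (Ext π) := by rw [← Abelianization.ker_of]; exact hs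
    exact Subtype.ext (Subgroup.mem_bot.mp (hinf₁ ▸ ⟨s.2, hle₁ s.2, h1⟩))
  let b : Ext π →* Abelianization (Ext π) := (powMonoidHom k).comp Abelianization.of
  have hb : ∀ x, b x ∈ a.range := fun x => by
    have hx := proj_pow_card_ab_mem hπ x
    have hle : (proj π).ker ⊔ commutator (Ext π) ≤ S ⊔ commutator (Ext π) :=
      sup_le (hsup₁.trans (sup_le_sup_left (mult_le_commutator π) S)) le_sup_right
    obtain ⟨s, hs, c, hc, e⟩ := Subgroup.mem_sup_of_normal_left.mp (hle hx)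
    refine ⟨⟨s, hs⟩, ?_⟩
    show Abelianization.of s = (Abelianization.of x) ^ k
    rw [← map_pow, ← e, map_mul, show Abelianization.of c = 1 by
      rw [← MonoidHom.mem_ker, Abelianization.ker_of]; exact hc, mul_one]
  let t : Ext π →* S := (MonoidHom.ofInjective hinj).symm.toMonoidHom.comp (b.codRestrict a.range hb)
  have ht : ∀ s : S, t s = s ^ k := fun s => by
    refine hinj ?_
    have h1 : a (t s) = b s := congrArg Subtype.val
      ((MonoidHom.ofInjective hinj).apply_symm_apply ⟨b s, hb s⟩)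
    rw [h1, map_pow]
    rfl
  have hφS : ∀ s : S, φ₂ s ∈ σ₂.ker := fun s => by
    rw [MonoidHom.mem_ker, ← MonoidHom.comp_apply, hφ₂]; exact hle₁ s.2
  let g : S →* σ₂.ker := (φ₂.comp S.subtype).codRestrict σ₂.ker hφS
  set j := Nat.gcdA k (Nat.card σ₂.ker) with hj
  have hkj : ∀ u : σ₂.ker, (u ^ k) ^ j = u := fun u => by
    have hb' := Nat.gcd_eq_gcd_ab k (Nat.card σ₂.ker)
    rw [Nat.Coprime.gcd_eq_one hcop, ← hj] at hb'
    rw [← zpow_natCast u k, ← zpow_mul,
      show ((k : ℤ) * j) = 1 + (Nat.card σ₂.ker : ℤ) * (-Nat.gcdB k (Nat.card σ₂.ker)) by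
        push_cast at hb'; linarith,
      zpow_add, zpow_one, zpow_mul, zpow_natCast, pow_card_eq_one', one_zpow, mul_one]
  let m : Ext π →* σ₂.ker := (zpowGroupHom (-j)).comp (g.comp t)
  have hm : ∀ s : S, (m s : Γ₂) = (φ₂ s)⁻¹ := fun s => by
    show (((g (t s)) ^ (-j) : σ₂.ker) : Γ₂) = _
    rw [ht, map_pow, zpow_neg, hkj]
    rfl
  let Φ : Ext π →* Γ₂ :=
    { toFun := fun x => φ₂ x * m x
      map_one' := by simp
      map_mul' := fun x y => by
        rw [map_mul, map_mul, Subgroup.coe_mul, mul_assoc, ← mul_assoc (φ₂ y),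
          Subgroup.mem_center_iff.mp (h₂.2.1 (m x).2) (φ₂ y), mul_assoc, ← mul_assoc (φ₂ x)] }
  have hΦ : σ₂.comp Φ = proj π := MonoidHom.ext fun x => by
    show σ₂ (φ₂ x * m x) = _
    rw [map_mul, MonoidHom.mem_ker.mp (m x).2, mul_one, ← hφ₂]; rfl
  have hΦS : φ₁.ker ≤ Φ.ker := fun s hs => by
    rw [MonoidHom.mem_ker]
    show φ₂ s * m s = 1
    rw [hm ⟨s, hs⟩, mul_inv_cancel]
  let f : Γ₁ →* Γ₂ := φ₁.liftOfSurjective hs₁ ⟨Φ, hΦS⟩
  have hf : ∀ x, f (φ₁ x) = Φ x := fun x => MonoidHom.liftOfRightInverse_comp_apply _ _ _ _ x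
  have hfs : Function.Surjective f := fun y => by
    obtain ⟨x, rfl⟩ := (lift_onto (proj_surjective hπ) h₂ hΦ).1 y
    exact ⟨φ₁ x, hf x⟩
  have hcard : Nat.card Γ₁ ≤ Nat.card Γ₂ := by
    rw [← σ₁.ker.card_mul_index, ← σ₂.ker.card_mul_index, Subgroup.index_ker, Subgroup.index_ker,
      MonoidHom.range_eq_top.mpr h₁.1, MonoidHom.range_eq_top.mpr h₂.1, ← hk₁, ← hk₂]
  refine ⟨MulEquiv.ofBijective f (hfs.bijective_of_nat_card_le hcard), MonoidHom.ext fun y => ?_⟩
  obtain ⟨x, rfl⟩ := hs₁ y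
  show σ₂ (f (φ₁ x)) = σ₁ (φ₁ x)
  rw [hf, ← MonoidHom.comp_apply, hΦ, ← hφ₁]
  rfl

theorem coprime_of_cover_unique {Q : Type*} [Group Q] [Finite Q] [IsFreeGroup F] [Group.FG F]
    {π : F →* Q} (hπ : Function.Surjective π)
    (huniq : ∀ (S₁ S₂ : Subgroup (Ext π)) [S₁.Normal] [S₂.Normal] (h₁ : S₁ ≤ (proj π).ker)
      (h₂ : S₂ ≤ (proj π).ker), S₁ ⊓ mult π = ⊥ → S₂ ⊓ mult π = ⊥ →
      (proj π).ker ≤ S₁ ⊔ mult π → (proj π).ker ≤ S₂ ⊔ mult π →
      ∃ e : Ext π ⧸ S₁ ≃* Ext π ⧸ S₂,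
        (QuotientGroup.lift S₂ (proj π) h₂).comp e.toMonoidHom =
          QuotientGroup.lift S₁ (proj π) h₁) :
    Nat.Coprime (Nat.card (Abelianization Q)) (Nat.card (mult π)) := by
  by_contra hnc
  obtain ⟨q, hq, hqa, hqm⟩ := Nat.Prime.not_coprime_iff_dvd.mp hnc
  haveI := Fact.mk hq
  obtain ⟨z, hz⟩ : ∃ z : mult π, ∀ w, w ^ q ≠ z := by
    by_contra hall
    push Not at hall
    obtain ⟨u, hu⟩ := exists_prime_orderOf_dvd_card' q hqm
    have hinj := Finite.injective_iff_surjective.mpr (hall : Function.Surjective (powMonoidHom q))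
    have : u = 1 := hinj (a₁ := u) (a₂ := 1) (by simp [← hu, pow_orderOf_eq_one])
    rw [this, orderOf_one] at hu
    exact hq.ne_one hu.symm
  obtain ⟨S, hS, hinf, hsup, -⟩ := exists_complement π hπ (1 : (proj π).ker →* Q)
    fun x => ⟨1, one_mem _, rfl⟩
  haveI := normal_of_le_center (hS.trans (ker_proj_le_center π))
  obtain ⟨-, hfin, -, -⟩ := exists_cover π hπ S hS hinf hsup
  haveI := hfin
  haveI : S.FiniteIndex := Subgroup.finiteIndex_of_finite_quotient
  haveI : Group.FG (Ext π) := Group.fg_of_surjective (QuotientGroup.mk'_surjective (rel π))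
  letI : CommGroup S :=
    { (inferInstance : Group S) with
      mul_comm := fun a b => Subtype.ext
        (Subgroup.mem_center_iff.mp (ker_proj_le_center π (hS b.2)) a) }
  haveI : AddGroup.FG (Additive S) := GroupFG.iff_add_fg.mp inferInstance
  haveI : Module.Finite ℤ (Additive S) := Module.Finite.iff_addGroup_fg.mpr inferInstance
  have hSE : ∀ t : Ext π, t ∈ S → t ∈ commutator (Ext π) → t = 1 := fun t ht htc =>
    Subgroup.mem_bot.mp (hinf ▸ ⟨ht, hS ht, htc⟩)
  haveI : Module.IsTorsionFree ℤ (Additive S) := by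
    rw [Module.isTorsionFree_iff_smul_eq_zero]
    intro r v hv
    by_cases hr : r = 0
    · exact Or.inl hr
    refine Or.inr (Additive.toMul.injective (Subtype.ext (hSE _ v.toMul.2 ?_)))
    refine ext_torsion_free π _ r.natAbs (Int.natAbs_ne_zero.mpr hr) ?_
    have h1 : v.toMul ^ r = 1 := by rw [← toMul_zsmul, hv]; rfl
    have h2 : v.toMul ^ r.natAbs = 1 := by
      rcases Int.natAbs_eq r with e | e
      · rw [e, zpow_natCast] at h1; exact h1
      · rw [e, zpow_neg, zpow_natCast, inv_eq_one] at h1; exact h1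
    rw [← Subgroup.coe_pow, h2]
    exact one_mem _
  haveI : Module.Free ℤ (Additive S) := Module.free_of_finite_type_torsion_free'
  let b := Module.Free.chooseBasis ℤ (Additive S)
  obtain ⟨xb, hxb⟩ := exists_prime_orderOf_dvd_card' q hqa
  obtain ⟨q0, rfl⟩ : ∃ q0, Abelianization.of q0 = xb := Quotient.exists_rep xb
  obtain ⟨x, rfl⟩ := proj_surjective hπ q0
  have hxq : x ^ q ∈ S ⊔ commutator (Ext π) := by
    have h1 : (proj π x) ^ q ∈ commutator Q := by
      rw [← Abelianization.ker_of, MonoidHom.mem_ker, map_pow, ← hxb, pow_orderOf_eq_one]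
    rw [← map_pow, show commutator Q = (commutator (Ext π)).map (proj π) by
      rw [commutator_def, commutator_def, Subgroup.map_commutator,
        Subgroup.map_top_of_surjective _ (proj_surjective hπ)], ← Subgroup.mem_comap,
      Subgroup.comap_map_eq] at h1
    exact (sup_le le_sup_right (hsup.trans (sup_le_sup_left (mult_le_commutator π) S))) h1
  have hxn : x ∉ S ⊔ commutator (Ext π) := fun hx => by
    have h1 : proj π x ∈ (S ⊔ commutator (Ext π)).map (proj π) := Subgroup.mem_map_of_mem _ hx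
    rw [Subgroup.map_sup, (Subgroup.map_eq_bot_iff _).mpr hS, bot_sup_eq, commutator_def,
      Subgroup.map_commutator, Subgroup.map_top_of_surjective _ (proj_surjective hπ),
      ← commutator_def, ← Abelianization.ker_of, MonoidHom.mem_ker] at h1
    rw [h1, orderOf_one] at hxb
    exact hq.ne_one hxb.symm
  obtain ⟨s, hs, c, hc, hsc⟩ := Subgroup.mem_sup_of_normal_left.mp hxq
  obtain ⟨i, hi⟩ : ∃ i, ¬ (q : ℤ) ∣ b.repr (Additive.ofMul ⟨s, hs⟩) i := by
    by_contra hall
    push Not at hall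
    choose d hd using hall
    refine hxn ?_
    let v : Additive S := ∑ i, d i • b i
    have hv : (q : ℤ) • v = Additive.ofMul ⟨s, hs⟩ := by
      rw [Finset.smul_sum]
      conv_rhs => rw [← b.sum_repr (Additive.ofMul ⟨s, hs⟩)]
      exact Finset.sum_congr rfl fun i _ => by rw [smul_smul, ← hd]
    let u : Ext π := (v.toMul : S).1
    have hsu : u ^ q = s := by
      have h2 := congrArg (fun w : Additive S => ((w.toMul : S) : Ext π)) hv
      simpa [natCast_zsmul] using h2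
    have h3 : (x * u⁻¹) ∈ commutator (Ext π) := by
      refine ext_torsion_free π _ q hq.ne_zero ?_
      have hcomm : Commute x u⁻¹ := Subgroup.mem_center_iff.mp
        (inv_mem (ker_proj_le_center π (hS v.toMul.2))) x
      rw [hcomm.mul_pow, inv_pow, hsu, ← hsc,
        Subgroup.mem_center_iff.mp (inv_mem (ker_proj_le_center π (hS hs))) (s * c)]
      simpa using hc
    rw [← inv_mul_cancel_right x u, sup_comm]
    exact Subgroup.mul_mem_sup h3 v.toMul.2
  classical
  let hl : Additive S →ₗ[ℤ] Additive (mult π) :=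
    b.constr ℤ fun i' => if i' = i then Additive.ofMul z else 0
  let h : S →* mult π :=
    { toFun := fun w => (hl (Additive.ofMul w)).toMul
      map_one' := by rw [ofMul_one, map_zero]; rfl
      map_mul' := fun v w => by rw [ofMul_mul, map_add]; rfl }
  have hhs : h ⟨s, hs⟩ = z ^ b.repr (Additive.ofMul ⟨s, hs⟩) i := by
    show (hl (Additive.ofMul ⟨s, hs⟩)).toMul = _
    simp only [hl, Module.Basis.constr_apply_fintype, Module.Basis.equivFun_apply, smul_ite,
      smul_zero, Finset.sum_ite_eq', Finset.mem_univ, if_true]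
    rfl
  let tw : S →* Ext π :=
    { toFun := fun w => (w : Ext π) * h w
      map_one' := by simp
      map_mul' := fun v w => by
        rw [map_mul, Subgroup.coe_mul, Subgroup.coe_mul, mul_assoc, ← mul_assoc (w : Ext π),
          Subgroup.mem_center_iff.mp (mult_le_center π (h v).2) (w : Ext π), mul_assoc,
          ← mul_assoc (v : Ext π)] }
  set S₂ := tw.range
  have hS₂ : S₂ ≤ (proj π).ker := by
    rintro _ ⟨w, rfl⟩
    exact mul_mem (hS w.2) (mult_le_ker π (h w).2)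
  have hinf₂ : S₂ ⊓ mult π = ⊥ := by
    rw [eq_bot_iff]
    rintro _ ⟨⟨w, rfl⟩, hw⟩
    have h1 : (w : Ext π) ∈ mult π := (Subgroup.mul_mem_cancel_right _ (h w).2).mp hw
    have h2 : w = 1 := Subtype.ext (Subgroup.mem_bot.mp (hinf ▸ ⟨w.2, h1⟩))
    rw [h2, map_one]
    exact one_mem _
  have hsup₂ : (proj π).ker ≤ S₂ ⊔ mult π := by
    refine hsup.trans (sup_le (fun w hw => ?_) le_sup_right)
    rw [← mul_inv_cancel_right w (h ⟨w, hw⟩ : Ext π)]
    exact Subgroup.mul_mem_sup ⟨⟨w, hw⟩, rfl⟩ (inv_mem (h ⟨w, hw⟩).2)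
  haveI := normal_of_le_center (hS₂.trans (ker_proj_le_center π))
  obtain ⟨e, he⟩ := huniq S S₂ hS hS₂ hinf hinf₂ hsup hsup₂
  set σ₂ := QuotientGroup.lift S₂ (proj π) hS₂
  obtain ⟨hst₂, -, e₂, he₂⟩ := exists_cover π hπ S₂ hS₂ hinf₂ hsup₂
  let f₁ : Ext π →* Ext π ⧸ S₂ := e.toMonoidHom.comp (QuotientGroup.mk' S)
  let f₂ : Ext π →* Ext π ⧸ S₂ := QuotientGroup.mk' S₂
  have hd : ∀ y, (f₂ y)⁻¹ * f₁ y ∈ σ₂.ker := fun y => by
    rw [MonoidHom.mem_ker, map_mul, map_inv]
    have h1 : σ₂ (f₁ y) = proj π y := DFunLike.congr_fun he (QuotientGroup.mk' S y)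
    rw [h1, show σ₂ (f₂ y) = proj π y from rfl, inv_mul_cancel]
  let D : Ext π →* σ₂.ker :=
    { toFun := fun y => ⟨(f₂ y)⁻¹ * f₁ y, hd y⟩
      map_one' := Subtype.ext (by simp)
      map_mul' := fun y w => Subtype.ext (by
        show (f₂ (y * w))⁻¹ * f₁ (y * w) = (f₂ y)⁻¹ * f₁ y * ((f₂ w)⁻¹ * f₁ w)
        rw [map_mul, map_mul, mul_inv_rev, mul_assoc, ← mul_assoc (f₂ y)⁻¹, ← mul_assoc (f₂ w)⁻¹,
          Subgroup.mem_center_iff.mp (hst₂.2.1 (hd y)) (f₂ w)⁻¹, mul_assoc]) }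
  have hDc : D c = 1 := by
    have h1 : f₂ c = f₁ c := eq_on_commutator σ₂ hst₂.2.1 f₂ f₁ (fun y => by
      have := hd y
      rwa [MonoidHom.mem_ker, map_mul, map_inv, inv_mul_eq_one] at this) hc
    exact Subtype.ext (by show (f₂ c)⁻¹ * f₁ c = 1; rw [h1, inv_mul_cancel])
  have hDs : D s = e₂ (h ⟨s, hs⟩) := Subtype.ext (by
    show (f₂ s)⁻¹ * f₁ s = _
    rw [show f₁ s = 1 by
      show e (QuotientGroup.mk' S s) = 1
      rw [show QuotientGroup.mk' S s = 1 from (QuotientGroup.eq_one_iff s).mpr hs, map_one],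
      mul_one, he₂, inv_eq_iff_mul_eq_one, ← map_mul]
    exact (QuotientGroup.eq_one_iff _).mpr ⟨⟨s, hs⟩, rfl⟩)
  have key : (e₂.symm (D x)) ^ q = z ^ b.repr (Additive.ofMul ⟨s, hs⟩) i := by
    rw [← map_pow, ← map_pow, ← hsc, map_mul, hDc, mul_one, hDs, e₂.symm_apply_apply, hhs]
  set r := b.repr (Additive.ofMul ⟨s, hs⟩) i
  obtain ⟨u, v, huv⟩ : ∃ u v : ℤ, u * r + v * q = 1 := by
    have hco : IsCoprime r (q : ℤ) :=
      ((Nat.prime_iff_prime_int.mp hq).irreducible.coprime_iff_not_dvd.mpr hi).symm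
    exact hco
  refine hz ((e₂.symm (D x)) ^ u * z ^ v) ?_
  rw [mul_pow, ← zpow_natCast (_ ^ u), ← zpow_mul, mul_comm u, zpow_mul, zpow_natCast, key,
    ← zpow_mul, ← zpow_natCast (_ ^ v), ← zpow_mul, ← zpow_add, mul_comm r u, huv, zpow_one]

end CfsgLib.Schur
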