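import Cfsg.Agent.Lib.MinIndexSU.Orbit

/-!
Orthonormal configurations in a Hermitian space over a finite field: unit vectors orthogonal to
given vectors, transitivity, and detours between unit vectors.
-/

set_option autoImplicit false
set_option linter.unusedSectionVars false

namespace CfsgLib.Schur.UnitaryGeom

open Matrix Cfsg CfsgLib.Classical.Herm
open CfsgLib.ClassicalAut (Unitary.Conj Unitary.space Unitary.herm_apply)

variable {F : Type*} [Field F] [Finite F] {q n : ℕ} (K : Unitary.Conj F q)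

local notation "H" => hermForm n F q
local notation "V" => (Fin n → F)

/-- Orthonormal families. -/
def ON {k : ℕ} (f : Fin k → Fin n → F) : Prop :=
  ∀ i j, hermForm n F q (f i) (f j) = if i = j then 1 else 0

include K

theorem indep {k : ℕ} {f : Fin k → V} (hf : ON (q := q) f) : LinearIndependent F f := by
  classical
  rw [Fintype.linearIndependent_iff]
  intro g hg i
  have h := congrArg (fun x => H x (f i)) hg
  simp only [h_zero_left K, ← CfsgLib.Classical.IsoProd.hermSesq_apply K n, map_sum, map_smulₛₗ,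
    LinearMap.coe_sum, Finset.sum_apply, LinearMap.smul_apply] at h
  simp only [CfsgLib.Classical.IsoProd.hermSesq_apply, hf _ _] at h
  simpa using h

/-- A unit vector orthogonal to all of `f`, when the span contains `d` orthonormal vectors and
`2 r < n + d`. -/
theorem exists_orth_unit {r d : ℕ} (f : Fin r → V) {g : Fin d → V} (hg : ON (q := q) g)
    (hgf : ∀ i, g i ∈ Submodule.span F (Set.range f)) (hn : 2 * r < n + d) :
    ∃ z : V, H z z = 1 ∧ ∀ i, H z (f i) = 0 := by
  classical
  set S := Submodule.span F (Set.range f) with hS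
  set P := orth K S with hP
  have hPd : n ≤ Module.finrank F P + r := by
    have h : Module.finrank F (⊤ : Submodule F V) ≤
        Module.finrank F ((⊤ : Submodule F V) ⊓ P : Submodule F V) + r :=
      finrank_inf_orth_le K ⊤ r f
    rwa [finrank_top, Module.finrank_fin_fun, top_inf_eq] at h
  have hperp : ∀ z ∈ P, ∀ i, H z (f i) = 0 := fun z hz i =>
    h_eq_zero_symm K (hz _ (Submodule.subset_span ⟨i, rfl⟩))
  obtain ⟨z, hzP, hz⟩ : ∃ z ∈ P, H z z ≠ 0 := by
    by_contra hc
    push Not at hc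
    have h := CfsgLib.MinIndexSU.finrank_le_of_isotropic K P S hc
      fun x hx y hy => h_eq_zero_symm K (hx y hy)
    set G := Submodule.span F (Set.range g)
    have hGd : Module.finrank F G = d := by
      rw [finrank_span_eq_card (indep K hg), Fintype.card_fin]
    have hPG : P ⊓ G = ⊥ := by
      refine (Submodule.eq_bot_iff _).2 fun x hx => ?_
      obtain ⟨hxP, hxG⟩ := Submodule.mem_inf.1 hx
      obtain ⟨c, rfl⟩ := (Submodule.mem_span_range_iff_exists_fun F).1 hxG
      have hcz : ∀ i, c i = 0 := fun i => by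
        have h0 := h_eq_zero_symm K (hxP (g i) (hgf i))
        simp only [← CfsgLib.Classical.IsoProd.hermSesq_apply K n, map_sum, map_smulₛₗ,
          LinearMap.coe_sum, Finset.sum_apply, LinearMap.smul_apply] at h0
        simp only [CfsgLib.Classical.IsoProd.hermSesq_apply, hg _ _] at h0
        simpa using h0
      simp [hcz]
    have h2 := Submodule.finrank_sup_add_finrank_inf_eq P G
    rw [hPG, finrank_bot, add_zero, hGd] at h2
    have h3 : Module.finrank F (P ⊔ G : Submodule F V) ≤ Module.finrank F (P ⊔ S : Submodule F V) :=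
      Submodule.finrank_mono (sup_le_sup_left (Submodule.span_le.2 (by
        rintro _ ⟨i, rfl⟩; exact hgf i)) P)
    omega
  obtain ⟨c, hc⟩ := K.exists_norm (H z z)⁻¹ (by rw [map_inv₀, bar_self K])
  refine ⟨c • z, ?_, fun i => by rw [h_smul_left K, hperp z hzP i, mul_zero]⟩
  rw [h_smul_left K, h_smul_right K, ← mul_assoc, hc, inv_mul_cancel₀ hz]

/-- `SU_n` moves one orthonormal family to another if a unit vector is left over. -/
theorem exists_move {k : ℕ} {f f' : Fin k → V} (hf : ON (q := q) f) (hf' : ON (q := q) f')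
    (hk : k < n) : ∃ g : SU n F q, ∀ i, app g (f i) = f' i := by
  obtain ⟨z, hz, hzf⟩ := exists_orth_unit K f' hf' (fun i => Submodule.subset_span ⟨i, rfl⟩) (by omega)
  exact CfsgLib.MinIndexSU.exists_SU_move K f f' (indep K hf) (indep K hf')
    (fun i j => by rw [hf i j, hf' i j]) (z := z) (by rw [hz]; exact one_ne_zero) hzf

theorem on_one {v : V} (hv : H v v = 1) : ON (q := q) ![v] := fun i j => by
  fin_cases i; fin_cases j; simpa using hv

theorem on_two {v u : V} (hv : H v v = 1) (hu : H u u = 1) (h : H v u = 0) :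
    ON (q := q) ![v, u] := fun i j => by
  have h' : H u v = 0 := h_eq_zero_symm K h
  fin_cases i <;> fin_cases j <;> simp [hv, hu, h, h']

theorem on_three {v u w : V} (hv : H v v = 1) (hu : H u u = 1) (hw : H w w = 1) (h1 : H v u = 0)
    (h2 : H v w = 0) (h3 : H u w = 0) : ON (q := q) ![v, u, w] := fun i j => by
  have h1' : H u v = 0 := h_eq_zero_symm K h1
  have h2' : H w v = 0 := h_eq_zero_symm K h2
  have h3' : H w u = 0 := h_eq_zero_symm K h3
  fin_cases i <;> fin_cases j <;> simp [hv, hu, hw, h1, h2, h3, h1', h2', h3']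

/-- For `q ≥ 3` some pair of norms adding to one spoils a given pair of unit coefficients. -/
theorem exists_comb (hq : 3 ≤ q) {a b : F} (ha : a * K.bar a = 1) (hb : b * K.bar b = 1) :
    ∃ x y : F, x * K.bar x + y * K.bar y = 1 ∧
      (x * a + y * b) * K.bar (x * a + y * b) ≠ 1 := by
  classical
  obtain ⟨s, hs, hs0, hs1⟩ : ∃ s : F, K.bar s = s ∧ s ≠ 0 ∧ s ≠ 1 := by
    by_contra hne
    push Not at hne
    have h1 := card_fixed K
    have hsub : Nat.card {c : F // K.bar c = c ∧ c ≠ 0} ≤ 1 :=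
      Finite.card_le_one_iff_subsingleton.2 ⟨fun x y =>
        Subtype.ext ((hne x.1 x.2.1 x.2.2).trans (hne y.1 y.2.1 y.2.2).symm)⟩
    omega
  obtain ⟨x₀, hx₀⟩ := K.exists_norm s hs
  obtain ⟨y₀, hy₀⟩ := K.exists_norm (1 - s) (by rw [map_sub, map_one, hs])
  by_contra hall
  push Not at hall
  have hx0 : x₀ ≠ 0 := fun e => hs0 (by rw [← hx₀, e, zero_mul])
  have hy0 : y₀ ≠ 0 := fun e => hs1 (by rw [e, zero_mul] at hy₀; exact (sub_eq_zero.1 hy₀.symm).symm)
  have htr : ∀ c : F, c * K.bar c = 1 →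
      c * (x₀ * a * K.bar (y₀ * b)) + K.bar (c * (x₀ * a * K.bar (y₀ * b))) = 0 := by
    intro c hc
    have h := hall (c * x₀) y₀ (by rw [map_mul]; linear_combination s * hc + c * K.bar c * hx₀ + hy₀)
    simp only [map_add, map_mul, K.bar_bar] at h ⊢
    linear_combination h - (x₀ * K.bar x₀ * a * K.bar a) * hc - (x₀ * K.bar x₀) * ha - hx₀ -
      (y₀ * K.bar y₀) * hb - hy₀
  set t := x₀ * a * K.bar (y₀ * b)
  have ht : t ≠ 0 := mul_ne_zero (mul_ne_zero hx0 (fun e => zero_ne_one (by rw [← ha, e, zero_mul])))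
    ((map_ne_zero K.bar).2 (mul_ne_zero hy0 (fun e => zero_ne_one (by rw [← hb, e, zero_mul]))))
  let φ : {c : F // c * K.bar c = 1} → {c : F // K.bar c = c ∧ c ≠ 0} := fun c =>
    ⟨c.1 * t / t, by
      have hc0 : (c : F) ≠ 0 := fun e => zero_ne_one (α := F) (by rw [← c.2, e, zero_mul])
      rw [mul_div_assoc, div_self ht, mul_one]
      refine ⟨?_, hc0⟩
      have h1 := htr c c.2
      have h2 := htr 1 (by rw [map_one, one_mul])
      rw [one_mul] at h2
      rw [map_mul, show K.bar t = -t by linear_combination h2] at h1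
      exact (mul_right_cancel₀ ht (show (c : F) * t = K.bar c * t by linear_combination h1)).symm⟩
  have hφ : Function.Injective φ := fun c d e => by
    have := congrArg Subtype.val e
    simp only [φ, mul_div_assoc, div_self ht, mul_one] at this
    exact Subtype.ext this
  have := Nat.card_le_card_of_injective φ hφ
  rw [card_norm_one K, card_fixed K] at this
  omega

/-- Between two unit vectors orthogonal to a pair, a detour through common orthogonal unit
vectors. -/
theorem exists_detour (hn : 6 ≤ n) (hn' : 7 ≤ n ∨ 3 ≤ q) {v z z' x : V} (hv : H v v = 1)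
    (hz : H z z = 1) (hz' : H z' z' = 1) (hvz : H v z = 0) (hvz' : H v z' = 0)
    (hxz : H x z = 0) (hxz' : H x z' = 0) :
    (∃ w, H w w = 1 ∧ H w v = 0 ∧ H w x = 0 ∧ H w z = 0 ∧ H w z' = 0) ∨
    ∃ u w, (H u u = 1 ∧ H u v = 0 ∧ H u x = 0 ∧ H u z = 0) ∧
      H w w = 1 ∧ H w v = 0 ∧ H w x = 0 ∧ H w u = 0 ∧ H w z' = 0 := by
  by_cases h7 : 7 ≤ n
  · obtain ⟨w, hw, hw'⟩ := exists_orth_unit K ![v, x, z, z'] (on_two K hv hz hvz)
      (fun i => by fin_cases i <;> exact Submodule.subset_span (by simp)) (by omega)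
    exact .inl ⟨w, hw, hw' 0, hw' 1, hw' 2, hw' 3⟩
  have hq := hn'.resolve_left h7
  right
  obtain ⟨u₁, hu₁, hu₁'⟩ := exists_orth_unit K ![v, x, z] (on_two K hv hz hvz)
    (fun i => by fin_cases i <;> exact Submodule.subset_span (by simp)) (by omega)
  have a1 : H u₁ v = 0 := hu₁' 0
  have a2 : H u₁ x = 0 := hu₁' 1
  have a3 : H u₁ z = 0 := hu₁' 2
  obtain ⟨u₂, hu₂, hu₂'⟩ := exists_orth_unit K ![v, x, z, u₁]
    (on_three K hv hz hu₁ hvz (h_eq_zero_symm K a1) (h_eq_zero_symm K a3))
    (fun i => by fin_cases i <;> exact Submodule.subset_span (by simp)) (by omega)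
  have b1 : H u₂ v = 0 := hu₂' 0
  have b2 : H u₂ x = 0 := hu₂' 1
  have b3 : H u₂ z = 0 := hu₂' 2
  have b4 : H u₂ u₁ = 0 := hu₂' 3
  have hw : ∀ u, H u u = 1 → H u v = 0 → H u z' * K.bar (H u z') ≠ 1 →
      ∃ w, H w w = 1 ∧ H w v = 0 ∧ H w x = 0 ∧ H w u = 0 ∧ H w z' = 0 := by
    intro u hu huv hne
    set y := z' - H z' u • u with hy
    have hzu : H z' u = K.bar (H u z') := h_swap K u z'
    have hyy : H y y = 1 - H u z' * K.bar (H u z') := by
      rw [hy, h_sub_left K, h_sub_right K, h_sub_right K, h_smul_left K, h_smul_left K,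
        h_smul_right K, h_smul_right K, hu, hz', hzu, K.bar_bar]
      ring
    have hy0 : H y y ≠ 0 := by rw [hyy]; exact sub_ne_zero.2 (Ne.symm hne)
    obtain ⟨c, hc⟩ := K.exists_norm (H y y)⁻¹ (by rw [map_inv₀, bar_self K])
    have hcy : H (c • y) (c • y) = 1 := by
      rw [h_smul_left K, h_smul_right K, ← mul_assoc, hc, inv_mul_cancel₀ hy0]
    have e1 : H v (c • y) = 0 := by
      rw [h_smul_right K, hy, h_sub_right K, h_smul_right K, hvz', h_eq_zero_symm K huv, mul_zero,
        sub_zero, mul_zero]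
    have e2 : H u (c • y) = 0 := by
      rw [h_smul_right K, hy, h_sub_right K, h_smul_right K, hu, hzu, K.bar_bar, mul_one, sub_self,
        mul_zero]
    obtain ⟨w, hw, hw'⟩ := exists_orth_unit K ![v, x, u, z']
      (on_three K hv hu hcy (h_eq_zero_symm K huv) e1 e2)
      (fun i => by
        fin_cases i
        · exact Submodule.subset_span (by simp)
        · exact Submodule.subset_span (by simp)
        · exact Submodule.smul_mem _ c (Submodule.sub_mem _ (Submodule.subset_span (by simp))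
            (Submodule.smul_mem _ _ (Submodule.subset_span (by simp))))) (by omega)
    exact ⟨w, hw, hw' 0, hw' 1, hw' 2, hw' 3⟩
  by_cases h1 : H u₁ z' * K.bar (H u₁ z') = 1
  swap
  · obtain ⟨w, e⟩ := hw u₁ hu₁ a1 h1
    exact ⟨u₁, w, ⟨hu₁, a1, a2, a3⟩, e⟩
  by_cases h2 : H u₂ z' * K.bar (H u₂ z') = 1
  swap
  · obtain ⟨w, e⟩ := hw u₂ hu₂ b1 h2
    exact ⟨u₂, w, ⟨hu₂, b1, b2, b3⟩, e⟩
  obtain ⟨α, β, hsum, hne⟩ := exists_comb K hq h1 h2
  set u := α • u₁ + β • u₂ with hu
  have hlin : ∀ y, H u y = α * H u₁ y + β * H u₂ y := fun y => by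
    rw [hu, h_add_left K, h_smul_left K, h_smul_left K]
  have huu : H u u = 1 := by
    rw [hlin, hu, h_add_right K, h_add_right K, h_smul_right K, h_smul_right K, h_smul_right K,
      h_smul_right K, hu₁, hu₂, b4, h_eq_zero_symm K b4]
    linear_combination hsum
  obtain ⟨w, e⟩ := hw u huu (by rw [hlin, a1, b1, mul_zero, mul_zero, add_zero])
    (by rw [hlin]; exact hne)
  exact ⟨u, w, ⟨huu, by rw [hlin, a1, b1, mul_zero, mul_zero, add_zero],
    by rw [hlin, a2, b2, mul_zero, mul_zero, add_zero],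
    by rw [hlin, a3, b3, mul_zero, mul_zero, add_zero]⟩, e⟩

end CfsgLib.Schur.UnitaryGeom
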