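import Cfsg.Agent.Lib.Schur.UnitaryWindow
import Cfsg.Agent.Lib.Schur.UnitaryGeom
import Cfsg.Agent.Lib.Schur.CoverLocal
import Cfsg.Agent.Lib.Classical.UnitarySimple

/-!
The graph of unit vectors with orthogonality: a prime kernel of a stem extension of `SU_n(q)` comes
from `SU_{n-1}(q)`, for `n ≥ 7`, and for `n = 6` when `q ≥ 3`.
-/

set_option autoImplicit false
set_option linter.unusedSectionVars false
set_option linter.style.haveILetI false

namespace CfsgLib.Schur.UnitaryGraph

open Matrix Cfsg CfsgLib.Classical.Herm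
open CfsgLib.Classical.Phan (bv cd cd_bv Blk emb emb_injective bv_coe)
open CfsgLib.ClassicalAut (Unitary.Conj)
open CfsgLib.Schur.UnitaryWindow CfsgLib.Schur.UnitaryGeom
open scoped commutatorElement

universe u

variable {F : Type u} [Field F] [Finite F] {q n : ℕ}

/-- The unit vectors. -/
@[ext] structure Vtx (F : Type u) [Field F] (q n : ℕ) where
  /-- The vector. -/
  vec : Fin n → F
  norm : hermForm n F q vec vec = 1

instance instVtxAction : MulAction (SU n F q) (Vtx F q n) where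
  smul g x := ⟨app g x.vec, by rw [h_app, x.norm]⟩
  one_smul x := Vtx.ext (app_one x.vec)
  mul_smul g h x := Vtx.ext (app_mul g h x.vec)

theorem smul_vec (g : SU n F q) (x : Vtx F q n) : (g • x).vec = app g x.vec := rfl

theorem mem_stab (g : SU n F q) (x : Vtx F q n) :
    g ∈ MulAction.stabilizer (SU n F q) x ↔ app g x.vec = x.vec := by
  rw [MulAction.mem_stabilizer_iff, Vtx.ext_iff, smul_vec]

/-- The edges. -/
def Adj (x y : Vtx F q n) : Prop := hermForm n F q x.vec y.vec = 0

/-- The third vertices. -/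
def Third (x y z : Vtx F q n) : Prop := Adj x y ∧ Adj x z ∧ Adj y z

variable (K : Unitary.Conj F q)
include K

theorem adj_symm {x y : Vtx F q n} (h : Adj x y) : Adj y x := h_eq_zero_symm K h

theorem h_bv_self {i : ℕ} (hi : i < n) :
    hermForm n F q (bv i : Fin n → F) (bv i) = 1 := by
  rw [CfsgLib.Classical.Phan.h_bv K, cd_bv, if_pos ⟨rfl, hi⟩]

theorem h_bv_ne {i j : ℕ} (hij : i ≠ j) :
    hermForm n F q (bv i : Fin n → F) (bv j) = 0 := by
  rw [CfsgLib.Classical.Phan.h_bv K, cd_bv, if_neg (fun e => hij e.1.symm)]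

theorem pair_fix {m : ℕ} (hm : m + 2 = n) (hm1 : 1 ≤ m) {x y : Vtx F q n} (h : Adj x y) :
    ∃ g : SU n F q, MulAction.stabilizer (SU n F q) x ⊓ MulAction.stabilizer (SU n F q) y =
      (emb K (show 0 + m ≤ n by omega) : SU m F q →* SU n F q).range.map (MulAut.conj g).toMonoidHom := by
  have h0 : ON (q := q) ![(bv m : Fin n → F), bv (m + 1)] :=
    on_two K (h_bv_self K (show m < n by omega)) (h_bv_self K (show m + 1 < n by omega))
      (h_bv_ne K (show m ≠ m + 1 by omega))
  obtain ⟨g, hg⟩ := exists_move K h0 (on_two K x.norm y.norm h) (by omega)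
  have g0 : app g (bv m : Fin n → F) = x.vec := hg 0
  have g1 : app g (bv (m + 1) : Fin n → F) = y.vec := hg 1
  have key : ∀ (w : Fin n → F) (v : Fin n → F), app g w = v → ∀ a : SU n F q,
      app a v = v ↔ app (g⁻¹ * a * g) w = w := fun w v e a => by
    rw [app_mul, app_mul, e]
    constructor
    · intro h; rw [h, ← e, app_inv]
    · intro h; conv_rhs => rw [← e, ← h, app_inv']
  refine ⟨g, ?_⟩
  ext a
  rw [Subgroup.mem_inf, mem_stab, mem_stab, range_emb K, key _ _ g0 a, key _ _ g1 a,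
    Subgroup.mem_map_equiv, MulAut.conj_symm_apply]
  refine ⟨fun ⟨h1, h2⟩ i hi => ?_, fun hb => ⟨hb m (.inr le_rfl), hb (m + 1) (.inr (by omega))⟩⟩
  rcases (show i = m ∨ i = m + 1 ∨ n ≤ i by omega) with rfl | rfl | h'
  · exact h1
  · exact h2
  · have hz : (bv i : Fin n → F) = 0 := by rw [bv, dif_neg (by omega)]
    rw [hz, CfsgLib.Classical.Phan.app_zero']

theorem one_fix {m : ℕ} (hm : m + 1 = n) (hm2 : 1 ≤ m) (x : Vtx F q n) :
    ∃ g : SU n F q, MulAction.stabilizer (SU n F q) x =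
      (emb K (show 0 + m ≤ n by omega) : SU m F q →* SU n F q).range.map (MulAut.conj g).toMonoidHom := by
  obtain ⟨g, hg⟩ := exists_move K (on_one K (h_bv_self (n := n) K (show m < n by omega)))
    (on_one K x.norm) (by omega)
  have g0 : app g (bv m : Fin n → F) = x.vec := hg 0
  refine ⟨g, ?_⟩
  ext a
  rw [mem_stab, range_emb K, Subgroup.mem_map_equiv, MulAut.conj_symm_apply]
  constructor
  · intro h i hi
    rcases (show i = m ∨ n ≤ i by omega) with rfl | h'
    · rw [app_mul, app_mul, g0, h, ← g0, app_inv]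
    · have hz : (bv i : Fin n → F) = 0 := by rw [bv, dif_neg (by omega)]
      rw [hz, CfsgLib.Classical.Phan.app_zero']
  · intro hb
    have h := hb m (.inr le_rfl)
    rw [app_mul, app_mul, g0] at h
    rw [← app_inv' g (app a x.vec), h, g0]

variable (p : ℕ) [Fact p.Prime] [CharP F p]
include p

theorem perfect_map {m : ℕ} (hm : 3 ≤ m) (h32 : ¬ (m = 3 ∧ q = 2)) (h : 0 + m ≤ n) (g : SU n F q) :
    (emb K h : SU m F q →* SU n F q).range.map (MulAut.conj g).toMonoidHom =
      ⁅(emb K h : SU m F q →* SU n F q).range.map (MulAut.conj g).toMonoidHom,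
        (emb K h : SU m F q →* SU n F q).range.map (MulAut.conj g).toMonoidHom⁆ := by
  rw [← Subgroup.map_commutator, MonoidHom.range_eq_map, ← Subgroup.map_commutator, ← commutator_def,
    commutator_eq_top K p hm h32]

theorem step (hn : 6 ≤ n) (hq : 7 ≤ n ∨ 3 ≤ q) {ℓ : ℕ} (hℓ : ℓ.Prime)
    (hprev : NoStem F q (n - 1) ℓ) : NoStem F q n ℓ := by
  intro E _ _ τ hτ hk
  obtain ⟨hs, hc, hd⟩ := hτ
  obtain ⟨m, rfl⟩ : ∃ m, n = m + 2 := ⟨n - 2, by omega⟩
  have hperfG : commutator (SU (m + 2) F q) = ⊤ := commutator_eq_top K p (by omega) (by omega)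
  have hΓ : commutator E = ⊤ := by
    rw [← sup_of_le_left hd, ← Subgroup.comap_map_eq, commutator_def, Subgroup.map_commutator,
      Subgroup.map_top_of_surjective τ hs, ← commutator_def, hperfG, Subgroup.comap_top]
  let v : Vtx F q (m + 2) := ⟨bv 0, h_bv_self K (by omega)⟩
  have hpe : ∀ x y : Vtx F q (m + 2), Adj x y →
      MulAction.stabilizer (SU (m + 2) F q) x ⊓ MulAction.stabilizer (SU (m + 2) F q) y ≤
      ⁅MulAction.stabilizer (SU (m + 2) F q) x ⊓ MulAction.stabilizer (SU (m + 2) F q) y,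
        MulAction.stabilizer (SU (m + 2) F q) x ⊓ MulAction.stabilizer (SU (m + 2) F q) y⁆ := by
    intro x y h
    obtain ⟨g, hg⟩ := pair_fix K rfl (by omega) h
    rw [hg]
    exact (perfect_map K p (by omega) (by omega) _ g).le
  obtain ⟨g₁, hg₁⟩ := one_fix K (show m + 1 + 1 = m + 2 from rfl) (by omega) v
  have hinj : ∀ k ∈ CoverLocal.L τ (MulAction.stabilizer (SU (m + 2) F q) v), τ k = 1 → k = 1 := by
    intro k hk' h1
    have hR : MulAction.stabilizer (SU (m + 2) F q) v =
        ((MulAut.conj g₁).toMonoidHom.comp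
          (emb K (show 0 + (m + 1) ≤ m + 2 by omega) : SU (m + 1) F q →* SU (m + 2) F q)).range := by
      rw [MonoidHom.range_comp]; exact hg₁
    unfold CoverLocal.L at hk'
    rw [hR] at hk'
    exact inj_of_noStem hs hc hℓ hk _ ((MulAut.conj g₁).injective.comp (emb_injective K _))
      (commutator_eq_top K p (by omega) (by omega))
      (fun Δ _ _ σ hσ hσk => hprev Δ σ hσ hσk) hk' h1
  have htrans : MulAction.IsPretransitive (SU (m + 2) F q) (Vtx F q (m + 2)) := ⟨fun x y => by
    obtain ⟨g, hg⟩ := exists_move K (on_one K x.norm) (on_one K y.norm) (by omega)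
    exact ⟨g, Vtx.ext (hg 0)⟩⟩
  have hloc : CoverLocal.Loc τ Adj Third v := by
    refine
      { surj := hs
        adj_smul := fun g x y h => by
          show hermForm _ F q (app g x.vec) (app g y.vec) = 0
          rw [h_app]; exact h
        symm := fun x y h => adj_symm K h
        T_adj := fun x y z h => h.1
        T_smul := fun g x y z h => ?_
        T_symm := fun x y z h => ⟨adj_symm K h.1, h.2.2, h.2.1⟩
        edge := ?_
        T_ex := fun u hu => ?_
        T_trans := fun u z z' h h' => ?_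
        trans := htrans
        move := fun u z h => ?_
        nbr := fun u u' hu hu' => ?_
        tri := fun u w hu hw huw => ?_
        perfect := ?_
        perfect_edge := fun u hu => hpe v u hu
        third_lift := fun u z h k hk hkv => CoverLocal.mem_of_perfect_inf hs
          (CoverLocal.inj_of_trans hs hinj z) (hpe v z h.2.1) hk hkv
        inj := hinj }
    · obtain ⟨h1, h2, h3⟩ := h
      refine ⟨?_, ?_, ?_⟩ <;>
        (show hermForm _ F q (app g _) (app g _) = 0; rw [h_app]; assumption)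
    · obtain ⟨z, hz, hz'⟩ := exists_orth_unit K ![v.vec] (on_one K v.norm)
        (fun i => Submodule.subset_span ⟨i, rfl⟩) (by omega)
      exact ⟨⟨z, hz⟩, h_eq_zero_symm K (hz' 0)⟩
    · obtain ⟨z, hz, hz'⟩ := exists_orth_unit K ![v.vec, u.vec] (on_two K v.norm u.norm hu)
        (fun i => Submodule.subset_span ⟨i, rfl⟩) (by omega)
      exact ⟨⟨z, hz⟩, hu, h_eq_zero_symm K (hz' 0), h_eq_zero_symm K (hz' 1)⟩
    · obtain ⟨g, hg⟩ := exists_move K (on_three K v.norm u.norm z.norm h.1 h.2.1 h.2.2)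
        (on_three K v.norm u.norm z'.norm h'.1 h'.2.1 h'.2.2) (by omega)
      exact ⟨g, Vtx.ext (hg 0), Vtx.ext (hg 1), Vtx.ext (hg 2)⟩
    · obtain ⟨g, hg⟩ := exists_move K (on_two K z.norm v.norm (adj_symm K h.2.1))
        (on_two K z.norm u.norm (adj_symm K h.2.2)) (by omega)
      exact ⟨g, Vtx.ext (hg 0), Vtx.ext (hg 1)⟩
    · obtain ⟨g, hg⟩ := exists_move K (on_two K v.norm u.norm hu) (on_two K v.norm u'.norm hu')
        (by omega)
      exact ⟨g, Vtx.ext (hg 0), Vtx.ext (hg 1)⟩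
    · obtain ⟨z, hz, hz'⟩ := exists_orth_unit K ![v.vec, u.vec, w.vec]
        (on_three K v.norm u.norm w.norm hu hw huw)
        (fun i => Submodule.subset_span ⟨i, rfl⟩) (by omega)
      have e0 : Adj v ⟨z, hz⟩ := h_eq_zero_symm K (hz' 0)
      have e1 : Adj u ⟨z, hz⟩ := h_eq_zero_symm K (hz' 1)
      have e2 : Adj w ⟨z, hz⟩ := h_eq_zero_symm K (hz' 2)
      exact ⟨⟨z, hz⟩, ⟨hu, e0, e1⟩, ⟨huw, e1, e2⟩, ⟨hw, e0, e2⟩⟩
    · rw [hg₁]
      exact (perfect_map K p (by omega) (by omega) _ g₁).symm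
  have h2 : ∀ x : Vtx F q (m + 2), ∃ z, Adj v z ∧ Adj z x := fun x => by
    obtain ⟨z, hz, hz'⟩ := exists_orth_unit K ![v.vec, x.vec] (on_one K v.norm)
      (fun i => Submodule.subset_span (by simp)) (by omega)
    exact ⟨⟨z, hz⟩, h_eq_zero_symm K (hz' 0), hz' 1⟩
  have h3 : CoverGraph.Three Adj v := by
    intro x y h
    obtain ⟨z, hz, hz'⟩ := exists_orth_unit K ![v.vec, x.vec, y.vec] (on_two K x.norm y.norm h)
      (fun i => by fin_cases i <;> exact Submodule.subset_span (by simp)) (by omega)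
    exact .inl ⟨⟨z, hz⟩, h_eq_zero_symm K (hz' 0), hz' 1, hz' 2⟩
  have hinj' : Function.Injective τ := by
    refine CoverLocal.injective hloc hc hΓ (fun k hk _ _ => CoverGraph.quad_of_chain hk ?_) h3 h2
    intro x z z' hvz hzx hvz' hz'x _
    rcases exists_detour K hn hq v.norm z.norm z'.norm (x := x.vec) hvz hvz' (adj_symm K hzx)
      (adj_symm K hz'x) with ⟨w, hw, wv, wx, wz, wz'⟩ | ⟨u, w, ⟨hu, uv, ux, uz⟩, hw, wv, wx, wu, wz'⟩
    · exact (Relation.ReflTransGen.single (b := (⟨w, hw⟩ : Vtx F q (m + 2)))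
        ⟨h_eq_zero_symm K wz, h_eq_zero_symm K wv, wx⟩).tail ⟨wz', hvz', hz'x⟩
    · exact ((Relation.ReflTransGen.single (b := (⟨u, hu⟩ : Vtx F q (m + 2)))
        ⟨h_eq_zero_symm K uz, h_eq_zero_symm K uv, ux⟩).tail
          (c := (⟨w, hw⟩ : Vtx F q (m + 2)))
        ⟨h_eq_zero_symm K wu, h_eq_zero_symm K wv, wx⟩).tail ⟨wz', hvz', hz'x⟩
  rw [← MonoidHom.ker_eq_bot_iff] at hinj'
  rw [hinj', Subgroup.card_bot] at hk
  exact hℓ.ne_one hk.symm

end CfsgLib.Schur.UnitaryGraph
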