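import Cfsg.Agent.Lib.Schur.OddSplit
import Cfsg.Agent.Lib.StemExt.PrimeBound

/-!
Local criteria for central extensions, as needed for the unitary groups: a group of class two
acted on by a cyclic torus of coprime type, a commuting pair exchanged by an involution, and a
normal subgroup with nothing of the kernel and cyclic quotient.
-/

set_option autoImplicit false
set_option linter.unusedSectionVars false
set_option linter.style.haveILetI false

open scoped commutatorElement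

namespace CfsgLib.Schur.UnitaryLocal

universe u v

variable {E : Type u} [Group E] {G : Type v} [Group G] {τ : E →* G}

theorem comm_mul_left {a b c : E} (h : Commute a ⁅b, c⁆) : ⁅a * b, c⁆ = ⁅b, c⁆ * ⁅a, c⁆ := by
  rw [commutatorElement_mul_left_eq_conj_mul, h.eq, mul_inv_cancel_right]

theorem comm_mul_right {a b c : E} (h : Commute b ⁅a, c⁆) : ⁅a, b * c⁆ = ⁅a, b⁆ * ⁅a, c⁆ := by
  rw [commutatorElement_mul_right_eq_mul_conj, mul_assoc ⁅a, b⁆ b, h.eq, mul_assoc,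
    mul_inv_cancel_right]

theorem commute_ker (hc : τ.ker ≤ Subgroup.center E) {z : E} (hz : z ∈ τ.ker) (g : E) :
    Commute g z :=
  Subgroup.mem_center_iff.1 (hc hz) g

/-- A central element of a perfect quotient lifts to a central element. -/
theorem commute_lift_center (hG : commutator G = ⊤) (hτ : Cfsg.IsStemExtension τ) {x : E}
    (hx : τ x ∈ Subgroup.center G) (g : E) : ⁅x, g⁆ = 1 := by
  have hk : ∀ a, ⁅x, a⁆ ∈ τ.ker := fun a => by
    rw [MonoidHom.mem_ker, map_commutatorElement, commutatorElement_eq_one_iff_mul_comm]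
    exact (Subgroup.mem_center_iff.1 hx (τ a)).symm
  letI : CommGroup τ.ker :=
    { (inferInstance : Group τ.ker) with
      mul_comm := fun a b => Subtype.ext (commute_ker hτ.2.1 b.2 a.1).eq }
  let φ : E →* τ.ker := MonoidHom.mk' (fun a => ⟨⁅x, a⁆, hk a⟩) fun a b => Subtype.ext (by
    show ⁅x, a * b⁆ = ⁅x, a⁆ * ⁅x, b⁆
    exact comm_mul_right (commute_ker hτ.2.1 (hk b) a))
  have hE : commutator E = ⊤ := by
    obtain ⟨hs, -, hd⟩ := hτ
    rw [← sup_of_le_left hd, ← Subgroup.comap_map_eq, commutator_def, Subgroup.map_commutator,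
      Subgroup.map_top_of_surjective τ hs, ← commutator_def, hG, Subgroup.comap_top]
  have h1 := Abelianization.commutator_subset_ker φ (hE ▸ Subgroup.mem_top g)
  exact congrArg Subtype.val (MonoidHom.mem_ker.1 h1)

section Coprime

variable [Finite G] (hs : Function.Surjective τ) (hc : τ.ker ≤ Subgroup.center E)
  (U C T : Subgroup G) [IsCyclic T]
  (hCU : C ≤ U) (hUC : ∀ x ∈ U, ∀ y ∈ U, ⁅x, y⁆ ∈ C) (hCc : ∀ x ∈ U, ∀ c ∈ C, Commute x c)
  (hTU : ∀ t ∈ T, ∀ x ∈ U, t * x * t⁻¹ ∈ U) (hTC : ∀ t ∈ T, ∀ x ∈ C, t * x * t⁻¹ ∈ C)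
  (h1 : ∀ {A : Type u} [CommGroup A] (β : G → G → A),
    (∀ x ∈ U, ∀ y ∈ U, ∀ c ∈ C, β (x * y) c = β x c * β y c) →
    (∀ x ∈ U, ∀ c ∈ C, ∀ d ∈ C, β x (c * d) = β x c * β x d) →
    (∀ t ∈ T, ∀ x ∈ U, ∀ c ∈ C, β (t * x * t⁻¹) (t * c * t⁻¹) = β x c) →
    ∀ x ∈ U, ∀ c ∈ C, β x c = 1)
  (h2 : ∀ {A : Type u} [CommGroup A] (β : G → G → A),
    (∀ x ∈ U, ∀ y ∈ U, ∀ w ∈ U, β (x * y) w = β x w * β y w) →
    (∀ x ∈ U, ∀ y ∈ U, ∀ w ∈ U, β x (y * w) = β x y * β x w) →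
    (∀ x ∈ U, ∀ c ∈ C, β x c = 1 ∧ β c x = 1) →
    (∀ t ∈ T, ∀ x ∈ U, ∀ y ∈ U, β (t * x * t⁻¹) (t * y * t⁻¹) = β x y) →
    ∀ x ∈ U, ∀ y ∈ U, β x y = 1)
  {t₀ t₁ : G} (ht₀ : t₀ ∈ T) (ht₀' : ∀ c ∈ C, t₀ * c * t₀⁻¹ = c → c = 1)
  (ht₁ : t₁ ∈ T) (ht₁' : ∀ x ∈ U, ⁅t₁, x⁆ ∈ C → x ∈ C)

include hs hc hCU hUC hCc hTU hTC h1 h2 ht₀ ht₀' ht₁ ht₁'

/-- No kernel element is a commutator in the preimage of `U T`. -/
theorem no_kernel_coprime {z : E} (hz : z ∈ τ.ker)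
    (hzd : z ∈ ⁅(U ⊔ T).comap τ, (U ⊔ T).comap τ⁆) : z = 1 := by
  classical
  letI : CommGroup τ.ker :=
    { (inferInstance : Group τ.ker) with
      mul_comm := fun a b => Subtype.ext (commute_ker hc b.2 a.1).eq }
  set s : G → E := Function.surjInv hs
  have hσ : ∀ g, τ (s g) = g := Function.surjInv_eq hs
  have hTT : ∀ a b : E, τ a ∈ T → τ b ∈ T → Commute a b := fun a b ha hb => by
    have h := Subgroup.commutator_mem_commutator (show a ∈ T.comap τ from ha)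
      (show b ∈ T.comap τ from hb)
    rw [preimage_commutator_eq_bot_of_isCyclic τ hc T, Subgroup.mem_bot] at h
    exact commutatorElement_eq_one_iff_mul_comm.1 h
  have hconj : ∀ a x : E, τ (a * x * a⁻¹) = τ a * τ x * (τ a)⁻¹ := fun a x => by simp
  -- the centre commutes with the preimage of `U`
  have hk1 : ∀ x c : G, x ∈ U → c ∈ C → ⁅s x, s c⁆ ∈ τ.ker := fun x c hx hc' => by
    rw [MonoidHom.mem_ker, map_commutatorElement, hσ, hσ, commutatorElement_eq_one_iff_mul_comm]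
    exact hCc x hx c hc'
  let β₁ : G → G → τ.ker := fun x c =>
    if h : x ∈ U ∧ c ∈ C then ⟨_, hk1 x c h.1 h.2⟩ else 1
  have hβ₁ : ∀ x c, x ∈ U → c ∈ C → (β₁ x c : E) = ⁅s x, s c⁆ := fun x c hx hc' => by
    simp [β₁, hx, hc']
  have hcomm1 : ∀ x c : E, τ x ∈ U → τ c ∈ C → Commute x c := by
    intro x c hx hc'
    have hv := h1 β₁ ?_ ?_ ?_ (τ x) hx (τ c) hc'
    · have h := hβ₁ _ _ hx hc'
      rw [hv, OneMemClass.coe_one, Schur.commutatorElement_congr τ hc (hσ (τ x)) (hσ (τ c))] at h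
      exact commutatorElement_eq_one_iff_mul_comm.1 h.symm
    · intro a ha b hb c hc'
      refine Subtype.ext ?_
      rw [Subgroup.coe_mul, hβ₁ _ _ (mul_mem ha hb) hc', hβ₁ _ _ ha hc', hβ₁ _ _ hb hc',
        Schur.commutatorElement_congr τ hc (a' := s a * s b) (b' := s c) (by simp [hσ]) rfl,
        comm_mul_left (commute_ker hc (hk1 b c hb hc') _)]
      exact (commute_ker hc (hk1 a c ha hc') _).eq
    · intro a ha c hc' d hd
      refine Subtype.ext ?_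
      rw [Subgroup.coe_mul, hβ₁ _ _ ha (mul_mem hc' hd), hβ₁ _ _ ha hc', hβ₁ _ _ ha hd,
        Schur.commutatorElement_congr τ hc (a' := s a) (b' := s c * s d) rfl (by simp [hσ]),
        comm_mul_right (commute_ker hc (hk1 a d ha hd) _)]
    · intro t ht a ha c hc'
      refine Subtype.ext ?_
      rw [hβ₁ _ _ (hTU t ht a ha) (hTC t ht c hc'), hβ₁ _ _ ha hc',
        Schur.commutatorElement_congr τ hc (a' := s t * s a * (s t)⁻¹)
          (b' := s t * s c * (s t)⁻¹) (by simp [hσ]) (by simp [hσ]),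
        ← conjugate_commutatorElement, (commute_ker hc (hk1 a c ha hc') (s t)).eq,
        mul_inv_cancel_right]
  -- the complement in the preimage of `C`
  set a₀ := s t₀ with ha₀
  have ha₀T : τ a₀ ∈ T := by rw [ha₀, hσ]; exact ht₀
  have hφC : ∀ c : E, τ c ∈ C → τ ⁅a₀, c⁆ ∈ C := fun c hc' => by
    rw [map_commutatorElement, commutatorElement_def, ha₀, hσ]
    exact mul_mem (hTC t₀ ht₀ _ hc') (inv_mem hc')
  let Ct : Subgroup E :=
    { carrier := {d | ∃ c, τ c ∈ C ∧ d = ⁅a₀, c⁆}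
      one_mem' := ⟨1, by simp, by simp⟩
      mul_mem' := by
        rintro _ _ ⟨c, hc', rfl⟩ ⟨d, hd, rfl⟩
        refine ⟨c * d, by rw [map_mul]; exact mul_mem hc' hd, (comm_mul_right ?_).symm⟩
        exact hcomm1 c _ (hCU hc') (hφC d hd)
      inv_mem' := by
        rintro _ ⟨c, hc', rfl⟩
        refine ⟨c⁻¹, by rw [map_inv]; exact inv_mem hc', ?_⟩
        refine inv_eq_of_mul_eq_one_right ?_
        rw [← comm_mul_right (hcomm1 c _ (hCU hc') (hφC _ (by rw [map_inv]; exact inv_mem hc'))),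
          mul_inv_cancel, commutatorElement_one_right] }
  have hCtC : ∀ d ∈ Ct, τ d ∈ C := by
    rintro _ ⟨c, hc', rfl⟩
    exact hφC c hc'
  have hCtT : ∀ a : E, τ a ∈ T → ∀ d ∈ Ct, a * d * a⁻¹ ∈ Ct := by
    rintro a ha _ ⟨c, hc', rfl⟩
    refine ⟨a * c * a⁻¹, by rw [hconj]; exact hTC _ ha _ hc', ?_⟩
    rw [conjugate_commutatorElement, (hTT a a₀ ha ha₀T).eq, mul_inv_cancel_right]
  have hCtk : ∀ d ∈ Ct, d ∈ τ.ker → d = 1 := by
    rintro _ ⟨c, hc', rfl⟩ hd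
    rw [MonoidHom.mem_ker, map_commutatorElement, commutatorElement_def, ha₀, hσ,
      mul_inv_eq_one] at hd
    have : c ∈ τ.ker := MonoidHom.mem_ker.2 (ht₀' _ hc' hd)
    exact commutatorElement_eq_one_iff_mul_comm.2 (commute_ker hc this _).eq
  have hdec : ∀ c : E, τ c ∈ C → ∃ z ∈ τ.ker, ∃ d ∈ Ct, c = z * d := by
    let φ : C → C := fun c => ⟨t₀ * c * t₀⁻¹ * (c : G)⁻¹,
      mul_mem (hTC t₀ ht₀ _ c.2) (inv_mem c.2)⟩
    have hφ : Function.Injective φ := by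
      intro c c' e
      have e' : t₀ * c * t₀⁻¹ * (c : G)⁻¹ = t₀ * c' * t₀⁻¹ * (c' : G)⁻¹ := congrArg Subtype.val e
      have hm : (c : G) * (c' : G)⁻¹ ∈ C := mul_mem c.2 (inv_mem c'.2)
      refine Subtype.ext (mul_inv_eq_one.1 (ht₀' _ hm ?_))
      have hcc : Commute (t₀ * c' * t₀⁻¹) ((c : G) * (c' : G)⁻¹) :=
        hCc _ (hCU (hTC t₀ ht₀ _ c'.2)) _ hm
      calc t₀ * ((c : G) * (c' : G)⁻¹) * t₀⁻¹
          = (t₀ * c * t₀⁻¹ * (c : G)⁻¹) * c * (t₀ * c' * t₀⁻¹)⁻¹ := by group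
        _ = (t₀ * c' * t₀⁻¹) * ((c' : G)⁻¹ * c) * (t₀ * c' * t₀⁻¹)⁻¹ := by rw [e']; group
        _ = (t₀ * c' * t₀⁻¹) * ((c : G) * (c' : G)⁻¹) * (t₀ * c' * t₀⁻¹)⁻¹ := by
            rw [(hCc _ (hCU c.2) _ (inv_mem c'.2)).eq]
        _ = _ := by rw [hcc.eq, mul_inv_cancel_right]
    intro c hc'
    obtain ⟨⟨c₀, hc₀⟩, e⟩ := Finite.injective_iff_surjective.1 hφ ⟨τ c, hc'⟩
    refine ⟨c * ⁅a₀, s c₀⁆⁻¹, ?_, _, ⟨s c₀, by rw [hσ]; exact hc₀, rfl⟩,
      (inv_mul_cancel_right c _).symm⟩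
    rw [MonoidHom.mem_ker, map_mul, map_inv, map_commutatorElement, commutatorElement_def, ha₀,
      hσ, hσ, show t₀ * c₀ * t₀⁻¹ * c₀⁻¹ = τ c from congrArg Subtype.val e, mul_inv_cancel]
  have huniq : ∀ z ∈ τ.ker, ∀ z' ∈ τ.ker, ∀ d ∈ Ct, ∀ d' ∈ Ct, z * d = z' * d' → z = z' := by
    intro z hz z' hz' d hd d' hd' e
    have e1 : z'⁻¹ * z = d' * d⁻¹ := by rw [eq_mul_inv_iff_mul_eq, mul_assoc, e, inv_mul_cancel_left]
    have := hCtk _ (mul_mem hd' (inv_mem hd)) (e1 ▸ mul_mem (inv_mem hz') hz)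
    rw [this, inv_mul_eq_one] at e1
    exact e1.symm
  -- commutators of the preimage of `U`
  have hUC' : ∀ x y : E, τ x ∈ U → τ y ∈ U → τ ⁅x, y⁆ ∈ C := fun x y hx hy => by
    rw [map_commutatorElement]; exact hUC _ hx _ hy
  let β₂ : G → G → τ.ker := fun x y =>
    if h : x ∈ U ∧ y ∈ U then
      ⟨(hdec ⁅s x, s y⁆ (hUC' _ _ ((hσ x).symm ▸ h.1) ((hσ y).symm ▸ h.2))).choose,
        (hdec ⁅s x, s y⁆ (hUC' _ _ ((hσ x).symm ▸ h.1) ((hσ y).symm ▸ h.2))).choose_spec.1⟩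
    else 1
  have hβ₂ : ∀ x y : E, τ x ∈ U → τ y ∈ U → ∃ d ∈ Ct, ⁅x, y⁆ = (β₂ (τ x) (τ y) : E) * d := by
    intro x y hx hy
    simp only [β₂, dif_pos (And.intro hx hy)]
    obtain ⟨d, hd, e⟩ := (hdec ⁅s (τ x), s (τ y)⁆
      (hUC' _ _ ((hσ (τ x)).symm ▸ hx) ((hσ (τ y)).symm ▸ hy))).choose_spec.2
    exact ⟨d, hd, (Schur.commutatorElement_congr τ hc (hσ (τ x)).symm (hσ (τ y)).symm).trans e⟩
  have hβu : ∀ x y : E, τ x ∈ U → τ y ∈ U → ∀ z ∈ τ.ker, ∀ d ∈ Ct, ⁅x, y⁆ = z * d →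
      (β₂ (τ x) (τ y) : E) = z := by
    intro x y hx hy z hz d hd e
    obtain ⟨d', hd', e'⟩ := hβ₂ x y hx hy
    exact huniq _ (β₂ (τ x) (τ y)).2 _ hz _ hd' _ hd (e'.symm.trans e)
  have hUU : ∀ x y : E, τ x ∈ U → τ y ∈ U → ⁅x, y⁆ ∈ Ct := by
    intro x y hx hy
    have hv := h2 β₂ ?_ ?_ ?_ ?_ (τ x) hx (τ y) hy
    · obtain ⟨d, hd, e⟩ := hβ₂ x y hx hy
      rw [hv, OneMemClass.coe_one, one_mul] at e
      rw [e]; exact hd
    · intro a ha b hb w hw
      obtain ⟨d, hd, e⟩ := hβ₂ (s a) (s w) (by rwa [hσ]) (by rwa [hσ])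
      obtain ⟨d', hd', e'⟩ := hβ₂ (s b) (s w) (by rwa [hσ]) (by rwa [hσ])
      have h := hβu (s a * s b) (s w) (by simp [hσ, mul_mem ha hb]) (by rwa [hσ]) _
        (β₂ a w * β₂ b w).2 (d * d') (mul_mem hd hd') ?_
      · simp only [map_mul, hσ] at h
        exact Subtype.ext h
      rw [comm_mul_left (hcomm1 (s a) _ (by rwa [hσ]) (hUC' _ _ (by rwa [hσ]) (by rwa [hσ]))),
        ← (hcomm1 ⁅s a, s w⁆ ⁅s b, s w⁆ (hCU (hUC' _ _ (by rwa [hσ]) (by rwa [hσ])))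
          (hUC' _ _ (by rwa [hσ]) (by rwa [hσ]))).eq, e, e']
      simp only [hσ, Subgroup.coe_mul]
      rw [mul_assoc, ← mul_assoc d, (commute_ker hc (β₂ b w).2 d).eq]
      group
    · intro a ha b hb w hw
      obtain ⟨d, hd, e⟩ := hβ₂ (s a) (s b) (by rwa [hσ]) (by rwa [hσ])
      obtain ⟨d', hd', e'⟩ := hβ₂ (s a) (s w) (by rwa [hσ]) (by rwa [hσ])
      have h := hβu (s a) (s b * s w) (by rwa [hσ]) (by simp [hσ, mul_mem hb hw]) _
        (β₂ a b * β₂ a w).2 (d * d') (mul_mem hd hd') ?_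
      · simp only [map_mul, hσ] at h
        exact Subtype.ext h
      rw [comm_mul_right (hcomm1 (s b) _ (by rwa [hσ]) (hUC' _ _ (by rwa [hσ]) (by rwa [hσ]))),
        e, e']
      simp only [hσ, Subgroup.coe_mul]
      rw [mul_assoc, ← mul_assoc d, (commute_ker hc (β₂ a w).2 d).eq]
      group
    · intro a ha c hc'
      have hac : ⁅s a, s c⁆ = 1 * 1 ∧ ⁅s c, s a⁆ = 1 * 1 := by
        have hcc := hcomm1 (s a) (s c) (by rwa [hσ]) (by rwa [hσ])
        rw [one_mul]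
        exact ⟨commutatorElement_eq_one_iff_mul_comm.2 hcc.eq,
          commutatorElement_eq_one_iff_mul_comm.2 hcc.eq.symm⟩
      constructor
      · have h := hβu (s a) (s c) (by rwa [hσ]) (by rw [hσ]; exact hCU hc') 1 (one_mem _) 1
          (one_mem _) hac.1
        simp only [hσ] at h
        exact Subtype.ext h
      · have h := hβu (s c) (s a) (by rw [hσ]; exact hCU hc') (by rwa [hσ]) 1 (one_mem _) 1
          (one_mem _) hac.2
        simp only [hσ] at h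
        exact Subtype.ext h
    · intro t ht a ha b hb
      obtain ⟨d, hd, e⟩ := hβ₂ (s a) (s b) (by rwa [hσ]) (by rwa [hσ])
      have h := hβu (s t * s a * (s t)⁻¹) (s t * s b * (s t)⁻¹) (by simp [hσ, hTU t ht a ha])
        (by simp [hσ, hTU t ht b hb]) _ (β₂ a b).2 _ (hCtT (s t) (by rwa [hσ]) d hd) ?_
      · simp only [map_mul, map_inv, hσ] at h
        exact Subtype.ext h
      rw [← conjugate_commutatorElement, e]
      simp only [hσ]
      rw [← mul_assoc, (commute_ker hc (β₂ a b).2 (s t)).eq]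
      group
  -- the complement in the preimage of `U`
  set a₁ := s t₁ with ha₁
  have ha₁T : τ a₁ ∈ T := by rw [ha₁, hσ]; exact ht₁
  have hψU : ∀ x : E, τ x ∈ U → τ ⁅a₁, x⁆ ∈ U := fun x hx => by
    rw [map_commutatorElement, commutatorElement_def, ha₁, hσ]
    exact mul_mem (hTU t₁ ht₁ _ hx) (inv_mem hx)
  have hCtU : ∀ d ∈ Ct, ∀ x : E, τ x ∈ U → Commute x d := fun d hd x hx => hcomm1 x d hx (hCtC d hd)
  have hψmul : ∀ x y : E, τ x ∈ U → τ y ∈ U →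
      ∃ c ∈ Ct, ⁅a₁, x * y⁆ = ⁅a₁, x⁆ * ⁅a₁, y⁆ * c := fun x y hx hy =>
    ⟨⁅⁅a₁, y⁆⁻¹, x⁆, hUU _ _ (by rw [map_inv]; exact inv_mem (hψU y hy)) hx, by
      simp only [commutatorElement_def]; group⟩
  have hψC : ∀ x : E, τ x ∈ C → ⁅a₁, x⁆ ∈ Ct := by
    intro x hx
    obtain ⟨w, hw, d, hd, rfl⟩ := hdec x hx
    rw [commutatorElement_def, show a₁ * (w * d) * a₁⁻¹ * (w * d)⁻¹ =
      a₁ * w * (d * a₁⁻¹ * d⁻¹) * w⁻¹ by group, (commute_ker hc hw a₁).eq,
      mul_assoc w, ← (commute_ker hc hw (a₁ * (d * a₁⁻¹ * d⁻¹))).eq, mul_inv_cancel_right,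
      ← mul_assoc, ← mul_assoc]
    exact mul_mem (hCtT a₁ ha₁T d hd) (inv_mem hd)
  let Ut : Subgroup E :=
    { carrier := {w | ∃ x, τ x ∈ U ∧ ∃ d ∈ Ct, w = ⁅a₁, x⁆ * d}
      one_mem' := ⟨1, by simp, 1, one_mem _, by simp⟩
      mul_mem' := by
        rintro _ _ ⟨x, hx, d, hd, rfl⟩ ⟨y, hy, e, he, rfl⟩
        obtain ⟨c, hc', hm⟩ := hψmul x y hx hy
        refine ⟨x * y, by rw [map_mul]; exact mul_mem hx hy, c⁻¹ * d * e,
          mul_mem (mul_mem (inv_mem hc') hd) he, ?_⟩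
        rw [hm]
        calc ⁅a₁, x⁆ * d * (⁅a₁, y⁆ * e) = ⁅a₁, x⁆ * (d * ⁅a₁, y⁆) * e := by group
          _ = ⁅a₁, x⁆ * (⁅a₁, y⁆ * d) * e := by rw [(hCtU d hd _ (hψU y hy)).eq]
          _ = _ := by group
      inv_mem' := by
        rintro _ ⟨x, hx, d, hd, rfl⟩
        obtain ⟨c, hc', hm⟩ := hψmul x x⁻¹ hx (by rw [map_inv]; exact inv_mem hx)
        rw [mul_inv_cancel, commutatorElement_one_right] at hm
        refine ⟨x⁻¹, by rw [map_inv]; exact inv_mem hx, c * d⁻¹, mul_mem hc' (inv_mem hd),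
          inv_eq_of_mul_eq_one_right ?_⟩
        calc ⁅a₁, x⁆ * d * (⁅a₁, x⁻¹⁆ * (c * d⁻¹))
            = ⁅a₁, x⁆ * (d * ⁅a₁, x⁻¹⁆) * c * d⁻¹ := by group
          _ = (⁅a₁, x⁆ * ⁅a₁, x⁻¹⁆) * (d * c) * d⁻¹ := by
              rw [← (hCtU d hd _ (hψU x⁻¹ (by rw [map_inv]; exact inv_mem hx))).eq]; group
          _ = (⁅a₁, x⁆ * ⁅a₁, x⁻¹⁆) * (c * d) * d⁻¹ := by
              rw [(hCtU c hc' d (hCU (hCtC d hd))).eq]
          _ = 1 := by rw [← mul_assoc, ← hm]; group }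
  have hUtT : ∀ a : E, τ a ∈ T → ∀ w ∈ Ut, a * w * a⁻¹ ∈ Ut := by
    rintro a ha _ ⟨x, hx, d, hd, rfl⟩
    refine ⟨a * x * a⁻¹, by rw [hconj]; exact hTU _ ha _ hx, a * d * a⁻¹, hCtT a ha d hd, ?_⟩
    rw [show a * (⁅a₁, x⁆ * d) * a⁻¹ = (a * ⁅a₁, x⁆ * a⁻¹) * (a * d * a⁻¹) by group,
      conjugate_commutatorElement, (hTT a a₁ ha ha₁T).eq, mul_inv_cancel_right]
  have hUdec : ∀ x : E, τ x ∈ U → ∃ w ∈ Ut, w⁻¹ * x ∈ τ.ker := by
    haveI : (C.subgroupOf U).Normal := ⟨fun c hc' g => by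
      rw [Subgroup.mem_subgroupOf] at hc' ⊢
      rw [Subgroup.coe_mul, Subgroup.coe_mul, Subgroup.coe_inv, (hCc _ g.2 _ hc').eq,
        mul_inv_cancel_right]
      exact hc'⟩
    let ψ : U →* U ⧸ C.subgroupOf U := MonoidHom.mk'
      (fun x => QuotientGroup.mk ⟨⁅t₁, (x : G)⁆, by
        rw [commutatorElement_def]; exact mul_mem (hTU t₁ ht₁ _ x.2) (inv_mem x.2)⟩)
      fun x y => by
        rw [← QuotientGroup.mk_mul, QuotientGroup.eq, Subgroup.mem_subgroupOf]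
        simp only [Subgroup.coe_mul, Subgroup.coe_inv]
        have hy : ⁅t₁, (y : G)⁆ ∈ U := by
          rw [commutatorElement_def]; exact mul_mem (hTU t₁ ht₁ _ y.2) (inv_mem y.2)
        rw [show (⁅t₁, (x : G) * y⁆)⁻¹ * (⁅t₁, (x : G)⁆ * ⁅t₁, (y : G)⁆) =
          ⁅(x : G), ⁅t₁, (y : G)⁆⁻¹⁆ by simp only [commutatorElement_def]; group]
        exact hUC _ x.2 _ (inv_mem hy)
    have hker : ψ.ker = C.subgroupOf U := by
      ext x
      rw [MonoidHom.mem_ker, show ψ x = QuotientGroup.mk _ from rfl, QuotientGroup.eq_one_iff,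
        Subgroup.mem_subgroupOf, Subgroup.mem_subgroupOf]
      refine ⟨fun h => ht₁' _ x.2 h, fun h => ?_⟩
      show ⁅t₁, (x : G)⁆ ∈ C
      rw [commutatorElement_def]
      exact mul_mem (hTC t₁ ht₁ _ h) (inv_mem h)
    have hsur : Function.Surjective (QuotientGroup.lift _ ψ hker.ge) :=
      Finite.injective_iff_surjective.1 (by
        rw [← MonoidHom.ker_eq_bot_iff, QuotientGroup.ker_lift, hker,
          QuotientGroup.map_mk'_self])
    intro x hx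
    obtain ⟨y, hy⟩ := hsur (QuotientGroup.mk (s := C.subgroupOf U) ⟨τ x, hx⟩)
    obtain ⟨⟨y, hyU⟩, rfl⟩ := QuotientGroup.mk_surjective y
    rw [QuotientGroup.lift_mk, show ψ _ = QuotientGroup.mk _ from rfl, QuotientGroup.eq,
      Subgroup.mem_subgroupOf] at hy
    have hy' : τ (⁅a₁, s y⁆⁻¹ * x) ∈ C := by
      rw [map_mul, map_inv, map_commutatorElement, ha₁, hσ, hσ]; exact hy
    obtain ⟨w, hw, d, hd, e⟩ := hdec _ hy'
    refine ⟨⁅a₁, s y⁆ * d, ⟨s y, by rwa [hσ], d, hd, rfl⟩, ?_⟩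
    rw [_root_.mul_inv_rev, mul_assoc, e, ← mul_assoc, (commute_ker hc hw d⁻¹).eq,
      inv_mul_cancel_right]
    exact hw
  have hUtk : ∀ w ∈ Ut, w ∈ τ.ker → w = 1 := by
    rintro _ ⟨x, hx, d, hd, rfl⟩ hw
    have h : ⁅t₁, τ x⁆ ∈ C := by
      have := hw
      rw [MonoidHom.mem_ker, map_mul, map_commutatorElement, ha₁, hσ, mul_eq_one_iff_eq_inv] at this
      rw [this]; exact inv_mem (hCtC d hd)
    exact hCtk _ (mul_mem (hψC x (ht₁' _ hx h)) hd) hw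
  -- the derived group of the preimage of `U T`
  refine hUtk z ((Subgroup.commutator_le.2 fun a ha b hb => ?_) hzd) hz
  have hsplit : ∀ a : E, τ a ∈ U ⊔ T → ∃ w ∈ Ut, ∃ t, τ t ∈ T ∧ a = w * t := by
    intro a ha
    obtain ⟨u, hu, t, ht, e⟩ : ∃ u ∈ U, ∃ t ∈ T, u * t = τ a := by
      have hn : T ≤ Subgroup.normalizer (U : Set G) := fun t ht =>
        Subgroup.mem_normalizer_iff.2 fun x => ⟨hTU t ht x, fun h => by
          have := hTU t⁻¹ (inv_mem ht) _ h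
          rwa [show t⁻¹ * (t * x * t⁻¹) * t⁻¹⁻¹ = x by group] at this⟩
      have h' : τ a ∈ ((U ⊔ T : Subgroup G) : Set G) := ha
      rw [Subgroup.coe_mul_of_right_le_normalizer_left U T hn] at h'
      exact h'
    obtain ⟨w, hw, hk⟩ := hUdec (s u) (by rwa [hσ])
    refine ⟨w, hw, w⁻¹ * a, ?_, (mul_inv_cancel_left w a).symm⟩
    rw [MonoidHom.mem_ker, map_mul, map_inv, hσ, inv_mul_eq_one] at hk
    rw [map_mul, map_inv, hk, ← e, inv_mul_cancel_left]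
    exact ht
  obtain ⟨w, hw, t, ht, rfl⟩ := hsplit a (Subgroup.mem_comap.1 ha)
  obtain ⟨w', hw', t', ht', rfl⟩ := hsplit b (Subgroup.mem_comap.1 hb)
  have hcm : t * t' * t⁻¹ = t' := by rw [(hTT t t' ht ht').eq, mul_inv_cancel_right]
  rw [commutatorElement_def, show w * t * (w' * t') * (w * t)⁻¹ * (w' * t')⁻¹ =
    w * (t * w' * t⁻¹) * (t * t' * t⁻¹) * w⁻¹ * t'⁻¹ * w'⁻¹ by group, hcm,
    show w * (t * w' * t⁻¹) * t' * w⁻¹ * t'⁻¹ * w'⁻¹ =
      w * (t * w' * t⁻¹) * (t' * w⁻¹ * t'⁻¹) * w'⁻¹ by group]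
  exact mul_mem (mul_mem (mul_mem hw (hUtT t ht w' hw')) (hUtT t' ht' _ (inv_mem hw))) (inv_mem hw')

end Coprime

section Pair

variable {A : Type*} [CommGroup A] [Finite A] [IsCyclic A] {ℓ : ℕ}

/-- Two copies of a cyclic group exchanged by involutions as in the Weyl group of rank two lift to
a commutative group when the kernel has odd prime order. -/
theorem preimage_pair_comm (hc : τ.ker ≤ Subgroup.center E) (hℓ : ℓ.Prime) (h2 : ℓ ≠ 2)
    (hk : Nat.card τ.ker = ℓ) (hs : Function.Surjective τ) (a b : A →* G)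
    (hab : ∀ x y, Commute (a x) (b y)) (w : G) (hwa : ∀ x, w * a x * w⁻¹ = a x⁻¹)
    (hwb : ∀ x, w * b x * w⁻¹ = a x * b x) {u v : E}
    (hu : τ u ∈ a.range ⊔ b.range) (hv : τ v ∈ a.range ⊔ b.range) : Commute u v := by
  set s : G → E := Function.surjInv hs
  have hσ : ∀ g, τ (s g) = g := Function.surjInv_eq hs
  have haa : ∀ x y, Commute (s (a x)) (s (a y)) := fun x y => by
    haveI : IsCyclic a.range := isCyclic_of_surjective a.rangeRestrict a.rangeRestrict_surjective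
    have h := Subgroup.commutator_mem_commutator
      (show s (a x) ∈ a.range.comap τ from Subgroup.mem_comap.2 (by rw [hσ]; exact ⟨x, rfl⟩))
      (show s (a y) ∈ a.range.comap τ from Subgroup.mem_comap.2 (by rw [hσ]; exact ⟨y, rfl⟩))
    rw [preimage_commutator_eq_bot_of_isCyclic τ hc, Subgroup.mem_bot] at h
    exact commutatorElement_eq_one_iff_mul_comm.1 h
  have hbb : ∀ x y, Commute (s (b x)) (s (b y)) := fun x y => by
    haveI : IsCyclic b.range := isCyclic_of_surjective b.rangeRestrict b.rangeRestrict_surjective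
    have h := Subgroup.commutator_mem_commutator
      (show s (b x) ∈ b.range.comap τ from Subgroup.mem_comap.2 (by rw [hσ]; exact ⟨x, rfl⟩))
      (show s (b y) ∈ b.range.comap τ from Subgroup.mem_comap.2 (by rw [hσ]; exact ⟨y, rfl⟩))
    rw [preimage_commutator_eq_bot_of_isCyclic τ hc, Subgroup.mem_bot] at h
    exact commutatorElement_eq_one_iff_mul_comm.1 h
  have hk' : ∀ x y, ⁅s (a x), s (b y)⁆ ∈ τ.ker := fun x y => by
    rw [MonoidHom.mem_ker, map_commutatorElement, hσ, hσ, commutatorElement_eq_one_iff_mul_comm]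
    exact hab x y
  have hkey : ∀ x y, ⁅s (a x), s (b y)⁆ = 1 := by
    intro x y
    set z := ⁅s (a x), s (b y)⁆
    have hinv : ⁅s (a x⁻¹), s (b y)⁆ = z⁻¹ := by
      refine eq_inv_of_mul_eq_one_left ?_
      rw [← (commute_ker hc (hk' x⁻¹ y) z).eq]
      have h := comm_mul_left (a := s (a x⁻¹)) (b := s (a x)) (c := s (b y))
        (commute_ker hc (hk' x y) _)
      rw [Schur.commutatorElement_congr τ hc (a' := 1) (b' := s (b y))
        (by rw [map_mul, hσ, hσ, ← map_mul, inv_mul_cancel, map_one, map_one]) rfl,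
        commutatorElement_one_left] at h
      exact h.symm
    have e : s w * z * (s w)⁻¹ = z⁻¹ := by
      have h3 : ⁅s (a x⁻¹), s (a y)⁆ = 1 := commutatorElement_eq_one_iff_mul_comm.2 (haa _ _).eq
      rw [conjugate_commutatorElement, Schur.commutatorElement_congr τ hc (a' := s (a x⁻¹))
        (b' := s (a y) * s (b y)) (by simp [hσ, hwa]) (by simp [hσ, hwb]),
        comm_mul_right (commute_ker hc (hk' _ _) _), h3, one_mul, hinv]
    rw [(commute_ker hc (hk' x y) (s w)).eq, mul_inv_cancel_right] at e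
    have h1 : z ^ 2 = 1 := by rw [pow_two]; exact mul_eq_one_iff_eq_inv.2 e
    have h4 : orderOf z ∣ Nat.gcd 2 ℓ := Nat.dvd_gcd (orderOf_dvd_of_pow_eq_one h1)
      (hk ▸ (Subgroup.orderOf_mk z (hk' x y) ▸ orderOf_dvd_natCard _))
    rw [(Nat.coprime_primes Nat.prime_two hℓ).2 (Ne.symm h2)] at h4
    exact orderOf_eq_one_iff.1 (Nat.dvd_one.1 h4)
  have hgen : ∀ u : E, τ u ∈ a.range ⊔ b.range →
      ∃ x y, ∃ z ∈ τ.ker, u = s (a x) * s (b y) * z := by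
    intro u hu
    have hn : b.range ≤ Subgroup.normalizer (a.range : Set G) := by
      rintro _ ⟨y, rfl⟩
      refine Subgroup.mem_normalizer_iff.2 fun g => ⟨?_, fun ⟨x, hx⟩ => ⟨x, ?_⟩⟩
      · rintro ⟨x, rfl⟩
        exact ⟨x, by rw [← (hab x y).eq, mul_inv_cancel_right]⟩
      · have e : g = (b y)⁻¹ * a x * b y := by rw [hx]; group
        rw [e, mul_assoc, (hab x y).eq, inv_mul_cancel_left]
    have h' : τ u ∈ ((a.range ⊔ b.range : Subgroup G) : Set G) := hu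
    rw [Subgroup.coe_mul_of_right_le_normalizer_left a.range b.range hn] at h'
    obtain ⟨_, ⟨x, rfl⟩, _, ⟨y, rfl⟩, e : a x * b y = τ u⟩ := h'
    exact ⟨x, y, (s (a x) * s (b y))⁻¹ * u, by simp [MonoidHom.mem_ker, hσ, ← e],
      (mul_inv_cancel_left _ _).symm⟩
  obtain ⟨x, y, z, hz, rfl⟩ := hgen u hu
  obtain ⟨x', y', z', hz', rfl⟩ := hgen v hv
  have h5 : ∀ x y, Commute (s (a x)) (s (b y)) := fun x y =>
    commutatorElement_eq_one_iff_mul_comm.1 (hkey x y)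
  have h6 : Commute (s (a x) * s (b y)) (s (a x') * s (b y')) :=
    ((haa x x').mul_right (h5 x y')).mul_left ((h5 x' y).symm.mul_right (hbb y y'))
  exact (h6.mul_right (commute_ker hc hz' _)).mul_left (commute_ker hc hz _).symm

end Pair

/-- A normal subgroup with nothing of the kernel in its derived preimage and cyclic quotient. -/
theorem no_kernel_cyclic_quotient (hc : τ.ker ≤ Subgroup.center E) (hs : Function.Surjective τ)
    (U N : Subgroup G) (t : G) (ht : t ∈ U) (hU : U = N ⊔ Subgroup.zpowers t) (hN : ∀ g ∈ U, ∀ x ∈ N, g * x * g⁻¹ ∈ N)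
    (hperf : N ≤ ⁅N, N⁆) (hN0 : ∀ z ∈ τ.ker, z ∈ ⁅N.comap τ, N.comap τ⁆ → z = 1)
    {z : E} (hz : z ∈ τ.ker) (hzd : z ∈ ⁅U.comap τ, U.comap τ⁆) : z = 1 := by
  set D := ⁅N.comap τ, N.comap τ⁆
  set a := Function.surjInv hs t
  have ha : τ a = t := Function.surjInv_eq hs t
  have hmapD : D.map τ = ⁅N, N⁆ := by
    rw [Subgroup.map_commutator, Subgroup.map_comap_eq_self_of_surjective hs]
  have hdecN : ∀ x : E, τ x ∈ N → ∃ d ∈ D, d⁻¹ * x ∈ τ.ker := fun x hx => by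
    obtain ⟨d, hd, e⟩ := Subgroup.mem_map.1 (hmapD ▸ hperf hx : τ x ∈ D.map τ)
    exact ⟨d, hd, by rw [MonoidHom.mem_ker, map_mul, map_inv, e, inv_mul_cancel]⟩
  have hnD : ∀ g : E, τ g ∈ U → ∀ d ∈ D, g * d * g⁻¹ ∈ D := by
    intro g hg d hd
    have hm : (N.comap τ).map (MulAut.conj g).toMonoidHom ≤ N.comap τ := by
      rintro _ ⟨x, hx, rfl⟩
      simp only [Subgroup.mem_comap, MulEquiv.coe_toMonoidHom, MulAut.conj_apply, map_mul, map_inv]
      exact hN _ hg _ hx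
    have h1 : D.map (MulAut.conj g).toMonoidHom ≤ D := by
      rw [Subgroup.map_commutator]
      exact Subgroup.commutator_mono hm hm
    exact h1 ⟨d, hd, rfl⟩
  refine hN0 z hz ((Subgroup.commutator_le.2 fun x hx y hy => ?_) hzd)
  have hdec : ∀ x : E, τ x ∈ U → ∃ d ∈ D, ∃ i : ℤ, ∃ k ∈ τ.ker, x = d * a ^ i * k := by
    intro x hx
    have hn : Subgroup.zpowers t ≤ Subgroup.normalizer (N : Set G) :=
      Subgroup.zpowers_le.2 (Subgroup.mem_normalizer_iff.2 fun y => ⟨hN t ht y, fun h => by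
        have := hN t⁻¹ (inv_mem ht) _ h
        rwa [show t⁻¹ * (t * y * t⁻¹) * t⁻¹⁻¹ = y by group] at this⟩)
    have h' : τ x ∈ ((N ⊔ Subgroup.zpowers t : Subgroup G) : Set G) := hU ▸ hx
    rw [Subgroup.coe_mul_of_right_le_normalizer_left N _ hn] at h'
    obtain ⟨n, hn', _, ⟨i, rfl⟩, e : n * t ^ i = τ x⟩ := h'
    obtain ⟨d, hd, hk⟩ := hdecN (Function.surjInv hs n) (by rw [Function.surjInv_eq hs]; exact hn')
    rw [MonoidHom.mem_ker, map_mul, map_inv, Function.surjInv_eq hs, inv_mul_eq_one] at hk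
    exact ⟨d, hd, i, (d * a ^ i)⁻¹ * x, by simp [MonoidHom.mem_ker, ha, hk, ← e],
      (mul_inv_cancel_left _ _).symm⟩
  obtain ⟨d, hd, i, k, hk, rfl⟩ := hdec x hx
  obtain ⟨d', hd', j, k', hk', rfl⟩ := hdec y hy
  rw [Schur.commutatorElement_congr τ hc (a' := d * a ^ i) (b' := d' * a ^ j)
    (by simp [MonoidHom.mem_ker.1 hk]) (by simp [MonoidHom.mem_ker.1 hk']), commutatorElement_def,
    show d * a ^ i * (d' * a ^ j) * (d * a ^ i)⁻¹ * (d' * a ^ j)⁻¹ =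
      d * (a ^ i * d' * (a ^ i)⁻¹) * (a ^ j * d⁻¹ * (a ^ j)⁻¹) * d'⁻¹ by group]
  have haU : ∀ i : ℤ, τ (a ^ i) ∈ U := fun i => by rw [map_zpow, ha]; exact zpow_mem ht i
  exact mul_mem (mul_mem (mul_mem hd (hnD _ (haU i) _ hd')) (hnD _ (haU j) _ (inv_mem hd)))
    (inv_mem hd')

end CfsgLib.Schur.UnitaryLocal
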