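import Cfsg.Agent.Lib.Schur.UnitaryWindow
import Cfsg.Agent.Lib.Schur.OddSplit
import Cfsg.Agent.Lib.Schur.SmallSylow

/-!
Local criteria for the small unitary groups: a prime dividing the order once, a quaternion
configuration, a complement normalised by a supplement.
-/

set_option autoImplicit false
set_option linter.unusedSectionVars false
set_option linter.style.haveILetI false

open scoped commutatorElement

namespace CfsgLib.Schur.UnitaryTools

universe u

variable {E G : Type u} [Group E] [Group G] {τ : E →* G}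

/-- A prime dividing the order of `G` at most once contributes nothing. -/
theorem no_stem_of_sq_not_dvd [Finite G] [Finite E] (hτ : Cfsg.IsStemExtension τ) {ℓ : ℕ}
    (hℓ : ℓ.Prime) (hk : Nat.card τ.ker = ℓ) (h : ¬ ℓ ^ 2 ∣ Nat.card G) : False := by
  haveI := Fact.mk hℓ
  let P : Sylow ℓ G := default
  haveI : IsCyclic (P : Subgroup G) := by
    obtain ⟨j, hj⟩ := IsPGroup.iff_card.1 P.isPGroup'
    rcases (show j = 0 ∨ j = 1 ∨ 2 ≤ j by omega) with rfl | rfl | h2
    · rw [pow_zero] at hj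
      haveI := (Nat.card_eq_one_iff_unique.1 hj).1
      infer_instance
    · exact isCyclic_of_prime_card (p := ℓ) (by rw [hj, pow_one])
    · exact absurd ((pow_dvd_pow ℓ h2).trans (hj ▸ (P : Subgroup G).card_subgroup_dvd_card)) h
  refine no_stem_of_local hℓ hτ hk (P : Subgroup G) P.not_dvd_index fun z hz hzd _ => ?_
  rw [preimage_commutator_eq_bot_of_isCyclic τ hτ.2.1] at hzd
  exact Subgroup.mem_bot.1 hzd

/-- A quaternion configuration: two elements with the same square, which is their commutator and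
is nontrivial. -/
theorem no_kernel_quaternion (hc : τ.ker ≤ Subgroup.center E) (hs : Function.Surjective τ)
    {a b : G} (U : Subgroup G) (hU : U = Subgroup.closure {a, b}) (hab : a ^ 2 = b ^ 2)
    (hcm : ⁅a, b⁆ = a ^ 2) (ha4 : a ^ 4 = 1) (ha2 : a ^ 2 ≠ 1)
    {z : E} (hz : z ∈ τ.ker) (hzd : z ∈ ⁅U.comap τ, U.comap τ⁆) : z = 1 := by
  obtain ⟨A, rfl⟩ := hs a
  obtain ⟨B, rfl⟩ := hs b
  set c := ⁅A, B⁆ with hcdef
  have hτc : τ c = τ A ^ 2 := by rw [hcdef, map_commutatorElement, hcm]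
  have hk : ∀ x : E, τ x = 1 → ∀ g, Commute g x := fun x hx g =>
    Subgroup.mem_center_iff.1 (hc (MonoidHom.mem_ker.2 hx)) g
  have hsq : ∀ X : E, τ X ^ 2 = τ A ^ 2 → Commute X c := fun X hX => by
    have h1 : τ ((X ^ 2)⁻¹ * c) = 1 := by rw [map_mul, map_inv, map_pow, hτc, hX, inv_mul_cancel]
    have h2 := ((Commute.refl X).pow_right 2).mul_right (hk _ h1 X)
    rwa [mul_inv_cancel_left] at h2
  have hA : Commute A c := hsq A rfl
  have hB : Commute B c := hsq B hab.symm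
  have hA2 : Commute (A ^ 2) B := by
    have h1 : τ ((B ^ 2)⁻¹ * A ^ 2) = 1 := by rw [map_mul, map_inv, map_pow, map_pow, hab, inv_mul_cancel]
    have h2 := ((Commute.refl B).pow_right 2).mul_right (hk _ h1 B)
    rw [mul_inv_cancel_left] at h2
    exact h2.symm
  have hc2 : c * c = 1 := by
    have e : ⁅A ^ 2, B⁆ = c * c := by
      rw [pow_two, commutatorElement_mul_left_eq_conj_mul, hA.eq, mul_inv_cancel_right]
    rw [← e, commutatorElement_eq_one_iff_mul_comm.2 hA2.eq]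
  have hz' 
    := CfsgLib.Schur.preimage_commutator_le hc U hU rfl rfl c (Subgroup.mem_zpowers c)
    (by rw [hτc, hU]; exact Subgroup.pow_mem _ (Subgroup.subset_closure (Set.mem_insert _ _)) 2)
    ⟨by rw [hA.eq, mul_inv_cancel_right]; exact Subgroup.mem_zpowers c,
      by rw [hA.inv_left.eq, inv_mul_cancel_right]; exact Subgroup.mem_zpowers c⟩
    ⟨by rw [hB.eq, mul_inv_cancel_right]; exact Subgroup.mem_zpowers c,
      by rw [hB.inv_left.eq, inv_mul_cancel_right]; exact Subgroup.mem_zpowers c⟩ hzd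
  obtain ⟨i, rfl⟩ := Subgroup.mem_zpowers_iff.1 hz'
  rcases Int.even_or_odd' i with ⟨j, rfl | rfl⟩
  · rw [zpow_mul, zpow_two, hc2, one_zpow]
  · exfalso
    rw [zpow_add, zpow_mul, zpow_two, hc2, one_zpow, one_mul, zpow_one, MonoidHom.mem_ker, hτc] at hz
    exact ha2 hz

/-- A complement over a normalised subgroup: the kernel meets the derived preimage only in the
derived preimage of the supplement. -/
theorem commutator_le_sup (hs : Function.Surjective τ) (D : Subgroup E) (L : Subgroup G)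
    (hN : ∀ g, τ g ∈ L → ∀ d ∈ D, g * d * g⁻¹ ∈ D) (U : Subgroup G)
    (hU : U ≤ D.map τ ⊔ L) {x : E} (hx : x ∈ ⁅U.comap τ, U.comap τ⁆) :
    ∃ d ∈ D, ∃ l ∈ ⁅L.comap τ, L.comap τ⁆, x = d * l := by
  set Lt := L.comap τ with hLt
  set C := ⁅Lt, Lt⁆
  have hCL : C ≤ Lt := Subgroup.commutator_le.2 fun a ha b hb => by
    rw [commutatorElement_def]
    exact mul_mem (mul_mem (mul_mem ha hb) (inv_mem ha)) (inv_mem hb)
  have hnorm : Lt ≤ Subgroup.normalizer (D : Set E) := fun g hg =>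
    Subgroup.mem_normalizer_iff.2 fun d => ⟨hN g hg d, fun h => by
      have := hN g⁻¹ (show τ g⁻¹ ∈ L by rw [map_inv]; exact inv_mem hg) _ h
      rwa [show g⁻¹ * (g * d * g⁻¹) * g⁻¹⁻¹ = d by group] at this⟩
  have hle : U.comap τ ≤ D ⊔ Lt := by
    refine (Subgroup.comap_mono hU).trans (le_of_eq ?_)
    rw [show D ⊔ Lt = ((D ⊔ Lt).map τ).comap τ from ?_]
    · rw [Subgroup.map_sup, hLt, Subgroup.map_comap_eq_self_of_surjective hs]
    · rw [Subgroup.comap_map_eq_self]
      exact le_sup_of_le_right (fun k hk => show τ k ∈ L by rw [MonoidHom.mem_ker.1 hk]; exact one_mem L)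
  have hdec : ∀ y ∈ U.comap τ, ∃ d ∈ D, ∃ g ∈ Lt, y = d * g := fun y hy => by
    have h' : y ∈ ((D ⊔ Lt : Subgroup E) : Set E) := hle hy
    rw [Subgroup.coe_mul_of_right_le_normalizer_left D _ hnorm] at h'
    obtain ⟨d, hd, g, hg, e⟩ := h'
    exact ⟨d, hd, g, hg, e.symm⟩
  have hnC : C ≤ Subgroup.normalizer (D : Set E) := hCL.trans hnorm
  have key : ⁅U.comap τ, U.comap τ⁆ ≤ D ⊔ C := Subgroup.commutator_le.2 fun y hy y' hy' => by
    obtain ⟨d, hd, g, hg, rfl⟩ := hdec y hy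
    obtain ⟨d', hd', g', hg', rfl⟩ := hdec y' hy'
    set c := ⁅g, g'⁆
    have hc : c ∈ C := Subgroup.commutator_mem_commutator hg hg'
    have hcL : τ c ∈ L := hCL hc
    rw [commutatorElement_def, show d * g * (d' * g') * (d * g)⁻¹ * (d' * g')⁻¹ =
      (d * (g * d' * g⁻¹) * (c * (g' * d⁻¹ * g'⁻¹) * c⁻¹) * (c * d'⁻¹ * c⁻¹)) * c by
        simp only [c, commutatorElement_def]; group]
    exact mul_mem (Subgroup.mem_sup_left (mul_mem (mul_mem (mul_mem hd (hN g hg _ hd'))
      (hN c hcL _ (hN g' hg' _ (inv_mem hd)))) (hN c hcL _ (inv_mem hd')))) (Subgroup.mem_sup_right hc)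
  have h' : x ∈ ((D ⊔ C : Subgroup E) : Set E) := key hx
  rw [Subgroup.coe_mul_of_right_le_normalizer_left D _ hnC] at h'
  obtain ⟨d, hd, l, hl, e⟩ := h'
  exact ⟨d, hd, l, hl, e.symm⟩

theorem no_kernel_semidirect (hs : Function.Surjective τ) (D : Subgroup E) (L : Subgroup G)
    (hN : ∀ g, τ g ∈ L → ∀ d ∈ D, g * d * g⁻¹ ∈ D) (hD : ∀ d ∈ D, τ d ∈ L → d = 1)
    (U : Subgroup G) (hU : U ≤ D.map τ ⊔ L)
    (hL : ∀ z ∈ τ.ker, z ∈ ⁅L.comap τ, L.comap τ⁆ → z = 1)
    {z : E} (hz : z ∈ τ.ker) (hzd : z ∈ ⁅U.comap τ, U.comap τ⁆) : z = 1 := by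
  obtain ⟨d, hd, l, hl, rfl⟩ := commutator_le_sup hs D L hN U hU hzd
  have hlL : τ l ∈ L := (Subgroup.commutator_le.2 fun a ha b hb => by
    rw [commutatorElement_def]
    exact mul_mem (mul_mem (mul_mem ha hb) (inv_mem ha)) (inv_mem hb) :
      ⁅L.comap τ, L.comap τ⁆ ≤ L.comap τ) hl
  have hd1 : d = 1 := hD d hd (by
    have : τ d = (τ l)⁻¹ := eq_inv_of_mul_eq_one_left (by rw [← map_mul]; exact hz)
    rw [this]; exact inv_mem hlL)
  subst hd1
  rw [one_mul] at hz ⊢
  exact hL l hz hl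

end CfsgLib.Schur.UnitaryTools
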