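import Cfsg.Agent.Lib.Schur.UnitaryThreeMult
import Cfsg.Agent.Lib.Schur.UnitarySmallTools

/-!
The monomial subgroup of `SU_n(q)` in characteristic two, and the primes dividing `q + 1`: the lifts
of the diagonal torus commute, and a torus extended by two commuting cycles gives no kernel.
-/

set_option autoImplicit false
set_option linter.unusedSectionVars false
set_option linter.style.haveILetI false

open scoped commutatorElement

namespace CfsgLib.Schur.UnitaryMono

open Matrix Cfsg CfsgLib.Classical.Herm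
open CfsgLib.ClassicalAut (Unitary.Conj Unitary.herm_apply)
open CfsgLib.Schur.UnitaryThree (mu card_mu)

universe u

variable {F : Type u} [Field F] [Finite F] {q : ℕ} (K : Unitary.Conj F q) {n : ℕ}

/-- The product of the coordinates. -/
noncomputable def prodHom : (Fin n → mu K) →* mu K :=
  MonoidHom.mk' (fun f => ∏ i, f i) fun f g => Finset.prod_mul_distrib

/-- The torus of determinant one. -/
noncomputable def Tor (n : ℕ) : Subgroup (Fin n → mu K) := (prodHom K).ker

theorem mem_Tor {f : Fin n → mu K} : f ∈ Tor K n ↔ ∏ i, f i = 1 := Iff.rfl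

theorem prod_val {f : Fin n → mu K} (hf : f ∈ Tor K n) : ∏ i, ((f i : Fˣ) : F) = 1 := by
  have h := congrArg (fun x : mu K => ((x : Fˣ) : F)) ((mem_Tor K).1 hf)
  simpa using h

/-- The diagonal matrices. -/
noncomputable def diagHom : Tor K n →* SU n F q :=
  MonoidHom.mk'
    (fun f => ⟨⟨Matrix.diagonal (fun i => (((f : Fin n → mu K) i : Fˣ) : F)),
        by rw [det_diagonal]; exact prod_val K f.2⟩, fun u v => by
      show hermForm n F q (Matrix.diagonal _ *ᵥ u) (Matrix.diagonal _ *ᵥ v) = hermForm n F q u v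
      rw [Unitary.herm_apply K, Unitary.herm_apply K]
      refine Finset.sum_congr rfl fun i _ => ?_
      rw [mulVec_diagonal, mulVec_diagonal, map_mul]
      have h : (((f : Fin n → mu K) i : Fˣ) : F) * K.bar (((f : Fin n → mu K) i : Fˣ) : F) = 1 :=
        ((f : Fin n → mu K) i).2
      linear_combination (u i * K.bar (v i)) * h⟩)
    fun f g => Subtype.ext (Subtype.ext (by
      show Matrix.diagonal _ = Matrix.diagonal _ * Matrix.diagonal _
      rw [diagonal_mul_diagonal]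
      congr 1))

theorem app_diag (f : Tor K n) (v : Fin n → F) (i : Fin n) :
    app (diagHom K f) v i = (((f : Fin n → mu K) i : Fˣ) : F) * v i :=
  mulVec_diagonal (fun i => (((f : Fin n → mu K) i : Fˣ) : F)) v i

theorem diag_injective : Function.Injective (diagHom K (n := n)) := fun f g h => by
  refine Subtype.ext (funext fun i => Subtype.ext (Units.ext ?_))
  have := congrArg (fun x => app x (fun _ => (1 : F)) i) h
  simpa [app_diag] using this

variable (h2 : (2 : F) = 0)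

include K h2 in
theorem perm_det (σ : Equiv.Perm (Fin n)) : (σ.permMatrix F).det = 1 := by
  rw [det_permutation]
  rcases Int.units_eq_one_or (Equiv.Perm.sign σ) with h | h <;> rw [h]
  · simp
  · simp only [Units.val_neg, Units.val_one, Int.cast_neg, Int.cast_one]
    linear_combination (-1 : F) * h2

/-- The permutation matrices. -/
noncomputable def permHom : Equiv.Perm (Fin n) →* SU n F q :=
  MonoidHom.mk'
    (fun σ => ⟨⟨(σ⁻¹).permMatrix F, perm_det K h2 σ⁻¹⟩, fun u v => by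
      show hermForm n F q ((σ⁻¹).permMatrix F *ᵥ u) ((σ⁻¹).permMatrix F *ᵥ v) = hermForm n F q u v
      rw [permMatrix_mulVec, permMatrix_mulVec, Unitary.herm_apply K, Unitary.herm_apply K]
      exact Equiv.sum_comp σ⁻¹ (fun i => u i * K.bar (v i))⟩)
    fun σ τ => ext_app fun v => by
      rw [app_mul]
      show (σ * τ)⁻¹.permMatrix F *ᵥ v = σ⁻¹.permMatrix F *ᵥ (τ⁻¹.permMatrix F *ᵥ v)
      rw [permMatrix_mulVec, permMatrix_mulVec, permMatrix_mulVec]
      rfl

theorem app_perm (σ : Equiv.Perm (Fin n)) (v : Fin n → F) (i : Fin n) :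
    app (permHom K h2 σ : SU n F q) v i = v (σ⁻¹ i) :=
  congrFun (permMatrix_mulVec (v := v) (σ⁻¹)) i

/-- The torus element with permuted coordinates. -/
noncomputable def tw (σ : Equiv.Perm (Fin n)) (f : Tor K n) : Tor K n :=
  ⟨fun i => (f : Fin n → mu K) (σ⁻¹ i), by
    rw [mem_Tor, Equiv.prod_comp σ⁻¹ (fun i => (f : Fin n → mu K) i)]
    exact (mem_Tor K).1 f.2⟩

theorem perm_conj (σ : Equiv.Perm (Fin n)) (f : Tor K n) :
    permHom K h2 σ * diagHom K f * (permHom K h2 σ)⁻¹ = diagHom K (tw K σ f) := by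
  refine mul_inv_eq_iff_eq_mul.2 (ext_app fun v => funext fun i => ?_)
  rw [app_mul, app_mul, app_perm, app_diag, app_diag, app_perm]
  rfl

/-- A torus element supported on two coordinates. -/
noncomputable def dd (i j : Fin n) : mu K →* Tor K n :=
  MonoidHom.mk' (fun x => ⟨Pi.mulSingle i x * Pi.mulSingle j x⁻¹, by
      rw [mem_Tor]
      simp [Finset.prod_mul_distrib]⟩)
    fun x y => Subtype.ext (by
      simp only [mul_inv, Subgroup.coe_mul, Pi.mulSingle_mul]
      exact mul_mul_mul_comm _ _ _ _)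

theorem coe_dd (i j : Fin n) (x : mu K) :
    ((dd K i j x : Tor K n) : Fin n → mu K) = Pi.mulSingle i x * Pi.mulSingle j x⁻¹ := rfl

theorem tw_dd (σ : Equiv.Perm (Fin n)) (i j : Fin n) (x : mu K) :
    tw K σ (dd K i j x) = dd K (σ i) (σ j) x := by
  refine Subtype.ext (funext fun l => ?_)
  show ((dd K i j x : Tor K n) : Fin n → mu K) (σ⁻¹ l) = ((dd K (σ i) (σ j) x : Tor K n) : Fin n → mu K) l
  simp only [coe_dd, Pi.mul_apply, Pi.mulSingle_apply]
  congr 1 <;> exact if_congr Equiv.Perm.inv_eq_iff_eq rfl rfl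

theorem dd_trans (i j k : Fin n) (x : mu K) : dd K i j x * dd K j k x = dd K i k x := by
  refine Subtype.ext ?_
  rw [Subgroup.coe_mul, coe_dd, coe_dd, coe_dd, Pi.mulSingle_inv (i := j), mul_assoc, inv_mul_cancel_left]

theorem dd_swap (i j : Fin n) (x : mu K) : dd K j i x = dd K i j x⁻¹ := by
  refine Subtype.ext ?_
  rw [coe_dd, coe_dd, inv_inv, mul_comm]

variable {E : Type u} [Group E] [Finite E] {τ : E →* SU n F q} {ℓ : ℕ}

section Torus

variable (hs : Function.Surjective τ) (hc : τ.ker ≤ Subgroup.center E) (hℓ : ℓ.Prime) (hℓ2 : ℓ ≠ 2)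
  (hk : Nat.card τ.ker = ℓ)

include h2 hs hc hℓ hℓ2 hk

theorem pair_comm {i j k : Fin n} (hij : i ≠ j) (hik : i ≠ k) (hjk : j ≠ k) {u v : E}
    (hu : τ u ∈ ((diagHom K).comp (dd K i j)).range ⊔ ((diagHom K).comp (dd K j k)).range)
    (hv : τ v ∈ ((diagHom K).comp (dd K i j)).range ⊔ ((diagHom K).comp (dd K j k)).range) :
    Commute u v := by
  haveI : IsCyclic (mu K) := isCyclic_of_subgroup_isDomain
    ((Units.coeHom F).comp (mu K).subtype) (Units.val_injective.comp Subtype.val_injective)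
  refine UnitaryLocal.preimage_pair_comm hc hℓ hℓ2 hk hs _ _
    (fun x y => (Commute.all (dd K i j x) (dd K j k y)).map (diagHom K))
    (permHom K h2 (Equiv.swap i j)) (fun x => ?_) (fun x => ?_) hu hv
  · show permHom K h2 _ * diagHom K (dd K i j x) * _ = diagHom K (dd K i j x⁻¹)
    rw [perm_conj, tw_dd, Equiv.swap_apply_left, Equiv.swap_apply_right, dd_swap K i j]
  · show permHom K h2 _ * diagHom K (dd K j k x) * _ = diagHom K (dd K i j x) * diagHom K (dd K j k x)
    rw [perm_conj, tw_dd, Equiv.swap_apply_right, Equiv.swap_apply_of_ne_of_ne hik.symm hjk.symm,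
      ← map_mul, dd_trans]

theorem torus_comm (hn : 3 ≤ n) {u v : E} (hu : τ u ∈ (diagHom K (n := n)).range)
    (hv : τ v ∈ (diagHom K (n := n)).range) : Commute u v := by
  classical
  let o : Fin n := ⟨0, by omega⟩
  have hgen : ∀ f : Tor K n, f = ∏ i ∈ Finset.univ.erase o, dd K i o ((f : Fin n → mu K) i) := by
    intro f
    set g := ∏ i ∈ Finset.univ.erase o, dd K i o ((f : Fin n → mu K) i)
    have hne : ∀ l ≠ o, (g : Fin n → mu K) l = (f : Fin n → mu K) l := fun l hl => by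
      simp only [g, SubmonoidClass.coe_finsetProd, Finset.prod_apply, coe_dd, Pi.mul_apply,
        Pi.mulSingle_eq_of_ne hl, mul_one]
      rw [Finset.prod_eq_single l (fun b _ hb => Pi.mulSingle_eq_of_ne (Ne.symm hb) _)
        (fun h => absurd (Finset.mem_erase.2 ⟨hl, Finset.mem_univ l⟩) h), Pi.mulSingle_eq_same]
    refine Subtype.ext (funext fun l => ?_)
    by_cases hl : l = o
    · subst hl
      have e1 := (mem_Tor K).1 f.2
      have e2 := (mem_Tor K).1 g.2
      rw [← Finset.mul_prod_erase _ _ (Finset.mem_univ o)] at e1 e2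
      rw [Finset.prod_congr rfl (fun l hl => hne l (Finset.ne_of_mem_erase hl))] at e2
      exact mul_right_cancel (e1.trans e2.symm)
    · exact (hne l hl).symm
  have step : ∀ w : E, (∀ i, i ≠ o → ∀ x, ∀ a, τ a = diagHom K (dd K i o x) → Commute w a) →
      ∀ a, τ a ∈ (diagHom K (n := n)).range → Commute w a := by
    intro w hw a ha
    obtain ⟨f, hf⟩ := ha
    set W := (Subgroup.centralizer {w}).map τ
    have hfW : diagHom K f ∈ W := by
      show f ∈ W.comap (diagHom K)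
      rw [hgen f]
      refine Subgroup.prod_mem _ fun i hi => ?_
      obtain ⟨b, hb⟩ := hs (diagHom K (dd K i o ((f : Fin n → mu K) i)))
      exact ⟨b, Subgroup.mem_centralizer_singleton_iff.2
        (hw i (Finset.ne_of_mem_erase hi) _ b hb).eq.symm, hb⟩
    obtain ⟨b, hb, e⟩ := hfW
    have hz : b⁻¹ * a ∈ τ.ker := by rw [MonoidHom.mem_ker, map_mul, map_inv, e, hf, inv_mul_cancel]
    have h := (show Commute w b from (Subgroup.mem_centralizer_singleton_iff.1 hb).symm).mul_right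
      (UnitaryLocal.commute_ker hc hz w)
    rwa [mul_inv_cancel_left] at h
  refine step u (fun i hi x a ha => ?_) v hv
  refine (step a (fun k hk' y b hb => ?_) u hu).symm
  obtain ⟨k₀, hki, hk0⟩ : ∃ k₀ : Fin n, k₀ ≠ i ∧ k₀ ≠ o := by
    have h : (Finset.univ \ {i, o} : Finset (Fin n)).Nonempty := by
      rw [← Finset.card_pos, Finset.card_univ_sdiff, Fintype.card_fin]
      have := Finset.card_le_two (a := i) (b := o)
      omega
    obtain ⟨k₀, hk₀⟩ := h
    simp only [Finset.mem_sdiff, Finset.mem_univ, Finset.mem_insert, Finset.mem_singleton,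
      true_and, not_or] at hk₀
    exact ⟨k₀, hk₀.1, hk₀.2⟩
  by_cases hik : k = i
  · subst hik
    exact pair_comm K h2 hs hc hℓ hℓ2 hk hi (Ne.symm hki) (Ne.symm hk0)
      (ha ▸ Subgroup.mem_sup_left ⟨x, rfl⟩) (hb ▸ Subgroup.mem_sup_left ⟨y, rfl⟩)
  · refine pair_comm K h2 hs hc hℓ hℓ2 hk hi (Ne.symm hik) (Ne.symm hk')
      (ha ▸ Subgroup.mem_sup_left ⟨x, rfl⟩) (hb ▸ Subgroup.mem_sup_right ⟨y⁻¹, ?_⟩)
    show diagHom K (dd K o k y⁻¹) = diagHom K (dd K k o y)
    rw [dd_swap K o k]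

end Torus

/-- The cycles: two commutators of transpositions on disjoint supports. -/
structure Cycles (n : ℕ) (s₁ s₂ s₃ s₄ : Equiv.Perm (Fin n)) : Prop where
  comm : Commute s₁ s₃ ∧ Commute s₁ s₄ ∧ Commute s₂ s₃ ∧ Commute s₂ s₄
  disj : ∀ i, (⁅s₁, s₂⁆)⁻¹ i = i ∨ (⁅s₃, s₄⁆)⁻¹ i = i
  fix₁ : ∀ {A : Type u} (f : Fin n → A), (∀ i, f ((⁅s₁, s₂⁆)⁻¹ i) = f i) →
    (∀ i, f (s₁⁻¹ i) = f i) ∧ ∀ i, f (s₂⁻¹ i) = f i
  fix₂ : ∀ {A : Type u} (f : Fin n → A), (∀ i, f ((⁅s₃, s₄⁆)⁻¹ i) = f i) →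
    (∀ i, f (s₃⁻¹ i) = f i) ∧ ∀ i, f (s₄⁻¹ i) = f i

/-- Commutators inside a closure with a normalised subgroup. -/
theorem commutator_closure_le {E : Type*} [Group E] (S : Set E) (D : Subgroup E)
    (hn : ∀ s ∈ S, ∀ d ∈ D, s * d * s⁻¹ ∈ D ∧ s⁻¹ * d * s ∈ D) (hc : ∀ s ∈ S, ∀ t ∈ S, ⁅s, t⁆ ∈ D) :
    ⁅Subgroup.closure S, Subgroup.closure S⁆ ≤ D := by
  have hN : ∀ x ∈ Subgroup.closure S, ∀ d ∈ D, x * d * x⁻¹ ∈ D ∧ x⁻¹ * d * x ∈ D := by
    intro x hx
    induction hx using Subgroup.closure_induction with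
    | mem s hs => exact hn s hs
    | one => intro d hd; simpa using hd
    | mul x y _ _ hx hy =>
      intro d hd
      constructor
      · rw [show x * y * d * (x * y)⁻¹ = x * (y * d * y⁻¹) * x⁻¹ by group]
        exact (hx _ (hy d hd).1).1
      · rw [show (x * y)⁻¹ * d * (x * y) = y⁻¹ * (x⁻¹ * d * x) * y by group]
        exact (hy _ (hx d hd).2).2
    | inv x _ hx => intro d hd; rw [inv_inv]; exact (hx d hd).symm
  have h1 : ∀ t, (∀ s ∈ S, ⁅s, t⁆ ∈ D) → ∀ x ∈ Subgroup.closure S, ⁅x, t⁆ ∈ D := by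
    intro t ht x hx
    induction hx using Subgroup.closure_induction with
    | mem s hs => exact ht s hs
    | one => simp
    | mul x y hx' _ hx hy =>
      rw [commutatorElement_mul_left_eq_conj_mul]
      exact mul_mem (hN x hx' _ hy).1 hx
    | inv x hx' hx =>
      rw [show ⁅x⁻¹, t⁆ = x⁻¹ * ⁅x, t⁆⁻¹ * x by simp only [commutatorElement_def]; group]
      exact (hN x hx' _ (inv_mem hx)).2
  refine Subgroup.commutator_le.2 fun x hx y hy => h1 y (fun s hs => ?_) x hx
  rw [← commutatorElement_inv y s]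
  exact inv_mem (h1 s (fun t ht => hc t ht s hs) y hy)

include K h2 in
theorem no_stem_cycles (hn : 3 ≤ n) {s₁ s₂ s₃ s₄ : Equiv.Perm (Fin n)} (hS : Cycles.{u} n s₁ s₂ s₃ s₄)
    (hτ : Cfsg.IsStemExtension τ) (hℓ : ℓ.Prime) (hℓ2 : ℓ ≠ 2) (hk : Nat.card τ.ker = ℓ) {r : ℕ}
    (hr : r ∣ Nat.card ↥(Subgroup.zpowers ⁅s₁, s₂⁆ ⊔ Subgroup.zpowers ⁅s₃, s₄⁆))
    (hnum : ¬ (q + 1) ^ (n - 1) * r * ℓ ∣ Nat.card (SU n F q)) : False := by
  classical
  obtain ⟨hs, hc, hd⟩ := hτ
  set A := (diagHom K (n := n)).range with hA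
  set σ := ⁅s₁, s₂⁆ with hσ
  set σ' := ⁅s₃, s₄⁆ with hσ'
  set P := permHom K h2 (n := n) with hP
  set Q := Subgroup.zpowers σ ⊔ Subgroup.zpowers σ' with hQ
  set U := A ⊔ Q.map P with hU
  have hPA : ∀ π : Equiv.Perm (Fin n), ∀ a ∈ A, P π * a * (P π)⁻¹ ∈ A := by
    rintro π _ ⟨f, rfl⟩
    exact ⟨tw K π f, (perm_conj K h2 π f).symm⟩
  have hidx : ¬ ℓ ∣ U.index := by
    intro h
    haveI : (A.subgroupOf U).Normal := by
      rw [Subgroup.normal_subgroupOf_iff_le_normalizer le_sup_left]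
      refine sup_le Subgroup.le_normalizer ?_
      rintro _ ⟨π, -, rfl⟩
      refine Subgroup.mem_normalizer_iff.2 fun a => ⟨hPA π a, fun ha => ?_⟩
      have := hPA π⁻¹ _ ha
      rwa [map_inv, show (P π)⁻¹ * (P π * a * (P π)⁻¹) * (P π)⁻¹⁻¹ = a by group] at this
    let θ : Q →* U ⧸ A.subgroupOf U := (QuotientGroup.mk' _).comp
      ((P.comp Q.subtype).codRestrict U fun x => Subgroup.mem_sup_right ⟨x, x.2, rfl⟩)
    have hθ : Function.Injective θ := by
      rw [← MonoidHom.ker_eq_bot_iff, Subgroup.eq_bot_iff_forall]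
      intro x hx
      have h1 : P (x : Equiv.Perm (Fin n)) ∈ A := by
        have := (QuotientGroup.eq_one_iff _).1 hx
        exact Subgroup.mem_subgroupOf.1 this
      obtain ⟨f, hf⟩ := h1
      refine Subtype.ext (Equiv.ext fun i => ?_)
      have h2' := congrArg (fun g => app g (Pi.single i 1) ((x : Equiv.Perm (Fin n)) i)) hf
      simp only [app_diag, hP, app_perm, Equiv.Perm.inv_def, Equiv.symm_apply_apply, Pi.single_eq_same] at h2'
      by_contra hne
      rw [Pi.single_eq_of_ne (show (x : Equiv.Perm (Fin n)) i ≠ i from hne), mul_zero] at h2'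
      exact zero_ne_one h2'
    have h1 : r ∣ A.relIndex U := hr.trans (Subgroup.card_dvd_of_injective θ hθ)
    have h3 : A.relIndex U * U.index = A.index := Subgroup.relIndex_mul_index le_sup_left
    have hcA : Nat.card A = (q + 1) ^ (n - 1) := by
      rw [hA, ← Nat.card_congr (MonoidHom.ofInjective (diag_injective K (n := n))).toEquiv]
      have h4 := (Tor K n).card_mul_index
      have hsur : Function.Surjective (prodHom K (n := n)) := fun x =>
        ⟨Pi.mulSingle ⟨0, by omega⟩ x, by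
          show ∏ i, (Pi.mulSingle (⟨0, by omega⟩ : Fin n) x : Fin n → mu K) i = x
          simp⟩
      rw [Tor, Subgroup.index_ker, MonoidHom.range_eq_top.2 hsur, Subgroup.card_top, card_mu K,
        Nat.card_fun, card_mu K, Nat.card_fin] at h4
      refine Nat.eq_of_mul_eq_mul_right (show 0 < q + 1 by omega) ?_
      rw [← pow_succ, show n - 1 + 1 = n by omega]
      exact h4
    apply hnum
    rw [← A.card_mul_index, ← h3, hcA, mul_assoc]
    exact mul_dvd_mul_left _ (mul_dvd_mul h1 h)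
  refine no_stem_of_local hℓ ⟨hs, hc, hd⟩ hk U hidx fun z hz hzd _ => ?_
  obtain ⟨W₁, hW₁⟩ := hs (P s₁)
  obtain ⟨W₂, hW₂⟩ := hs (P s₂)
  obtain ⟨W₃, hW₃⟩ := hs (P s₃)
  obtain ⟨W₄, hW₄⟩ := hs (P s₄)
  have hfixc : ∀ {w : E} {x y : E}, Commute (τ w) (τ x) → Commute (τ w) (τ y) → Commute w ⁅x, y⁆ := by
    intro w x y hx hy
    have h := (conjugate_commutatorElement x y w).trans
      (CfsgLib.Schur.commutatorElement_congr τ hc (a := w * x * w⁻¹) (b := w * y * w⁻¹) (a' := x) (b' := y)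
        (by rw [map_mul, map_mul, map_inv, hx.eq, mul_inv_cancel_right])
        (by rw [map_mul, map_mul, map_inv, hy.eq, mul_inv_cancel_right]))
    exact mul_inv_eq_iff_eq_mul.1 h
  set C := ⁅W₁, W₂⁆ with hCdef
  set C' := ⁅W₃, W₄⁆ with hC'def
  have hτC : τ C = P σ := by rw [map_commutatorElement, hW₁, hW₂, hσ, map_commutatorElement]
  have hτC' : τ C' = P σ' := by rw [map_commutatorElement, hW₃, hW₄, hσ', map_commutatorElement]
  have hCC : Commute C C' := by
    obtain ⟨c13, c14, c23, c24⟩ := hS.comm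
    have k3 : Commute σ s₃ := by
      rw [hσ, commutatorElement_def]
      exact ((c13.mul_left c23).mul_left c13.inv_left).mul_left c23.inv_left
    have k4 : Commute σ s₄ := by
      rw [hσ, commutatorElement_def]
      exact ((c14.mul_left c24).mul_left c14.inv_left).mul_left c24.inv_left
    exact hfixc (by rw [hτC, hW₃]; exact k3.map P) (by rw [hτC, hW₄]; exact k4.map P)
  set At := A.comap τ with hAt
  have hcomm : ∀ u ∈ At, ∀ v ∈ At, Commute u v := fun u hu v hv =>
    torus_comm K h2 hs hc hℓ hℓ2 hk hn hu hv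
  have hAconj : ∀ X : E, (∃ π, τ X = P π) → ∀ u ∈ At, X * u * X⁻¹ ∈ At ∧ X⁻¹ * u * X ∈ At := by
    rintro X ⟨π, hπ⟩ u hu
    constructor
    · show τ (X * u * X⁻¹) ∈ A
      rw [map_mul, map_mul, map_inv, hπ]
      exact hPA π _ hu
    · show τ (X⁻¹ * u * X) ∈ A
      rw [map_mul, map_mul, map_inv, hπ, ← map_inv]
      have := hPA π⁻¹ _ hu
      rwa [map_inv, inv_inv, ← map_inv] at this
  have hdA : ∀ X : E, (∃ π, τ X = P π) → ∀ u ∈ At, ⁅u, X⁆ ∈ At := fun X hX u hu => by
    rw [commutatorElement_def, show u * X * u⁻¹ * X⁻¹ = u * (X * u⁻¹ * X⁻¹) by group]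
    exact mul_mem hu (hAconj X hX _ (inv_mem hu)).1
  have hC : ∃ π, τ C = P π := ⟨σ, hτC⟩
  have hC' : ∃ π, τ C' = P π := ⟨σ', hτC'⟩
  have hδ : ∀ X : E, (∃ π, τ X = P π) → ∀ u ∈ At, ∀ v ∈ At, ⁅u * v, X⁆ = ⁅u, X⁆ * ⁅v, X⁆ :=
    fun X hX u hu v hv => by
      rw [UnitaryLocal.comm_mul_left (hcomm u hu _ (hdA X hX v hv)),
        (hcomm _ (hdA X hX v hv) _ (hdA X hX u hu)).eq]
  have hδi : ∀ X : E, (∃ π, τ X = P π) → ∀ u ∈ At, ⁅u⁻¹, X⁆ = ⁅u, X⁆⁻¹ := fun X hX u hu => by
    refine eq_inv_of_mul_eq_one_left ?_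
    rw [← hδ X hX _ (inv_mem hu) _ hu, inv_mul_cancel, commutatorElement_one_left]
  let D : Subgroup E :=
    { carrier := {g | ∃ u ∈ At, ∃ v ∈ At, g = ⁅u, C⁆ * ⁅v, C'⁆}
      one_mem' := ⟨1, one_mem _, 1, one_mem _, by simp⟩
      mul_mem' := by
        rintro _ _ ⟨u, hu, v, hv, rfl⟩ ⟨u', hu', v', hv', rfl⟩
        refine ⟨u * u', mul_mem hu hu', v * v', mul_mem hv hv', ?_⟩
        rw [hδ C hC u hu u' hu', hδ C' hC' v hv v' hv']
        exact Commute.mul_mul_mul_comm (hcomm _ (hdA C' hC' v hv) _ (hdA C hC u' hu')) _ _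
      inv_mem' := by
        rintro _ ⟨u, hu, v, hv, rfl⟩
        refine ⟨u⁻¹, inv_mem hu, v⁻¹, inv_mem hv, ?_⟩
        rw [hδi C hC u hu, hδi C' hC' v hv, _root_.mul_inv_rev]
        exact ((hcomm _ (hdA C' hC' v hv) _ (hdA C hC u hu)).inv_inv).eq }
  have hDA : ∀ d ∈ D, d ∈ At := by
    rintro _ ⟨u, hu, v, hv, rfl⟩
    exact mul_mem (hdA C hC u hu) (hdA C' hC' v hv)
  have hS' : U.comap τ ≤ Subgroup.closure ((At : Set E) ∪ {C, C'}) := by
    set W := Subgroup.closure ((At : Set E) ∪ {C, C'})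
    have hk' : τ.ker ≤ W := fun x hx => Subgroup.subset_closure
      (.inl (show τ x ∈ A by rw [MonoidHom.mem_ker.1 hx]; exact one_mem A))
    have hle : U ≤ W.map τ := by
      refine sup_le (fun a ha => ?_) ?_
      · obtain ⟨b, rfl⟩ := hs a
        exact ⟨b, Subgroup.subset_closure (.inl ha), rfl⟩
      · rw [Subgroup.map_le_iff_le_comap]
        refine sup_le (Subgroup.zpowers_le.2 ?_) (Subgroup.zpowers_le.2 ?_)
        · exact ⟨C, Subgroup.subset_closure (.inr (.inl rfl)), hτC⟩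
        · exact ⟨C', Subgroup.subset_closure (.inr (.inr rfl)), hτC'⟩
    intro x hx
    obtain ⟨w, hw, e⟩ := hle hx
    have : w⁻¹ * x ∈ τ.ker := by rw [MonoidHom.mem_ker, map_mul, map_inv, e, inv_mul_cancel]
    have := mul_mem hw (hk' this)
    rwa [mul_inv_cancel_left] at this
  have hzD : z ∈ D := by
    refine commutator_closure_le _ D ?_ ?_ (Subgroup.commutator_mono hS' hS' hzd)
    · intro s hs' d hd'
      have hX : ∀ X : E, (∃ π, τ X = P π) → Commute X C → Commute X C' →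
          X * d * X⁻¹ ∈ D ∧ X⁻¹ * d * X ∈ D := by
        obtain ⟨u, hu, v, hv, rfl⟩ := hd'
        intro X hX k1 k2
        have e : ∀ Y : E, ∀ w : E, Commute X Y → X * ⁅w, Y⁆ * X⁻¹ = ⁅X * w * X⁻¹, Y⁆ ∧
            X⁻¹ * ⁅w, Y⁆ * X = ⁅X⁻¹ * w * X, Y⁆ := fun Y w hY => by
          constructor
          · rw [conjugate_commutatorElement, hY.eq, mul_inv_cancel_right]
          · have := conjugate_commutatorElement w Y X⁻¹
            rw [inv_inv, hY.inv_left.eq, inv_mul_cancel_right] at this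
            exact this
        refine ⟨⟨_, (hAconj X hX u hu).1, _, (hAconj X hX v hv).1, ?_⟩,
          ⟨_, (hAconj X hX u hu).2, _, (hAconj X hX v hv).2, ?_⟩⟩
        · rw [← (e C u k1).1, ← (e C' v k2).1]; group
        · rw [← (e C u k1).2, ← (e C' v k2).2]; group
      rcases hs' with hsA | rfl | rfl
      · have k := hcomm s hsA d (hDA d hd')
        exact ⟨by rw [k.eq, mul_inv_cancel_right]; exact hd',
          by rw [k.inv_left.eq, inv_mul_cancel_right]; exact hd'⟩
      · exact hX C hC (Commute.refl C) hCC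
      · exact hX C' hC' hCC.symm (Commute.refl C')
    · have hl : ∀ u ∈ At, ⁅u, C⁆ ∈ D ∧ ⁅u, C'⁆ ∈ D := fun u hu =>
        ⟨⟨u, hu, 1, one_mem _, by simp⟩, ⟨1, one_mem _, u, hu, by simp⟩⟩
      rintro s (hsA | rfl | rfl) t (htA | rfl | rfl)
      · rw [commutatorElement_eq_one_iff_mul_comm.2 (hcomm s hsA t htA).eq]; exact one_mem D
      · exact (hl s hsA).1
      · exact (hl s hsA).2
      · rw [← commutatorElement_inv t C]; exact inv_mem (hl t htA).1
      · rw [commutatorElement_eq_one_iff_mul_comm.2 rfl]; exact one_mem D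
      · rw [commutatorElement_eq_one_iff_mul_comm.2 hCC.eq]; exact one_mem D
      · rw [← commutatorElement_inv t C']; exact inv_mem (hl t htA).2
      · rw [commutatorElement_eq_one_iff_mul_comm.2 hCC.symm.eq]; exact one_mem D
      · rw [commutatorElement_eq_one_iff_mul_comm.2 rfl]; exact one_mem D
  obtain ⟨u, hu, v, hv, rfl⟩ := hzD
  obtain ⟨f, hf⟩ := hu
  obtain ⟨g, hg⟩ := hv
  have hval : ∀ (X : E) (π : Equiv.Perm (Fin n)) (w : E) (h : Tor K n), τ X = P π →
      diagHom K h = τ w → τ ⁅w, X⁆ = diagHom K (h * (tw K π h)⁻¹) := by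
    intro X π w h hX hw
    rw [commutatorElement_def, map_mul, map_mul, map_mul, map_inv, map_inv, hX, ← hw,
      show diagHom K h * P π * (diagHom K h)⁻¹ * (P π)⁻¹ =
        diagHom K h * (P π * diagHom K h * (P π)⁻¹)⁻¹ by group, perm_conj, map_mul, map_inv]
  rw [MonoidHom.mem_ker, map_mul, hval C σ u f hτC hf, hval C' σ' v g hτC' hg, ← map_mul] at hz
  have hfg := (map_eq_one_iff _ (diag_injective K)).1 hz
  have hpt : ∀ i, (f : Fin n → mu K) i * ((f : Fin n → mu K) (σ⁻¹ i))⁻¹ *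
      ((g : Fin n → mu K) i * ((g : Fin n → mu K) (σ'⁻¹ i))⁻¹) = 1 := fun i =>
    congrFun (congrArg Subtype.val hfg) i
  have hfσ : ∀ i, (f : Fin n → mu K) (σ⁻¹ i) = (f : Fin n → mu K) i := fun i => by
    rcases hS.disj i with h | h
    · rw [h]
    · have := hpt i
      rw [h, mul_inv_cancel, mul_one, mul_inv_eq_one] at this
      exact this.symm
  have hgσ : ∀ i, (g : Fin n → mu K) (σ'⁻¹ i) = (g : Fin n → mu K) i := fun i => by
    have := hpt i
    rw [hfσ i, mul_inv_cancel, one_mul, mul_inv_eq_one] at this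
    exact this.symm
  obtain ⟨f1, f2⟩ := hS.fix₁ _ hfσ
  obtain ⟨g3, g4⟩ := hS.fix₂ _ hgσ
  have hcm : ∀ (h : Tor K n) (π : Equiv.Perm (Fin n)), (∀ i, (h : Fin n → mu K) (π⁻¹ i) = (h : Fin n → mu K) i) →
      Commute (diagHom K h) (P π) := fun h π hh => by
    have := perm_conj K h2 π h
    rw [show tw K π h = h from Subtype.ext (funext hh)] at this
    exact (mul_inv_eq_iff_eq_mul.1 this).symm
  have e1 : Commute u C := hfixc (by rw [← hf, hW₁]; exact hcm f s₁ f1) (by rw [← hf, hW₂]; exact hcm f s₂ f2)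
  have e2 : Commute v C' := hfixc (by rw [← hg, hW₃]; exact hcm g s₃ g3) (by rw [← hg, hW₄]; exact hcm g s₄ g4)
  rw [commutatorElement_eq_one_iff_mul_comm.2 e1.eq, commutatorElement_eq_one_iff_mul_comm.2 e2.eq,
    one_mul]

end CfsgLib.Schur.UnitaryMono
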