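import Cfsg.Agent.Lib.MinIndexSU.Dich
import Cfsg.Agent.Lib.Schur.UnitarySmallTools
import Cfsg.Agent.Lib.Schur.UnitaryGeom
import Cfsg.Agent.Lib.Schur.UnitaryLocal

/-!
The defining characteristic of `SU_{2+k}(p)`, `p` prime: in a stem extension with kernel of order
`p` the preimage of the radical of a point stabiliser splits compatibly with `SU_k(p)`, so the
kernel comes from `SU_k(p)`.
-/

set_option autoImplicit false
set_option linter.unusedSectionVars false
set_option linter.style.haveILetI false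

open scoped commutatorElement

namespace CfsgLib.Schur.UnitaryPara

open Matrix Cfsg CfsgLib.Classical.Herm CfsgLib.MinIndexSU CfsgLib.Classical.Elation
open CfsgLib.ClassicalAut (Unitary.Conj)

universe u

variable {F : Type u} [Field F] [Finite F] {q k : ℕ} (K : Unitary.Conj F q)
  (P : HPair (F := F) (q := q) (k := k))

theorem eq_append {x : Fin (2 + k) → F} (hx : prj x = 0) :
    x = Fin.append (fun i => x (Fin.castAdd k i)) 0 := funext fun i => by
  induction i using Fin.addCases with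
  | left i => rw [Fin.append_left]
  | right i => rw [Fin.append_right]; exact congrFun hx i

include K in
/-- A torus element scaling the pair and the complement. -/
theorem exists_T {l m : F} (hl : l * K.bar l = 1) (hm : m * K.bar m = 1)
    (hdet : l ^ 2 * m ^ k = 1) : ∃ T : SU (2 + k) F q, app T P.v = l • P.v ∧
      (∀ z, app T (incl z) = incl (m • z)) ∧ ∀ A : SU k F q, Commute T (emb K A) := by
  classical
  set d : Fin (2 + k) → F := Fin.append (fun _ => l) (fun _ => m) with hd
  have hnorm : ∀ i, d i * K.bar (d i) = 1 := fun i => by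
    induction i using Fin.addCases with
    | left i => rw [hd, Fin.append_left]; exact hl
    | right i => rw [hd, Fin.append_right]; exact hm
  let T : SU (2 + k) F q := ⟨⟨Matrix.diagonal d, by
      rw [det_diagonal, Fin.prod_univ_add]
      simp [hd, hdet]⟩, fun u v => by
    show hermForm (2 + k) F q (Matrix.diagonal d *ᵥ u) (Matrix.diagonal d *ᵥ v) = _
    rw [ClassicalAut.Unitary.herm_apply K, ClassicalAut.Unitary.herm_apply K]
    refine Finset.sum_congr rfl fun i _ => ?_
    rw [mulVec_diagonal, mulVec_diagonal, map_mul]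
    linear_combination (u i * K.bar (v i)) * hnorm i⟩
  have hT : ∀ (a : Fin 2 → F) (z : Fin k → F), app T (Fin.append a z) = Fin.append (l • a) (m • z) := by
    intro a z
    funext i
    show (Matrix.diagonal d *ᵥ Fin.append a z) i = _
    rw [mulVec_diagonal]
    induction i using Fin.addCases <;> simp [hd]
  refine ⟨T, ?_, fun z => ?_, fun A => ext_app fun x => ?_⟩
  · conv_lhs => rw [eq_append P.v0, hT, smul_zero]
    conv_rhs => rw [eq_append P.v0]
    funext i
    induction i using Fin.addCases <;> simp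
  · show app T (Fin.append 0 z) = Fin.append 0 (m • z)
    rw [hT, smul_zero]
  · rw [← Fin.append_castAdd_natAdd (f := x), app_mul, app_mul, app_emb, hT, hT, app_emb, app_smul]

/-- The parameter set of the radical. -/
def IsPar (g : SU (2 + k) F q) (z : Fin k → F) : Prop := ∃ t, IsSg K g P.v (incl z) t

theorem par_mem {g : SU (2 + k) F q} {z : Fin k → F} (h : IsPar K P g z) : g ∈ rad K P :=
  ⟨_, h⟩

theorem exists_par {g : SU (2 + k) F q} (h : g ∈ rad K P) : ∃ z, IsPar K P g z := by
  obtain ⟨x, t, h⟩ := h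
  exact ⟨_, sg_normal K P h⟩

theorem par_mul {g g' : SU (2 + k) F q} {z z' : Fin k → F} (h : IsPar K P g z)
    (h' : IsPar K P g' z') : IsPar K P (g * g') (z + z') := by
  obtain ⟨t, h⟩ := h
  obtain ⟨t', h'⟩ := h'
  exact ⟨_, by rw [map_add]; exact sg_mul K h h'⟩

theorem par_one : IsPar K P 1 0 := ⟨0, by rw [map_zero]; exact sg_one K P.hv⟩

theorem par_inv {g : SU (2 + k) F q} {z : Fin k → F} (h : IsPar K P g z) : IsPar K P g⁻¹ (-z) := by
  obtain ⟨t, h⟩ := h
  exact ⟨_, by rw [map_neg]; exact sg_inv K h⟩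

theorem par_unique {g : SU (2 + k) F q} {z z' : Fin k → F} (h : IsPar K P g z)
    (h' : IsPar K P g z') : z = z' := by
  obtain ⟨t, h⟩ := h
  obtain ⟨t', h'⟩ := h'
  exact (sg_ext K P h h' rfl).1

theorem exists_el (z : Fin k → F) (hk : 1 ≤ k) : ∃ g, IsPar K P g z := by
  have h := ((ClassicalAut.Unitary.space (n := k) K).tr z).choose_spec
  change hermForm k F q z z + (1 : F) * _ + K.bar _ = 0 at h
  rw [one_mul] at h
  obtain ⟨g, hg⟩ := exists_sg K (show 3 ≤ 2 + k by omega) P.hv (h_incl_v K P z)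
    (t := ((ClassicalAut.Unitary.space (n := k) K).tr z).choose) (by rw [h_incl K]; exact h)
  exact ⟨g, _, hg⟩

theorem conj_sg {s g : SU (2 + k) F q} {c : F} (hc : c * K.bar c = 1) (hs : app s P.v = c • P.v)
    {z z' : Fin k → F} {t : F} (hz : K.bar c • app s (incl z) = incl z')
    (h : IsSg K g P.v (incl z) t) : IsSg K (s * g * s⁻¹) P.v (incl z') t := by
  have h1 := sg_conj K h s
  rw [hs] at h1
  have h3 : hermForm _ F q (app s (incl z)) P.v = 0 := by
    have h4 : hermForm _ F q (app s (incl z)) (app s P.v) = 0 := by rw [h_app]; exact h.2.1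
    rw [hs, h_smul_right K] at h4
    exact (mul_eq_zero.1 h4).resolve_left fun e => zero_ne_one (α := F) (by rw [← hc, e, mul_zero])
  have h2 := sg_smul K c h1 P.hv h3
  rwa [hz, hc, one_mul] at h2

theorem mul_swap {g g' : SU (2 + k) F q} {z z' : Fin k → F} (h : IsPar K P g z)
    (h' : IsPar K P g' z') (e : hermForm k F q z' z = hermForm k F q z z') : Commute g g' := by
  obtain ⟨t, h⟩ := h
  obtain ⟨t', h'⟩ := h'
  have h1 := sg_mul K h h'
  have h2 := sg_mul K h' h
  rw [h_incl K, e] at h1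
  rw [h_incl K, add_comm (incl z' : Fin (2 + k) → F), add_comm t' t] at h2
  exact sg_unique K h1 h2

theorem comm_par (hk : 1 ≤ k) {g g' : SU (2 + k) F q} {z z' : Fin k → F} (h : IsPar K P g z)
    (h' : IsPar K P g' z') :
    IsSg K ⁅g, g'⁆ P.v (incl (0 : Fin k → F)) (hermForm k F q z z' - hermForm k F q z' z) ∧
      IsPar K P ⁅g, g'⁆ 0 := by
  obtain ⟨t, h⟩ := h
  obtain ⟨t', h'⟩ := h'
  have h1 := sg_mul K h h'
  have h2 := sg_mul K h' h
  have hv : hermForm (2 + k) F q P.v P.v = 0 := P.hv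
  obtain ⟨c, hc⟩ := exists_sg K (show 3 ≤ 2 + k by omega) hv
    (h_zero_left K P.v) (t := hermForm k F q z z' - hermForm k F q z' z) (by
      rw [h_zero_left K, zero_add, map_sub, ← h_swap K z z', ← h_swap K z' z]; ring)
  have h3 := sg_mul K hc h2
  rw [h_zero_right K, sub_zero, zero_add, h_incl K] at h3
  rw [h_incl K] at h1 h2
  have e : g * g' = c * (g' * g) := sg_unique K h1 (by
    rw [add_comm (incl z : Fin (2 + k) → F)]
    rwa [show hermForm k F q z z' - hermForm k F q z' z + (t' + t - hermForm k F q z z') =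
      t + t' - hermForm k F q z' z by ring] at h3)
  have e' : ⁅g, g'⁆ = c := by
    rw [commutatorElement_def, e]; group
  rw [e', map_zero]
  exact ⟨hc, _, by rw [map_zero]; exact hc⟩

/-- The centre of the radical. -/
def cen : Subgroup (SU (2 + k) F q) where
  carrier := {g | IsPar K P g 0}
  one_mem' := par_one K P
  mul_mem' := fun {a b} ha hb => by
    have := par_mul K P ha hb
    rwa [add_zero] at this
  inv_mem' := fun {a} ha => by
    have := par_inv K P ha
    rwa [neg_zero] at this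

theorem cen_isCyclic (hq : q.Prime) : IsCyclic (cen K P) := by
  have hex : ∀ g : cen K P, ∃ t, IsSg K (g : SU (2 + k) F q) P.v 0 t := fun g => by
    obtain ⟨t, h⟩ := g.2
    rw [map_zero] at h
    exact ⟨t, h⟩
  choose t ht using hex
  have htu : ∀ (g : cen K P) (s : F), IsSg K (g : SU (2 + k) F q) P.v 0 s → t g = s := fun g s hs =>
    (sg_ext K P (z := 0) (z' := 0) (by rw [map_zero]; exact ht g) (by rw [map_zero]; exact hs) rfl).2
  have hskew : ∀ g : cen K P, t g ∈ skew K := fun g => by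
    have := (ht g).2.2.1
    rw [h_zero_left K, zero_add] at this
    exact this
  haveI : Fact q.Prime := ⟨hq⟩
  haveI : IsAddCyclic (skew K) := isAddCyclic_of_prime_card (card_skew K)
  refine isCyclic_of_injective
    (MonoidHom.mk' (fun g => Multiplicative.ofAdd (⟨t g, hskew g⟩ : skew K)) fun a b => ?_) ?_
  · refine congrArg Multiplicative.ofAdd (Subtype.ext (htu _ _ ?_))
    have := sg_mul K (ht a) (ht b)
    rwa [h_zero_left K, sub_zero, zero_add] at this
  · intro a b e
    refine Subtype.ext (sg_unique K (ht a) ?_)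
    have e' : t a = t b := congrArg (fun x : skew K => (x : F)) (Multiplicative.ofAdd.injective e)
    rw [e']; exact ht b

theorem closure_one_theta (hq : q.Prime) [CharP F q] {θ : F} (hθ : K.bar θ ≠ θ) :
    AddSubgroup.closure ({1, θ} : Set F) = ⊤ := by
  set S := AddSubgroup.closure ({1, θ} : Set F)
  set S₁ := AddSubgroup.zmultiples (1 : F)
  have h1 : Nat.card S₁ = q := by
    haveI := Fact.mk hq
    rw [Nat.card_zmultiples]
    exact addOrderOf_eq_prime (by simp [nsmul_eq_mul]) one_ne_zero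
  have hfix : ∀ x ∈ S₁, K.bar x = x := by
    rintro x ⟨i, rfl⟩
    simp [map_zsmul]
  have hle : S₁ ≤ S := AddSubgroup.zmultiples_le_of_mem (AddSubgroup.subset_closure (by simp))
  have hd := S.card_addSubgroup_dvd_card
  rw [K.card] at hd
  obtain ⟨j, hj, hS⟩ := (Nat.dvd_prime_pow hq).1 hd
  refine AddSubgroup.eq_top_of_card_eq _ ?_
  rw [K.card, hS]
  rcases (show j = 0 ∨ j = 1 ∨ j = 2 by omega) with rfl | rfl | rfl
  · exfalso
    have h := AddSubgroup.card_dvd_of_le hle
    rw [hS, h1, pow_zero] at h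
    exact hq.ne_one (Nat.dvd_one.1 h)
  · exfalso
    have e : S₁ = S := AddSubgroup.eq_of_le_of_card_ge hle (by rw [hS, h1, pow_one])
    exact hθ (hfix θ (e ▸ AddSubgroup.subset_closure (by simp)))
  · rfl

variable {E : Type u} [Group E] [Finite E] {τ : E →* SU (2 + k) F q}

/-- A function with the algebra of the commutator pairing takes values in the powers of one value. -/
theorem mem_zpowers_of_gen {A : Subgroup E} (Φ : (Fin k → F) → (Fin k → F) → E)
    (hl : ∀ z z' w, Φ (z + z') w = Φ z' w * Φ z w) (hr : ∀ z w w', Φ z (w + w') = Φ z w * Φ z w')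
    (hgen : ∀ i j (a b : F), Φ (Pi.single i a) (Pi.single j b) ∈ A) (z w : Fin k → F) :
    Φ z w ∈ A := by
  classical
  have h0l : ∀ w, Φ 0 w = 1 := fun w => by
    have := hl 0 0 w
    rwa [add_zero, left_eq_mul] at this
  have h0r : ∀ z, Φ z 0 = 1 := fun z => by
    have := hr z 0 0
    rwa [add_zero, left_eq_mul] at this
  have hsum : ∀ (s : Finset (Fin k)) z, (∀ j b, Φ z (Pi.single j b) ∈ A) →
      Φ z (∑ j ∈ s, Pi.single j (w j)) ∈ A := by
    intro s z h
    induction s using Finset.induction with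
    | empty => rw [Finset.sum_empty, h0r]; exact one_mem A
    | insert a s ha ih => rw [Finset.sum_insert ha, hr]; exact mul_mem (h _ _) ih
  rw [← Finset.univ_sum_single w]
  refine hsum _ z fun j b => ?_
  rw [← Finset.univ_sum_single z]
  generalize (Finset.univ : Finset (Fin k)) = s
  induction s using Finset.induction with
  | empty => rw [Finset.sum_empty, h0l]; exact one_mem A
  | insert a s ha ih => rw [Finset.sum_insert ha, hl]; exact mul_mem ih (hgen _ _ _ _)

set_option maxHeartbeats 4000000 in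
include K P in
theorem no_stem (hk3 : 3 ≤ k) (hq : q.Prime) [CharP F q] {l m : F} (hl : l * K.bar l = 1)
    (hm : m * K.bar m = 1) (hdet : l ^ 2 * m ^ k = 1) (hne : K.bar l * m ≠ 1)
    (hnum : ¬ q ^ (2 * k + 1) * Nat.card (SU k F q) * q ∣ Nat.card (SU (2 + k) F q))
    (hτ : Cfsg.IsStemExtension τ) (hker : Nat.card τ.ker = q)
    (hL : ∀ z ∈ τ.ker, z ∈ ⁅(emb K (k := k)).range.comap τ, (emb K (k := k)).range.comap τ⁆ → z = 1) :
    False := by
  classical
  obtain ⟨hs, hc, hd⟩ := hτ
  haveI := Fact.mk hq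
  obtain ⟨T₀, hTv, hTi, hTA⟩ := exists_T K P hl hm hdet
  obtain ⟨T, hT⟩ := hs T₀
  set R := rad K P with hR
  have hkc : ∀ x : E, τ x = 1 → ∀ g, Commute g x := fun x hx g =>
    Subgroup.mem_center_iff.1 (hc (MonoidHom.mem_ker.2 hx)) g
  set Zt := (cen K P).comap τ with hZt
  set Qt := R.comap τ with hQt
  have hTpar : ∀ {g : SU (2 + k) F q} {z : Fin k → F} {t : F}, IsSg K g P.v (incl z) t →
      IsSg K (T₀ * g * T₀⁻¹) P.v (incl ((K.bar l * m) • z)) t := fun h =>
    conj_sg K P hl hTv (by rw [hTi, map_smul, map_smul, smul_smul]) h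
  have hTcen : ∀ g ∈ cen K P, T₀ * g * T₀⁻¹ = g := fun g ⟨t, h⟩ => by
    have h' := hTpar h
    rw [smul_zero] at h'
    exact sg_unique K h' h
  set ω := K.bar l * m with hω
  have hω1 : ω - 1 ≠ 0 := sub_ne_zero.2 hne
  have hTcomm : ∀ {g : SU (2 + k) F q} {z : Fin k → F}, IsPar K P g z →
      IsPar K P ⁅T₀, g⁆ ((ω - 1) • z) := fun {g z} h => by
    obtain ⟨t, h⟩ := h
    have := par_mul K P ⟨t, hTpar h⟩ (par_inv K P ⟨t, h⟩)
    rwa [← commutatorElement_def, ← sub_eq_add_neg, show (K.bar l * m) • z - z = (ω - 1) • z by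
      rw [sub_smul, one_smul]] at this
  have hcenR : ∀ c ∈ cen K P, c ∈ R := fun c h => par_mem K P h
  -- the preimage of the centre is central in the preimage of the radical
  have hZZ : ∀ c ∈ Zt, ∀ c' ∈ Zt, Commute c c' := fun c hc' c' hc'' => by
    haveI := cen_isCyclic K P hq
    have h := Subgroup.commutator_mem_commutator hc' hc''
    rw [preimage_commutator_eq_bot_of_isCyclic τ hc, Subgroup.mem_bot] at h
    exact commutatorElement_eq_one_iff_mul_comm.1 h
  have hZQ : ∀ c ∈ Zt, ∀ y ∈ Qt, Commute c y := by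
    intro c hcZ
    have hcT : ∀ x ∈ Qt, ⁅c, x⁆ = ⁅c, T * x * T⁻¹⁆ := by
      intro x hx
      have h := conjugate_commutatorElement c x T
      rw [CfsgLib.Schur.commutatorElement_congr τ hc (a := T * c * T⁻¹) (a' := c) (b := T * x * T⁻¹)
        (b' := T * x * T⁻¹) (by rw [map_mul, map_mul, map_inv, hT, hTcen _ hcZ]) rfl] at h
      rw [← h, (hkc ⁅c, x⁆ (by
        obtain ⟨z, hz⟩ := exists_par K P hx
        rw [map_commutatorElement, commutatorElement_eq_one_iff_mul_comm]
        exact mul_swap K P hcZ hz (by rw [h_zero_left K, h_zero_right K])) T).eq, mul_inv_cancel_right]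
    have hk1 : ∀ x ∈ Qt, τ ⁅c, x⁆ = 1 := fun x hx => by
      obtain ⟨z, hz⟩ := exists_par K P hx
      rw [map_commutatorElement, commutatorElement_eq_one_iff_mul_comm]
      exact mul_swap K P hcZ hz (by rw [h_zero_left K, h_zero_right K])
    intro y hy
    obtain ⟨z, hz⟩ := exists_par K P hy
    obtain ⟨g, hg⟩ := exists_el K P ((ω - 1)⁻¹ • z) (by omega)
    obtain ⟨x, rfl⟩ := hs g
    have hxQ : x ∈ Qt := par_mem K P hg
    set d := ⁅T, x⁆ with hddef
    have hd1 : IsPar K P (τ d) z := by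
      have := hTcomm hg
      rwa [smul_smul, mul_inv_cancel₀ hω1, one_smul, ← hT, ← map_commutatorElement] at this
    have hrest : d⁻¹ * y ∈ Zt := by
      show IsPar K P (τ (d⁻¹ * y)) 0
      have := par_mul K P (par_inv K P hd1) hz
      rw [neg_add_cancel] at this
      rwa [map_mul, map_inv]
    have hcd : Commute c d := by
      refine commutatorElement_eq_one_iff_mul_comm.1 ?_
      have hTx : T * x * T⁻¹ ∈ Qt := by
        obtain ⟨t, h⟩ := hg
        show τ (T * x * T⁻¹) ∈ R
        rw [map_mul, map_mul, map_inv, hT]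
        exact par_mem K P ⟨t, hTpar h⟩
      rw [hddef, commutatorElement_def T x, UnitaryLocal.comm_mul_right
        (hkc _ (hk1 _ (inv_mem hxQ)) _), ← hcT x hxQ, ← UnitaryLocal.comm_mul_right
        (hkc _ (hk1 _ (inv_mem hxQ)) _), mul_inv_cancel, commutatorElement_one_right]
    have := hcd.mul_right (hZZ c hcZ _ hrest)
    rwa [mul_inv_cancel_left] at this
  -- the pairing
  have hel : ∀ z : Fin k → F, ∃ x : E, IsPar K P (τ x) z := fun z => by
    obtain ⟨g, hg⟩ := exists_el K P z (by omega)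
    obtain ⟨x, rfl⟩ := hs g
    exact ⟨x, hg⟩
  choose L hLp using hel
  let Φ : (Fin k → F) → (Fin k → F) → E := fun z w => ⁅L z, L w⁆
  have hLQ : ∀ z, L z ∈ Qt := fun z => par_mem K P (hLp z)
  have hΦZ : ∀ z w, Φ z w ∈ Zt := fun z w => by
    show IsPar K P (τ ⁅L z, L w⁆) 0
    rw [map_commutatorElement]
    exact (comm_par K P (by omega) (hLp z) (hLp w)).2
  have hcongr : ∀ {x y : E} {z w : Fin k → F}, IsPar K P (τ x) z → IsPar K P (τ y) w →
      ⁅x, y⁆ = Φ z w := by
    intro x y z w hx hy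
    have h1 : ∀ {x : E} {z : Fin k → F}, IsPar K P (τ x) z → ∃ c ∈ Zt, x = L z * c := fun {x z} h => by
      refine ⟨(L z)⁻¹ * x, ?_, (mul_inv_cancel_left _ _).symm⟩
      show IsPar K P (τ ((L z)⁻¹ * x)) 0
      have := par_mul K P (par_inv K P (hLp z)) h
      rw [neg_add_cancel] at this
      rwa [map_mul, map_inv]
    obtain ⟨c, hc1, rfl⟩ := h1 hx
    obtain ⟨c', hc2, rfl⟩ := h1 hy
    have e1 : ⁅c, L w * c'⁆ = 1 := commutatorElement_eq_one_iff_mul_comm.2
      ((hZQ c hc1 _ (hLQ w)).mul_right (hZZ c hc1 c' hc2))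
    have e2 : ⁅L z, c'⁆ = 1 := commutatorElement_eq_one_iff_mul_comm.2 (hZQ c' hc2 _ (hLQ z)).symm
    rw [UnitaryLocal.comm_mul_left (by rw [e1]; exact Commute.one_right _), e1, one_mul,
      UnitaryLocal.comm_mul_right (by rw [e2]; exact Commute.one_right _), e2, mul_one]
  have hΦl : ∀ z z' w, Φ (z + z') w = Φ z' w * Φ z w := fun z z' w => by
    have h := hcongr (x := L z * L z') (y := L w)
      (by rw [map_mul]; exact par_mul K P (hLp z) (hLp z')) (hLp w)
    rw [← h]
    exact UnitaryLocal.comm_mul_left (hZQ _ (hΦZ z' w) _ (hLQ z)).symm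
  have hΦr : ∀ z w w', Φ z (w + w') = Φ z w * Φ z w' := fun z w w' => by
    have h := hcongr (x := L z) (y := L w * L w') (hLp z)
      (by rw [map_mul]; exact par_mul K P (hLp w) (hLp w'))
    rw [← h]
    exact UnitaryLocal.comm_mul_right (hZQ _ (hΦZ z w') _ (hLQ w)).symm
  have hΦn : ∀ z w, Φ (-z) w = (Φ z w)⁻¹ := fun z w => by
    have h0 := hΦl 0 0 w
    rw [add_zero, left_eq_mul] at h0
    have := hΦl z (-z) w
    rw [add_neg_cancel, h0] at this
    exact eq_inv_of_mul_eq_one_left this.symm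
  have hΦn' : ∀ z w, Φ z (-w) = (Φ z w)⁻¹ := fun z w => by
    show ⁅L z, L (-w)⁆ = ⁅L z, L w⁆⁻¹
    rw [commutatorElement_inv]
    have := hΦn w z
    show _ = Φ w z
    rw [← inv_inv (Φ w z), ← this]
    exact (commutatorElement_inv _ _).symm
  -- equivariance for kernel values
  have hequiv : ∀ (A : SU k F q) z w, hermForm k F q z w = hermForm k F q w z →
      Φ (app A z) (app A w) = Φ z w := by
    intro A z w e
    obtain ⟨g, hg⟩ := hs (emb K A)
    have hpar : ∀ {x : E} {y : Fin k → F}, IsPar K P (τ x) y →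
        IsPar K P (τ (g * x * g⁻¹)) (app A y) := fun {x y} ⟨t, h⟩ => by
      rw [map_mul, map_mul, map_inv, hg]
      exact ⟨t, conj_sg K P (c := 1) (by rw [one_mul, map_one])
        (by rw [app_emb_of_prj K A P.v0, one_smul]) (by rw [map_one, one_smul, app_emb_incl]) h⟩
    have hker : τ (Φ z w) = 1 := by
      show τ ⁅L z, L w⁆ = 1
      rw [map_commutatorElement, commutatorElement_eq_one_iff_mul_comm]
      exact mul_swap K P (hLp z) (hLp w) e.symm
    rw [← hcongr (hpar (hLp z)) (hpar (hLp w)), ← conjugate_commutatorElement]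
    show g * Φ z w * g⁻¹ = _
    rw [(hkc _ hker g).eq, mul_inv_cancel_right]
  have hon : ∀ i : Fin k, hermForm k F q (Pi.single i (1 : F)) (Pi.single i 1) = 1 := fun i => by
    rw [h_single_single K, if_pos rfl]
  have honn : ∀ i j : Fin k, i ≠ j → hermForm k F q (Pi.single i (1 : F)) (Pi.single j 1) = 0 :=
    fun i j h => by rw [h_single_single K, if_neg h]
  have hsm : ∀ (i : Fin k) (a : F), (Pi.single i a : Fin k → F) = a • Pi.single i (1 : F) := fun i a => by
    rw [← Pi.single_smul, smul_eq_mul, mul_one]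
  obtain ⟨cn, hcn, hcn1⟩ : ∃ c : F, c * K.bar c = 1 ∧ c ≠ 1 := by
    haveI : Nontrivial {a : F // a * K.bar a = 1} :=
      Finite.one_lt_card_iff_nontrivial.1 (by rw [card_norm_one K]; have := K.two_le; omega)
    obtain ⟨⟨c, hc'⟩, h⟩ := exists_ne (⟨1, by simp⟩ : {a : F // a * K.bar a = 1})
    exact ⟨c, hc', fun e => h (Subtype.ext e)⟩
  have hoff : ∀ (i j : Fin k) (a b : F), i ≠ j → Φ (Pi.single i a) (Pi.single j b) = 1 := by
    intro i j a b hij
    have hzero : ∀ a b : F, hermForm k F q (Pi.single i a) (Pi.single j b) =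
        hermForm k F q (Pi.single j b) (Pi.single i a) := fun a b => by
      rw [hsm i a, hsm j b, h_smul_left K, h_smul_left K, h_smul_right K, h_smul_right K, honn i j hij,
        honn j i hij.symm]
      simp
    obtain ⟨A, hA⟩ := UnitaryGeom.exists_move K (UnitaryGeom.on_two K (hon i) (hon j) (honn i j hij))
      (f' := ![cn • Pi.single i (1 : F), Pi.single j 1])
      (UnitaryGeom.on_two K (by rw [h_smul_left K, h_smul_right K, hon, mul_one, hcn]) (hon j)
        (by rw [h_smul_left K, honn i j hij, mul_zero])) (by omega)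
    have Ai : app A (Pi.single i (1 : F)) = cn • Pi.single i 1 := hA 0
    have Aj : app A (Pi.single j (1 : F)) = Pi.single j 1 := hA 1
    set a' := a / (cn - 1)
    have h := hequiv A (Pi.single i a') (Pi.single j b) (hzero a' b)
    rw [hsm i a', hsm j b, app_smul, app_smul, Ai, Aj, smul_smul, ← hsm, ← hsm i a', ← hsm j b] at h
    have h2 := hΦl (Pi.single i a') (Pi.single i a) (Pi.single j b)
    rw [← Pi.single_add, show a' + a = a' * cn by
      rw [show a = a' * (cn - 1) from (div_mul_cancel₀ a (sub_ne_zero.2 hcn1)).symm]; ring, h,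
      eq_comm, mul_eq_right] at h2
    exact h2
  obtain ⟨θ, hθ⟩ : ∃ θ : F, K.bar θ ≠ θ := by
    by_contra h
    push Not at h
    exact K.bar_ne (RingEquiv.ext h)
  let av : Fin k → E := fun i => Φ (Pi.single i 1) (Pi.single i θ)
  let Kf : Fin k → Fin k → E := fun i j =>
    Φ (Pi.single i (1 : F) + Pi.single j 1) (θ • Pi.single i (1 : F) - θ • Pi.single j (1 : F))
  have hKK : ∀ i j, i ≠ j → Kf i j = (av j)⁻¹ * av i := by
    intro i j hij
    show Φ _ _ = _
    rw [← hsm, ← hsm, sub_eq_add_neg, hΦl, hΦr, hΦr, hΦn', hΦn', hoff i j _ _ hij,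
      hoff j i _ _ hij.symm]
    simp [av]
  have hKeq : ∀ i j i' j', i ≠ j → i' ≠ j' → Kf i j = Kf i' j' := by
    intro i j i' j' h h'
    obtain ⟨A, hA⟩ := UnitaryGeom.exists_move K (UnitaryGeom.on_two K (hon i) (hon j) (honn i j h))
      (UnitaryGeom.on_two K (hon i') (hon j') (honn i' j' h')) (by omega)
    have Ai : app A (Pi.single i (1 : F)) = Pi.single i' 1 := hA 0
    have Aj : app A (Pi.single j (1 : F)) = Pi.single j' 1 := hA 1
    have e := hequiv A (Pi.single i (1 : F) + Pi.single j 1)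
      (θ • Pi.single i (1 : F) - θ • Pi.single j (1 : F)) (by
      simp only [h_add_left K, h_add_right K, h_sub_left K, h_sub_right K, h_smul_left K, h_smul_right K, hon,
        honn i j h, honn j i h.symm]
      ring)
    simp only [sub_eq_add_neg, ← neg_smul, app_add, app_smul, Ai, Aj] at e
    simp only [neg_smul, ← sub_eq_add_neg] at e
    exact e.symm
  have hav : ∀ i j, av i = av j := by
    intro i j
    by_cases hij : i = j
    · rw [hij]
    obtain ⟨r, hri, hrj⟩ : ∃ r : Fin k, r ≠ i ∧ r ≠ j := by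
      have h : (Finset.univ \ {i, j} : Finset (Fin k)).Nonempty := by
        rw [← Finset.card_pos, Finset.card_univ_sdiff, Fintype.card_fin]
        have := Finset.card_le_two (a := i) (b := j)
        omega
      obtain ⟨r, hr⟩ := h
      simp only [Finset.mem_sdiff, Finset.mem_univ, Finset.mem_insert, Finset.mem_singleton,
        true_and, not_or] at hr
      exact ⟨r, hr⟩
    have e1 := (hKK i j hij).symm.trans (hKeq i j i r hij hri.symm)
    rw [hKK i r hri.symm] at e1
    have e3 : av j = av r := inv_injective (mul_right_cancel e1)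
    have e4 := (hKK i j hij).symm.trans (hKeq i j j r hij hrj.symm)
    rw [hKK j r hrj.symm, e3, inv_mul_cancel, inv_mul_eq_one] at e4
    rw [← e4, e3]
  set i0 : Fin k := ⟨0, by omega⟩
  set a := av i0 with hadef
  have hτa : IsSg K (τ a) P.v (incl (0 : Fin k → F)) (K.bar θ - θ) := by
    show IsSg K (τ ⁅_, _⁆) _ _ _
    rw [map_commutatorElement]
    have := (comm_par K P (by omega) (hLp (Pi.single i0 1)) (hLp (Pi.single i0 θ))).1
    rwa [hsm i0 θ, h_smul_left K, h_smul_right K, hon, mul_one, mul_one, ← hsm] at this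
  have hτa1 : τ a ≠ 1 := fun e => by
    rw [e] at hτa
    have := (sg_ext K P hτa (z' := 0) (t' := 0) (by rw [map_zero]; exact sg_one K P.hv) rfl).2
    exact hθ (sub_eq_zero.1 this)
  have hall : ∀ z w, Φ z w ∈ Subgroup.zpowers a := by
    refine mem_zpowers_of_gen Φ hΦl hΦr fun i j x y => ?_
    by_cases hij : i = j
    swap
    · rw [hoff i j x y hij]; exact one_mem _
    subst hij
    have h11 : ∀ x, Φ (Pi.single i x) (Pi.single i x) = 1 := fun x =>
      commutatorElement_eq_one_iff_mul_comm.2 rfl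
    have h1θ : Φ (Pi.single i (1 : F)) (Pi.single i θ) = a := hav i i0
    have hgen : ∀ u ∈ ({1, θ} : Set F), ∀ v ∈ ({1, θ} : Set F),
        Φ (Pi.single i u) (Pi.single i v) ∈ Subgroup.zpowers a := by
      rintro u (hu | hu) v (hv | hv) <;> rw [hu, hv]
      · rw [h11]; exact one_mem _
      · rw [h1θ]; exact Subgroup.mem_zpowers a
      · show ⁅_, _⁆ ∈ _
        rw [← commutatorElement_inv]
        exact inv_mem (show Φ (Pi.single i (1 : F)) (Pi.single i θ) ∈ _ by rw [h1θ]; exact Subgroup.mem_zpowers a)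
      · rw [h11]; exact one_mem _
    have hcl := closure_one_theta K hq hθ
    have h0 : ∀ z, Φ 0 z = 1 ∧ Φ z 0 = 1 := fun z => by
      have e1 := hΦl 0 0 z
      have e2 := hΦr z 0 0
      rw [add_zero, left_eq_mul] at e1 e2
      exact ⟨e1, e2⟩
    have hr1 : ∀ u ∈ ({1, θ} : Set F), ∀ v : F,
        Φ (Pi.single i u) (Pi.single i v) ∈ Subgroup.zpowers a := by
      intro u hu v
      have hv : v ∈ AddSubgroup.closure ({1, θ} : Set F) := hcl ▸ AddSubgroup.mem_top v
      induction hv using AddSubgroup.closure_induction with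
      | mem v hv => exact hgen u hu v hv
      | zero => rw [Pi.single_zero, (h0 _).2]; exact one_mem _
      | add v v' _ _ h h' => rw [Pi.single_add, hΦr]; exact mul_mem h h'
      | neg v _ h => rw [Pi.single_neg, hΦn']; exact inv_mem h
    have hx : x ∈ AddSubgroup.closure ({1, θ} : Set F) := hcl ▸ AddSubgroup.mem_top x
    induction hx using AddSubgroup.closure_induction with
    | mem u hu => exact hr1 u hu y
    | zero => rw [Pi.single_zero, (h0 _).1]; exact one_mem _
    | add v v' _ _ h h' => rw [Pi.single_add, hΦl]; exact mul_mem h' h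
    | neg v _ h => rw [Pi.single_neg, hΦn]; exact inv_mem h
  have haq : a ^ q = 1 := by
    have key : ∀ N : ℕ, Φ (N • Pi.single i0 (1 : F)) (Pi.single i0 θ) = a ^ N := by
      intro N
      induction N with
      | zero =>
        rw [zero_smul, pow_zero]
        have e1 := hΦl 0 0 (Pi.single i0 θ)
        rwa [add_zero, left_eq_mul] at e1
      | succ N ih => rw [succ_nsmul, hΦl, ih, pow_succ']
    rw [← key q, ← Nat.cast_smul_eq_nsmul F, CharP.cast_eq_zero, zero_smul]
    have e1 := hΦl 0 0 (Pi.single i0 θ)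
    rwa [add_zero, left_eq_mul] at e1
  have hordτ : orderOf (τ a) = q := orderOf_eq_prime (by rw [← map_pow, haq, map_one]) hτa1
  have hAk : ∀ x ∈ Subgroup.zpowers a, τ x = 1 → x = 1 := by
    intro x hx h
    obtain ⟨i, rfl⟩ := Subgroup.mem_zpowers_iff.1 hx
    rw [map_zpow, ← orderOf_dvd_iff_zpow_eq_one, hordτ] at h
    obtain ⟨j, rfl⟩ := h
    rw [_root_.zpow_mul, zpow_natCast, haq, _root_.one_zpow]
  have hcenA : ∀ g ∈ cen K P, g ∈ Subgroup.zpowers (τ a) := by
    intro g hg
    have hle : Subgroup.zpowers (τ a) ≤ cen K P :=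
      Subgroup.zpowers_le.2 ⟨_, hτa⟩
    have hcard : Nat.card (cen K P) ≤ q := by
      obtain ⟨t, -, ht⟩ : ∃ t : cen K P → skew K, True ∧ Function.Injective t := by
        have hex : ∀ g : cen K P, ∃ t, IsSg K (g : SU (2 + k) F q) P.v 0 t := fun g => by
          obtain ⟨t, h⟩ := g.2
          rw [map_zero] at h
          exact ⟨t, h⟩
        choose t ht using hex
        refine ⟨fun g => ⟨t g, ?_⟩, trivial, fun g g' e => Subtype.ext (sg_unique K (ht g) ?_)⟩
        · have := (ht g).2.2.1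
          rw [h_zero_left K, zero_add] at this
          exact this
        · rw [show t g = t g' from congrArg (fun x : skew K => (x : F)) e]; exact ht g'
      exact (Nat.card_le_card_of_injective t ht).trans_eq (card_skew K)
    rw [Subgroup.eq_of_le_of_card_ge hle (by rw [Nat.card_zpowers, hordτ]; exact hcard)]
    exact hg
  have haZ : ∀ x ∈ Subgroup.zpowers a, x ∈ Zt := fun x hx =>
    Subgroup.zpowers_le.2 (hΦZ _ _) hx
  have hAconj : ∀ g : E, (∀ x z, IsPar K P (τ x) z → ∃ z', IsPar K P (τ (g * x * g⁻¹)) z') →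
      ∀ x ∈ Subgroup.zpowers a, g * x * g⁻¹ ∈ Subgroup.zpowers a := by
    intro g hg x hx
    have h1 : g * a * g⁻¹ ∈ Subgroup.zpowers a := by
      obtain ⟨z₁, h₁⟩ := hg _ _ (hLp (Pi.single i0 1))
      obtain ⟨z₂, h₂⟩ := hg _ _ (hLp (Pi.single i0 θ))
      show g * ⁅_, _⁆ * g⁻¹ ∈ _
      rw [conjugate_commutatorElement, hcongr h₁ h₂]
      exact hall _ _
    obtain ⟨i, rfl⟩ := Subgroup.mem_zpowers_iff.1 hx
    rw [← conj_zpow]
    exact Subgroup.zpow_mem _ h1 i
  have hTQ : ∀ x z, IsPar K P (τ x) z → IsPar K P (τ (T * x * T⁻¹)) (ω • z) := fun x z ⟨t, h⟩ => by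
    rw [map_mul, map_mul, map_inv, hT]
    exact ⟨t, hTpar h⟩
  have hTa : ∀ x ∈ Subgroup.zpowers a, ⁅T, x⁆ = 1 := by
    intro x hx
    have h1 := hAconj T (fun y z h => ⟨_, hTQ y z h⟩) x hx
    refine hAk _ (mul_mem h1 (inv_mem hx)) ?_
    rw [map_commutatorElement, hT, commutatorElement_def, hTcen _ (haZ x hx), mul_inv_cancel]
  -- the complement
  have hTxQ : ∀ x ∈ Qt, ⁅T, x⁆ ∈ Qt := fun x hx => by
    obtain ⟨z, hz⟩ := exists_par K P hx
    exact mul_mem (par_mem K P (hTQ x z hz) : T * x * T⁻¹ ∈ Qt) (inv_mem hx)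
  let D : Subgroup E :=
    { carrier := {g | ∃ x ∈ Qt, ∃ c ∈ Subgroup.zpowers a, g = ⁅T, x⁆ * c}
      one_mem' := ⟨1, one_mem _, 1, one_mem _, by simp⟩
      mul_mem' := by
        rintro _ _ ⟨x, hx, c, hc1, rfl⟩ ⟨y, hy, d, hd1, rfl⟩
        obtain ⟨z, hz⟩ := exists_par K P hx
        obtain ⟨w, hw⟩ := exists_par K P (hTxQ y hy)
        set e := ⁅x, ⁅T, y⁆⁆ with he
        have heA : e ∈ Subgroup.zpowers a := by rw [he, hcongr hz hw]; exact hall _ _
        refine ⟨x * y, mul_mem hx hy, e⁻¹ * c * d, mul_mem (mul_mem (inv_mem heA) hc1) hd1, ?_⟩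
        have h1 : ⁅T, x * y⁆ = ⁅T, x⁆ * e * ⁅T, y⁆ := by
          simp only [he, commutatorElement_def]; group
        have h2 : Commute ⁅T, y⁆ (e⁻¹) := (hZQ _ (haZ _ (inv_mem heA)) _ (hTxQ y hy)).symm
        have h3 : Commute ⁅T, y⁆ c := (hZQ _ (haZ _ hc1) _ (hTxQ y hy)).symm
        rw [h1]
        calc ⁅T, x⁆ * c * (⁅T, y⁆ * d) = ⁅T, x⁆ * (c * ⁅T, y⁆) * d := by group
          _ = ⁅T, x⁆ * (⁅T, y⁆ * c) * d := by rw [h3.eq]
          _ = ⁅T, x⁆ * e * (e⁻¹ * ⁅T, y⁆) * c * d := by group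
          _ = ⁅T, x⁆ * e * (⁅T, y⁆ * e⁻¹) * c * d := by rw [h2.eq]
          _ = _ := by group
      inv_mem' := by
        rintro _ ⟨x, hx, c, hc1, rfl⟩
        obtain ⟨z, hz⟩ := exists_par K P (inv_mem hx)
        obtain ⟨w, hw⟩ := exists_par K P (hTxQ x hx)
        set e := ⁅x⁻¹, ⁅T, x⁆⁆ with he
        have heA : e ∈ Subgroup.zpowers a := by
          rw [he, hcongr (x := x⁻¹) (by rw [map_inv] at *; exact hz) hw]; exact hall _ _
        refine ⟨x⁻¹, inv_mem hx, e * c⁻¹, mul_mem heA (inv_mem hc1), ?_⟩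
        have h1 : ⁅T, x⁻¹⁆ * (e * ⁅T, x⁆) = 1 := by
          simp only [he, commutatorElement_def]; group
        have h2 : Commute c⁻¹ ⁅T, x⁆⁻¹ := (hZQ _ (haZ _ (inv_mem hc1)) _ (inv_mem (hTxQ x hx)))
        have h4 : Commute e ⁅T, x⁆ := hZQ _ (haZ _ heA) _ (hTxQ x hx)
        have h5 : ⁅T, x⁻¹⁆ = ⁅T, x⁆⁻¹ * e⁻¹ := by
          rw [eq_comm, ← _root_.mul_inv_rev, inv_eq_iff_mul_eq_one, h4.eq]
          rw [← h4.eq]
          exact mul_eq_one_comm.1 h1
        rw [_root_.mul_inv_rev, h2.eq, h5]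
        group }
  have hDQ : ∀ d ∈ D, d ∈ Qt := by
    rintro _ ⟨x, hx, c, hc1, rfl⟩
    exact mul_mem (hTxQ x hx) (hcenR _ (haZ c hc1))
  have hQmap : R ≤ D.map τ := by
    intro g hg
    obtain ⟨z, hz⟩ := exists_par K P hg
    have hLz := hTcomm (hLp ((ω - 1)⁻¹ • z))
    rw [smul_smul, mul_inv_cancel₀ hω1, one_smul, ← hT, ← map_commutatorElement] at hLz
    set d := ⁅T, L ((ω - 1)⁻¹ • z)⁆
    have hrest : (τ d)⁻¹ * g ∈ cen K P := by
      show IsPar K P _ 0
      have := par_mul K P (par_inv K P hLz) hz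
      rwa [neg_add_cancel] at this
    obtain ⟨i, hi⟩ := Subgroup.mem_zpowers_iff.1 (hcenA _ hrest)
    exact ⟨d * a ^ i, ⟨_, hLQ _, _, Subgroup.zpow_mem _ (Subgroup.mem_zpowers a) i, rfl⟩,
      by rw [map_mul, map_zpow, hi, mul_inv_cancel_left]⟩
  set Lr := (emb K (k := k)).range with hLr
  have hDL : ∀ d ∈ D, τ d ∈ Lr → d = 1 := by
    rintro d hdD ⟨A, hA⟩
    have h1 : τ d = 1 := rad_inter_levi K P (hDQ d hdD) (hA ▸ emb_mem_levi K P A)
    obtain ⟨x, hx, c, hc1, rfl⟩ := hdD
    obtain ⟨z, hz⟩ := exists_par K P hx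
    have hTxp : IsPar K P (τ ⁅T, x⁆) ((ω - 1) • z) := by
      have := hTcomm hz
      rwa [← hT, ← map_commutatorElement] at this
    have hcp : IsPar K P (τ c) 0 := haZ c hc1
    have h2 := par_mul K P hTxp hcp
    rw [← map_mul, h1, add_zero] at h2
    have hz0 : z = 0 := by
      have := par_unique K P h2 (par_one K P)
      exact (smul_eq_zero.1 this).resolve_left hω1
    subst hz0
    obtain ⟨i, hi⟩ := Subgroup.mem_zpowers_iff.1 (hcenA (τ x) hz)
    have hTx : ⁅T, x⁆ = 1 := by
      rw [CfsgLib.Schur.commutatorElement_congr τ hc (a' := T) (b' := a ^ i) rfl (by rw [map_zpow, hi])]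
      exact hTa _ (Subgroup.zpow_mem _ (Subgroup.mem_zpowers a) i)
    rw [hTx, one_mul] at h1 ⊢
    exact hAk c hc1 h1
  have hN : ∀ g, τ g ∈ Lr → ∀ d ∈ D, g * d * g⁻¹ ∈ D := by
    rintro g ⟨A, hA⟩ _ ⟨x, hx, c, hc1, rfl⟩
    have hpar : ∀ {y : E} {z : Fin k → F}, IsPar K P (τ y) z →
        IsPar K P (τ (g * y * g⁻¹)) (app A z) := fun {y z} ⟨t, h⟩ => by
      rw [map_mul, map_mul, map_inv, ← hA]
      exact ⟨t, conj_sg K P (c := 1) (by rw [one_mul, map_one])
        (by rw [app_emb_of_prj K A P.v0, one_smul]) (by rw [map_one, one_smul, app_emb_incl]) h⟩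
    obtain ⟨z, hz⟩ := exists_par K P hx
    refine ⟨g * x * g⁻¹, par_mem K P (hpar hz), g * c * g⁻¹,
      hAconj g (fun y z h => ⟨_, hpar h⟩) c hc1, ?_⟩
    have e : ⁅T, g * x * g⁻¹⁆ = g * ⁅T, x⁆ * g⁻¹ := by
      rw [conjugate_commutatorElement]
      refine CfsgLib.Schur.commutatorElement_congr τ hc ?_ rfl
      rw [map_mul, map_mul, map_inv, hT, ← hA, (hTA A).symm.eq, mul_inv_cancel_right]
    rw [e]; group
  set U := R ⊔ Lr with hU
  have hUle : U ≤ D.map τ ⊔ Lr := sup_le_sup_right hQmap _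
  have hidx : ¬ q ∣ U.index := by
    intro h
    have hn : Lr ≤ Subgroup.normalizer (R : Set (SU (2 + k) F q)) := by
      rintro _ ⟨A, rfl⟩
      refine Subgroup.mem_normalizer_iff.2 fun g => ⟨levi_norm K P (emb_mem_levi K P A), fun hg => ?_⟩
      have := levi_norm K P (inv_mem (emb_mem_levi K P A)) hg
      rwa [show (emb K A)⁻¹ * (emb K A * g * (emb K A)⁻¹) * (emb K A)⁻¹⁻¹ = g by group] at this
    have hcard : Nat.card U = Nat.card R * Nat.card (SU k F q) := by
      rw [← Nat.card_prod]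
      refine (Nat.card_congr (Equiv.ofBijective (fun p : R × SU k F q =>
        (⟨(p.1 : SU (2 + k) F q) * emb K p.2, mul_mem (Subgroup.mem_sup_left p.1.2)
          (Subgroup.mem_sup_right ⟨p.2, rfl⟩)⟩ : U)) ⟨?_, ?_⟩)).symm
      · rintro ⟨r, A⟩ ⟨r', A'⟩ e
        have e' : (r : SU (2 + k) F q) * emb K A = r' * emb K A' := congrArg Subtype.val e
        have e2 : (r' : SU (2 + k) F q)⁻¹ * r = emb K (A' * A⁻¹) := by
          rw [map_mul, map_inv, inv_mul_eq_iff_eq_mul, ← mul_assoc, ← e', mul_inv_cancel_right]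
        have e3 := rad_inter_levi K P (mul_mem (inv_mem r'.2) r.2) (e2 ▸ emb_mem_levi K P (A' * A⁻¹))
        have e4 : r' = r := Subtype.ext (inv_mul_eq_one.1 e3)
        rw [e3, eq_comm, map_eq_one_iff _ (emb_injective K), mul_inv_eq_one] at e2
        rw [e4, e2]
      · rintro ⟨x, hx⟩
        have h' : x ∈ ((R ⊔ Lr : Subgroup _) : Set (SU (2 + k) F q)) := hx
        rw [Subgroup.coe_mul_of_right_le_normalizer_left R _ hn] at h'
        obtain ⟨r, hr, _, ⟨A, rfl⟩, e⟩ := h'
        exact ⟨(⟨r, hr⟩, A), Subtype.ext e⟩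
    have hp : IsPGroup q R := fun g => by
      refine ⟨2, Subtype.ext ?_⟩
      obtain ⟨z, hz⟩ := exists_par K P g.2
      have key : ∀ N : ℕ, IsPar K P ((g : SU (2 + k) F q) ^ N) (N • z) := fun N => by
        induction N with
        | zero => rw [pow_zero, zero_smul]; exact par_one K P
        | succ N ih => rw [pow_succ, succ_nsmul]; exact par_mul K P ih hz
      have h1 := key q
      rw [← Nat.cast_smul_eq_nsmul F, CharP.cast_eq_zero, zero_smul] at h1
      obtain ⟨i, hi⟩ := Subgroup.mem_zpowers_iff.1 (hcenA _ h1)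
      show (g : SU (2 + k) F q) ^ q ^ 2 = 1
      rw [pow_two, pow_mul, ← hi, ← zpow_natCast, ← _root_.zpow_mul, mul_comm, _root_.zpow_mul,
        zpow_natCast, ← map_pow, haq, map_one, _root_.one_zpow]
    obtain ⟨j, hj⟩ := IsPGroup.iff_card.1 hp
    have hge := card_rad K P (by omega)
    rw [card_skew K, hj, ← pow_succ] at hge
    have hjk : 2 * k + 1 ≤ j := (Nat.pow_le_pow_iff_right hq.one_lt).1 hge
    refine hnum ?_
    rw [← U.card_mul_index, hcard, hj]
    exact mul_dvd_mul (mul_dvd_mul (pow_dvd_pow q hjk) dvd_rfl) h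
  refine no_stem_of_local hq ⟨hs, hc, hd⟩ hker U hidx fun z hz hzd _ => ?_
  exact UnitaryTools.no_kernel_semidirect hs D Lr hN hDL U hUle hL hz hzd

end CfsgLib.Schur.UnitaryPara
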