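import Cfsg.Agent.Lib.Schur.UnitaryFiveThree
import Cfsg.Agent.Lib.Schur.UnitaryGraph
import Cfsg.Agent.Lib.Schur.UnitaryPara
import Cfsg.Agent.Lib.Schur.UnitaryMono
import Cfsg.Agent.Lib.Schur.UnitaryPSU

/-!
Stem extensions of `SU_n(2)` and `SU_n(3)`: the small groups prime by prime, then induction on `n`.
-/

set_option autoImplicit false
set_option linter.unusedSectionVars false
set_option linter.style.haveILetI false

open scoped commutatorElement

namespace CfsgLib.Schur.UnitarySmall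

open Matrix Cfsg CfsgLib.Classical.Herm
open CfsgLib.ClassicalAut (Unitary.Conj)
open CfsgLib.Schur.UnitaryWindow (NoStem inj_of_noStem)

universe u

/-- The square of a prime other than two and three does not divide these orders. -/
theorem sq_not_dvd {a b M ℓ : ℕ} (hℓ : ℓ.Prime) (h2 : ℓ ≠ 2) (h3 : ℓ ≠ 3)
    (hM : ∀ m, m.Prime → ¬ m ^ 2 ∣ M) : ¬ ℓ ^ 2 ∣ 2 ^ a * 3 ^ b * M := fun h => by
  have hc : Nat.Coprime (ℓ ^ 2) (2 ^ a * 3 ^ b) := by
    refine Nat.Coprime.mul_right ?_ ?_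
    · exact ((Nat.coprime_primes hℓ Nat.prime_two).2 h2).pow 2 a
    · exact ((Nat.coprime_primes hℓ Nat.prime_three).2 h3).pow 2 b
  exact hM ℓ hℓ (hc.dvd_of_dvd_mul_left h)

theorem sq_free_small {M m : ℕ} (hm : m.Prime) (hM : 0 < M) (hB : M < 62 * 62)
    (h : m < 62 → ¬ m ^ 2 ∣ M) : ¬ m ^ 2 ∣ M := fun hd => by
  refine h ?_ hd
  have := Nat.le_of_dvd hM hd
  nlinarith

variable {F : Type u} [Field F] [Finite F] {q : ℕ} (K : Unitary.Conj F q)

theorem charP_of_prime (hq : q.Prime) (hF : Nat.card F = q ^ 2) : CharP F q := by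
  classical
  letI := Fintype.ofFinite F
  obtain ⟨p, hp⟩ := CharP.exists F
  obtain ⟨n, hpp, hcard⟩ := FiniteField.card F p
  rw [Nat.card_eq_fintype_card, hcard] at hF
  have : p ∣ q := hpp.dvd_of_dvd_pow (hF ▸ dvd_pow_self p n.pos.ne')
  rwa [(Nat.prime_dvd_prime_iff_eq hpp hq).1 this] at hp

section Three

variable (hq : q = 3) [CharP F q]
include K hq

theorem three_any (ℓ : ℕ) (hℓ : ℓ.Prime) : NoStem F q 3 ℓ := fun E _ _ τ hτ hk => by
  have := CfsgLib.StemExt.ker_eq_bot_of_hasCyclicSchurMultiplier_one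
    (UnitaryFiveThree.multiplier_three K hq) τ hτ
  rw [this, Subgroup.card_bot] at hk
  exact hℓ.ne_one hk.symm

theorem five_three (ℓ : ℕ) (hℓ : ℓ.Prime) : NoStem F q 5 ℓ := fun E _ _ τ hτ hk => by
  haveI := Fact.mk (hq ▸ Nat.prime_three : q.Prime)
  have hN : Nat.card (SU 5 F q) = 2 ^ 11 * 3 ^ 10 * 2135 := by
    have hG := card_SU K (n := 5) (by norm_num)
    rw [card_GU K] at hG
    norm_num [hq, Finset.prod_range_succ, Nat.even_iff] at hG ⊢
    omega
  rcases eq_or_ne ℓ 2 with rfl | h2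
  · exact UnitaryFiveThree.no_stem_two K hq hτ hk
  rcases eq_or_ne ℓ 3 with rfl | h3
  · obtain ⟨P⟩ := CfsgLib.MinIndexSU.exists_hpair K (k := 3)
    have hN3 : Nat.card (SU 3 F q) = 6048 := by
      rw [UnitaryTiny.card_SU_three' K, hq]; norm_num
    have h3' : (3 : F) = 0 := by exact_mod_cast (hq ▸ CharP.cast_eq_zero F q : ((3 : ℕ) : F) = 0)
    refine UnitaryPara.no_stem K P (τ := τ) (l := -1) (m := 1) le_rfl Fact.out ?_ ?_ ?_ ?_ ?_ hτ
      (hk.trans hq.symm) fun z hz hzd => ?_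
    · rw [map_neg, map_one]; ring
    · rw [map_one, one_mul]
    · ring
    · rw [map_neg, map_one, mul_one]
      exact fun e => one_ne_zero (α := F) (by linear_combination h3' + e)
    · have hN' : Nat.card (SU (2 + 3) F q) = _ := hN
      rw [hN', hN3, hq]; norm_num
    · refine inj_of_noStem hτ.1 hτ.2.1 hℓ hk _ (fun A B h => ?_) (UnitaryThree.perfect K (by omega))
        (three_any K hq 3 hℓ) hzd (MonoidHom.mem_ker.1 hz)
      refine ext_app fun w => CfsgLib.MinIndexSU.incl_injective ?_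
      rw [← CfsgLib.MinIndexSU.app_emb_incl K, ← CfsgLib.MinIndexSU.app_emb_incl K, h]
  refine UnitaryTools.no_stem_of_sq_not_dvd hτ hℓ hk ?_
  rw [hN]
  refine sq_not_dvd hℓ h2 h3 fun m hm => sq_free_small hm (by norm_num) (by norm_num) fun hlt => ?_
  interval_cases m <;> first | (norm_num at hm; done) | norm_num

theorem all_three {n : ℕ} (hn : n = 3 ∨ 5 ≤ n) (ℓ : ℕ) (hℓ : ℓ.Prime) : NoStem F q n ℓ := by
  haveI := Fact.mk (hq ▸ Nat.prime_three : q.Prime)
  rcases hn with rfl | hn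
  · exact three_any K hq ℓ hℓ
  induction n, hn using Nat.le_induction with
  | base => exact five_three K hq ℓ hℓ
  | succ n hn ih => exact UnitaryGraph.step K q (by omega) (.inr (by omega)) hℓ ih

end Three

section Two

variable (hq : q = 2) [CharP F q]
include K hq

theorem five_two (ℓ : ℕ) (hℓ : ℓ.Prime) : NoStem F q 5 ℓ := fun E _ _ τ hτ hk => by
  haveI := Fact.mk (hq ▸ Nat.prime_two : q.Prime)
  have h2' : (2 : F) = 0 := two_eq_zero K hq
  have hN : Nat.card (SU 5 F q) = 2 ^ 10 * 3 ^ 5 * 55 := by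
    have hG := card_SU K (n := 5) (by norm_num)
    rw [card_GU K] at hG
    norm_num [hq, Finset.prod_range_succ, Nat.even_iff] at hG ⊢
    omega
  rcases eq_or_ne ℓ 2 with rfl | h2
  · obtain ⟨P⟩ := CfsgLib.MinIndexSU.exists_hpair K (k := 3)
    obtain ⟨ω, hω, hω3⟩ := exists_omega K hq
    have hN3 : Nat.card (SU 3 F q) = 216 := by
      rw [UnitaryTiny.card_SU_three' K, hq]; norm_num
    refine UnitaryPara.no_stem K P (τ := τ) (l := 1) (m := ω) le_rfl Fact.out ?_ ?_ ?_ ?_ ?_ hτ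
      (hk.trans hq.symm) fun z hz hzd => ?_
    · rw [map_one, one_mul]
    · rw [K.bar_apply, hq, ← hω3]; ring
    · rw [one_pow, one_mul, hω3]
    · rw [map_one, one_mul]
      exact fun e => one_ne_zero (α := F) (by rw [e] at hω; linear_combination hω - h2')
    · have hN' : Nat.card (SU (2 + 3) F q) = _ := hN
      rw [hN', hN3, hq]; norm_num
    set f : SU 3 F q →* SU (2 + 3) F q := CfsgLib.MinIndexSU.emb K (k := 3)
    have hf : Function.Injective f := fun A B h => ext_app fun w =>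
      CfsgLib.MinIndexSU.incl_injective (by
        rw [← CfsgLib.MinIndexSU.app_emb_incl K, ← CfsgLib.MinIndexSU.app_emb_incl K, h])
    set R := f.range.comap τ
    let e : SU 3 F q ≃* f.range := MonoidHom.ofInjective hf
    let σ : R →* SU 3 F q :=
      e.symm.toMonoidHom.comp ((τ.comp R.subtype).codRestrict f.range fun x => x.2)
    have hσ : ∀ x : R, f (σ x) = τ x := fun x => congrArg Subtype.val (e.apply_symm_apply _)
    have hzR : z ∈ R := show τ z ∈ f.range by rw [MonoidHom.mem_ker.1 hz]; exact one_mem _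
    have hker : ∀ x : R, x ∈ σ.ker ↔ (x : E) ∈ τ.ker := fun x => by
      rw [MonoidHom.mem_ker, MonoidHom.mem_ker, ← hσ, map_eq_one_iff f hf]
    have h := UnitaryTiny.three_two K hq (σ := σ) (z := ⟨z, hzR⟩)
      (fun s => by
        obtain ⟨d, hd⟩ := hτ.1 (f s)
        exact ⟨⟨d, show τ d ∈ f.range by rw [hd]; exact ⟨s, rfl⟩⟩, hf (by rw [hσ]; exact hd)⟩)
      (fun x hx => Subgroup.mem_center_iff.2 fun y =>
        Subtype.ext (Subgroup.mem_center_iff.1 (hτ.2.1 ((hker x).1 hx)) y))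
      ((hker _).2 hz) ?_ ?_
    · exact congrArg Subtype.val h
    · rw [← Subgroup.mem_map_iff_mem (f := R.subtype) R.subtype_injective, commutator_def,
        Subgroup.map_commutator, ← MonoidHom.range_eq_map, Subgroup.range_subtype]
      exact hzd
    · refine Subtype.ext ?_
      have h2z := pow_card_eq_one' (x := (⟨z, hz⟩ : τ.ker))
      rw [hk] at h2z
      exact congrArg (fun w : τ.ker => (w : E)) h2z
  rcases eq_or_ne ℓ 3 with rfl | h3
  · refine UnitaryMono.no_stem_cycles K h2' (by norm_num) (s₁ := Equiv.swap (0 : Fin 5) 1)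
      (s₂ := Equiv.swap 1 2) (s₃ := 1) (s₄ := 1) ?_ hτ hℓ (by norm_num) hk (r := 3) ?_ ?_
    · refine ⟨⟨Commute.one_right _, Commute.one_right _, Commute.one_right _, Commute.one_right _⟩,
        by decide, fun f h => ?_, fun f _ => by simp⟩
      have e0 := h 0
      have e1 := h 1
      have e2 := h 2
      simp only [show (⁅Equiv.swap (0 : Fin 5) 1, Equiv.swap (1 : Fin 5) 2⁆)⁻¹ 0 = 1 by decide,
        show (⁅Equiv.swap (0 : Fin 5) 1, Equiv.swap (1 : Fin 5) 2⁆)⁻¹ 1 = 2 by decide,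
        show (⁅Equiv.swap (0 : Fin 5) 1, Equiv.swap (1 : Fin 5) 2⁆)⁻¹ 2 = 0 by decide] at e0 e1 e2
      constructor <;> intro i <;> fin_cases i <;> simp [Equiv.swap_apply_def, e0, e1.trans e0]
    · refine dvd_trans ?_ (Subgroup.card_dvd_of_le (H := Subgroup.zpowers
        ⁅Equiv.swap (0 : Fin 5) 1, Equiv.swap (1 : Fin 5) 2⁆) le_sup_left)
      rw [Nat.card_zpowers, orderOf_eq_prime (p := 3) (by decide) (by decide)]
    · rw [hN, hq]; norm_num
  refine UnitaryTools.no_stem_of_sq_not_dvd hτ hℓ hk ?_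
  rw [hN]
  refine sq_not_dvd hℓ h2 h3 fun m hm => sq_free_small hm (by norm_num) (by norm_num) fun hlt => ?_
  interval_cases m <;> first | (norm_num at hm; done) | norm_num

theorem six_two (ℓ : ℕ) (hℓ : ℓ.Prime) (h2 : ℓ ≠ 2) : NoStem F q 6 ℓ := fun E _ _ τ hτ hk => by
  haveI := Fact.mk (hq ▸ Nat.prime_two : q.Prime)
  have h2' : (2 : F) = 0 := two_eq_zero K hq
  have hN : Nat.card (SU 6 F q) = 2 ^ 15 * 3 ^ 7 * 385 := by
    have hG := card_SU K (n := 6) (by norm_num)
    rw [card_GU K] at hG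
    norm_num [hq, Finset.prod_range_succ, Nat.even_iff] at hG ⊢
    omega
  rcases eq_or_ne ℓ 3 with rfl | h3
  · refine UnitaryMono.no_stem_cycles K h2' (by norm_num) (s₁ := Equiv.swap (0 : Fin 6) 1)
      (s₂ := Equiv.swap 1 2) (s₃ := Equiv.swap 3 4) (s₄ := Equiv.swap 4 5) ?_ hτ hℓ h2 hk
      (r := 9) ?_ ?_
    · refine ⟨⟨(commute_iff_eq _ _).2 (by decide), (commute_iff_eq _ _).2 (by decide),
        (commute_iff_eq _ _).2 (by decide), (commute_iff_eq _ _).2 (by decide)⟩, by decide, fun f h => ?_, fun f h => ?_⟩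
      · have e0 := h 0
        have e1 := h 1
        have e2 := h 2
        simp only [show (⁅Equiv.swap (0 : Fin 6) 1, Equiv.swap (1 : Fin 6) 2⁆)⁻¹ 0 = 1 by decide,
          show (⁅Equiv.swap (0 : Fin 6) 1, Equiv.swap (1 : Fin 6) 2⁆)⁻¹ 1 = 2 by decide,
          show (⁅Equiv.swap (0 : Fin 6) 1, Equiv.swap (1 : Fin 6) 2⁆)⁻¹ 2 = 0 by decide] at e0 e1 e2
        constructor <;> intro i <;> fin_cases i <;> simp [Equiv.swap_apply_def, e0, e1.trans e0]
      · have e0 := h 3
        have e1 := h 4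
        have e2 := h 5
        simp only [show (⁅Equiv.swap (3 : Fin 6) 4, Equiv.swap (4 : Fin 6) 5⁆)⁻¹ 3 = 4 by decide,
          show (⁅Equiv.swap (3 : Fin 6) 4, Equiv.swap (4 : Fin 6) 5⁆)⁻¹ 4 = 5 by decide,
          show (⁅Equiv.swap (3 : Fin 6) 4, Equiv.swap (4 : Fin 6) 5⁆)⁻¹ 5 = 3 by decide] at e0 e1 e2
        constructor <;> intro i <;> fin_cases i <;> simp [Equiv.swap_apply_def, e0, e1.trans e0]
    · set σ := ⁅Equiv.swap (0 : Fin 6) 1, Equiv.swap (1 : Fin 6) 2⁆ with hσ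
      set σ' := ⁅Equiv.swap (3 : Fin 6) 4, Equiv.swap (4 : Fin 6) 5⁆ with hσ'
      rw [UnitaryTiny.card_sup, Nat.card_zpowers, Nat.card_zpowers,
        orderOf_eq_prime (p := 3) (show σ ^ 3 = 1 by rw [hσ]; decide) (by rw [hσ]; decide),
        orderOf_eq_prime (p := 3) (show σ' ^ 3 = 1 by rw [hσ']; decide) (by rw [hσ']; decide)]
      · rw [Subgroup.zpowers_le]
        refine Subgroup.mem_normalizer_iff.2 fun g => ?_
        have hcc : ∀ i : ℤ, σ' * σ ^ i * σ'⁻¹ = σ ^ i := fun i => by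
          rw [((show Commute σ' σ by rw [hσ, hσ', commute_iff_eq]; decide).zpow_right i).eq, mul_inv_cancel_right]
        constructor
        · rintro ⟨i, rfl⟩
          exact ⟨i, (hcc i).symm⟩
        · rintro ⟨i, hi⟩
          refine ⟨i, ?_⟩
          simp only at hi ⊢
          rw [← hcc i] at hi
          exact mul_left_cancel (mul_right_cancel hi)
      · intro x hx hx'
        have hfix : x 0 = 0 := by
          obtain ⟨i, rfl⟩ := hx'
          exact Equiv.Perm.zpow_apply_eq_self_of_apply_eq_self (by rw [hσ']; decide) i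
        obtain ⟨i, rfl⟩ := hx
        simp only at hfix ⊢
        have hi3 : σ ^ i = σ ^ (i % 3) := by
          refine (zpow_mod_orderOf σ i).symm.trans ?_
          rw [orderOf_eq_prime (p := 3) (show σ ^ 3 = 1 by rw [hσ]; decide) (by rw [hσ]; decide)]
          norm_num
        rw [hi3] at hfix ⊢
        have h0 := Int.emod_nonneg i (show (3 : ℤ) ≠ 0 by norm_num)
        have h3' := Int.emod_lt_of_pos i (show (0 : ℤ) < 3 by norm_num)
        rcases (show i % 3 = 0 ∨ i % 3 = 1 ∨ i % 3 = 2 by omega) with e | e | e <;> rw [e] at hfix ⊢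
        · exact zpow_zero σ
        · exact absurd hfix (by rw [hσ]; decide)
        · exact absurd hfix (by rw [hσ]; decide)
    · rw [hN, hq]; norm_num
  refine UnitaryTools.no_stem_of_sq_not_dvd hτ hℓ hk ?_
  rw [hN]
  refine sq_not_dvd hℓ h2 h3 fun m hm => sq_free_small hm (by norm_num) (by norm_num) fun hlt => ?_
  interval_cases m <;> first | (norm_num at hm; done) | norm_num

theorem seven_two (ℓ : ℕ) (hℓ : ℓ.Prime) : NoStem F q 7 ℓ := by
  haveI := Fact.mk (hq ▸ Nat.prime_two : q.Prime)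
  rcases eq_or_ne ℓ 2 with rfl | h2
  · intro E _ _ τ hτ hk
    have h2' : (2 : F) = 0 := two_eq_zero K hq
    obtain ⟨P⟩ := CfsgLib.MinIndexSU.exists_hpair K (k := 5)
    obtain ⟨ω, hω, hω3⟩ := exists_omega K hq
    refine UnitaryPara.no_stem K P (τ := τ) (l := ω ^ 2) (m := ω) (by norm_num) Fact.out
      ?_ ?_ ?_ ?_ ?_ hτ (hk.trans hq.symm) fun z hz hzd => ?_
    · rw [K.bar_apply, hq]; linear_combination (ω ^ 3 + 1) * hω3
    · rw [K.bar_apply, hq, ← hω3]; ring
    · linear_combination (ω ^ 6 + ω ^ 3 + 1) * hω3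
    · rw [K.bar_apply, hq]
      intro e
      have : ω ^ 2 = 1 := by linear_combination e - ω ^ 2 * hω3
      exact one_ne_zero (α := F) (show (1 : F) = 0 by
        linear_combination ω ^ 2 * hω - hω3 - ω ^ 2 * this - ω ^ 2 * h2')
    · have hG := card_SU K (n := 7) (by norm_num)
      rw [card_GU K] at hG
      have hG5 := card_SU K (n := 5) (by norm_num)
      rw [card_GU K] at hG5
      norm_num [hq, Finset.prod_range_succ, Nat.even_iff] at hG hG5
      have e7 : Nat.card (SU (2 + 5) F q) = 227787103272960 := by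
        show Nat.card (SU 7 F q) = _
        subst hq; omega
      have e5 : Nat.card (SU 5 F q) = 13685760 := by subst hq; omega
      rw [e7, e5, hq]; norm_num
    · refine inj_of_noStem hτ.1 hτ.2.1 hℓ hk _ (fun A B h => ?_)
        (commutator_eq_top K q (by norm_num) (by omega))
        (five_two K hq 2 hℓ) hzd (MonoidHom.mem_ker.1 hz)
      refine ext_app fun w => CfsgLib.MinIndexSU.incl_injective ?_
      rw [← CfsgLib.MinIndexSU.app_emb_incl K, ← CfsgLib.MinIndexSU.app_emb_incl K, h]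
  · exact UnitaryGraph.step K q (by norm_num) (.inl le_rfl) hℓ (six_two K hq ℓ hℓ h2)

theorem all_two {n : ℕ} (hn : n = 5 ∨ 7 ≤ n) (ℓ : ℕ) (hℓ : ℓ.Prime) : NoStem F q n ℓ := by
  haveI := Fact.mk (hq ▸ Nat.prime_two : q.Prime)
  rcases hn with rfl | hn
  · exact five_two K hq ℓ hℓ
  induction n, hn using Nat.le_induction with
  | base => exact seven_two K hq ℓ hℓ
  | succ n hn ih => exact UnitaryGraph.step K q (by omega) (.inl (by omega)) hℓ ih

end Two

include K in
/-- Every finite stem extension of `SU_n(q)` is trivial outside the exceptional pairs. -/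
theorem stem_injective (p : ℕ) [Fact p.Prime] [CharP F p] (hF : Nat.card F = q ^ 2) {n : ℕ}
    (hn : 3 ≤ n) (h32 : ¬ (n = 3 ∧ q = 2))
    (hexc : ¬ (n = 4 ∧ (q = 2 ∨ q = 3) ∨ n = 6 ∧ q = 2)) (Γ : Type u) [Group Γ] [Finite Γ]
    (τ : Γ →* SU n F q) (hτ : Cfsg.IsStemExtension τ) : Function.Injective τ := by
  by_cases h4 : 4 ≤ q
  · exact UnitaryPhan.stem_injective K h4 hn hτ
  have hNo : ∀ ℓ, ℓ.Prime → NoStem F q n ℓ := by
    intro ℓ hℓ
    rcases (show q = 2 ∨ q = 3 by have := K.two_le; omega) with h | h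
    · haveI := charP_of_prime (h ▸ Nat.prime_two) hF
      exact all_two K h (by omega) ℓ hℓ
    · haveI := charP_of_prime (h ▸ Nat.prime_three) hF
      exact all_three K h (by omega) ℓ hℓ
  rw [← MonoidHom.ker_eq_bot_iff]
  by_contra hne
  have hcard : Nat.card τ.ker ≠ 1 := fun e => hne (Subgroup.eq_bot_of_card_eq _ e)
  obtain ⟨ℓ, hℓ, hdvd⟩ := Nat.exists_prime_and_dvd hcard
  obtain ⟨E, _, _, σ, hσ, hk⟩ := InvolLift.exists_stem_ker_prime hτ hℓ hdvd
  exact hNo ℓ hℓ E σ hσ hk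

end CfsgLib.Schur.UnitarySmall
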