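import Cfsg.Agent.Lib.Schur.UnitaryLocal
import Cfsg.Agent.Lib.SL2.Facts
import Cfsg.Agent.Lib.Classical.Phan.Main
import Cfsg.Agent.Lib.Classical.UnitaryRegThree
import Cfsg.Agent.Lib.Classical.UnitarySimple
import Cfsg.Agent.Lib.MinIndexSU3.Singer
import Cfsg.Agent.Lib.ModuleIndex.UnitaryThreeBounds

/-!
`SU_3(q)`, `q ≥ 4`, has trivial Schur multiplier, prime by prime: the Borel subgroup in the
defining characteristic, the monomial group for the odd divisors of `q + 1`, the block `GU_2` for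
two, cyclic Sylow subgroups otherwise.
-/

set_option autoImplicit false
set_option linter.unusedSectionVars false
set_option linter.style.haveILetI false

open scoped commutatorElement

namespace CfsgLib.Schur.UnitaryThree

open Matrix Cfsg CfsgLib.Classical.Herm CfsgLib.Classical.Elation
open CfsgLib.Classical.Phan (nm bv cd Blk IsEl exists_el ext_cd)
open CfsgLib.Classical.URegGen (HB)
open CfsgLib.ClassicalAut (Unitary.Conj)

universe u

variable {F : Type u} [Field F] [Finite F] {q : ℕ} (K : Unitary.Conj F q)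

/-! ### Field facts -/

theorem exists_norm_one_cube (hq : 3 ≤ q) : ∃ l : F, nm K l = 1 ∧ l ^ 3 ≠ 1 := by
  by_contra hc
  push Not at hc
  have hb := CfsgLib.Classical.Phan.root_bound K (P := (Polynomial.X ^ 3 - 1 : Polynomial F))
    (fun e => by simpa using congrArg (Polynomial.eval 0) e)
    (fun x : {a : F // a * K.bar a = 1} => (x : F)) (fun _ _ h => Subtype.ext h)
    (fun x => by simp [hc _ x.2])
  rw [CfsgLib.Classical.Herm.card_norm_one K] at hb
  have h3 : (Polynomial.X ^ 3 - 1 : Polynomial F).natDegree = 3 := by compute_degree!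
  omega

theorem exists_fixed_ne (hq : 3 ≤ q) : ∃ c : F, K.bar c = c ∧ c ≠ 0 ∧ c ≠ 1 := by
  by_contra hc
  push Not at hc
  have h := CfsgLib.Classical.Herm.card_fixed K
  haveI : Subsingleton {c : F // K.bar c = c ∧ c ≠ 0} :=
    ⟨fun a b => Subtype.ext ((hc _ a.2.1 a.2.2).trans (hc _ b.2.1 b.2.2).symm)⟩
  have := Finite.card_le_one_iff_subsingleton.2 this
  omega

/-- The multipliers of the torus on the root group contain `k`, `1 + k` with `k² + k + 1 ≠ 0`. -/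
theorem exists_pair (hq : 3 ≤ q) : ∃ k : F, k ≠ 0 ∧ 1 + k ≠ 0 ∧ k ^ 2 + k + 1 ≠ 0 ∧
    (∃ l : F, l ≠ 0 ∧ l ^ 2 / K.bar l = k) ∧ ∃ l : F, l ≠ 0 ∧ l ^ 2 / K.bar l = 1 + k := by
  classical
  set P : Polynomial F := Polynomial.X * (Polynomial.X + 1) * (Polynomial.X ^ 2 + Polynomial.X + 1)
  have hP : P ≠ 0 := by
    have h1 : (Polynomial.X + 1 : Polynomial F) ≠ 0 := fun e => by
      simpa using congrArg (Polynomial.eval 0) e
    have h2 : (Polynomial.X ^ 2 + Polynomial.X + 1 : Polynomial F) ≠ 0 := fun e => by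
      simpa using congrArg (Polynomial.eval 0) e
    exact mul_ne_zero (mul_ne_zero Polynomial.X_ne_zero h1) h2
  have hdeg : P.natDegree ≤ 4 := by
    simp only [P]; compute_degree
  have heval : ∀ k : F, ¬ (k ≠ 0 ∧ 1 + k ≠ 0 ∧ k ^ 2 + k + 1 ≠ 0) → P.eval k = 0 := by
    intro k hk
    simp only [P, Polynomial.eval_mul, Polynomial.eval_add, Polynomial.eval_X, Polynomial.eval_one,
      Polynomial.eval_pow, mul_eq_zero]
    rw [add_comm k 1]
    tauto
  by_cases hq5 : 5 ≤ q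
  · obtain ⟨k, hk, h0, h1, h2⟩ : ∃ k : F, K.bar k = k ∧ k ≠ 0 ∧ 1 + k ≠ 0 ∧ k ^ 2 + k + 1 ≠ 0 := by
      by_contra hc
      push Not at hc
      have hb := CfsgLib.Classical.Phan.root_bound K hP
        (fun x : {c : F // K.bar c = c} => (x : F)) (fun _ _ h => Subtype.ext h) fun x =>
          heval _ fun h => h.2.2 (hc _ x.2 h.1 h.2.1)
      rw [CfsgLib.Classical.URoot.card_fix K] at hb
      omega
    have key : ∀ c : F, K.bar c = c → c ≠ 0 → ∃ l : F, l ≠ 0 ∧ l ^ 2 / K.bar l = c :=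
      fun c hc h => ⟨c, h, by rw [hc, pow_two, mul_div_assoc, div_self h, mul_one]⟩
    exact ⟨k, h0, h1, h2, key k hk h0, key _ (by rw [map_add, map_one, hk]) h1⟩
  · let φ : Fˣ →* Fˣ := MonoidHom.mk' (fun l => l ^ 2 * (Units.map K.bar.toRingHom.toMonoidHom l)⁻¹)
      fun a b => by rw [map_mul, mul_pow, mul_inv, mul_mul_mul_comm]
    have hφ : Function.Injective φ := by
      refine (injective_iff_map_eq_one φ).2 fun l hl => ?_
      have hl' : (l : F) ^ 2 = (l : F) ^ q := by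
        rw [← K.bar_apply]
        exact congrArg Units.val (mul_inv_eq_one.1 hl)
      rcases (show q = 3 ∨ q = 4 by omega) with e | e <;> rw [e] at hl'
      · exact Units.ext (mul_left_cancel₀ (pow_ne_zero 2 l.ne_zero)
          ((pow_succ (l : F) 2).symm.trans hl'.symm |>.trans (mul_one _).symm))
      · have h2 : (l : F) ^ 2 = 1 := mul_left_cancel₀ (pow_ne_zero 2 l.ne_zero)
          ((pow_add (l : F) 2 2).symm.trans hl'.symm |>.trans (mul_one _).symm)
        have hF : (2 : F) = 0 := by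
          have hc := K.card
          cases nonempty_fintype F
          obtain ⟨p, _⟩ := CharP.exists F
          obtain ⟨n, hp, hn⟩ := FiniteField.card F p
          rw [← Nat.card_eq_fintype_card, hc, e] at hn
          have h4 : p ∣ 2 := hp.dvd_of_dvd_pow (n := 4) (by
            rw [show (2 : ℕ) ^ 4 = 4 ^ 2 by norm_num, hn]; exact dvd_pow_self p n.ne_zero)
          obtain rfl := (Nat.prime_dvd_prime_iff_eq hp Nat.prime_two).1 h4
          exact_mod_cast CharP.cast_eq_zero F 2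
        refine Units.ext ?_
        have h5 : ((l : F) - 1) ^ 2 = 0 := by linear_combination h2 - ((l : F) - 1) * hF
        exact sub_eq_zero.1 (pow_eq_zero_iff two_ne_zero |>.1 h5)
    obtain ⟨k, h0, h1, h2⟩ : ∃ k : F, k ≠ 0 ∧ 1 + k ≠ 0 ∧ k ^ 2 + k + 1 ≠ 0 := by
      by_contra hc
      push Not at hc
      have hb := CfsgLib.Classical.Phan.root_bound K hP (fun x : F => x) Function.injective_id
        fun x => heval _ fun h => h.2.2 (hc _ h.1 h.2.1)
      rw [K.card] at hb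
      nlinarith
    have key : ∀ c : F, c ≠ 0 → ∃ l : F, l ≠ 0 ∧ l ^ 2 / K.bar l = c := fun c hc => by
      obtain ⟨l, hl⟩ := (Finite.injective_iff_surjective.1 hφ) (Units.mk0 c hc)
      exact ⟨l, l.ne_zero, by rw [div_eq_mul_inv]; simpa [φ] using congrArg Units.val hl⟩
    exact ⟨k, h0, h1, h2, key k h0, key _ h1⟩

/-- The parameters of the root group. -/
abbrev Par : Type u := {ab : F × F // ab.1 * K.bar ab.1 + ab.2 + K.bar ab.2 = 0}

theorem exists_par (a : F) : ∃ b : F, a * K.bar a + b + K.bar b = 0 := by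
  obtain ⟨y, hy⟩ := K.exists_trace
  refine ⟨-(a * K.bar a) * y / (y + K.bar y), ?_⟩
  simp only [map_div₀, map_mul, map_neg, map_add, K.bar_bar, add_comm (K.bar y) y]
  field_simp
  ring

theorem card_par : Nat.card (Par K) = q ^ 3 := by
  classical
  obtain ⟨y, hy⟩ := K.exists_moved
  set th := y - K.bar y
  have hth0 : th ≠ 0 := sub_ne_zero.2 (Ne.symm hy)
  have hth : K.bar th = -th := by simp only [th, map_sub, K.bar_bar]; ring
  have hfib : ∀ a : F, Nat.card {b : F // a * K.bar a + b + K.bar b = 0} = q := by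
    intro a
    obtain ⟨v, hv⟩ := exists_par K a
    refine (Nat.card_congr ?_).trans (CfsgLib.Classical.URoot.card_fix K)
    refine
      { toFun := fun b => ⟨(b.1 - v) / th, ?_⟩
        invFun := fun c => ⟨c.1 * th + v, ?_⟩
        left_inv := fun b => Subtype.ext (by simp [div_mul_cancel₀ _ hth0])
        right_inv := fun c => Subtype.ext (by simp [mul_div_assoc, div_self hth0]) }
    · rw [map_div₀, map_sub, hth, div_neg, ← neg_div]
      congr 1
      linear_combination hv - b.2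
    · rw [map_add, map_mul, c.2, hth]; linear_combination hv
  have := Fintype.ofFinite F
  rw [Nat.card_congr (Equiv.subtypeProdEquivSigmaSubtype
    fun a b : F => a * K.bar a + b + K.bar b = 0), Nat.card_sigma]
  simp only [hfib, Finset.sum_const, Finset.card_univ, smul_eq_mul, ← Nat.card_eq_fintype_card,
    K.card]
  ring

/-! ### The Borel subgroup -/

theorem exists_torus (B : HB 1 3 q F) : ∃ T : Fˣ →* SU 3 F q, ∀ l : Fˣ,
    app (T l) (B.E 0) = (l : F) • B.E 0 ∧ app (T l) (B.Fv 0) = (K.bar (l : F))⁻¹ • B.Fv 0 ∧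
      app (T l) B.z = (K.bar (l : F) / (l : F)) • B.z := by
  have hex : ∀ l : Fˣ, ∃ g : SU 3 F q, app g (B.E 0) = (l : F) • B.E 0 ∧
      app g (B.Fv 0) = (K.bar (l : F))⁻¹ • B.Fv 0 ∧ app g B.z = (K.bar (l : F) / (l : F)) • B.z := by
    intro l
    obtain ⟨a1, ha1⟩ := K.exists_norm (-(1 + K.bar 1)) (by simp)
    obtain ⟨a2, ha2⟩ := K.exists_norm (-((l : F) + K.bar (l : F)))
      (by rw [map_neg, map_add, K.bar_bar, add_comm])
    obtain ⟨m1, x1, x2, x3⟩ := CfsgLib.Classical.URegGen.exists_mono K B le_rfl (a := a1) (b := 1)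
      one_ne_zero (by linear_combination ha1)
    obtain ⟨m2, y1, y2, y3⟩ := CfsgLib.Classical.URegGen.exists_mono K B le_rfl (a := a2)
      (b := (l : F)) l.ne_zero (by linear_combination ha2)
    refine ⟨m2 * m1, ?_, ?_, ?_⟩
    · rw [app_mul, x1, app_smul, y2, map_one, inv_one, one_smul]
    · rw [app_mul, x2, app_smul, y1, one_smul]
    · rw [app_mul, x3, app_smul, y3, smul_smul, map_one]
      congr 1
      ring
  choose T hT using hex
  refine ⟨MonoidHom.mk' T fun a b => ?_, hT⟩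
  obtain ⟨a1, a2, a3⟩ := hT a
  obtain ⟨b1, b2, b3⟩ := hT b
  obtain ⟨c1, c2, c3⟩ := hT (a * b)
  refine CfsgLib.Classical.URegGen.ext₁ K B ?_ ?_ ?_ <;>
    simp only [app_mul, app_smul, c1, c2, c3, b1, b2, b3, a1, a2, a3, smul_smul, Units.val_mul,
      map_mul] <;> congr 1 <;> field_simp

/-- The root group with its parameters. -/
theorem exists_root (B : HB 1 3 q F) : ∃ φ : Par K → SU 3 F q, Function.Injective φ ∧
    (∀ x y : Par K, ∀ w : Par K, w.1.1 = x.1.1 + y.1.1 →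
      w.1.2 = x.1.2 + y.1.2 - K.bar y.1.1 * x.1.1 → φ x * φ y = φ w) ∧
    ∀ x : Par K, IsSg K (φ x) (B.E 0) ((-K.bar x.1.1) • B.z) x.1.2 := by
  have hex : ∀ x : Par K, ∃ g : Cfsg.SU 3 F q,
      IsSg K g (B.E 0) ((-K.bar x.1.1) • B.z) x.1.2 :=
    fun x => CfsgLib.Classical.URegGen.exists_sgE K B le_rfl x.2
  choose φ hφ using hex
  refine ⟨φ, ?_, ?_, hφ⟩
  · intro x y he
    obtain ⟨-, hf, hz'⟩ := CfsgLib.Classical.URegGen.appE K B (hφ x)
    obtain ⟨-, hf', hz''⟩ := CfsgLib.Classical.URegGen.appE K B (hφ y)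
    rw [he, hf'] at hf
    rw [he, hz''] at hz'
    have hE : B.E 0 ≠ 0 := fun h => by
      have := B.fe 0 0 one_pos one_pos
      rw [h, h_zero_right K, if_pos rfl] at this
      exact zero_ne_one this
    have ha : y.1.1 = x.1.1 := smul_left_injective F hE (add_left_cancel hz')
    rw [ha] at hf
    exact Subtype.ext (Prod.ext ha (smul_left_injective F hE (add_left_cancel hf))).symm
  · intro x y w h1 h2
    refine sg_unique K ?_ (hφ w)
    have := sg_mul K (hφ x) (hφ y)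
    rw [h_smul_left K, h_smul_right K, B.zz, ← add_smul] at this
    convert this using 2
    · rw [h1, map_add]; ring
    · rw [h2]; simp [K.bar_bar]

include K in
theorem exists_char : ∃ p k : ℕ, p.Prime ∧ k ≠ 0 ∧ CharP F p ∧ q = p ^ k := by
  cases nonempty_fintype F
  obtain ⟨p, hp'⟩ := CharP.exists F
  obtain ⟨n, hp, hn⟩ := FiniteField.card F p
  rw [← Nat.card_eq_fintype_card, K.card] at hn
  obtain ⟨k, -, hk⟩ := (Nat.dvd_prime_pow hp).1 (hn ▸ dvd_pow_self q two_ne_zero)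
  have h2 := K.two_le
  refine ⟨p, k, hp, fun e => ?_, hp', hk⟩
  rw [e, pow_zero] at hk
  omega

include K in
theorem perfect (hq : 3 ≤ q) : commutator (SU 3 F q) = ⊤ := by
  cases nonempty_fintype F
  obtain ⟨p, k, hp, hk, hp', -⟩ := exists_char K
  haveI := Fact.mk hp
  exact CfsgLib.Classical.Herm.commutator_eq_top K p le_rfl fun h => by omega

include K in
/-- The defining characteristic. -/
theorem no_stem_char (hq : 3 ≤ q) {ℓ : ℕ} (hℓ : ℓ.Prime) (hd : ℓ ∣ q) {E : Type u} [Group E]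
    [Finite E] {τ : E →* SU 3 F q} (hτ : Cfsg.IsStemExtension τ)
    (hk : Nat.card τ.ker = ℓ) : False := by
  classical
  obtain ⟨B⟩ := CfsgLib.Classical.URegGen.exists_hb K 1
  obtain ⟨T, hT⟩ := exists_torus K B
  obtain ⟨φ, hφi, hφm, hφ⟩ := exists_root K B
  have hφ1 : ∀ x : Par K, x.1.1 = 0 → x.1.2 = 0 → φ x = 1 := fun x h1 h2 =>
    mul_eq_left.1 (hφm x x x (by rw [h1, add_zero]) (by rw [h1, h2]; simp))
  let U : Subgroup (SU 3 F q) :=
    { carrier := Set.range φ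
      one_mem' := ⟨⟨(0, 0), by simp⟩, hφ1 _ rfl rfl⟩
      mul_mem' := by
        rintro _ _ ⟨x, rfl⟩ ⟨y, rfl⟩
        have hw : (x.1.1 + y.1.1) * K.bar (x.1.1 + y.1.1) + (x.1.2 + y.1.2 - K.bar y.1.1 * x.1.1) +
            K.bar (x.1.2 + y.1.2 - K.bar y.1.1 * x.1.1) = 0 := by
          simp only [map_add, map_sub, map_mul, K.bar_bar]; linear_combination x.2 + y.2
        exact ⟨⟨(x.1.1 + y.1.1, x.1.2 + y.1.2 - K.bar y.1.1 * x.1.1), hw⟩, (hφm x y _ rfl rfl).symm⟩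
      inv_mem' := by
        rintro _ ⟨x, rfl⟩
        have hw : -x.1.1 * K.bar (-x.1.1) + K.bar x.1.2 + K.bar (K.bar x.1.2) = 0 := by
          rw [map_neg, K.bar_bar]; linear_combination x.2
        refine ⟨⟨(-x.1.1, K.bar x.1.2), hw⟩, (inv_eq_of_mul_eq_one_right ?_).symm⟩
        rw [hφm x _ ⟨(0, 0), by simp⟩ (by simp) (by simp; linear_combination -x.2)]
        exact hφ1 _ rfl rfl }
  let C : Subgroup (SU 3 F q) :=
    { carrier := {g | ∃ x : Par K, x.1.1 = 0 ∧ φ x = g}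
      one_mem' := ⟨⟨(0, 0), by simp⟩, rfl, hφ1 _ rfl rfl⟩
      mul_mem' := by
        rintro _ _ ⟨x, hx, rfl⟩ ⟨y, hy, rfl⟩
        have hx' := x.2
        have hy' := y.2
        simp only [hx, hy, zero_mul, zero_add] at hx' hy'
        exact ⟨⟨(0, x.1.2 + y.1.2), by simp only [map_add, zero_mul]; linear_combination hx' + hy'⟩,
          rfl, (hφm x y _ (by simp [hx, hy]) (by simp [hy])).symm⟩
      inv_mem' := by
        rintro _ ⟨x, hx, rfl⟩
        have hx' := x.2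
        simp only [hx, zero_mul, zero_add] at hx'
        refine ⟨⟨(0, -x.1.2), by simp only [map_neg, zero_mul]; linear_combination -hx'⟩, rfl,
          (inv_eq_of_mul_eq_one_right ?_).symm⟩
        rw [hφm x _ ⟨(0, 0), by simp⟩ (by simp [hx]) (by simp)]
        exact hφ1 _ rfl rfl }
  have hcomm : ∀ x y : Par K, ∃ w : Par K, w.1.1 = 0 ∧
      w.1.2 = K.bar x.1.1 * y.1.1 - K.bar y.1.1 * x.1.1 ∧ ⁅φ x, φ y⁆ = φ w := by
    intro x y
    have hxy : (x.1.1 + y.1.1) * K.bar (x.1.1 + y.1.1) + (x.1.2 + y.1.2 - K.bar y.1.1 * x.1.1) +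
        K.bar (x.1.2 + y.1.2 - K.bar y.1.1 * x.1.1) = 0 := by
      simp only [map_add, map_sub, map_mul, K.bar_bar]; linear_combination x.2 + y.2
    have hyx : (y.1.1 + x.1.1) * K.bar (y.1.1 + x.1.1) + (y.1.2 + x.1.2 - K.bar x.1.1 * y.1.1) +
        K.bar (y.1.2 + x.1.2 - K.bar x.1.1 * y.1.1) = 0 := by
      simp only [map_add, map_sub, map_mul, K.bar_bar]; linear_combination x.2 + y.2
    refine ⟨⟨(0, K.bar x.1.1 * y.1.1 - K.bar y.1.1 * x.1.1), ?_⟩, rfl, rfl, ?_⟩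
    · simp only [map_sub, map_mul, K.bar_bar]; ring
    rw [commutatorElement_def, mul_inv_eq_iff_eq_mul, mul_inv_eq_iff_eq_mul,
      mul_assoc (φ _) (φ y), hφm y x ⟨(y.1.1 + x.1.1, _), hyx⟩ rfl rfl, hφm x y ⟨(x.1.1 + y.1.1, _), hxy⟩ rfl rfl]
    exact (hφm _ _ _ (by simp [add_comm]) (by simp; ring)).symm
  have hTφ : ∀ (l : Fˣ) (x : Par K), ∃ y : Par K,
      y.1.1 = x.1.1 * ((l : F) ^ 2 / K.bar (l : F)) ∧ y.1.2 = (l : F) * K.bar (l : F) * x.1.2 ∧
        T l * φ x * (T l)⁻¹ = φ y := by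
    intro l x
    have hbl : K.bar (l : F) ≠ 0 := (map_ne_zero K.bar).2 l.ne_zero
    refine ⟨⟨(x.1.1 * ((l : F) ^ 2 / K.bar (l : F)), (l : F) * K.bar (l : F) * x.1.2), ?_⟩, rfl,
      rfl, ?_⟩
    · simp only [map_mul, map_div₀, map_pow, K.bar_bar]
      field_simp
      linear_combination (l : F) * K.bar (l : F) * x.2
    refine sg_unique K ?_ (hφ _)
    have h := sg_conj K (hφ x) (T l)
    rw [(hT l).1, app_smul, (hT l).2.2, smul_smul] at h
    have h' := sg_smul K (l : F) h (B.ee 0 0) (by rw [h_smul_left K, B.ze, mul_zero])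
    rw [smul_smul] at h'
    convert h' using 2
    simp only [map_mul, map_div₀, map_pow, K.bar_bar]
    field_simp
  haveI : IsCyclic T.range := isCyclic_of_surjective T.rangeRestrict T.rangeRestrict_surjective
  obtain ⟨k, hk0, hk1, hk2, ⟨la, hla0, hla⟩, lb, hlb0, hlb⟩ := exists_pair K hq
  obtain ⟨l₁, hl₁, hl₁3⟩ := exists_norm_one_cube K hq
  obtain ⟨c₀, hc₀, hc₀0, hc₀1⟩ := exists_fixed_ne K hq
  obtain ⟨l₀, hl₀⟩ := K.exists_norm c₀ hc₀
  have hl₀0 : l₀ ≠ 0 := fun e => hc₀0 (by rw [← hl₀, e, zero_mul])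
  have hl₁0 : l₁ ≠ 0 := fun e => by rw [e, CfsgLib.Classical.Phan.nm_zero] at hl₁; exact zero_ne_one hl₁
  have hμ1 : l₁ ^ 2 / K.bar l₁ ≠ 1 := fun e => by
    rw [div_eq_one_iff_eq ((map_ne_zero K.bar).2 hl₁0)] at e
    exact hl₁3 (by rw [pow_succ, e, mul_comm]; exact hl₁)
  have hcs : ∀ c ∈ C, ∃ x ∈ U, ∃ y ∈ U, c = ⁅x, y⁆ := by
    rintro _ ⟨w, hw, rfl⟩
    have hw2 := w.2
    simp only [hw, zero_mul, zero_add] at hw2
    obtain ⟨y, hy⟩ := K.exists_trace
    obtain ⟨b, hb⟩ := exists_par K (w.1.2 * y / (y + K.bar y))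
    obtain ⟨b1, hb1⟩ := exists_par K (1 : F)
    obtain ⟨v, hv1, hv2, hv⟩ := hcomm ⟨(1, b1), hb1⟩ ⟨(w.1.2 * y / (y + K.bar y), b), hb⟩
    refine ⟨φ ⟨(1, b1), hb1⟩, ⟨_, rfl⟩, φ ⟨(w.1.2 * y / (y + K.bar y), b), hb⟩, ⟨_, rfl⟩, ?_⟩
    rw [hv]
    refine congrArg φ (Subtype.ext (Prod.ext (hw.trans hv1.symm) ?_))
    rw [hv2]
    simp only [map_one, one_mul, mul_one, map_div₀, map_mul, map_add, K.bar_bar,
      add_comm (K.bar y) y]
    field_simp
    linear_combination (K.bar y) * hw2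
  have hUnc : ∀ {A : Type u} [CommGroup A] (β : SU 3 F q → A),
      (∀ x ∈ U, ∀ y ∈ U, β (x * y) = β x * β y) → (∀ c ∈ C, β c = 1) →
      ∀ x y : Par K, x.1.1 = y.1.1 → β (φ x) = β (φ y) := by
    intro A _ β hm hC x y e
    have hd : (φ y)⁻¹ * φ x ∈ C := by
      have hxy : (0 : F) * K.bar 0 + (x.1.2 + K.bar y.1.2 + K.bar x.1.1 * x.1.1) +
          K.bar (x.1.2 + K.bar y.1.2 + K.bar x.1.1 * x.1.1) = 0 := by
        have := y.2
        rw [← e] at this
        simp only [map_add, map_mul, K.bar_bar, zero_mul, zero_add]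
        linear_combination x.2 + this
      refine ⟨⟨(0, x.1.2 + K.bar y.1.2 + K.bar x.1.1 * x.1.1), hxy⟩, rfl,
        (eq_inv_mul_iff_mul_eq).2 (hφm y _ x (by simp [e]) ?_)⟩
      have := y.2
      rw [← e] at this
      simp; linear_combination -this
    rw [← mul_inv_cancel_left (φ y) (φ x), hm _ ⟨_, rfl⟩ _ (mul_mem (inv_mem ⟨_, rfl⟩) ⟨_, rfl⟩),
      hC _ hd, mul_one]
  choose ρ hρ using exists_par K
  let σ : F → SU 3 F q := fun a => φ ⟨(a, ρ a), hρ a⟩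
  have hσU : ∀ a, σ a ∈ U := fun a => ⟨_, rfl⟩
  have hidx : ¬ ℓ ∣ (U ⊔ T.range).index := by
    obtain ⟨p, e, hp, he, hp', rfl⟩ := exists_char K
    obtain rfl := (Nat.prime_dvd_prime_iff_eq hℓ hp).1 (hℓ.dvd_of_dvd_pow hd)
    intro h
    have h' := h.trans (Subgroup.index_dvd_of_le (show U ≤ U ⊔ T.range from le_sup_left))
    have hcard : Nat.card U = (ℓ ^ e) ^ 3 :=
      (Nat.card_congr (Equiv.ofInjective φ hφi).symm).trans (card_par K)
    have hG := U.card_mul_index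
    rw [hcard, CfsgLib.ModuleIndex.UThree.card_SU_three K] at hG
    rw [Nat.eq_of_mul_eq_mul_left (pow_pos (pow_pos hp.pos e) 3) hG] at h'
    have h1 : ℓ ∣ ℓ ^ e := dvd_pow_self ℓ he
    have h1' : 1 ≤ (ℓ ^ e) ^ 2 := Nat.one_le_pow _ _ (pow_pos hp.pos e)
    rcases hp.dvd_mul.1 h' with h2 | h2
    · exact hp.ne_one (Nat.dvd_one.1 ((Nat.dvd_sub (h1.trans (dvd_pow_self _ two_ne_zero)) h2).trans
        (by rw [Nat.sub_sub_self h1'])))
    · exact hp.ne_one (Nat.dvd_one.1 ((Nat.dvd_add_right (h1.trans (dvd_pow_self _ three_ne_zero))).1 h2))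
  refine no_stem_of_local hℓ hτ hk (U ⊔ T.range) hidx fun z hz hzd _ => ?_
  refine UnitaryLocal.no_kernel_coprime hτ.1 hτ.2.1 U C T.range ?_ ?_ ?_ ?_ ?_ ?_ ?_
    (t₀ := T (Units.mk0 l₀ hl₀0)) (t₁ := T (Units.mk0 l₁ hl₁0)) ⟨_, rfl⟩ ?_ ⟨_, rfl⟩ ?_ hz hzd
  · rintro _ ⟨x, -, rfl⟩; exact ⟨x, rfl⟩
  · rintro _ ⟨x, rfl⟩ _ ⟨y, rfl⟩
    obtain ⟨w, h1, -, h⟩ := hcomm x y
    exact ⟨w, h1, h.symm⟩
  · rintro _ ⟨x, rfl⟩ _ ⟨y, hy, rfl⟩
    obtain ⟨w, h1, h2, h⟩ := hcomm x y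
    rw [hy, map_zero, mul_zero, zero_mul, sub_zero] at h2
    rw [hφ1 w h1 h2, commutatorElement_eq_one_iff_mul_comm] at h
    exact h
  · rintro _ ⟨l, rfl⟩ _ ⟨x, rfl⟩
    obtain ⟨y, -, -, h⟩ := hTφ l x
    exact ⟨y, h.symm⟩
  · rintro _ ⟨l, rfl⟩ _ ⟨x, hx, rfl⟩
    obtain ⟨y, h1, -, h⟩ := hTφ l x
    exact ⟨y, by rw [h1, hx, zero_mul], h.symm⟩
  · intro A _ β hl hr hinv x hx c hc
    obtain ⟨x, rfl⟩ := hx
    have hker : ∀ d ∈ C, ∀ c ∈ C, β d c = 1 := by
      intro d hd c hc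
      obtain ⟨u, hu, v, hv, rfl⟩ := hcs d hd
      have h1 : β 1 c = 1 := by
        have := hl 1 (one_mem U) 1 (one_mem U) c hc
        rwa [one_mul, left_eq_mul] at this
      have hi : ∀ w ∈ U, β w⁻¹ c = (β w c)⁻¹ := fun w hw => eq_inv_of_mul_eq_one_left (by
        rw [← hl _ (inv_mem hw) _ hw c hc, inv_mul_cancel, h1])
      rw [commutatorElement_def, hl _ (mul_mem (mul_mem hu hv) (inv_mem hu)) _ (inv_mem hv) c hc,
        hl _ (mul_mem hu hv) _ (inv_mem hu) c hc, hl _ hu _ hv c hc, hi u hu, hi v hv]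
      simp [mul_comm (β u c) (β v c)]
    set f : F → A := fun a => β (σ a) c
    have hf : ∀ y : Par K, β (φ y) c = f y.1.1 := fun y =>
      hUnc (fun g => β g c) (fun a ha b hb => hl a ha b hb c hc) (fun d hd => hker d hd c hc) y ⟨(y.1.1, ρ y.1.1), hρ _⟩ rfl
    have hfa : ∀ a b, f (a + b) = f a * f b := fun a b => by
      have hw : (a + b) * K.bar (a + b) + (ρ a + ρ b - K.bar b * a) +
          K.bar (ρ a + ρ b - K.bar b * a) = 0 := by
        simp only [map_add, map_sub, map_mul, K.bar_bar]; linear_combination hρ a + hρ b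
      show f (a + b) = β (σ a) c * β (σ b) c
      rw [← hl _ (hσU a) _ (hσU b) c hc, hφm _ _ ⟨(a + b, _), hw⟩ rfl rfl, hf]
    have hμ : ∀ a, f (a * (l₁ ^ 2 / K.bar l₁)) = f a := fun a => by
      obtain ⟨⟨⟨c1, c2⟩, hc2⟩, hc1, rfl⟩ := hc
      simp only at hc1
      subst hc1
      obtain ⟨y, hy1, -, hy⟩ := hTφ (Units.mk0 l₁ hl₁0) ⟨(a, ρ a), hρ a⟩
      obtain ⟨d, hd1, hd2, hd⟩ := hTφ (Units.mk0 l₁ hl₁0) ⟨(0, c2), hc2⟩
      have h := hinv (T (Units.mk0 l₁ hl₁0)) ⟨_, rfl⟩ (σ a) (hσU a) _ ⟨⟨(0, c2), hc2⟩, rfl, rfl⟩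
      simp only [σ] at h
      rw [hy, hd, show d = (⟨(0, c2), hc2⟩ : Par K) from Subtype.ext (Prod.ext (by simpa using hd1)
        (by rw [hd2, Units.val_mk0, show l₁ * K.bar l₁ = 1 from hl₁, one_mul])), hf, hy1] at h
      exact h
    rw [hf]
    have h := hμ (x.1.1 / (l₁ ^ 2 / K.bar l₁ - 1))
    rw [show x.1.1 / (l₁ ^ 2 / K.bar l₁ - 1) * (l₁ ^ 2 / K.bar l₁) =
      x.1.1 / (l₁ ^ 2 / K.bar l₁ - 1) + x.1.1 by
        field_simp [sub_ne_zero.2 hμ1]; ring, hfa, mul_eq_left] at h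
    exact h
  · intro A _ β hl hr hC hinv x hx y hy
    obtain ⟨x, rfl⟩ := hx
    obtain ⟨y, rfl⟩ := hy
    set f : F → F → A := fun a b => β (σ a) (σ b)
    have hf : ∀ u v : Par K, β (φ u) (φ v) = f u.1.1 v.1.1 := fun u v =>
      (hUnc (fun g => β g (φ v)) (fun a ha b hb => hl a ha b hb _ ⟨_, rfl⟩)
        (fun d hd => (hC _ ⟨v, rfl⟩ d hd).2) u ⟨(u.1.1, ρ u.1.1), hρ _⟩ rfl).trans
        (hUnc (β (σ u.1.1)) (fun a ha b hb => hr _ (hσU _) a ha b hb)
          (fun d hd => (hC _ (hσU _) d hd).1) v ⟨(v.1.1, ρ v.1.1), hρ _⟩ rfl)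
    have hw : ∀ a b : F, (a + b) * K.bar (a + b) + (ρ a + ρ b - K.bar b * a) +
          K.bar (ρ a + ρ b - K.bar b * a) = 0 := fun a b => by
      simp only [map_add, map_sub, map_mul, K.bar_bar]; linear_combination hρ a + hρ b
    have hfl : ∀ a b d, f (a + b) d = f a d * f b d := fun a b d => by
      show _ = β (σ a) (σ d) * β (σ b) (σ d)
      rw [← hl _ (hσU a) _ (hσU b) _ (hσU d), hφm _ _ ⟨(a + b, _), hw a b⟩ rfl rfl, hf]
    have hfr : ∀ d a b, f d (a + b) = f d a * f d b := fun d a b => by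
      show _ = β (σ d) (σ a) * β (σ d) (σ b)
      rw [← hr _ (hσU d) _ (hσU a) _ (hσU b), hφm _ _ ⟨(a + b, _), hw a b⟩ rfl rfl, hf]
    have hfm : ∀ l : F, l ≠ 0 → ∀ a b, f (a * (l ^ 2 / K.bar l)) (b * (l ^ 2 / K.bar l)) = f a b := by
      intro l hl0 a b
      obtain ⟨u, hu1, -, hu⟩ := hTφ (Units.mk0 l hl0) ⟨(a, ρ a), hρ a⟩
      obtain ⟨v, hv1, -, hv⟩ := hTφ (Units.mk0 l hl0) ⟨(b, ρ b), hρ b⟩
      have h := hinv (T (Units.mk0 l hl0)) ⟨_, rfl⟩ (σ a) (hσU a) (σ b) (hσU b)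
      simp only [σ] at h
      rw [hu, hv, hf, hu1, hv1] at h
      exact h
    have hswap : ∀ m : F, m ≠ 0 → (∃ l : F, l ≠ 0 ∧ l ^ 2 / K.bar l = m) →
        ∀ a b, f (a * m) b = f a (b / m) := by
      rintro m hm ⟨l, hl0, rfl⟩ a b
      rw [← hfm l hl0 a (b / (l ^ 2 / K.bar l)), div_mul_cancel₀ _ hm]
    have hzero : ∀ a b, f a (b * ((1 + k)⁻¹ - 1 - k⁻¹)) = 1 := by
      intro a b
      have e1 := hswap _ hk1 ⟨lb, hlb0, hlb⟩ a b
      rw [mul_add, mul_one, hfl, hswap k hk0 ⟨la, hla0, hla⟩ a b, ← hfr] at e1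
      have e2 : b * ((1 + k)⁻¹ - 1 - k⁻¹) + (b + b / k) = b / (1 + k) := by
        field_simp; ring
      rw [← e2, hfr a (b * ((1 + k)⁻¹ - 1 - k⁻¹)) (b + b / k)] at e1
      exact mul_eq_right.1 e1.symm
    have hne : (1 + k)⁻¹ - 1 - k⁻¹ ≠ 0 := fun e => hk2 (by field_simp at e; linear_combination -e)
    rw [hf, ← div_mul_cancel₀ y.1.1 hne]
    exact hzero _ _
  · rintro _ ⟨x, hx, rfl⟩ h
    obtain ⟨y, hy1, hy2, hy⟩ := hTφ (Units.mk0 l₀ hl₀0) x
    rw [hy] at h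
    have h' := congrArg (fun w : Par K => w.1.2) (hφi h)
    simp only [hy2, Units.val_mk0, hl₀] at h'
    refine hφ1 x hx ?_
    have h3 : (c₀ - 1) * x.1.2 = 0 := by linear_combination h'
    exact (mul_eq_zero.1 h3).resolve_left (sub_ne_zero.2 hc₀1)
  · rintro _ ⟨x, rfl⟩ ⟨w, hw, e⟩
    obtain ⟨y, hy1, -, hy⟩ := hTφ (Units.mk0 l₁ hl₁0) x
    rw [commutatorElement_def, hy, eq_mul_inv_iff_mul_eq] at e
    have hwx : (w.1.1 + x.1.1) * K.bar (w.1.1 + x.1.1) + (w.1.2 + x.1.2 - K.bar x.1.1 * w.1.1) +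
        K.bar (w.1.2 + x.1.2 - K.bar x.1.1 * w.1.1) = 0 := by
      simp only [map_add, map_sub, map_mul, K.bar_bar]; linear_combination w.2 + x.2
    rw [hφm w x ⟨(w.1.1 + x.1.1, _), hwx⟩ rfl rfl] at e
    have h' := congrArg (fun v : Par K => v.1.1) (hφi e)
    simp only [hw, zero_add, hy1, Units.val_mk0] at h'
    refine ⟨x, ?_, rfl⟩
    have h3 : x.1.1 * (l₁ ^ 2 / K.bar l₁ - 1) = 0 := by linear_combination -h'
    exact (mul_eq_zero.1 h3).resolve_right (sub_ne_zero.2 hμ1)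

end CfsgLib.Schur.UnitaryThree
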