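import Cfsg.Agent.Lib.Schur.UnitaryThree
import Cfsg.Agent.Lib.Schur.SLTwo
import Cfsg.Agent.Lib.Classical.Phan.Position

/-!
`SU_3(q)`, `q ≥ 4`: the primes other than the characteristic, and the trivial multiplier.
-/

set_option autoImplicit false
set_option linter.unusedSectionVars false
set_option linter.style.haveILetI false

open scoped commutatorElement MatrixGroups

namespace CfsgLib.Schur.UnitaryThree

open Matrix Cfsg CfsgLib.Classical.Herm
open CfsgLib.Classical.Phan (nm bv cd Blk IsEl exists_el ext_cd emb range_emb_two exists_SL_two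
  su_two_perfect cd_bv cd_smul)
open CfsgLib.ClassicalAut (Unitary.Conj)

universe u

variable {F : Type u} [Field F] [Finite F] {q : ℕ} (K : Unitary.Conj F q)

/-- The norm one scalars. -/
def mu : Subgroup Fˣ where
  carrier := {x | (x : F) * K.bar (x : F) = 1}
  one_mem' := by simp
  mul_mem' := fun {a b} (ha : (a : F) * K.bar (a : F) = 1) (hb : (b : F) * K.bar (b : F) = 1) => by
    show ((a * b : Fˣ) : F) * K.bar ((a * b : Fˣ) : F) = 1
    rw [Units.val_mul, map_mul, mul_mul_mul_comm, ha, hb, one_mul]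
  inv_mem' := fun {a} (ha : (a : F) * K.bar (a : F) = 1) => by
    show ((a⁻¹ : Fˣ) : F) * K.bar ((a⁻¹ : Fˣ) : F) = 1
    rw [Units.val_inv_eq_inv_val, map_inv₀, ← mul_inv, ha, inv_one]

theorem card_mu : Nat.card (mu K) = q + 1 := by
  rw [← CfsgLib.Classical.Herm.card_norm_one K]
  exact Nat.card_congr
    { toFun := fun x => ⟨((x : Fˣ) : F), x.2⟩
      invFun := fun a => ⟨Units.mk0 a.1 (fun e => zero_ne_one (α := F) (by
        have := a.2; rwa [e, zero_mul] at this)), a.2⟩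
      left_inv := fun x => Subtype.ext (Units.ext rfl)
      right_inv := fun a => Subtype.ext rfl }

theorem mu_inv (x : mu K) : (((x⁻¹ : mu K) : Fˣ) : F) = K.bar ((x : Fˣ) : F) := by
  rw [Subgroup.coe_inv, Units.val_inv_eq_inv_val]
  exact inv_eq_of_mul_eq_one_right x.2

theorem mu_inv' (x : mu K) : ((x : Fˣ) : F)⁻¹ = K.bar ((x : Fˣ) : F) :=
  inv_eq_of_mul_eq_one_right x.2

theorem mu_inv'' (x : mu K) : (K.bar ((x : Fˣ) : F))⁻¹ = ((x : Fˣ) : F) :=
  inv_eq_of_mul_eq_one_left x.2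

/-- A diagonal element with prescribed action on the coordinates. -/
def IsDiag (g : SU 3 F q) (d0 d1 d2 : F) : Prop :=
  ∀ v : Fin 3 → F, cd (app g v) 0 = d0 * cd v 0 ∧ cd (app g v) 1 = d1 * cd v 1 ∧
    cd (app g v) 2 = d2 * cd v 2

theorem IsDiag.ext {g h : SU 3 F q} {d0 d1 d2 e0 e1 e2 : F} (hg : IsDiag g d0 d1 d2)
    (hh : IsDiag h e0 e1 e2) (h0 : d0 = e0) (h1 : d1 = e1) (h2 : d2 = e2) : g = h :=
  ext_app fun v => ext_cd fun i hi => by
    interval_cases i
    · rw [(hg v).1, (hh v).1, h0]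
    · rw [(hg v).2.1, (hh v).2.1, h1]
    · rw [(hg v).2.2, (hh v).2.2, h2]

theorem IsDiag.mul {g h : SU 3 F q} {d0 d1 d2 e0 e1 e2 : F} (hg : IsDiag g d0 d1 d2)
    (hh : IsDiag h e0 e1 e2) : IsDiag (g * h) (d0 * e0) (d1 * e1) (d2 * e2) := fun v => by
  rw [app_mul]
  refine ⟨?_, ?_, ?_⟩
  · rw [(hg _).1, (hh v).1, mul_assoc]
  · rw [(hg _).2.1, (hh v).2.1, mul_assoc]
  · rw [(hg _).2.2, (hh v).2.2, mul_assoc]

theorem exists_tori : ∃ a b : mu K →* SU 3 F q,
    (∀ x : mu K, a x ∈ Blk 0 2 ∧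
      IsDiag (a x) ((x : Fˣ) : F) (K.bar ((x : Fˣ) : F)) 1) ∧
    ∀ y : mu K, IsDiag (b y) 1 ((y : Fˣ) : F) (K.bar ((y : Fˣ) : F)) := by
  have hex : ∀ j, j + 1 < 3 → ∀ x : mu K, ∃ g : SU 3 F q, IsEl K g j ((x : Fˣ) : F) 0 := fun j hj x =>
    exists_el K hj (by rw [CfsgLib.Classical.Phan.nm_zero, add_zero]; exact x.2)
  choose A hA using hex 0 (by norm_num)
  choose B hB using hex 1 (by norm_num)
  have hAd : ∀ x : mu K, IsDiag (A x) ((x : Fˣ) : F) (K.bar ((x : Fˣ) : F)) 1 := fun x v => by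
    refine ⟨?_, ?_, ?_⟩
    · rw [((hA x).2.2 v).1, map_zero, zero_mul, sub_zero]
    · rw [((hA x).2.2 v).2, zero_mul, zero_add]
    · rw [(hA x).cd_ne K v (by omega) (by omega), one_mul]
  have hBd : ∀ x : mu K, IsDiag (B x) 1 ((x : Fˣ) : F) (K.bar ((x : Fˣ) : F)) := fun x v => by
    refine ⟨?_, ?_, ?_⟩
    · rw [(hB x).cd_ne K v (by omega) (by omega), one_mul]
    · rw [((hB x).2.2 v).1, map_zero, zero_mul, sub_zero]
    · rw [((hB x).2.2 v).2, zero_mul, zero_add]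
  refine ⟨MonoidHom.mk' A fun x y => (hAd _).ext ((hAd x).mul (hAd y)) (by simp) (by simp) (by simp),
    MonoidHom.mk' B fun x y => (hBd _).ext ((hBd x).mul (hBd y)) (by simp) (by simp) (by simp),
    fun x => ⟨(hA x).1, hAd x⟩, hBd⟩

include K in
/-- The signed transpositions of the coordinates. -/
theorem exists_swaps : ∃ w w' : SU 3 F q,
    (∀ v : Fin 3 → F, cd (app w v) 0 = -cd v 1 ∧ cd (app w v) 1 = cd v 0 ∧ cd (app w v) 2 = cd v 2) ∧
    ∀ v : Fin 3 → F, cd (app w' v) 0 = cd v 0 ∧ cd (app w' v) 1 = -cd v 2 ∧ cd (app w' v) 2 = cd v 1 := by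
  obtain ⟨w, hw⟩ := exists_el K (n := 3) (j := 0) (by norm_num) (α := (0 : F)) (β := 1)
    (by rw [CfsgLib.Classical.Phan.nm_zero, CfsgLib.Classical.Phan.nm_one, zero_add])
  obtain ⟨w', hw'⟩ := exists_el K (n := 3) (j := 1) (by norm_num) (α := (0 : F)) (β := 1)
    (by rw [CfsgLib.Classical.Phan.nm_zero, CfsgLib.Classical.Phan.nm_one, zero_add])
  refine ⟨w, w', fun v => ⟨?_, ?_, ?_⟩, fun v => ⟨?_, ?_, ?_⟩⟩
  · simp [(hw.2.2 v).1]
  · simp [(hw.2.2 v).2]
  · exact hw.cd_ne K v (by omega) (by omega)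
  · exact hw'.cd_ne K v (by omega) (by omega)
  · simp [(hw'.2.2 v).1]
  · simp [(hw'.2.2 v).2]

include K in
theorem no_stem_two (hq : 4 ≤ q) (hodd : Odd q) {E : Type u} [Group E] [Finite E]
    {τ : E →* SU 3 F q} (hτ : Cfsg.IsStemExtension τ) (hk : Nat.card τ.ker = 2) : False := by
  classical
  obtain ⟨a, b, ha, hb⟩ := exists_tori K
  obtain ⟨S, hperf, ⟨e⟩⟩ := exists_SL_two K hq
  set f : SU 2 F q →* SU 3 F q := emb K (show 0 + 2 ≤ 3 by norm_num)
  have hf : f.range = Blk 0 2 := range_emb_two K _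
  have hfi : Function.Injective f := CfsgLib.Classical.Phan.emb_injective K _
  haveI : IsCyclic (mu K) := isCyclic_of_subgroup_isDomain
    ((Units.coeHom F).comp (mu K).subtype) (Units.val_injective.comp Subtype.val_injective)
  obtain ⟨g, hg⟩ := IsCyclic.exists_generator (α := mu K)
  set t := b g
  set N : Subgroup (SU 3 F q) := Blk 0 2
  have hbN : ∀ y, ∀ x ∈ N, b y * x * (b y)⁻¹ ∈ N := by
    intro y x hx i hi
    have hy : app (b y) (bv i : Fin 3 → F) = bv i ∨ i = 2 := by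
      rcases (show i = 2 ∨ 3 ≤ i by omega) with rfl | h
      · exact .inr rfl
      · refine .inl (ext_cd fun j hj => ?_)
        have h' : (bv i : Fin 3 → F) = 0 := by rw [bv, dif_neg (by omega)]
        rw [h', CfsgLib.Classical.Phan.app_zero']
    rcases hy with h | rfl
    · rw [app_mul, app_mul]
      conv_lhs => arg 2; arg 2; rw [← h, app_inv]
      rw [hx i hi, h]
    · have hbv : app (b y) (bv 2 : Fin 3 → F) = K.bar ((y : Fˣ) : F) • bv 2 := ext_cd fun j hj => by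
        interval_cases j <;> simp [(hb y _).1, (hb y _).2.1, (hb y _).2.2, cd_bv, cd_smul]
      have hne : K.bar ((y : Fˣ) : F) ≠ 0 := (map_ne_zero K.bar).2 (Units.ne_zero _)
      have hinv : app (b y)⁻¹ (bv 2 : Fin 3 → F) = (K.bar ((y : Fˣ) : F))⁻¹ • bv 2 := by
        conv_lhs => rw [← inv_smul_smul₀ hne (bv 2 : Fin 3 → F), ← hbv]
        rw [app_smul, app_inv]
      rw [app_mul, app_mul, hinv, app_smul, hx 2 hi, app_smul, hbv, inv_smul_smul₀ hne]
  have hUN : ∀ g ∈ N ⊔ Subgroup.zpowers t, ∀ x ∈ N, g * x * g⁻¹ ∈ N := by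
    have hle : N ⊔ Subgroup.zpowers t ≤ Subgroup.normalizer (N : Set (SU 3 F q)) := by
      refine sup_le Subgroup.le_normalizer (Subgroup.zpowers_le.2 ?_)
      refine Subgroup.mem_normalizer_iff.2 fun x => ⟨hbN g x, fun h => ?_⟩
      have h2 := hbN g⁻¹ _ h
      rwa [map_inv, show (b g)⁻¹ * (b g * x * (b g)⁻¹) * (b g)⁻¹⁻¹ = x by group] at h2
    exact fun g hg x hx => (Subgroup.mem_normalizer_iff.1 (hle hg) x).1 hx
  have hperfN : N ≤ ⁅N, N⁆ := by
    rw [← hf, MonoidHom.range_eq_map, ← Subgroup.map_commutator, ← commutator_def,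
      su_two_perfect K hq]
  have hidx : ¬ 2 ∣ (N ⊔ Subgroup.zpowers t).index := by
    have hle : ∀ y, b y ∈ N ⊔ Subgroup.zpowers t := fun y => by
      obtain ⟨i, rfl⟩ := Subgroup.mem_zpowers_iff.1 (hg y)
      rw [map_zpow]
      exact Subgroup.mem_sup_right (Subgroup.zpow_mem _ (Subgroup.mem_zpowers _) i)
    let m : SU 2 F q × mu K → ↥(N ⊔ Subgroup.zpowers t) := fun p =>
      ⟨f p.1 * b p.2, mul_mem (Subgroup.mem_sup_left (show f p.1 ∈ N from hf.le ⟨_, rfl⟩)) (hle _)⟩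
    have hm : Function.Injective m := by
      rintro ⟨A, x⟩ ⟨A', x'⟩ hp
      have hp' : f A * b x = f A' * b x' := congrArg Subtype.val hp
      have hfix : ∀ A, app (f A) (bv 2 : Fin 3 → F) = bv 2 := fun A =>
        (show f A ∈ N from hf.le ⟨_, rfl⟩) 2 (.inr le_rfl)
      have hbv : ∀ y, app (b y) (bv 2 : Fin 3 → F) = K.bar ((y : Fˣ) : F) • bv 2 := fun y =>
        ext_cd fun j hj => by
          interval_cases j <;> simp [(hb y _).1, (hb y _).2.1, (hb y _).2.2, cd_bv, cd_smul]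
      have h2 := congrArg (fun g => cd (app g (bv 2 : Fin 3 → F)) 2) hp'
      simp only [app_mul, hbv, app_smul, hfix, cd_smul, cd_bv] at h2
      simp at h2
      have hx : x = x' := Subtype.ext (Units.ext h2)
      subst hx
      rw [hfi (mul_right_cancel hp')]
    have hc2 : Nat.card (SU 2 F q) = q * (q ^ 2 - 1) := by
      have hS : Nat.card S = q := by
        have h1 := Nat.card_congr e.toEquiv
        rw [CfsgLib.SL2.card_SL_two'] at h1
        have h2 := card_SU K (n := 2) (by norm_num)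
        have h3 := card_GU K (n := 2)
        norm_num [Finset.prod_range_succ, Nat.even_iff, -Nat.card_eq_fintype_card] at h3
        rw [h3, h1] at h2
        have h4 : Nat.card S * (Nat.card S ^ 2 - 1) = q * (q ^ 2 - 1) := by
          rw [show Nat.card S ^ 2 - 1 = (Nat.card S - 1) * (Nat.card S + 1) by
            rw [mul_comm]; simpa using Nat.sq_sub_sq (Nat.card S) 1]
          exact Nat.eq_of_mul_eq_mul_left (show 0 < q + 1 by omega) (h2.trans (by ring))
        have hlt : ∀ a b : ℕ, 2 ≤ b → a < b → a * (a ^ 2 - 1) < b * (b ^ 2 - 1) := fun a b hb h =>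
          (Nat.mul_le_mul h.le (Nat.sub_le_sub_right (Nat.pow_le_pow_left h.le 2) 1)).lt_of_ne fun e => by
            have h5 : a * (a ^ 2 - 1) ≤ a * (b ^ 2 - 1) :=
              Nat.mul_le_mul_left a (Nat.sub_le_sub_right (Nat.pow_le_pow_left h.le 2) 1)
            have h6 : a * (b ^ 2 - 1) < b * (b ^ 2 - 1) := Nat.mul_lt_mul_of_pos_right h
              (by have := Nat.pow_le_pow_left hb 2; omega)
            omega
        rcases lt_trichotomy (Nat.card S) q with h | h | h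
        · exact absurd h4 (hlt _ _ (by omega) h).ne
        · exact h
        · exact absurd h4 (hlt _ _ (by omega) h).ne'
      rw [Nat.card_congr e.toEquiv, CfsgLib.SL2.card_SL_two', hS,
        show q ^ 2 - 1 = (q + 1) * (q - 1) by simpa using Nat.sq_sub_sq q 1]
      ring
    have hU : q * (q ^ 2 - 1) * (q + 1) ≤ Nat.card ↥(N ⊔ Subgroup.zpowers t) := by
      have := Nat.card_le_card_of_injective m hm
      rwa [Nat.card_prod, hc2, card_mu] at this
    have hG := (N ⊔ Subgroup.zpowers t).card_mul_index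
    rw [CfsgLib.ModuleIndex.UThree.card_SU_three K] at hG
    have hdvd : q * (q ^ 2 - 1) * (q + 1) ∣ Nat.card ↥(N ⊔ Subgroup.zpowers t) := by
      have h1 : Nat.card ↥(N ⊔ Subgroup.zpowers t) ≤ q * (q ^ 2 - 1) * (q + 1) := by
        have hn : Subgroup.zpowers t ≤ Subgroup.normalizer (N : Set (SU 3 F q)) := fun x hx =>
          Subgroup.mem_normalizer_iff.2 fun y =>
            ⟨hUN x (Subgroup.mem_sup_right hx) y, fun h => by
              have := hUN x⁻¹ (Subgroup.mem_sup_right (inv_mem hx)) _ h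
              rwa [show x⁻¹ * (x * y * x⁻¹) * x⁻¹⁻¹ = y by group] at this⟩
        have hsur : Function.Surjective m := by
          rintro ⟨u, hu⟩
          have h' : u ∈ ((N ⊔ Subgroup.zpowers t : Subgroup (SU 3 F q)) : Set (SU 3 F q)) := hu
          rw [Subgroup.coe_mul_of_right_le_normalizer_left N _ hn] at h'
          obtain ⟨n, hn', _, ⟨i, rfl⟩, e' : n * t ^ i = u⟩ := h'
          obtain ⟨A, rfl⟩ := (hf.ge hn' : n ∈ f.range)
          exact ⟨(A, g ^ i), Subtype.ext (by show f A * b (g ^ i) = u; rw [map_zpow]; exact e')⟩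
        have := Nat.card_le_card_of_surjective m hsur
        rwa [Nat.card_prod, hc2, card_mu] at this
      rw [le_antisymm h1 hU]
    intro h
    have h2' := mul_dvd_mul hdvd h
    rw [hG] at h2'
    have hq1 : 1 ≤ q ^ 2 := Nat.one_le_pow _ _ (by omega)
    rw [CfsgLib.MinIndexSU3.cube_add_one (by omega),
      show q * (q ^ 2 - 1) * (q + 1) * 2 = (q * ((q ^ 2 - 1) * (q + 1))) * 2 by ring,
      show q ^ 3 * ((q ^ 2 - 1) * ((q + 1) * (q ^ 2 - q + 1))) =
        (q * ((q ^ 2 - 1) * (q + 1))) * (q ^ 2 * (q ^ 2 - q + 1)) by ring] at h2'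
    have h3 := Nat.dvd_of_mul_dvd_mul_left (show 0 < q * ((q ^ 2 - 1) * (q + 1)) by
      have := Nat.pow_le_pow_left (show 2 ≤ q by omega) 2
      exact Nat.mul_pos (by omega) (Nat.mul_pos (by omega) (by omega))) h2'
    rcases Nat.prime_two.dvd_mul.1 h3 with h4 | h4
    · exact hodd.not_two_dvd_nat (Nat.prime_two.dvd_of_dvd_pow h4)
    · have h5 : Odd (q ^ 2 - q + 1) := by
        rw [show q ^ 2 - q = q * (q - 1) by rw [pow_two, Nat.mul_sub_one]]
        exact Even.add_one (Nat.Odd.sub_odd hodd odd_one |>.mul_left q)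
      exact h5.not_two_dvd_nat h4
  refine no_stem_of_local Nat.prime_two hτ hk _ hidx fun z hz hzd _ => ?_
  refine UnitaryLocal.no_kernel_cyclic_quotient hτ.2.1 hτ.1 _ N t
    (Subgroup.mem_sup_right (Subgroup.mem_zpowers t)) rfl hUN hperfN (fun z hz hzN => ?_) hz hzd
  -- inside the block
  set Nh := N.comap τ
  let eN : SU 2 F q ≃* N := (MonoidHom.ofInjective hfi).trans (MulEquiv.subgroupCongr hf)
  let σ : Nh →* SL(2, S) := (e.toMonoidHom.comp eN.symm.toMonoidHom).comp (τ.subgroupComap N)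
  have hσs : Function.Surjective σ := e.surjective.comp (eN.symm.surjective.comp
    (MonoidHom.subgroupComap_surjective_of_surjective τ N hτ.1))
  have hσk : ∀ x : Nh, x ∈ σ.ker → (x : E) ∈ τ.ker := fun x hx => by
    have h1 : τ.subgroupComap N x = 1 :=
      eN.symm.injective (e.injective (by rw [map_one, map_one]; exact hx))
    exact congrArg Subtype.val h1
  have hσc : σ.ker ≤ Subgroup.center Nh := fun x hx => Subgroup.mem_center_iff.2 fun y =>
    Subtype.ext (Subgroup.mem_center_iff.1 (hτ.2.1 (hσk x hx)) y)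
  have hzH : z ∈ Nh := by
    show τ z ∈ N
    rw [MonoidHom.mem_ker.1 hz]; exact one_mem N
  have hzc : (⟨z, hzH⟩ : Nh) ∈ commutator Nh := by
    rw [← Subgroup.map_subtype_commutator] at hzN
    obtain ⟨y, hy, ey⟩ := Subgroup.mem_map.1 hzN
    exact (show y = ⟨z, hzH⟩ from Subtype.ext ey) ▸ hy
  have hzσ : (⟨z, hzH⟩ : Nh) ∈ σ.ker := by
    rw [MonoidHom.mem_ker]
    show e (eN.symm (τ.subgroupComap N ⟨z, hzH⟩)) = 1
    rw [show τ.subgroupComap N ⟨z, hzH⟩ = 1 from Subtype.ext (MonoidHom.mem_ker.1 hz), map_one,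
      map_one]
  haveI := Fact.mk Nat.prime_two
  have hz2 : (⟨z, hzH⟩ : Nh) ^ 2 ^ 1 = 1 := Subtype.ext (by
    show z ^ 2 ^ 1 = 1
    rw [pow_one, ← hk]
    exact congrArg Subtype.val (pow_card_eq_one' (x := (⟨z, hz⟩ : τ.ker))))
  have hodd' : Odd (Nat.card S) := by
    cases nonempty_fintype F
    cases nonempty_fintype S
    obtain ⟨p, k, hp, hk0, hp', rfl⟩ := exists_char K
    haveI := Fact.mk hp
    obtain ⟨m, hp2, hm⟩ := FiniteField.card S p
    rw [Nat.card_eq_fintype_card, hm]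
    exact ((Nat.odd_pow_iff hk0).1 hodd).pow
  let P : Sylow 2 SL(2, S) := default
  obtain ⟨k, -, ⟨eP⟩⟩ := CfsgLib.SL2.sylow_two_quaternion hodd' P
  have hmem := mem_commutator_preimage hσs Nat.prime_two hzσ (hσc hzσ) hzc hz2
    (P : Subgroup SL(2, S)) P.not_dvd_index
  exact congrArg Subtype.val (preimage_commutator_inf_ker_quaternion σ hσs hσc _ eP hzσ hmem)

include K in
theorem no_stem_sub_one (hq : 3 ≤ q) {ℓ : ℕ} (hℓ : ℓ.Prime) (h2 : ℓ ≠ 2) (hd : ℓ ∣ q - 1)
    {E : Type u} [Group E] [Finite E] {τ : E →* SU 3 F q} (hτ : Cfsg.IsStemExtension τ)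
    (hk : Nat.card τ.ker = ℓ) : False := by
  obtain ⟨B⟩ := CfsgLib.Classical.URegGen.exists_hb K 1
  obtain ⟨T, hT⟩ := exists_torus K B
  haveI : IsCyclic T.range := isCyclic_of_surjective T.rangeRestrict T.rangeRestrict_surjective
  have hTi : Function.Injective T := fun x y h => by
    have hE : B.E 0 ≠ 0 := fun e => by
      have := B.fe 0 0 one_pos one_pos
      rw [e, h_zero_right K, if_pos rfl] at this
      exact zero_ne_one this
    refine Units.ext (smul_left_injective F hE ?_)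
    show (x : F) • B.E 0 = (y : F) • B.E 0
    rw [← (hT x).1, ← (hT y).1, h]
  refine no_stem_of_local hℓ hτ hk T.range (fun h => ?_) fun z hz hzd _ => ?_
  · have hG := T.range.card_mul_index
    rw [CfsgLib.ModuleIndex.UThree.card_SU_three K,
      ← Nat.card_congr (MonoidHom.ofInjective hTi).toEquiv, Nat.card_units, K.card,
      show q ^ 3 * ((q ^ 2 - 1) * (q ^ 3 + 1)) = (q ^ 2 - 1) * (q ^ 3 * (q ^ 3 + 1)) by ring] at hG
    have hpos : 0 < q ^ 2 - 1 := by have := Nat.pow_le_pow_left hq 2; omega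
    rw [Nat.eq_of_mul_eq_mul_left hpos hG] at h
    obtain ⟨m, hm⟩ := hd
    rcases hℓ.dvd_mul.1 h with h' | h'
    · exact hℓ.ne_one (Nat.dvd_one.1 ((Nat.dvd_add_right (Dvd.intro m hm.symm)).1
        (show ℓ ∣ (q - 1) + 1 by rw [Nat.sub_add_cancel (by omega)]; exact hℓ.dvd_of_dvd_pow h')))
    · have e : q ^ 3 + 1 = (q - 1) * (q ^ 2 + q + 1) + 2 := by
        obtain ⟨r, rfl⟩ : ∃ r, q = r + 1 := ⟨q - 1, by omega⟩
        simp; ring
      rw [e] at h'
      exact h2 ((Nat.prime_dvd_prime_iff_eq hℓ Nat.prime_two).1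
        ((Nat.dvd_add_right (dvd_mul_of_dvd_left (Dvd.intro m hm.symm) _)).1 h'))
  · rw [preimage_commutator_eq_bot_of_isCyclic τ hτ.2.1] at hzd
    exact Subgroup.mem_bot.1 hzd

include K in
theorem no_stem_add_one (hq : 3 ≤ q) {ℓ : ℕ} (hℓ : ℓ.Prime) (h2 : ℓ ≠ 2) (hd : ℓ ∣ q + 1)
    {E : Type u} [Group E] [Finite E] {τ : E →* SU 3 F q} (hτ : Cfsg.IsStemExtension τ)
    (hk : Nat.card τ.ker = ℓ) : False := by
  classical
  obtain ⟨a, b, ha, hb⟩ := exists_tori K
  obtain ⟨w, w', hw, hw'⟩ := exists_swaps K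
  haveI : IsCyclic (mu K) := isCyclic_of_subgroup_isDomain
    ((Units.coeHom F).comp (mu K).subtype) (Units.val_injective.comp Subtype.val_injective)
  have conj_eq : ∀ g x y : SU 3 F q, g * x = y * g → g * x * g⁻¹ = y := fun g x y h => by
    rw [h, mul_inv_cancel_right]
  have hab : ∀ x y, Commute (a x) (b y) := fun x y =>
    ((ha x).2.mul (hb y)).ext ((hb y).mul (ha x).2) (mul_comm _ _) (mul_comm _ _) (mul_comm _ _)
  have hwa : ∀ x, w * a x * w⁻¹ = a x⁻¹ := fun x => conj_eq _ _ _ (ext_app fun v => ext_cd fun i hi => by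
    rw [app_mul, app_mul]
    interval_cases i <;>
      simp [(hw _).1, (hw _).2.1, (hw _).2.2, ((ha _).2 _).1, ((ha _).2 _).2.1, ((ha _).2 _).2.2,
        mu_inv, mu_inv', mu_inv'', K.bar_bar, -map_inv])
  have hwb : ∀ x, w * b x * w⁻¹ = a x * b x := fun x => conj_eq _ _ _ (ext_app fun v => ext_cd fun i hi => by
    rw [app_mul, app_mul, app_mul]
    have hx : ((x : Fˣ) : F) * K.bar ((x : Fˣ) : F) = 1 := x.2
    interval_cases i
    · simp [(hw _).1, (hb _ _).1, (hb _ _).2.1, ((ha _).2 _).1]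
    · simp only [(hw _).2.1, (hb _ _).1, ((ha _).2 _).2.1, (hb _ _).2.1]
      linear_combination -(cd v 0) * hx
    · simp [(hw _).2.2, (hb _ _).2.2, ((ha _).2 _).2.2])
  set A := a.range ⊔ b.range
  have hcomm : ∀ u v : E, τ u ∈ A → τ v ∈ A → Commute u v := fun u v hu hv =>
    UnitaryLocal.preimage_pair_comm hτ.2.1 hℓ h2 hk hτ.1 a b hab w hwa hwb hu hv
  have hq1 : 1 ≤ q := by omega
  have hab' : ∀ x y, IsDiag (a x * b y) ((x : Fˣ) : F)
      (K.bar ((x : Fˣ) : F) * ((y : Fˣ) : F)) (K.bar ((y : Fˣ) : F)) := fun x y => by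
    simpa using (ha x).2.mul (hb y)
  have hAm : ∀ u ∈ A, ∃ x y, u = a x * b y := by
    intro u hu
    have hle : A ≤ (MonoidHom.noncommCoprod a b hab).range := by
      rw [MonoidHom.noncommCoprod_range]
    obtain ⟨⟨x, y⟩, rfl⟩ := hle hu
    exact ⟨x, y, MonoidHom.noncommCoprod_apply a b hab (x, y)⟩
  have hAcard : Nat.card A = (q + 1) * (q + 1) := by
    have hi : Function.Injective (MonoidHom.noncommCoprod a b hab) := by
      rintro ⟨x, y⟩ ⟨x', y'⟩ h
      simp only [MonoidHom.noncommCoprod_apply] at h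
      have e := (congrArg (fun g => cd (app g (fun _ => (1 : F))) 0) h)
      have e' := (congrArg (fun g => cd (app g (fun _ => (1 : F))) 2) h)
      simp only [(hab' _ _ _).1, (hab' _ _ _).2.2] at e e'
      have h1 : cd (fun _ : Fin 3 => (1 : F)) 0 = 1 := by simp [cd]
      have h2 : cd (fun _ : Fin 3 => (1 : F)) 2 = 1 := by simp [cd]
      rw [h1, mul_one, mul_one] at e
      rw [h2, mul_one, mul_one] at e'
      exact Prod.ext (Subtype.ext (Units.ext e)) (Subtype.ext (Units.ext (K.bar.injective e')))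
    rw [show A = (MonoidHom.noncommCoprod a b hab).range from (MonoidHom.noncommCoprod_range _ _ _).symm,
      ← Nat.card_congr (MonoidHom.ofInjective hi).toEquiv, Nat.card_prod, card_mu]
  have hAidx : A.index = q ^ 3 * ((q - 1) * (q ^ 2 - q + 1)) := by
    have hG := A.card_mul_index
    rw [hAcard, CfsgLib.ModuleIndex.UThree.card_SU_three K, CfsgLib.MinIndexSU3.cube_add_one hq1,
      show q ^ 2 - 1 = (q + 1) * (q - 1) by simpa using Nat.sq_sub_sq q 1,
      show q ^ 3 * ((q + 1) * (q - 1) * ((q + 1) * (q ^ 2 - q + 1))) =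
        (q + 1) * (q + 1) * (q ^ 3 * ((q - 1) * (q ^ 2 - q + 1))) by ring] at hG
    exact Nat.eq_of_mul_eq_mul_left (by positivity) hG
  obtain ⟨m, hm⟩ := hd
  have hnot : ℓ ∣ A.index → ℓ = 3 := by
    intro h
    rw [hAidx] at h
    have hq' : (q : ZMod ℓ) = -1 := by
      have : ((q + 1 : ℕ) : ZMod ℓ) = 0 := by rw [hm]; simp
      push_cast at this; linear_combination this
    rw [← CharP.cast_eq_zero_iff (ZMod ℓ) ℓ] at h
    rw [Nat.cast_mul, Nat.cast_mul, Nat.cast_pow, CfsgLib.MinIndexSU3.cast_n1,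
      Nat.cast_sub hq1, hq'] at h
    haveI := Fact.mk hℓ
    have h6 : ((6 : ℕ) : ZMod ℓ) = 0 := by push_cast at h ⊢; linear_combination h
    rw [CharP.cast_eq_zero_iff (ZMod ℓ) ℓ, show 6 = 2 * 3 by rfl] at h6
    rcases hℓ.dvd_mul.1 h6 with e | e
    · exact absurd ((Nat.prime_dvd_prime_iff_eq hℓ Nat.prime_two).1 e) h2
    · exact (Nat.prime_dvd_prime_iff_eq hℓ Nat.prime_three).1 e
  by_cases h3 : ℓ = 3
  swap
  · refine no_stem_of_local hℓ hτ hk A (fun h => h3 (hnot h)) fun z hz hzd _ => ?_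
    have hb0 : ⁅A.comap τ, A.comap τ⁆ = ⊥ := eq_bot_iff.2 (Subgroup.commutator_le.2 fun u hu v hv =>
      Subgroup.mem_bot.2 (commutatorElement_eq_one_iff_mul_comm.2 (hcomm u v hu hv).eq))
    rw [hb0] at hzd
    exact Subgroup.mem_bot.1 hzd
  subst h3
  obtain ⟨c, hcdef⟩ : ∃ c, c = w * w' := ⟨_, rfl⟩
  have hc : ∀ v : Fin 3 → F, cd (app c v) 0 = cd v 2 ∧ cd (app c v) 1 = cd v 0 ∧
      cd (app c v) 2 = cd v 1 := fun v => by
    simp only [hcdef, app_mul]
    refine ⟨?_, ?_, ?_⟩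
    · rw [(hw _).1, (hw' v).2.1, neg_neg]
    · rw [(hw _).2.1, (hw' v).1]
    · rw [(hw _).2.2, (hw' v).2.2]
  have hca : ∀ x, c * a x * c⁻¹ = b x := fun x => conj_eq _ _ _ (ext_app fun v => ext_cd fun i hi => by
    rw [app_mul, app_mul]
    interval_cases i <;>
      simp [(hc _).1, (hc _).2.1, (hc _).2.2, ((ha _).2 _).1, ((ha _).2 _).2.1, ((ha _).2 _).2.2,
        (hb _ _).1, (hb _ _).2.1, (hb _ _).2.2])
  have hcb : ∀ x, c * b x * c⁻¹ = a x⁻¹ * b x⁻¹ := fun x => conj_eq _ _ _ (ext_app fun v => ext_cd fun i hi => by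
    rw [app_mul, app_mul]
    have hx : ((x : Fˣ) : F) * K.bar ((x : Fˣ) : F) = 1 := x.2
    interval_cases i
    · simp [(hc _).1, (hb _ _).2.2, (hab' _ _ _).1, mu_inv, mu_inv', -map_inv]
    · simp only [(hc _).2.1, (hb _ _).1, (hab' _ _ _).2.1, mu_inv, K.bar_bar]
      linear_combination -(cd v 0) * hx
    · simp [(hc _).2.2, (hb _ _).2.1, (hab' _ _ _).2.2, mu_inv, mu_inv', mu_inv'', K.bar_bar, -map_inv])
  have hc3 : c ^ 3 = 1 := ext_app fun v => ext_cd fun i hi => by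
    rw [pow_succ, pow_two, app_mul, app_mul, app_one]
    interval_cases i
    · rw [(hc _).1, (hc _).2.2, (hc _).2.1]
    · rw [(hc _).2.1, (hc _).1, (hc _).2.2]
    · rw [(hc _).2.2, (hc _).2.1, (hc _).1]
  have hcA : ∀ u ∈ A, c * u * c⁻¹ ∈ A := fun u hu => by
    obtain ⟨x, y, rfl⟩ := hAm u hu
    rw [show c * (a x * b y) * c⁻¹ = c * a x * c⁻¹ * (c * b y * c⁻¹) by group, hca, hcb]
    exact mul_mem (Subgroup.mem_sup_right ⟨x, rfl⟩)
      (mul_mem (Subgroup.mem_sup_left ⟨_, rfl⟩) (Subgroup.mem_sup_right ⟨_, rfl⟩))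
  have hcA' : ∀ u ∈ A, c⁻¹ * u * c ∈ A := fun u hu => by
    have e : c⁻¹ = c * c := inv_eq_of_mul_eq_one_left (by rw [← hc3, pow_succ, pow_two])
    have h := hcA _ (hcA u hu)
    rwa [show c * (c * u * c⁻¹) * c⁻¹ = (c * c) * u * (c * c)⁻¹ by group, ← e, inv_inv] at h
  have hcnA : c ∉ A := fun h => by
    obtain ⟨x, y, e⟩ := hAm c h
    have e0 := congrArg (fun g => cd (app g (bv 0 : Fin 3 → F)) 1) e
    simp [(hc _).2.1, (hab' _ _ _).2.1, cd_bv] at e0
  set U := A ⊔ Subgroup.zpowers c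
  have hidx : ¬ 3 ∣ U.index := by
    intro h
    haveI : (A.subgroupOf U).Normal := by
      rw [Subgroup.normal_subgroupOf_iff_le_normalizer le_sup_left]
      refine sup_le Subgroup.le_normalizer (Subgroup.zpowers_le.2 ?_)
      refine Subgroup.mem_normalizer_iff.2 fun u => ⟨hcA u, fun hu => ?_⟩
      have := hcA' _ hu
      rwa [show c⁻¹ * (c * u * c⁻¹) * c = u by group] at this
    set cU : U := ⟨c, Subgroup.mem_sup_right (Subgroup.mem_zpowers c)⟩
    have hr : cU ^ (A.subgroupOf U).index ∈ A.subgroupOf U := Subgroup.pow_index_mem _ _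
    have h3' : 3 ∣ A.relIndex U := by
      by_contra hn
      refine hcnA ?_
      have h1 : c ^ A.relIndex U ∈ A := Subgroup.mem_subgroupOf.1 hr
      have h2 : c ^ 3 ∈ A := hc3 ▸ one_mem A
      have hco : Nat.Coprime (A.relIndex U) 3 :=
        (Nat.prime_three.coprime_iff_not_dvd.2 hn).symm
      have := Subgroup.zpow_mem A h1 (Nat.gcdA (A.relIndex U) 3)
      have h5 := mul_mem this (Subgroup.zpow_mem A h2 (Nat.gcdB (A.relIndex U) 3))
      rwa [← zpow_natCast, ← _root_.zpow_mul, ← zpow_natCast c 3, ← _root_.zpow_mul,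
        ← _root_.zpow_add, ← Nat.gcd_eq_gcd_ab, hco.gcd_eq_one, Nat.cast_one, zpow_one] at h5
    have h9 : 9 ∣ A.index := by
      rw [← Subgroup.relIndex_mul_index (show A ≤ U from le_sup_left)]
      exact mul_dvd_mul h3' h
    rw [hAidx] at h9
    have hco : Nat.Coprime 9 (q ^ 3 * (q - 1)) := by
      show Nat.Coprime (3 ^ 2) _
      refine Nat.Coprime.pow_left 2 ?_
      refine (Nat.prime_three.coprime_iff_not_dvd).2 fun h => ?_
      rcases Nat.prime_three.dvd_mul.1 h with h' | h'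
      · have := Nat.prime_three.dvd_of_dvd_pow h'; omega
      · omega
    rw [← mul_assoc] at h9
    have h10 := hco.dvd_of_dvd_mul_left h9
    obtain ⟨r, rfl⟩ : ∃ r, q = 3 * r + 2 := ⟨m - 1, by omega⟩
    rw [show (3 * r + 2) ^ 2 - (3 * r + 2) + 1 = 9 * (r ^ 2 + r) + 3 by
      rw [pow_two, ← Nat.mul_sub_one]; simp; ring] at h10
    omega
  refine no_stem_of_local hℓ hτ hk U hidx fun z hz hzd _ => ?_
  set ct := Function.surjInv hτ.1 c
  have hct : τ ct = c := Function.surjInv_eq hτ.1 c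
  have hAh : ∀ u : E, τ u ∈ A → τ (ct * u * ct⁻¹) ∈ A := fun u hu => by
    simp only [map_mul, map_inv, hct]; exact hcA _ hu
  let D : Subgroup E :=
    { carrier := {g | ∃ u, τ u ∈ A ∧ g = ⁅u, ct⁆}
      one_mem' := ⟨1, by simp, by simp⟩
      mul_mem' := by
        rintro _ _ ⟨u, hu, rfl⟩ ⟨v, hv, rfl⟩
        refine ⟨v * u, by rw [map_mul]; exact mul_mem hv hu, ?_⟩
        refine (UnitaryLocal.comm_mul_left (hcomm v _ hv ?_)).symm
        rw [commutatorElement_def, show u * ct * u⁻¹ * ct⁻¹ = u * (ct * u⁻¹ * ct⁻¹) by group, map_mul]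
        exact mul_mem hu (hAh _ (by rw [map_inv]; exact inv_mem hu))
      inv_mem' := by
        rintro _ ⟨u, hu, rfl⟩
        refine ⟨u⁻¹, by rw [map_inv]; exact inv_mem hu, inv_eq_of_mul_eq_one_left ?_⟩
        rw [← UnitaryLocal.comm_mul_left (hcomm u _ hu ?_), mul_inv_cancel, commutatorElement_one_left]
        rw [commutatorElement_def, show u⁻¹ * ct * u⁻¹⁻¹ * ct⁻¹ = u⁻¹ * (ct * u * ct⁻¹) by group,
          map_mul, map_inv]
        exact mul_mem (inv_mem hu) (hAh u hu) }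
  have hDA : ∀ g ∈ D, τ g ∈ A := by
    rintro _ ⟨u, hu, rfl⟩
    rw [commutatorElement_def, show u * ct * u⁻¹ * ct⁻¹ = u * (ct * u⁻¹ * ct⁻¹) by group, map_mul]
    exact mul_mem hu (hAh _ (by rw [map_inv]; exact inv_mem hu))
  let S : Subgroup E :=
    { carrier := {g | ∀ v, τ v ∈ A → τ (g * v * g⁻¹) ∈ A ∧ g * v * g⁻¹ * v⁻¹ ∈ D ∧
        τ (g⁻¹ * v * g) ∈ A}
      one_mem' := fun v hv => by simpa using hv
      mul_mem' := by
        intro g h hg hh v hv
        obtain ⟨h1, h2, h3⟩ := hh v hv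
        obtain ⟨g1, g2, -⟩ := hg _ h1
        obtain ⟨-, -, g3⟩ := hg v hv
        obtain ⟨-, -, h3'⟩ := hh _ g3
        refine ⟨?_, ?_, ?_⟩
        · rwa [show g * h * v * (g * h)⁻¹ = g * (h * v * h⁻¹) * g⁻¹ by group]
        · rw [show g * h * v * (g * h)⁻¹ * v⁻¹ =
            g * (h * v * h⁻¹) * g⁻¹ * (h * v * h⁻¹)⁻¹ * (h * v * h⁻¹ * v⁻¹) by group]
          exact mul_mem g2 h2
        · rwa [show (g * h)⁻¹ * v * (g * h) = h⁻¹ * (g⁻¹ * v * g) * h by group]
      inv_mem' := by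
        intro g hg v hv
        obtain ⟨h1, -, h3⟩ := hg v hv
        obtain ⟨-, g2, -⟩ := hg _ h3
        refine ⟨by rwa [inv_inv], ?_, by rwa [inv_inv]⟩
        have h4 := inv_mem g2
        rwa [show (g * (g⁻¹ * v * g) * g⁻¹ * (g⁻¹ * v * g)⁻¹)⁻¹ = g⁻¹ * v * g⁻¹⁻¹ * v⁻¹ by group]
          at h4 }
  have hctS : ct ∈ S := fun v hv => ⟨hAh v hv, by
    have : ⁅v, ct⁆ ∈ D := ⟨v, hv, rfl⟩
    rw [show ct * v * ct⁻¹ * v⁻¹ = ⁅v, ct⁆⁻¹ by simp only [commutatorElement_def]; group]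
    exact inv_mem this, by
    simp only [map_mul, map_inv, hct]; exact hcA' _ hv⟩
  have hdec : ∀ x : E, τ x ∈ U → ∃ u, τ u ∈ A ∧ ∃ i : ℤ, x = u * ct ^ i := by
    intro x hx
    have hn : Subgroup.zpowers c ≤ Subgroup.normalizer (A : Set (SU 3 F q)) :=
      Subgroup.zpowers_le.2 (Subgroup.mem_normalizer_iff.2 fun u => ⟨hcA u, fun hu => by
        have := hcA' _ hu
        rwa [show c⁻¹ * (c * u * c⁻¹) * c = u by group] at this⟩)
    have h' : τ x ∈ ((A ⊔ Subgroup.zpowers c : Subgroup (SU 3 F q)) : Set (SU 3 F q)) := hx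
    rw [Subgroup.coe_mul_of_right_le_normalizer_left A _ hn] at h'
    obtain ⟨n, hn', _, ⟨i, rfl⟩, e : n * c ^ i = τ x⟩ := h'
    exact ⟨x * (ct ^ i)⁻¹, by rw [map_mul, map_inv, map_zpow, hct, ← e, mul_inv_cancel_right]; exact hn',
      i, (inv_mul_cancel_right x _).symm⟩
  have hzD : z ∈ D := (Subgroup.commutator_le.2 fun x hx y hy => ?_) hzd
  · obtain ⟨u, hu, rfl⟩ := hzD
    rw [MonoidHom.mem_ker, map_commutatorElement, hct, commutatorElement_eq_one_iff_mul_comm] at hz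
    obtain ⟨x, y, hxy⟩ := hAm _ hu
    have e0 := congrArg (fun g => cd (app g (bv 2 : Fin 3 → F)) 0) hz
    have e1 := congrArg (fun g => cd (app g (bv 0 : Fin 3 → F)) 1) hz
    have hd : IsDiag (τ u) _ _ _ := hxy ▸ hab' x y
    simp [app_mul, (hc _).1, (hc _).2.1, (hd _).1, (hd _).2.1, (hd _).2.2, cd_bv] at e0 e1
    refine UnitaryLocal.commute_lift_center (perfect K hq) hτ (Subgroup.mem_center_iff.2 fun g =>
      ext_app fun v => ?_) ct
    have hs : ∀ v : Fin 3 → F, app (τ u) v = ((x : Fˣ) : F) • v := fun v => ext_cd fun i hi => by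
      rw [cd_smul]
      interval_cases i
      · rw [(hd _).1]
      · rw [(hd _).2.1, e1]
      · rw [(hd _).2.2, ← e0]
    rw [app_mul, app_mul, hs, hs, app_smul]
  obtain ⟨u, hu, i, rfl⟩ := hdec x hx
  obtain ⟨v, hv, j, rfl⟩ := hdec y hy
  obtain ⟨hi1, hi2, -⟩ := (S.zpow_mem hctS i) v hv
  obtain ⟨hj1, hj2, -⟩ := (S.zpow_mem hctS j) u hu
  have e : ⁅u * ct ^ i, v * ct ^ j⁆ =
      (ct ^ i * v * (ct ^ i)⁻¹ * v⁻¹) * (ct ^ j * u * (ct ^ j)⁻¹ * u⁻¹)⁻¹ := by
    have k1 := hcomm u (ct ^ i * v * (ct ^ i)⁻¹) hu hi1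
    have k2 := hcomm (ct ^ j * u * (ct ^ j)⁻¹) v hj1 hv
    have k3 := hcomm u v hu hv
    rw [commutatorElement_def]
    calc u * ct ^ i * (v * ct ^ j) * (u * ct ^ i)⁻¹ * (v * ct ^ j)⁻¹
        = (u * (ct ^ i * v * (ct ^ i)⁻¹)) * (v * (ct ^ j * u * (ct ^ j)⁻¹))⁻¹ := by group
      _ = ((ct ^ i * v * (ct ^ i)⁻¹) * u) * ((ct ^ j * u * (ct ^ j)⁻¹) * v)⁻¹ := by rw [k1.eq, k2.eq]
      _ = (ct ^ i * v * (ct ^ i)⁻¹) * (u * v⁻¹) * (ct ^ j * u * (ct ^ j)⁻¹)⁻¹ := by group
      _ = (ct ^ i * v * (ct ^ i)⁻¹) * (v⁻¹ * u) * (ct ^ j * u * (ct ^ j)⁻¹)⁻¹ := by rw [k3.inv_right.eq]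
      _ = _ := by group
  rw [e]
  exact mul_mem hi2 (inv_mem hj2)

include K in
theorem no_stem_singer {ℓ : ℕ} (hℓ : ℓ.Prime) (h1 : ¬ ℓ ∣ q) (h2 : ¬ ℓ ∣ q ^ 2 - 1)
    {E : Type u} [Group E] [Finite E] {τ : E →* SU 3 F q} (hτ : Cfsg.IsStemExtension τ)
    (hk : Nat.card τ.ker = ℓ) : False := by
  classical
  haveI := Fact.mk hℓ
  let P : Sylow ℓ (SU 3 F q) := default
  haveI hcyc : IsCyclic (P : Subgroup (SU 3 F q)) := by
    by_cases hbot : (P : Subgroup (SU 3 F q)) = ⊥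
    · rw [hbot]; infer_instance
    haveI : Nontrivial (P : Subgroup (SU 3 F q)) := (Subgroup.nontrivial_iff_ne_bot _).2 hbot
    haveI := IsPGroup.center_nontrivial P.isPGroup'
    have hd : ℓ ∣ Nat.card (Subgroup.center (P : Subgroup (SU 3 F q))) := by
      obtain ⟨n, hn, e⟩ := (IsPGroup.nontrivial_iff_card
        (P.isPGroup'.to_subgroup (Subgroup.center (P : Subgroup (SU 3 F q))))).1 inferInstance
      rw [e]; exact dvd_pow_self ℓ hn.ne'
    obtain ⟨x, hx⟩ := exists_prime_orderOf_dvd_card' ℓ hd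
    set g : SU 3 F q := ((x : (P : Subgroup (SU 3 F q))) : SU 3 F q)
    have hgo : orderOf g = ℓ := by rw [Subgroup.orderOf_coe, Subgroup.orderOf_coe, hx]
    have hs : CfsgLib.MinIndexSU3.Sing g := CfsgLib.MinIndexSU3.sing_of_prime K hℓ hgo h1 h2
    set M := CfsgLib.MinIndexSU3.mat3 (F := F) (q := q) g
    haveI : Fact (Irreducible M.charpoly) := ⟨CfsgLib.MinIndexSU3.Cubic.irreducible hs⟩
    have hpoly : ∀ y : (P : Subgroup (SU 3 F q)), ∃ p : Polynomial F,
        CfsgLib.MinIndexSU3.mat3 (F := F) (q := q) (y : SU 3 F q) = Polynomial.aeval M p := fun y =>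
      CfsgLib.MinIndexSU3.Cubic.exists_poly hs (CfsgLib.MinIndexSU3.commute_iff.1
        (congrArg Subtype.val (Subgroup.mem_center_iff.1 x.2 y)))
    choose p hp using hpoly
    refine isCyclic_of_subgroup_isDomain
      ({ toFun := fun y => AdjoinRoot.mk M.charpoly (p y)
         map_one' := ?_
         map_mul' := fun y y' => ?_ } : (P : Subgroup (SU 3 F q)) →* AdjoinRoot M.charpoly) ?_
    · rw [← map_one (AdjoinRoot.mk M.charpoly), CfsgLib.MinIndexSU3.Cubic.eq_mk_iff hs, ← hp,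
        map_one]
      rfl
    · rw [← map_mul, CfsgLib.MinIndexSU3.Cubic.eq_mk_iff hs, map_mul, ← hp, ← hp, ← hp,
        Subgroup.coe_mul, map_mul]
    · intro y y' h
      have h' : AdjoinRoot.mk M.charpoly (p y) = AdjoinRoot.mk M.charpoly (p y') := h
      rw [CfsgLib.MinIndexSU3.Cubic.eq_mk_iff hs, ← hp, ← hp] at h'
      exact Subtype.ext (CfsgLib.MinIndexSU3.mat3_injective h')
  refine no_stem_of_local hℓ hτ hk (P : Subgroup (SU 3 F q)) P.not_dvd_index fun z hz hzd _ => ?_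
  rw [preimage_commutator_eq_bot_of_isCyclic τ hτ.2.1] at hzd
  exact Subgroup.mem_bot.1 hzd

include K in
/-- `SU_3(q)`, `q ≥ 4`, has trivial multiplier. -/
theorem multiplier (hq : 4 ≤ q) : Cfsg.HasCyclicSchurMultiplier (SU 3 F q) 1 := by
  refine trivial_multiplier_of_prime fun ℓ hℓ E _ _ τ hτ hk => ?_
  by_cases hd : ℓ ∣ q
  · exact no_stem_char K (by omega) hℓ hd hτ hk
  by_cases h2 : ℓ = 2
  · subst h2
    exact no_stem_two K hq (Nat.not_even_iff_odd.1 fun h => hd (even_iff_two_dvd.1 h)) hτ hk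
  by_cases hd1 : ℓ ∣ q - 1
  · exact no_stem_sub_one K (by omega) hℓ h2 hd1 hτ hk
  by_cases hd2 : ℓ ∣ q + 1
  · exact no_stem_add_one K (by omega) hℓ h2 hd2 hτ hk
  refine no_stem_singer K hℓ hd (fun h => ?_) hτ hk
  rw [show q ^ 2 - 1 = (q + 1) * (q - 1) by simpa using Nat.sq_sub_sq q 1] at h
  rcases hℓ.dvd_mul.1 h with h' | h'
  exacts [hd2 h', hd1 h']

end CfsgLib.Schur.UnitaryThree
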