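import Cfsg.Agent.Lib.Schur.UnitaryThreeMult
import Cfsg.Agent.Lib.Schur.UnitarySmallTools

/-!
The prime two for `SU_3(2)` and `SU_3(3)`: quaternion configurations.
-/

set_option autoImplicit false
set_option linter.unusedSectionVars false
set_option linter.style.haveILetI false

open scoped commutatorElement

namespace CfsgLib.Schur.UnitaryTiny

open Matrix Cfsg CfsgLib.Classical.Herm CfsgLib.Classical.Elation
open CfsgLib.Classical.Phan (nm bv cd Blk IsEl exists_el el_unique ext_cd cd_bv cd_smul)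
open CfsgLib.ClassicalAut (Unitary.Conj)
open CfsgLib.Schur.UnitaryThree (mu card_mu IsDiag exists_tori)

universe u

section Group

variable {G : Type*} [Group G]

/-- The order of a group generated by a quaternion configuration. -/
theorem card_quaternion [Finite G] {a b : G} (hab : a ^ 2 = b ^ 2) (hcm : ⁅a, b⁆ = a ^ 2)
    (ha4 : a ^ 4 = 1) (ha2 : a ^ 2 ≠ 1) (hb : b ∉ Subgroup.zpowers a) :
    Nat.card (Subgroup.closure ({a, b} : Set G)) = 8 := by
  haveI := Fact.mk Nat.prime_two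
  have ho : orderOf a = 4 := by
    have := orderOf_eq_prime_pow (p := 2) (n := 1) (x := a) (by rwa [pow_one]) (by simpa using ha4)
    simpa using this
  set A := Subgroup.zpowers a
  set U := Subgroup.closure ({a, b} : Set G)
  have haU : a ∈ U := Subgroup.subset_closure (Set.mem_insert _ _)
  have hbU : b ∈ U := Subgroup.subset_closure (Set.mem_insert_of_mem _ rfl)
  have hAU : A ≤ U := Subgroup.zpowers_le.2 haU
  have hba : b * a * b⁻¹ = a⁻¹ := by
    have h : a * b * a⁻¹ * b⁻¹ = a * a := by rw [← commutatorElement_def, hcm, pow_two]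
    have h1 : b * a⁻¹ * b⁻¹ = a := by
      refine mul_left_cancel (a := a) ?_
      rw [← h]; group
    calc b * a * b⁻¹ = (b * a⁻¹ * b⁻¹)⁻¹ := by group
      _ = a⁻¹ := by rw [h1]
  have hconj : ∀ g ∈ ({a, b} : Set G), ∀ x ∈ A, g * x * g⁻¹ ∈ A := by
    rintro g (rfl | rfl) x hx <;> obtain ⟨i, rfl⟩ := Subgroup.mem_zpowers_iff.1 hx <;>
      rw [← conj_zpow]
    · rw [mul_inv_cancel_right]; exact Subgroup.zpow_mem _ (Subgroup.mem_zpowers g) i
    · rw [hba]; exact Subgroup.zpow_mem _ (inv_mem (Subgroup.mem_zpowers a)) i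
  have hb2 : b * b ∈ A := by rw [← pow_two, ← hab]; exact Subgroup.pow_mem _ (Subgroup.mem_zpowers a) 2
  haveI : (A.subgroupOf U).Normal := by
    rw [Subgroup.normal_subgroupOf_iff_le_normalizer hAU, Subgroup.closure_le]
    intro g hg
    refine Subgroup.mem_normalizer_iff.2 fun x => ⟨hconj g hg x, fun h => ?_⟩
    rcases hg with rfl | rfl
    · have h' := mul_mem (mul_mem (inv_mem (Subgroup.mem_zpowers g)) h) (Subgroup.mem_zpowers g)
      rwa [show g⁻¹ * (g * x * g⁻¹) * g = x by group] at h'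
    · have h' := hconj g (Set.mem_insert_of_mem _ rfl) _ h
      rw [show g * (g * x * g⁻¹) * g⁻¹ = g * g * x * (g * g)⁻¹ by group] at h'
      have h'' := mul_mem (mul_mem (inv_mem hb2) h') hb2
      rwa [show (g * g)⁻¹ * (g * g * x * (g * g)⁻¹) * (g * g) = x by group] at h''
  have hcard : A.relIndex U = 2 := by
    have hdvd : A.relIndex U ∣ 2 := by
      have hgen : ∀ x : U ⧸ A.subgroupOf U, x ∈ Subgroup.zpowers (QuotientGroup.mk (⟨b, hbU⟩ : U) : U ⧸ A.subgroupOf U) := by
        intro x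
        obtain ⟨⟨y, hy⟩, rfl⟩ := QuotientGroup.mk_surjective x
        have hle : U ≤ ((Subgroup.zpowers (QuotientGroup.mk (⟨b, hbU⟩ : U) : U ⧸ A.subgroupOf U)).comap
            (QuotientGroup.mk' _)).map U.subtype := by
          rw [Subgroup.closure_le]
          rintro g (rfl | rfl)
          · refine ⟨⟨g, haU⟩, ?_, rfl⟩
            show (QuotientGroup.mk (⟨g, haU⟩ : U) : U ⧸ A.subgroupOf U) ∈ Subgroup.zpowers _
            rw [(QuotientGroup.eq_one_iff (⟨g, haU⟩ : U)).2 (Subgroup.mem_subgroupOf.2 (Subgroup.mem_zpowers g))]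
            exact one_mem _
          · exact ⟨⟨g, hbU⟩, Subgroup.mem_zpowers _, rfl⟩
        obtain ⟨z, hz, e⟩ := hle hy
        rwa [show z = ⟨y, hy⟩ from Subtype.ext e] at hz
      show Nat.card (U ⧸ A.subgroupOf U) ∣ 2
      rw [← orderOf_eq_card_of_forall_mem_zpowers hgen]
      refine orderOf_dvd_of_pow_eq_one ?_
      rw [← QuotientGroup.mk_pow, QuotientGroup.eq_one_iff]
      exact Subgroup.mem_subgroupOf.2 (show b ^ 2 ∈ A by rw [pow_two]; exact hb2)
    rcases (Nat.dvd_prime Nat.prime_two).1 hdvd with h | h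
    · exact absurd (Subgroup.relIndex_eq_one.1 h hbU) hb
    · exact h
  have := (A.subgroupOf U).card_mul_index
  rw [Nat.card_congr (Subgroup.subgroupOfEquivOfLe hAU).toEquiv, Nat.card_zpowers, ho,
    ← Subgroup.relIndex, hcard] at this
  omega

/-- The order of a product of disjoint subgroups, one normalising the other. -/
theorem card_sup (P L : Subgroup G) (hn : L ≤ Subgroup.normalizer (P : Set G))
    (hd : ∀ x ∈ P, x ∈ L → x = 1) :
    Nat.card ↥(P ⊔ L) = Nat.card P * Nat.card L := by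
  rw [← Nat.card_prod]
  refine (Nat.card_congr (Equiv.ofBijective (fun p : P × L =>
    (⟨p.1.1 * p.2.1, mul_mem (Subgroup.mem_sup_left p.1.2) (Subgroup.mem_sup_right p.2.2)⟩ :
      ↥(P ⊔ L))) ⟨?_, ?_⟩)).symm
  · rintro ⟨a, b⟩ ⟨a', b'⟩ e
    have e' : (a : G) * b = a' * b' := congrArg Subtype.val e
    have e2 : (a' : G)⁻¹ * a = b' * (b : G)⁻¹ := by
      rw [inv_mul_eq_iff_eq_mul, ← mul_assoc, ← e', mul_inv_cancel_right]
    have e3 := hd _ (mul_mem (inv_mem a'.2) a.2) (e2 ▸ mul_mem b'.2 (inv_mem b.2))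
    have e4 : a' = a := Subtype.ext (inv_mul_eq_one.1 e3)
    rw [e4] at e'
    exact Prod.ext e4.symm (Subtype.ext (mul_left_cancel e'))
  · rintro ⟨x, hx⟩
    have h' : x ∈ ((P ⊔ L : Subgroup G) : Set G) := hx
    rw [Subgroup.coe_mul_of_right_le_normalizer_left P _ hn] at h'
    obtain ⟨a, ha, b, hb, e⟩ := h'
    exact ⟨(⟨a, ha⟩, ⟨b, hb⟩), Subtype.ext e⟩

end Group

variable {F : Type u} [Field F] [Finite F] {q : ℕ} (K : Unitary.Conj F q)

include K in
theorem card_SU_three' : Nat.card (SU 3 F q) = q ^ 3 * ((q ^ 2 - 1) * (q ^ 3 + 1)) :=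
  CfsgLib.ModuleIndex.UThree.card_SU_three K

include K in
/-- A kernel of order two over `SU_3(2)` is no commutator. -/
theorem three_two (hq : q = 2) {E : Type u} [Group E] [Finite E] {σ : E →* SU 3 F q}
    (hs : Function.Surjective σ) (hc : σ.ker ≤ Subgroup.center E) {z : E} (hz : z ∈ σ.ker)
    (hzc : z ∈ commutator E) (hz2 : z ^ 2 = 1) : z = 1 := by
  classical
  obtain ⟨B⟩ := CfsgLib.Classical.URegGen.exists_hb K 1
  obtain ⟨φ, hφi, hφm, -⟩ := UnitaryThree.exists_root K B
  have h2 : (2 : F) = 0 := two_eq_zero K hq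
  obtain ⟨ω, hω, -⟩ := exists_omega K hq
  have hωb : K.bar ω = ω + 1 := by
    rw [K.bar_apply, hq]; linear_combination hω - (ω + 1) * h2
  have hω0 : ω ≠ 0 := fun e => zero_ne_one (α := F) (by rw [e] at hω; linear_combination -hω)
  have hω1 : ω ≠ 1 := fun e => one_ne_zero (α := F) (by rw [e] at hω; linear_combination hω - h2)
  have hω2 : (1 : F) + ω ≠ 0 := fun e => hω1 (by linear_combination e - h2)
  let o : UnitaryThree.Par K := ⟨(0, 0), by simp⟩
  let x : UnitaryThree.Par K := ⟨(1, ω), by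
    show (1 : F) * K.bar 1 + ω + K.bar ω = 0
    rw [map_one, hωb]; linear_combination (ω + 1) * h2⟩
  let y : UnitaryThree.Par K := ⟨(ω, ω), by
    show ω * K.bar ω + ω + K.bar ω = 0
    rw [hωb]; linear_combination hω + ω * h2⟩
  let c : UnitaryThree.Par K := ⟨(0, 1), by
    show (0 : F) * K.bar 0 + 1 + K.bar 1 = 0
    rw [map_one, map_zero]; linear_combination h2⟩
  let xy : UnitaryThree.Par K := ⟨(1 + ω, 1 + ω), by
    show (1 + ω) * K.bar (1 + ω) + (1 + ω) + K.bar (1 + ω) = 0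
    rw [map_add, map_one, hωb]; linear_combination hω + (2 * ω + 2) * h2⟩
  let yx : UnitaryThree.Par K := ⟨(1 + ω, ω), by
    show (1 + ω) * K.bar (1 + ω) + ω + K.bar ω = 0
    rw [map_add, map_one, hωb]; linear_combination hω + (2 * ω + 1) * h2⟩
  have e1 : φ o = 1 := mul_eq_left.1 (hφm o o o (by simp [o]) (by simp [o]))
  have ecc : φ c * φ c = 1 := by
    rw [hφm c c o (by simp [o, c]) (by simp [o, c]; linear_combination -h2), e1]
  have exx : φ x * φ x = φ c := hφm x x c
    (by show (0 : F) = 1 + 1; linear_combination -h2)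
    (by show (1 : F) = ω + ω - K.bar 1 * 1; rw [map_one]; linear_combination (1 - ω) * h2)
  have eyy : φ y * φ y = φ c := hφm y y c
    (by show (0 : F) = ω + ω; linear_combination -ω * h2)
    (by show (1 : F) = ω + ω - K.bar ω * ω; rw [hωb]; linear_combination hω - ω * h2)
  have exy : φ x * φ y = φ xy := hφm x y xy rfl
    (by show (1 + ω : F) = ω + ω - K.bar ω * 1; rw [hωb]; linear_combination h2)
  have eyx : φ y * φ x = φ yx := hφm y x yx (add_comm _ _)
    (by show ω = ω + ω - K.bar 1 * ω; rw [map_one]; ring)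
  have ecy : φ c * φ yx = φ xy := hφm c yx xy
    (by show (1 + ω : F) = 0 + (1 + ω); ring)
    (by show (1 + ω : F) = 1 + ω - K.bar (1 + ω) * 0; ring)
  have ha2 : φ x ^ 2 = φ c := by rw [pow_two, exx]
  have hcne : φ c ≠ 1 := fun e => one_ne_zero (α := F)
    (congrArg (fun p : UnitaryThree.Par K => p.1.2) (hφi (e.trans e1.symm)))
  have hcm : ⁅φ x, φ y⁆ = φ x ^ 2 := by
    rw [ha2, commutatorElement_def, exy, ← ecy, ← eyx]; group
  have ha4 : φ x ^ 4 = 1 := by
    rw [show 4 = 2 * 2 by rfl, pow_mul, ha2, pow_two, ecc]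
  have hb : φ y ∉ Subgroup.zpowers (φ x) := by
    intro h
    obtain ⟨i, hi⟩ := Subgroup.mem_zpowers_iff.1 h
    have hcomm : φ x * φ y = φ y * φ x := by rw [← hi]; exact ((Commute.refl (φ x)).zpow_right i).eq
    rw [exy, eyx] at hcomm
    have := congrArg (fun p : UnitaryThree.Par K => p.1.2) (hφi hcomm)
    exact one_ne_zero (α := F) (add_eq_right.1 this)
  have hab : φ x ^ 2 = φ y ^ 2 := by rw [ha2, pow_two, eyy]
  set U := Subgroup.closure ({φ x, φ y} : Set (SU 3 F q))
  have hcard := card_quaternion hab hcm ha4 (by rw [ha2]; exact hcne) hb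
  have hidx : ¬ 2 ∣ U.index := by
    have := U.card_mul_index
    rw [hcard, card_SU_three' K] at this
    subst hq
    norm_num at this
    omega
  exact UnitaryTools.no_kernel_quaternion hc hs U rfl hab hcm ha4 (by rw [ha2]; exact hcne) hz
    (mem_commutator_preimage hs Nat.prime_two (a := 1) hz (hc hz) hzc (by rw [pow_one]; exact hz2) U hidx)

/-! ### The blocks over the field with nine elements -/

variable {j : ℕ}

include K in
theorem el_mul (hj : j + 1 < 3) {g h k : SU 3 F q} {α β γ δ ε ζ : F} (hg : IsEl K g j α β)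
    (hh : IsEl K h j γ δ) (hk : IsEl K k j ε ζ) (e1 : α * γ - K.bar β * δ = ε)
    (e2 : β * γ + K.bar α * δ = ζ) : g * h = k := by
  have e := el_unique K hj (mul_mem hg.1 hh.1)
  have c1 : cd (app (g * h) (bv j : Fin 3 → F)) j = ε := by
    rw [app_mul, (hg.2.2 _).1, (hh.2.2 _).1, (hh.2.2 _).2, cd_bv, cd_bv, if_pos ⟨rfl, by omega⟩,
      if_neg (by omega)]
    linear_combination e1
  have c2 : cd (app (g * h) (bv j : Fin 3 → F)) (j + 1) = ζ := by
    rw [app_mul, (hg.2.2 _).2, (hh.2.2 _).1, (hh.2.2 _).2, cd_bv, cd_bv, if_pos ⟨rfl, by omega⟩,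
      if_neg (by omega)]
    linear_combination e2
  rw [c1, c2] at e
  exact e.ext' K hk

include K in
theorem el_inj (hj : j + 1 < 3) {g h : SU 3 F q} {α β γ δ : F} (hg : IsEl K g j α β)
    (hh : IsEl K h j γ δ) (e : g = h) : α = γ ∧ β = δ := by
  have h1 := (hg.2.2 (bv j)).1
  have h2 := (hg.2.2 (bv j)).2
  rw [e, (hh.2.2 _).1] at h1
  rw [e, (hh.2.2 _).2] at h2
  rw [cd_bv, cd_bv, if_pos ⟨rfl, by omega⟩, if_neg (by omega)] at h1 h2
  exact ⟨by linear_combination -h1, by linear_combination -h2⟩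

include K in
theorem card_blk (hj : j + 2 ≤ 3) :
    Nat.card ↥(Blk j (j + 2) : Subgroup (SU 3 F q)) = q * (q ^ 2 - 1) := by
  rw [← CfsgLib.Classical.Phan.range_emb_two K hj,
    ← Nat.card_congr (MonoidHom.ofInjective (CfsgLib.Classical.Phan.emb_injective K hj)).toEquiv]
  have h2 := card_SU K (n := 2) (by norm_num)
  rw [card_GU K] at h2
  norm_num [Finset.prod_range_succ, Nat.even_iff] at h2
  refine Nat.eq_of_mul_eq_mul_left (show 0 < q + 1 by omega) ?_
  rw [h2]; ring

include K in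
/-- The quaternion configuration inside the derived group of a block, for `q = 3`. -/
theorem exists_quat (hq : q = 3) (hj : j + 1 < 3) :
    ∃ θ : F, θ * θ = -1 ∧ ∃ a w : SU 3 F q, IsEl K a j θ 0 ∧ IsEl K w j 0 1 ∧
      a ^ 2 = w ^ 2 ∧ ⁅a, w⁆ = a ^ 2 ∧ a ^ 4 = 1 ∧ a ^ 2 ≠ 1 ∧
      w ∈ ⁅(Blk j (j + 2) : Subgroup (SU 3 F q)), Blk j (j + 2)⁆ ∧
      a ∈ ⁅(Blk j (j + 2) : Subgroup (SU 3 F q)), Blk j (j + 2)⁆ ∧
      Nat.card ↥(Subgroup.closure ({a, w} : Set (SU 3 F q))) = 8 := by
  classical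
  subst hq
  cases nonempty_fintype F
  obtain ⟨p, k, hp, hk, hchar, hpk⟩ := UnitaryThree.exists_char K
  have hp3 : p = 3 := ((Nat.prime_dvd_prime_iff_eq hp Nat.prime_three).1 (hpk ▸ dvd_pow_self p hk))
  subst hp3
  have h3 : (3 : F) = 0 := by exact_mod_cast CharP.cast_eq_zero F 3
  haveI : IsCyclic (mu K) := isCyclic_of_subgroup_isDomain
    ((Units.coeHom F).comp (mu K).subtype) (Units.val_injective.comp Subtype.val_injective)
  obtain ⟨g, hg⟩ := IsCyclic.exists_ofOrder_eq_natCard (α := mu K)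
  rw [card_mu K] at hg
  set θ : F := ((g : Fˣ) : F)
  have hθn : θ * K.bar θ = 1 := g.2
  have hθ4 : θ ^ 4 = 1 := by
    have h := congrArg (fun x : mu K => ((x : Fˣ) : F)) (show g ^ 4 = 1 by
      rw [← show orderOf g = 4 from hg, pow_orderOf_eq_one])
    simpa using h
  have hθ2 : θ * θ = -1 := by
    rcases mul_self_eq_one_iff.1 (show θ * θ * (θ * θ) = 1 by rw [← hθ4]; ring) with h | h
    · exfalso
      have h' : g ^ 2 = 1 := Subtype.ext (Units.ext (by simpa [pow_two] using h))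
      have hd := orderOf_dvd_of_pow_eq_one h'
      rw [hg] at hd
      norm_num at hd
    · exact h
  have hθb : K.bar θ = -θ := by linear_combination (K.bar θ) * hθ2 - θ * hθn
  have hm1 : (-1 : F) ≠ 1 := fun e => one_ne_zero (α := F) (by linear_combination h3 + e)
  obtain ⟨α, hα⟩ := K.exists_norm (-1 : F) (by rw [map_neg, map_one])
  have hn1 : ∀ c : F, c * K.bar c = 1 → nm K c + nm K (0 : F) = 1 := fun c hc => by
    rw [CfsgLib.Classical.Phan.nm_zero, add_zero]; exact hc
  have hn0 : ∀ c : F, c * K.bar c = 1 → nm K (0 : F) + nm K c = 1 := fun c hc => by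
    rw [add_comm]; exact hn1 c hc
  obtain ⟨a, ha⟩ := exists_el K hj (hn1 θ hθn)
  obtain ⟨w, hw⟩ := exists_el K hj (hn0 1 (by simp))
  obtain ⟨m, hm⟩ := exists_el K hj (hn1 (-1) (by simp))
  obtain ⟨e, he⟩ := exists_el K hj (hn1 1 (by simp))
  obtain ⟨aw, haw⟩ := exists_el K hj (hn0 (-θ) (by rw [map_neg]; linear_combination hθn))
  obtain ⟨wa, hwa⟩ := exists_el K hj (hn0 θ hθn)
  obtain ⟨g₀, hg₀⟩ := exists_el K hj (α := α) (β := α) (by rw [nm, hα]; linear_combination -h3)
  obtain ⟨g₁, hg₁⟩ := exists_el K hj (α := K.bar α) (β := -α) (by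
    rw [nm, nm, K.bar_bar, map_neg]; linear_combination 2 * hα - h3)
  have he1 : e = 1 := by
    have := el_mul K hj he he he (by simp) (by simp)
    exact mul_eq_left.1 this
  have haa : a * a = m := el_mul K hj ha ha hm (by simp [hθ2]) (by simp)
  have hww : w * w = m := el_mul K hj hw hw hm (by simp) (by simp)
  have hmm : m * m = 1 := he1 ▸ el_mul K hj hm hm he (by simp) (by simp)
  have hawE : a * w = aw := el_mul K hj ha hw haw (by simp) (by simp [hθb])
  have hwaE : w * a = wa := el_mul K hj hw ha hwa (by simp) (by simp)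
  have hma : m * wa = aw := el_mul K hj hm hwa haw (by simp) (by simp)
  have hcm : ⁅a, w⁆ = a ^ 2 := by
    rw [pow_two, haa, commutatorElement_def, hawE, ← hma, ← hwaE]; group
  have ha2 : a ^ 2 ≠ 1 := by
    rw [pow_two, haa, ← he1]
    exact fun h => hm1 (el_inj K hj hm he h).1
  have hab : a ^ 2 = w ^ 2 := by rw [pow_two, pow_two, haa, hww]
  have ha4 : a ^ 4 = 1 := by rw [show 4 = 2 * 2 by rfl, pow_mul, pow_two a, haa, pow_two, hmm]
  have hg1i : g₀ * g₁ = 1 := he1 ▸ el_mul K hj hg₀ hg₁ he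
    (by linear_combination 2 * hα - h3)
    (by ring)
  have hwN : w ∈ ⁅(Blk j (j + 2) : Subgroup (SU 3 F 3)), Blk j (j + 2)⁆ := by
    obtain ⟨g₂, hg₂⟩ := exists_el K hj (α := K.bar α) (β := α) (by
      rw [nm, nm, K.bar_bar]; linear_combination 2 * hα - h3)
    obtain ⟨k₁, hk₁⟩ := exists_el K hj (α := θ * K.bar α) (β := θ * α) (by
      rw [nm, nm, map_mul, map_mul, K.bar_bar]
      linear_combination (2 * α * K.bar α) * hθn + 2 * hα - h3)
    have k1 : a * g₁ = k₁ := el_mul K hj ha hg₁ hk₁ (by simp) (by rw [hθb]; ring)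
    have k2 : g₂ * a = k₁ := el_mul K hj hg₂ ha hk₁ (by simp; ring) (by simp; ring)
    have h : g₀ * g₂ = w := el_mul K hj hg₀ hg₂ hw (by ring)
      (by linear_combination 2 * hα - h3)
    have e2 : ⁅g₀, a⁆ = w := by
      rw [commutatorElement_def, ← h]
      have : g₁ = g₀⁻¹ := eq_inv_of_mul_eq_one_right hg1i
      rw [← this]
      calc g₀ * a * g₁ * a⁻¹ = g₀ * (a * g₁) * a⁻¹ := by group
        _ = g₀ * (g₂ * a) * a⁻¹ := by rw [k1, k2]
        _ = g₀ * g₂ := by group
    exact e2 ▸ Subgroup.commutator_mem_commutator hg₀.1 ha.1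
  have haN : a ∈ ⁅(Blk j (j + 2) : Subgroup (SU 3 F 3)), Blk j (j + 2)⁆ := by
    obtain ⟨k₂, hk₂⟩ := exists_el K hj (α := -K.bar α) (β := K.bar α) (by
      rw [nm, nm, map_neg, K.bar_bar]; linear_combination 2 * hα - h3)
    have hb4 : K.bar (α * α) * (α * α) = 1 := by
      rw [map_mul]; linear_combination (α * K.bar α - 1) * hα
    have hsq : K.bar (α * α) = -(α * α) := by
      have h9 : α * K.bar α = α ^ 4 := by rw [K.bar_apply]; ring
      have h8 : (α * α) * (α * α) = -1 := by rw [← hα, h9]; ring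
      linear_combination -(α * α) * hb4 + K.bar (α * α) * h8
    have hn2 : nm K (-(α * α)) + nm K (0 : F) = 1 := hn1 _ (by
      rw [map_neg]; linear_combination hb4)
    obtain ⟨c, hc⟩ := exists_el K hj hn2
    have k1 : g₀ * w = k₂ := el_mul K hj hg₀ hw hk₂ (by simp) (by simp)
    have k2 : k₂ * g₁ = c := el_mul K hj hk₂ hg₁ hc
      (by rw [map_mul] at hsq; rw [K.bar_bar]; linear_combination (-1 : F) * hsq + (α * α) * h3)
      (by rw [map_mul] at hsq; rw [map_neg, K.bar_bar]; linear_combination hsq)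
    have hg1' : g₁ = g₀⁻¹ := eq_inv_of_mul_eq_one_right hg1i
    have hcD : c ∈ ⁅(Blk j (j + 2) : Subgroup (SU 3 F 3)), Blk j (j + 2)⁆ := by
      rw [← k2, ← k1, hg1', show g₀ * w * g₀⁻¹ = ⁅g₀, w⁆ * w by
        rw [commutatorElement_def]; group]
      exact mul_mem (Subgroup.commutator_mem_commutator hg₀.1 hw.1) hwN
    rcases mul_self_eq_mul_self_iff.1 (show -(α * α) * -(α * α) = θ * θ by
      rw [map_mul] at hsq hb4; linear_combination -hb4 + (α * α) * hsq - hθ2)
      with h | h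
    · rw [show a = c from ha.ext' K (h ▸ hc)]; exact hcD
    · have hc' : IsEl K c j (-θ) 0 := h ▸ hc
      have hac : a * c = 1 := he1 ▸ el_mul K hj ha hc' he (by simp [hθ2]) (by simp)
      rw [show a = c⁻¹ from eq_inv_of_mul_eq_one_left hac]
      exact inv_mem hcD
  refine ⟨θ, hθ2, a, w, ha, hw, hab, hcm, ha4, ha2, hwN, haN, card_quaternion hab hcm ha4 ha2 ?_⟩
  intro h
  obtain ⟨i, hi⟩ := Subgroup.mem_zpowers_iff.1 h
  have hcomm : a * w = w * a := by rw [← hi]; exact ((Commute.refl a).zpow_right i).eq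
  rw [hawE, hwaE] at hcomm
  have := (el_inj K hj haw hwa hcomm).2
  refine hm1 ?_
  have h0 : θ ≠ 0 := fun h => by rw [h, zero_mul] at hθn; exact zero_ne_one hθn
  exact mul_right_cancel₀ h0 (by rw [neg_one_mul, one_mul]; exact this)

include K in
/-- A homomorphism of a block into a group of exponent two is trivial, for `q = 3`. -/
theorem hom_trivial (hq : q = 3) (hj : j + 1 < 3) {A : Type*} [CommGroup A]
    (f : ↥(Blk j (j + 2) : Subgroup (SU 3 F q)) →* A) (h2 : ∀ x, f x ^ 2 = 1)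
    (x : ↥(Blk j (j + 2) : Subgroup (SU 3 F q))) : f x = 1 := by
  classical
  subst hq
  obtain ⟨θ, -, a, w, ha, hw, -, -, -, -, hwN, haN, hcard⟩ := exists_quat K rfl hj
  have hker : Subgroup.closure ({a, w} : Set (SU 3 F 3)) ≤ f.ker.map (Blk j (j + 2) : Subgroup (SU 3 F 3)).subtype := by
    have hc : (commutator ↥(Blk j (j + 2) : Subgroup (SU 3 F 3))).map (Blk j (j + 2) : Subgroup (SU 3 F 3)).subtype ≤ f.ker.map (Blk j (j + 2) : Subgroup (SU 3 F 3)).subtype :=
      Subgroup.map_mono (Abelianization.commutator_subset_ker f)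
    rw [Subgroup.map_subtype_commutator] at hc
    rw [Subgroup.closure_le]
    rintro g (rfl | rfl)
    exacts [hc haN, hc hwN]
  have h8 := Subgroup.card_dvd_of_le hker
  rw [hcard, ← Nat.card_congr (f.ker.equivMapOfInjective (Blk j (j + 2) : Subgroup (SU 3 F 3)).subtype (Subgroup.subtype_injective _)).toEquiv] at h8
  have h24 := f.ker.card_mul_index
  rw [Subgroup.index_ker, card_blk K (by omega)] at h24
  rw [show 3 * (3 ^ 2 - 1) = 24 by norm_num] at h24
  have hord : orderOf (f x) ∣ 3 := by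
    have h1 : orderOf (f x) ∣ Nat.card f.range :=
      (Subgroup.orderOf_mk (f x) (MonoidHom.mem_range.2 ⟨x, rfl⟩)).symm ▸
        orderOf_dvd_natCard (⟨f x, MonoidHom.mem_range.2 ⟨x, rfl⟩⟩ : f.range)
    obtain ⟨d, hd⟩ := h8
    refine h1.trans ⟨d, ?_⟩
    rw [hd] at h24
    linarith
  have h3 := Nat.dvd_gcd (orderOf_dvd_of_pow_eq_one (h2 x)) hord
  norm_num at h3
  exact h3

include K in
/-- No stem extension of `SU_3(3)` has a kernel of order two. -/
theorem three_three (hq : q = 3) {E : Type u} [Group E] [Finite E] {τ : E →* SU 3 F q}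
    (hτ : Cfsg.IsStemExtension τ) (hk : Nat.card τ.ker = 2) : False := by
  classical
  obtain ⟨θ, hθ2, a, w, ha, hw, hab, hcm, ha4, ha2, hwN, haN, hcard⟩ :=
    exists_quat K hq (show 0 + 1 < 3 by norm_num)
  obtain ⟨t, b, ht, hb⟩ := exists_tori K
  obtain ⟨hs, hc, hd⟩ := hτ
  set N : Subgroup (SU 3 F q) := Blk 0 (0 + 2)
  set Nt := N.comap τ
  set D := ⁅Nt, Nt⁆
  have hD0 : ∀ z ∈ D, τ z = 1 → z = 1 := by
    intro z hzD hz1
    set σ : Nt →* N := τ.subgroupComap N
    have hσs : Function.Surjective σ := MonoidHom.subgroupComap_surjective_of_surjective τ N hs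
    have hσc : σ.ker ≤ Subgroup.center Nt := fun x hx => Subgroup.mem_center_iff.2 fun y =>
      Subtype.ext (Subgroup.mem_center_iff.1 (hc (show (x : E) ∈ τ.ker from
        congrArg Subtype.val (MonoidHom.mem_ker.1 hx))) y)
    have hzN : z ∈ Nt := (Subgroup.commutator_le.2 fun x hx y hy => by
      rw [commutatorElement_def]
      exact mul_mem (mul_mem (mul_mem hx hy) (inv_mem hx)) (inv_mem hy) : D ≤ Nt) hzD
    have hzc : (⟨z, hzN⟩ : Nt) ∈ commutator Nt := by
      have h' := hzD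
      rw [show D = ⁅Nt, Nt⁆ from rfl, ← Subgroup.map_subtype_commutator] at h'
      obtain ⟨y, hy, ey⟩ := Subgroup.mem_map.1 h'
      exact (show y = ⟨z, hzN⟩ from Subtype.ext ey) ▸ hy
    have hzk : (⟨z, hzN⟩ : Nt) ∈ σ.ker := MonoidHom.mem_ker.2 (Subtype.ext hz1)
    have hz2 : (⟨z, hzN⟩ : Nt) ^ 2 ^ 1 = 1 := Subtype.ext (by
      show z ^ 2 ^ 1 = 1
      rw [pow_one, ← hk]
      exact congrArg Subtype.val (pow_card_eq_one' (x := (⟨z, hz1⟩ : τ.ker))))
    have haM : a ∈ N := ha.1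
    have hwM : w ∈ N := hw.1
    have hab' : (⟨a, haM⟩ : N) ^ 2 = ⟨w, hwM⟩ ^ 2 := Subtype.ext hab
    have hcm' : ⁅(⟨a, haM⟩ : N), (⟨w, hwM⟩ : N)⁆ = (⟨a, haM⟩ : N) ^ 2 := Subtype.ext hcm
    have ha4' : (⟨a, haM⟩ : N) ^ 4 = 1 := Subtype.ext ha4
    have ha2' : (⟨a, haM⟩ : N) ^ 2 ≠ 1 := fun e => ha2 (congrArg Subtype.val e)
    set U := Subgroup.closure ({(⟨a, haM⟩ : N), (⟨w, hwM⟩ : N)} : Set N)
    have hU : U.map N.subtype = Subgroup.closure ({a, w} : Set (SU 3 F q)) := by
      rw [MonoidHom.map_closure, Set.image_pair]; rfl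
    have hidx : ¬ 2 ∣ U.index := by
      have h := U.card_mul_index
      rw [Nat.card_congr (U.equivMapOfInjective N.subtype N.subtype_injective).toEquiv, hU, hcard,
        card_blk K (by norm_num)] at h
      have e24 : q * (q ^ 2 - 1) = 24 := by rw [hq]; norm_num
      rw [e24] at h
      omega
    exact congrArg Subtype.val (UnitaryTools.no_kernel_quaternion hσc hσs U rfl hab' hcm' ha4' ha2' hzk
      (mem_commutator_preimage hσs Nat.prime_two hzk (hσc hzk) hzc hz2 U hidx))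
  have hmapD : D.map τ = ⁅N, N⁆ := by
    rw [Subgroup.map_commutator, Subgroup.map_comap_eq_self_of_surjective hs]
  haveI : IsCyclic (mu K) := isCyclic_of_subgroup_isDomain
    ((Units.coeHom F).comp (mu K).subtype) (Units.val_injective.comp Subtype.val_injective)
  set L := b.range
  haveI : IsCyclic L := isCyclic_of_surjective b.rangeRestrict b.rangeRestrict_surjective
  have hbfix : ∀ y : mu K, app (b y) (bv 0 : Fin 3 → F) = bv 0 := fun y => ext_cd fun i hi => by
    interval_cases i <;> simp [(hb y _).1, (hb y _).2.1, (hb y _).2.2, cd_bv]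
  have hnormN : ∀ g ∈ L, ∀ x ∈ N, g * x * g⁻¹ ∈ N := by
    rintro _ ⟨y, rfl⟩ x hx i hi
    rcases (show i = 2 ∨ 3 ≤ i by omega) with rfl | h
    · have hbv : ∀ y : mu K, app (b y) (bv 2 : Fin 3 → F) = K.bar ((y : Fˣ) : F) • bv 2 := fun y =>
        ext_cd fun j hj => by
          interval_cases j <;> simp [(hb y _).1, (hb y _).2.1, (hb y _).2.2, cd_bv, cd_smul]
      rw [app_mul, app_mul, ← map_inv, hbv, app_smul, hx 2 hi, app_smul, hbv, smul_smul, ← map_mul,
        ← Units.val_mul, ← Subgroup.coe_mul, inv_mul_cancel]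
      simp
    · have h' : (bv i : Fin 3 → F) = 0 := by rw [bv, dif_neg (by omega)]
      rw [h', CfsgLib.Classical.Phan.app_zero']
  set M := D.map τ
  have hMN : M ≤ N := by
    rw [show M = ⁅N, N⁆ from hmapD]
    exact Subgroup.commutator_le.2 fun x hx y hy => by
      rw [commutatorElement_def]
      exact mul_mem (mul_mem (mul_mem hx hy) (inv_mem hx)) (inv_mem hy)
  have hNL : ∀ x ∈ N, x ∈ L → x = 1 := by
    rintro _ hx ⟨y, rfl⟩
    refine CfsgLib.Classical.Phan.eq_one_of_almost K (l := 1) fun i hi hne => ?_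
    rcases (show i = 0 ∨ i = 2 by omega) with rfl | rfl
    · exact hbfix y
    · exact hx 2 (by omega)
  have hN : ∀ g, τ g ∈ L → ∀ d ∈ D, g * d * g⁻¹ ∈ D := by
    intro g hg d hd'
    have hm : Nt.map (MulAut.conj g).toMonoidHom ≤ Nt := by
      rintro _ ⟨x, hx, rfl⟩
      show τ (g * x * g⁻¹) ∈ N
      rw [map_mul, map_mul, map_inv]
      exact hnormN _ hg _ hx
    have h1 : D.map (MulAut.conj g).toMonoidHom ≤ D := by
      rw [Subgroup.map_commutator]
      exact Subgroup.commutator_mono hm hm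
    exact h1 ⟨d, hd', rfl⟩
  have hD : ∀ d ∈ D, τ d ∈ L → d = 1 := fun d hd' hL =>
    hD0 d hd' (hNL _ (hMN ⟨d, hd', rfl⟩) hL)
  set P := Subgroup.closure ({a, w} : Set (SU 3 F q))
  have hPM : P ≤ M := by
    rw [show M = ⁅N, N⁆ from hmapD, Subgroup.closure_le]
    rintro g (rfl | rfl)
    exacts [haN, hwN]
  have hidx : ¬ 2 ∣ (M ⊔ L).index := by
    intro h
    have hn : L ≤ Subgroup.normalizer (M : Set (SU 3 F q)) := fun g hg =>
      Subgroup.mem_normalizer_iff.2 fun x => by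
        have hmem : ∀ g ∈ L, ∀ x ∈ M, g * x * g⁻¹ ∈ M := by
          intro g hg x hx
          obtain ⟨d, hd', rfl⟩ := hx
          obtain ⟨g', rfl⟩ := hs g
          exact ⟨_, hN g' hg d hd', by rw [map_mul, map_mul, map_inv]⟩
        refine ⟨hmem g hg x, fun h => ?_⟩
        have := hmem g⁻¹ (inv_mem hg) _ h
        rwa [show g⁻¹ * (g * x * g⁻¹) * g⁻¹⁻¹ = x by group] at this
    have hcL : Nat.card L = q + 1 := by
      rw [← card_mu K]
      refine (Nat.card_congr (MonoidHom.ofInjective ?_).toEquiv).symm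
      intro x y e
      refine Subtype.ext (Units.ext ?_)
      have h := congrArg (fun g => cd (app g (fun _ => (1 : F))) 1) e
      simp only [(hb _ _).2.1, show cd (fun _ : Fin 3 => (1 : F)) 1 = 1 by simp [cd], mul_one] at h
      exact h
    have h8 : 8 * (q + 1) ∣ Nat.card ↥(M ⊔ L) := by
      rw [card_sup M L hn (fun x hx hxL => hNL x (hMN hx) hxL), hcL]
      exact mul_dvd_mul_right (hcard ▸ Subgroup.card_dvd_of_le hPM) _
    have h' := mul_dvd_mul h8 h
    rw [Subgroup.card_mul_index, card_SU_three' K, hq] at h'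
    norm_num at h'
  refine no_stem_of_local Nat.prime_two ⟨hs, hc, hd⟩ hk (M ⊔ L) hidx fun z hz hzd _ => ?_
  refine UnitaryTools.no_kernel_semidirect hs D L hN hD (M ⊔ L) le_rfl (fun z hz hzl => ?_) hz hzd
  rw [preimage_commutator_eq_bot_of_isCyclic τ hc] at hzl
  exact Subgroup.mem_bot.1 hzl

end CfsgLib.Schur.UnitaryTiny
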