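import Cfsg.Agent.Lib.Classical.Phan.Embed
import Cfsg.Agent.Lib.Schur.Hopf

/-!
Windows of coordinates in `SU_n(q)`, and passing prime kernels to the derived preimage of a perfect
subgroup.
-/

set_option autoImplicit false
set_option linter.unusedSectionVars false
set_option linter.style.haveILetI false

open scoped commutatorElement

namespace CfsgLib.Schur.UnitaryWindow

open Matrix Cfsg CfsgLib.Classical.Herm
open CfsgLib.Classical.Phan (bv cd cd_bv cd_coe Blk emb winEquiv winMat winMat_mulVec emb_mem_Blk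
  mat mat_apply ext_cd Blk_cd)
open CfsgLib.ClassicalAut (Unitary.Conj Unitary.herm_apply)

universe u

/-- No stem extension of `SU_n(q)` has a kernel of order `ℓ`. -/
def NoStem (F : Type u) [Field F] (q n ℓ : ℕ) : Prop :=
  ∀ (E : Type u) [Group E] [Finite E] (τ : E →* SU n F q),
    Cfsg.IsStemExtension τ → Nat.card τ.ker = ℓ → False

variable {F : Type u} [Field F] [Finite F] {q : ℕ} (K : Unitary.Conj F q)

include K in
theorem range_emb {N m : ℕ} (h : 0 + m ≤ N) :
    (emb K h : SU m F q →* SU N F q).range = Blk 0 m := by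
  classical
  refine le_antisymm ?_ fun g hg => ?_
  · rintro _ ⟨A, rfl⟩
    simpa using emb_mem_Blk K h A
  let lo : Fin m → Fin N := fun a => ⟨a, by omega⟩
  let A : Matrix (Fin m) (Fin m) F := (mat g).submatrix lo lo
  have hcol : ∀ (i : Fin N) (l : Fin N), m ≤ (l : ℕ) → mat g i l = if i = l then 1 else 0 := by
    intro i l hl
    rw [mat_apply, hg l (.inr hl), cd_bv]
    simp [Fin.ext_iff, i.2]
  have hrow : ∀ (i : Fin N) (l : Fin N), m ≤ (i : ℕ) → mat g i l = if i = l then 1 else 0 := by
    intro i l hi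
    rw [mat_apply, Blk_cd K hg _ (.inr hi), cd_bv]
    simp [Fin.ext_iff, i.2]
  have hmat : winMat h A = mat g := by
    refine Matrix.ext fun i l => ?_
    by_cases hi : (i : ℕ) < m
    · by_cases hl : (l : ℕ) < m
      · simp [winMat, winEquiv, hi, hl, A, lo]
      · rw [hcol i l (by omega), if_neg (fun e => hl (by rw [← e]; exact hi))]
        simp [winMat, winEquiv, hi, hl]
    · rw [hrow i l (by omega)]
      by_cases hl : (l : ℕ) < m
      · rw [if_neg (fun e => hi (by rw [e]; exact hl))]
        simp [winMat, winEquiv, hi, hl]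
      · simp [winMat, winEquiv, hi, hl, Matrix.one_apply, Subtype.ext_iff]
  have hdet : A.det = 1 := by
    rw [← CfsgLib.Classical.Phan.det_winMat h A, hmat]; exact g.1.2
  have hA : (⟨A, hdet⟩ : Matrix.SpecialLinearGroup (Fin m) F) ∈ SU m F q := by
    intro u v
    show hermForm m F q (A *ᵥ u) (A *ᵥ v) = hermForm m F q u v
    let ext : (Fin m → F) → Fin N → F := fun x => Sum.elim x (fun _ => 0) ∘ winEquiv N m 0 h
    have he : ∀ x, (fun a => ext x ((winEquiv N m 0 h).symm (.inl a))) = x := fun x => funext fun a => by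
      simp [ext]
    have he0 : ∀ x (r : {i : Fin N // ¬ (0 ≤ (i : ℕ) ∧ (i : ℕ) < 0 + m)}), ext x r.1 = 0 := fun x r => by
      show Sum.elim x (fun _ => 0) (winEquiv N m 0 h ((winEquiv N m 0 h).symm (.inr r))) = 0
      rw [Equiv.apply_symm_apply]; rfl
    have := g.2 (ext u) (ext v)
    change hermForm N F q (mat g *ᵥ ext u) (mat g *ᵥ ext v) = _ at this
    simp only [Unitary.herm_apply K, ← Equiv.sum_comp (winEquiv N m 0 h).symm,
      Fintype.sum_sum_type, ← hmat, winMat_mulVec, Function.comp_apply, Equiv.apply_symm_apply,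
      Sum.elim_inl, Sum.elim_inr, he] at this
    have he1 : ∀ x (r : {i : Fin N // ¬ (0 ≤ (i : ℕ) ∧ (i : ℕ) < 0 + m)}),
        ext x ((winEquiv N m 0 h).symm (.inr r)) = 0 := he0
    have hep : ∀ x a, ext x ((winEquiv N m 0 h).symm (.inl a)) = x a := fun x a => congrFun (he x) a
    simp [he0, he1, hep] at this
    simpa only [Unitary.herm_apply K] using this
  exact ⟨⟨⟨A, hdet⟩, hA⟩, CfsgLib.Classical.Phan.mat_ext hmat⟩

/-- A subgroup isomorphic to a perfect group without stem extensions of prime kernel `ℓ` has nothing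
of a kernel of order `ℓ` in the derived group of its preimage. -/
theorem inj_of_noStem {E G S : Type u} [Group E] [Finite E] [Group G] [Group S] {τ : E →* G}
    (hs : Function.Surjective τ) (hc : τ.ker ≤ Subgroup.center E) {ℓ : ℕ} (hℓ : ℓ.Prime)
    (hk : Nat.card τ.ker = ℓ) (f : S →* G) (hf : Function.Injective f) (hperf : commutator S = ⊤)
    (hS : ∀ (Δ : Type u) [Group Δ] [Finite Δ] (σ : Δ →* S), Cfsg.IsStemExtension σ →
      Nat.card σ.ker = ℓ → False)
    {z : E} (hzd : z ∈ ⁅f.range.comap τ, f.range.comap τ⁆) (hz : τ z = 1) : z = 1 := by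
  set P := f.range.comap τ
  set D := ⁅P, P⁆
  have hDP : D ≤ P := Subgroup.commutator_le.2 fun a ha b hb => by
    rw [commutatorElement_def]
    exact mul_mem (mul_mem (mul_mem ha hb) (inv_mem ha)) (inv_mem hb)
  have hR : ⁅f.range, f.range⁆ = f.range := by
    rw [MonoidHom.range_eq_map, ← Subgroup.map_commutator, ← commutator_def, hperf]
  have hmap : D.map τ = f.range := by
    rw [Subgroup.map_commutator, Subgroup.map_comap_eq_self_of_surjective hs, hR]
  let e : S ≃* f.range := MonoidHom.ofInjective hf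
  let σ : D →* S := e.symm.toMonoidHom.comp ((τ.comp D.subtype).codRestrict f.range fun x => hDP x.2)
  have hσ : ∀ x : D, f (σ x) = τ x := fun x => congrArg Subtype.val (e.apply_symm_apply _)
  have hker : ∀ x : D, x ∈ σ.ker ↔ (x : E) ∈ τ.ker := fun x => by
    rw [MonoidHom.mem_ker, MonoidHom.mem_ker, ← hσ, map_eq_one_iff f hf]
  have hstem : Cfsg.IsStemExtension σ := by
    refine ⟨fun s => ?_, fun x hx => Subgroup.mem_center_iff.2 fun y =>
      Subtype.ext (Subgroup.mem_center_iff.1 (hc ((hker x).1 hx)) y), fun x _ => ?_⟩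
    · obtain ⟨d, hd, ed⟩ : f s ∈ D.map τ := by rw [hmap]; exact ⟨s, rfl⟩
      exact ⟨⟨d, hd⟩, hf (by rw [hσ]; exact ed)⟩
    rw [← Subgroup.mem_map_iff_mem (f := D.subtype) D.subtype_injective, commutator_def,
      Subgroup.map_commutator, ← MonoidHom.range_eq_map, Subgroup.range_subtype]
    refine (?_ : D ≤ ⁅D, D⁆) x.2
    refine Subgroup.commutator_le.2 fun a ha b hb => ?_
    obtain ⟨a', ha', ea⟩ : τ a ∈ D.map τ := by rw [hmap]; exact ha
    obtain ⟨b', hb', eb⟩ : τ b ∈ D.map τ := by rw [hmap]; exact hb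
    rw [CfsgLib.Schur.commutatorElement_congr τ hc ea.symm eb.symm]
    exact Subgroup.commutator_mem_commutator ha' hb'
  by_contra hne
  let ι : σ.ker →* τ.ker := MonoidHom.mk' (fun x => ⟨((x : D) : E), (hker x).1 x.2⟩) fun _ _ => rfl
  have hι : Function.Injective ι := fun x y h =>
    Subtype.ext (Subtype.ext (congrArg (fun w : τ.ker => (w : E)) h))
  have hdvd := Subgroup.card_dvd_of_injective ι hι
  rw [hk] at hdvd
  rcases (Nat.dvd_prime hℓ).1 hdvd with h1 | h1
  · have := Subgroup.eq_bot_of_card_eq _ h1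
    have hzk : (⟨z, hzd⟩ : D) ∈ σ.ker := (hker _).2 hz
    rw [this, Subgroup.mem_bot] at hzk
    exact hne (congrArg Subtype.val hzk)
  · exact hS D σ hstem h1

end CfsgLib.Schur.UnitaryWindow
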